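import Mathlib
import Cfsg.Agent.Lib.Helper23.HKKDefs

/-!
# S3779 piece HKK-KRW (helper5): the span of the left-normed monomials in the high components
is closed under the bracket.
-/

set_option autoImplicit false
set_option linter.unusedSectionVars false
set_option linter.unusedVariables false

namespace Cfsg.Agent.Helper23.HKK

section K

variable {L : Type*} [LieRing L]

/-! ## KRW: the subring generated by the high components -/

theorem W_gen {n : ℕ} (gr : ZMod n → AddSubgroup L) (k : ℕ) (d : ZMod n) (hd : k + 1 ≤ d.val) (x : L)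
    (hx : x ∈ gr d) : x ∈ W gr k d :=
  AddSubgroup.subset_closure (Mono.gen d x hd hx)

theorem krw_mono_mem_gr {n : ℕ} (gr : ZMod n → AddSubgroup L) (hG : Grading n gr) (k : ℕ) (j : ZMod n)
    (x : L) (h : Mono gr k j x) : x ∈ gr j := by
  induction h with
  | gen d x hd hx => exact hx
  | step e d z c hz hd hc ih => exact hG.br e d z c ih hc

theorem W_le_gr {n : ℕ} (gr : ZMod n → AddSubgroup L) (hG : Grading n gr) (k : ℕ) (j : ZMod n) :
    W gr k j ≤ gr j := by
  unfold W
  rw [AddSubgroup.closure_le]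
  intro x hx
  exact krw_mono_mem_gr gr hG k j x hx

/-- bracket of an element of `W` with a generator -/
theorem krw_lie_gen {n : ℕ} (gr : ZMod n → AddSubgroup L) (k : ℕ) (i d : ZMod n) (x c : L)
    (hx : x ∈ W gr k i) (hd : k + 1 ≤ d.val) (hc : c ∈ gr d) : ⁅x, c⁆ ∈ W gr k (i + d) := by
  unfold W at hx
  induction hx using AddSubgroup.closure_induction with
  | mem x hx => exact AddSubgroup.subset_closure (Mono.step i d x c hx hd hc)
  | zero => rw [zero_lie]; exact AddSubgroup.zero_mem _
  | add x y _ _ hx hy => rw [add_lie]; exact AddSubgroup.add_mem _ hx hy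
  | neg x _ hx => rw [neg_lie]; exact AddSubgroup.neg_mem _ hx

/-- bracket of an element of `W` with a monomial -/
theorem krw_lie_mono {n : ℕ} (gr : ZMod n → AddSubgroup L) (k : ℕ) (j : ZMod n) (y : L)
    (hy : Mono gr k j y) : ∀ (i : ZMod n) (x : L), x ∈ W gr k i → ⁅x, y⁆ ∈ W gr k (i + j) := by
  induction hy with
  | gen d y hd hy =>
    intro i x hx
    exact krw_lie_gen gr k i d x y hx hd hy
  | step e d z c hz hd hc ih =>
    intro i x hx
    have h1 : ⁅⁅x, z⁆, c⁆ ∈ W gr k (i + (e + d)) := by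
      have := krw_lie_gen gr k (i + e) d ⁅x, z⁆ c (ih i x hx) hd hc
      rwa [add_assoc] at this
    have h2 : ⁅⁅x, c⁆, z⁆ ∈ W gr k (i + (e + d)) := by
      have := ih (i + d) ⁅x, c⁆ (krw_lie_gen gr k i d x c hx hd hc)
      rwa [add_assoc, add_comm d e] at this
    have h3 : ⁅x, ⁅z, c⁆⁆ = ⁅⁅x, z⁆, c⁆ - ⁅⁅x, c⁆, z⁆ := by
      rw [leibniz_lie x z c, ← lie_skew ⁅x, c⁆ z, sub_neg_eq_add]
    rw [h3]
    exact AddSubgroup.sub_mem _ h1 h2

/-- the span of the left-normed monomials is closed under the bracket -/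
theorem W_lie {n : ℕ} (gr : ZMod n → AddSubgroup L) (hG : Grading n gr) (k : ℕ) (i j : ZMod n) (x y : L)
    (hx : x ∈ W gr k i) (hy : y ∈ W gr k j) : ⁅x, y⁆ ∈ W gr k (i + j) := by
  have key : ∀ y : L, y ∈ AddSubgroup.closure {x | Mono gr k j x} → ⁅x, y⁆ ∈ W gr k (i + j) := by
    intro y hy0
    induction hy0 using AddSubgroup.closure_induction with
    | mem y h => exact krw_lie_mono gr k j y h i x hx
    | zero => rw [lie_zero]; exact AddSubgroup.zero_mem _
    | add y y' _ _ h h' => rw [lie_add]; exact AddSubgroup.add_mem _ h h'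
    | neg y _ h => rw [lie_neg]; exact AddSubgroup.neg_mem _ h
  exact key y hy

end K

end Cfsg.Agent.Helper23.HKK
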