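import Mathlib
import Cfsg.Prelude.Def_ChevStructure
import Cfsg.Prelude.Def_LieTypes
import Cfsg.Prelude.Def_ChevB2

set_option autoImplicit false
set_option linter.unusedSectionVars false
set_option linter.unusedSimpArgs false
set_option linter.unusedVariables false
set_option linter.style.haveILetI false

namespace Cfsg.Agent.Helper5

open Cfsg Cfsg.Lie

section Lowers

variable {ι : Type*} [Fintype ι] [DecidableEq ι] {R : Type*} [CommRing R]

/-- `A` only has nonzero entries `A i j` with `b j + k ≤ b i`. -/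
def Lowers (b : ι → ℕ) (k : ℕ) (A : Matrix ι ι R) : Prop :=
  ∀ i j, b i < b j + k → A i j = 0

theorem Lowers.zero (b : ι → ℕ) (k : ℕ) : Lowers b k (0 : Matrix ι ι R) := fun _ _ _ => rfl

theorem Lowers.one (b : ι → ℕ) : Lowers b 0 (1 : Matrix ι ι R) := by
  intro i j h
  have : i ≠ j := by rintro rfl; omega
  simp [Matrix.one_apply, this]

theorem Lowers.mono {b : ι → ℕ} {k l : ℕ} {A : Matrix ι ι R} (h : Lowers b k A) (hl : l ≤ k) :
    Lowers b l A := fun i j hij => h i j (by omega)

theorem Lowers.add {b : ι → ℕ} {k : ℕ} {A B : Matrix ι ι R} (hA : Lowers b k A) (hB : Lowers b k B) :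
    Lowers b k (A + B) := by
  intro i j h
  simp [hA i j h, hB i j h]

theorem Lowers.neg {b : ι → ℕ} {k : ℕ} {A : Matrix ι ι R} (hA : Lowers b k A) :
    Lowers b k (-A) := by
  intro i j h
  simp [hA i j h]

theorem Lowers.sub {b : ι → ℕ} {k : ℕ} {A B : Matrix ι ι R} (hA : Lowers b k A) (hB : Lowers b k B) :
    Lowers b k (A - B) := by
  intro i j h
  simp [hA i j h, hB i j h]

theorem Lowers.mul {b : ι → ℕ} {k l : ℕ} {A B : Matrix ι ι R} (hA : Lowers b k A) (hB : Lowers b l B) :
    Lowers b (k + l) (A * B) := by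
  intro i j h
  rw [Matrix.mul_apply]
  apply Finset.sum_eq_zero
  intro m _
  by_cases hm : b i < b m + k
  · rw [hA i m hm, zero_mul]
  · rw [hB m j (by omega), mul_zero]

theorem Lowers.pow {b : ι → ℕ} {k : ℕ} {A : Matrix ι ι R} (hA : Lowers b k A) (m : ℕ) :
    Lowers b (m * k) (A ^ m) := by
  induction m with
  | zero => simpa using Lowers.one b
  | succ m ih =>
    rw [pow_succ, Nat.succ_mul]
    exact ih.mul hA

theorem Lowers.sum {b : ι → ℕ} {k : ℕ} {α : Type*} (s : Finset α) (f : α → Matrix ι ι R)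
    (h : ∀ a ∈ s, Lowers b k (f a)) : Lowers b k (∑ a ∈ s, f a) := by
  classical
  induction s using Finset.induction_on with
  | empty => simpa using Lowers.zero b k
  | insert a s ha ih =>
    rw [Finset.sum_insert ha]
    exact (h a (Finset.mem_insert_self a s)).add (ih fun x hx => h x (Finset.mem_insert_of_mem hx))

theorem Lowers.eq_zero {b : ι → ℕ} {n : ℕ} (hb : ∀ i, b i < n) {A : Matrix ι ι R}
    (hA : Lowers b n A) : A = 0 := by
  ext i j
  exact hA i j (by have := hb i; omega)

/-- inverse of `1 + A` for nilpotent `A` -/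
theorem one_add_mul_geom {A : Matrix ι ι R} {n : ℕ} (hA : A ^ n = 0) :
    (1 + A) * ∑ i ∈ Finset.range n, (-A) ^ i = 1 := by
  have h := mul_neg_geom_sum (-A) n
  rw [sub_neg_eq_add] at h
  rw [h]
  have : (-A) ^ n = 0 := by
    rw [neg_pow, hA, mul_zero]
  rw [this, sub_zero]

theorem Lowers.geom_sub_one {b : ι → ℕ} {k : ℕ} {A : Matrix ι ι R} (hA : Lowers b k A) (n : ℕ) :
    Lowers b k ((∑ i ∈ Finset.range (n + 1), (-A) ^ i) - 1) := by
  rw [Finset.sum_range_succ', pow_zero, add_sub_cancel_right]
  apply Lowers.sum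
  intro i _
  exact (hA.neg.pow (i + 1)).mono (Nat.le_mul_of_pos_left k (Nat.succ_pos i))

/-- The unipotent elements `g` of `GL` with `g - 1` lowering by `k ≥ 1` form a subgroup. -/
def lowerSubgroup (b : ι → ℕ) (n : ℕ) (hb : ∀ i, b i < n) (k : ℕ) (hk : 1 ≤ k) : Subgroup (GL ι R) where
  carrier := {g | Lowers b k ((g : Matrix ι ι R) - 1)}
  one_mem' := by
    show Lowers b k (((1 : GL ι R) : Matrix ι ι R) - 1)
    simpa using Lowers.zero b k
  mul_mem' := by
    intro g h hg hh
    show Lowers b k (((g * h : GL ι R) : Matrix ι ι R) - 1)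
    have e : ((g * h : GL ι R) : Matrix ι ι R) - 1
        = ((g : Matrix ι ι R) - 1) + ((h : Matrix ι ι R) - 1) + ((g : Matrix ι ι R) - 1) * ((h : Matrix ι ι R) - 1) := by
      rw [Units.val_mul]; noncomm_ring
    rw [e]
    exact (Lowers.add hg hh).add ((Lowers.mul hg hh).mono (Nat.le_add_right k k))
  inv_mem' := by
    intro g hg
    show Lowers b k (((g⁻¹ : GL ι R) : Matrix ι ι R) - 1)
    set A : Matrix ι ι R := (g : Matrix ι ι R) - 1 with hA
    have hAn : A ^ n = 0 := by
      apply Lowers.eq_zero hb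
      exact (Lowers.pow hg n).mono (Nat.le_mul_of_pos_right n hk)
    have hgA : (g : Matrix ι ι R) = 1 + A := by rw [hA]; abel
    have hinv : ((g⁻¹ : GL ι R) : Matrix ι ι R) = ∑ i ∈ Finset.range (n + 1), (-A) ^ i := by
      have h1 : (g : Matrix ι ι R) * ∑ i ∈ Finset.range (n + 1), (-A) ^ i = 1 := by
        rw [hgA]
        apply one_add_mul_geom
        rw [pow_succ, hAn, zero_mul]
      have h2 : ((g⁻¹ : GL ι R) : Matrix ι ι R) * (g : Matrix ι ι R) = 1 := by
        rw [← Units.val_mul, inv_mul_cancel, Units.val_one]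
      calc ((g⁻¹ : GL ι R) : Matrix ι ι R)
          = ((g⁻¹ : GL ι R) : Matrix ι ι R) * ((g : Matrix ι ι R) * ∑ i ∈ Finset.range (n + 1), (-A) ^ i) := by
            rw [h1, mul_one]
        _ = ∑ i ∈ Finset.range (n + 1), (-A) ^ i := by rw [← mul_assoc, h2, one_mul]
    rw [hinv]
    exact Lowers.geom_sub_one hg n

theorem mem_lowerSubgroup (b : ι → ℕ) (n : ℕ) (hb : ∀ i, b i < n) (k : ℕ) (hk : 1 ≤ k) (g : GL ι R) :
    g ∈ lowerSubgroup (R := R) b n hb k hk ↔ Lowers b k ((g : Matrix ι ι R) - 1) := Iff.rfl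

theorem Lowers.of_sub_one {b : ι → ℕ} {k : ℕ} {A : Matrix ι ι R} (hA : Lowers b k (A - 1)) :
    Lowers b 0 A := by
  have : A = (A - 1) + 1 := by abel
  rw [this]
  exact (hA.mono (Nat.zero_le k)).add (Lowers.one b)

open scoped commutatorElement in
theorem commutator_mem_lowerSubgroup (b : ι → ℕ) (n : ℕ) (hb : ∀ i, b i < n) (k l : ℕ) (hk : 1 ≤ k)
    (hl : 1 ≤ l) (x g : GL ι R) (hx : x ∈ lowerSubgroup (R := R) b n hb k hk)
    (hg : g ∈ lowerSubgroup (R := R) b n hb l hl) :
    ⁅x, g⁆ ∈ lowerSubgroup (R := R) b n hb (k + l) (by omega) := by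
  show Lowers b (k + l) (((⁅x, g⁆ : GL ι R) : Matrix ι ι R) - 1)
  have hx' : Lowers b k ((x : Matrix ι ι R) - 1) := hx
  have hg' : Lowers b l ((g : Matrix ι ι R) - 1) := hg
  have hxi : Lowers b k (((x⁻¹ : GL ι R) : Matrix ι ι R) - 1) :=
    (lowerSubgroup (R := R) b n hb k hk).inv_mem hx
  have hgi : Lowers b l (((g⁻¹ : GL ι R) : Matrix ι ι R) - 1) :=
    (lowerSubgroup (R := R) b n hb l hl).inv_mem hg
  have e : ((⁅x, g⁆ : GL ι R) : Matrix ι ι R) - 1
      = (((x : Matrix ι ι R) - 1) * ((g : Matrix ι ι R) - 1) - ((g : Matrix ι ι R) - 1) * ((x : Matrix ι ι R) - 1))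
        * (((x⁻¹ : GL ι R) : Matrix ι ι R) * ((g⁻¹ : GL ι R) : Matrix ι ι R)) := by
    have h1 : (g : Matrix ι ι R) * (x : Matrix ι ι R) * (((x⁻¹ : GL ι R) : Matrix ι ι R) * ((g⁻¹ : GL ι R) : Matrix ι ι R)) = 1 := by
      rw [← Units.val_mul, ← Units.val_mul, ← Units.val_mul, ← Units.val_one]
      congr 1
      group
    have h2 : ((⁅x, g⁆ : GL ι R) : Matrix ι ι R)
        = (x : Matrix ι ι R) * (g : Matrix ι ι R) * (((x⁻¹ : GL ι R) : Matrix ι ι R) * ((g⁻¹ : GL ι R) : Matrix ι ι R)) := by
      rw [commutatorElement_def, ← Units.val_mul, ← Units.val_mul, ← Units.val_mul]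
      congr 1
      group
    rw [h2]
    have h3 : ((x : Matrix ι ι R) - 1) * ((g : Matrix ι ι R) - 1) - ((g : Matrix ι ι R) - 1) * ((x : Matrix ι ι R) - 1)
        = (x : Matrix ι ι R) * (g : Matrix ι ι R) - (g : Matrix ι ι R) * (x : Matrix ι ι R) := by noncomm_ring
    rw [h3, sub_mul, h1]
  rw [e]
  have hAB := (hx'.mul hg').sub ((hg'.mul hx').mono (le_of_eq (Nat.add_comm k l)))
  have := hAB.mul (hxi.of_sub_one.mul hgi.of_sub_one)
  simpa using this

theorem lowerSubgroup_eq_bot (b : ι → ℕ) (n : ℕ) (hb : ∀ i, b i < n) (k : ℕ) (hk : 1 ≤ k) (hnk : n ≤ k) :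
    lowerSubgroup (R := R) b n hb k hk = ⊥ := by
  rw [eq_bot_iff]
  intro g hg
  have hg' : Lowers b k ((g : Matrix ι ι R) - 1) := hg
  have h0 := Lowers.eq_zero hb (hg'.mono hnk)
  rw [Subgroup.mem_bot]
  apply Units.ext
  rw [Units.val_one]
  exact sub_eq_zero.mp h0

end Lowers


section Chev

/-- table check: positive roots have index ≥ N, their negatives index < N, and chains go up -/
def PosOk (D : ChevalleyDatum) : Prop :=
  ∀ r < D.nroots, D.IsPosRoot r →
    (D.nroots / 2 ≤ r ∧ D.negIdx.getD r 0 < D.nroots / 2 ∧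
      ∀ e ∈ (D.chain.getD r #[]).toList, ∀ q ∈ e.2.toList, e.1 < q.1)

instance instDecidablePosOk (D : ChevalleyDatum) : Decidable (PosOk D) := by unfold PosOk; infer_instance

set_option maxRecDepth 1000000 in
theorem posOk_G2 : PosOk chevG2 := by decide
set_option maxRecDepth 1000000 in
theorem posOk_B2 : PosOk chevB2 := by decide
set_option maxRecDepth 1000000 in
theorem posOk_D4 : PosOk chevD4 := by decide
set_option maxRecDepth 1000000 in
theorem posOk_F4 : PosOk chevF4 := by decide
set_option maxRecDepth 1000000 in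
theorem posOk_E6 : PosOk chevE6 := by decide
set_option maxRecDepth 1000000 in
theorem posOk_E7 : PosOk chevE7 := by decide
set_option maxRecDepth 1000000 in
theorem posOk_E8 : PosOk chevE8 := by decide

theorem posOk_of_mem (D : ChevalleyDatum)
    (hD : D ∈ [chevG2, chevB2, chevD4, chevF4, chevE6, chevE7, chevE8]) : PosOk D := by
  simp only [List.mem_cons, List.mem_nil_iff, or_false] at hD
  rcases hD with rfl | rfl | rfl | rfl | rfl | rfl | rfl
  · exact posOk_G2
  · exact posOk_B2
  · exact posOk_D4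
  · exact posOk_F4
  · exact posOk_E6
  · exact posOk_E7
  · exact posOk_E8

/-- the height-like ordering function on the coordinate index set -/
def chevLevel (D : ChevalleyDatum) : D.Idx → ℕ
  | Sum.inl i => D.nroots / 2 + i.val
  | Sum.inr s => if s.val < D.nroots / 2 then s.val else s.val + D.rank

theorem chevLevel_lt (D : ChevalleyDatum) (i : D.Idx) : chevLevel D i < D.rank + D.nroots := by
  rcases i with i | s
  · have := i.2
    simp only [chevLevel]
    omega
  · have := s.2
    simp only [chevLevel]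
    split_ifs <;> omega

theorem chainCoeff_mem (D : ChevalleyDatum) (r s u : ℕ) (km : ℕ × ℤ) (h : km ∈ D.chainCoeff r s u) :
    ∃ e ∈ (D.chain.getD r #[]).toList, e.1 = s ∧ ∃ q ∈ e.2.toList, q.1 = u := by
  unfold ChevalleyDatum.chainCoeff at h
  simp only [List.mem_flatMap, List.mem_map, List.mem_filter, decide_eq_true_eq] at h
  obtain ⟨e, ⟨he, hes⟩, q, ⟨hq, hqu⟩, _⟩ := h
  exact ⟨e, he, hes, q.1, List.fst_mem_of_mem_zipIdx hq, hqu⟩

theorem chevLevel_inr_lt (D : ChevalleyDatum) (s u : Fin D.nroots) (h : s.val < u.val) :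
    chevLevel D (Sum.inr s) < chevLevel D (Sum.inr u) := by
  simp only [chevLevel]
  split_ifs <;> omega

/-- For a positive root `r` (and a datum passing the table check), `x_r(t) - 1` strictly lowers. -/
theorem xMat_sub_one_lowers {F : Type*} [Field F] (D : ChevalleyDatum) (hD : PosOk D)
    (r : Fin D.nroots) (hr : D.IsPosRoot r.val) (t : F) :
    Lowers (chevLevel D) 1 (D.xMat F r t - 1) := by
  obtain ⟨hrN, hnegN, hchain⟩ := hD r.val r.2 hr
  intro row col hlt
  rw [Matrix.sub_apply]
  rcases col with i | s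
  · rcases row with i' | u
    · simp [ChevalleyDatum.xMat, Matrix.one_apply]
    · by_cases hur : u = r
      · exfalso
        subst hur
        have := i.2
        simp only [chevLevel] at hlt
        split_ifs at hlt <;> omega
      · simp [ChevalleyDatum.xMat, Matrix.one_apply, hur]
  · by_cases hsr : s = r
    · rcases row with i' | u
      · simp [ChevalleyDatum.xMat, Matrix.one_apply, hsr]
      · simp [ChevalleyDatum.xMat, Matrix.one_apply, hsr]
    · by_cases hneg : s.val = D.negIdx.getD r.val 0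
      · rcases row with i' | u
        · exfalso
          simp only [chevLevel] at hlt
          split_ifs at hlt <;> omega
        · by_cases hus : u = s
          · simp [ChevalleyDatum.xMat, Matrix.one_apply, hsr, hneg, hus]
          · by_cases hur : u = r
            · exfalso
              subst hur
              simp only [chevLevel] at hlt
              split_ifs at hlt <;> omega
            · simp [ChevalleyDatum.xMat, Matrix.one_apply, hsr, hneg, hus, hur]
      · rcases row with i' | u
        · simp only [ChevalleyDatum.xMat, Matrix.of_apply, hsr, hneg, if_false, Matrix.one_apply]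
          simp
        · have hnil : D.chainCoeff r.val s.val u.val = [] := by
            rw [List.eq_nil_iff_forall_not_mem]
            intro km hkm
            obtain ⟨e, he, hes, q, hq, hqu⟩ := chainCoeff_mem D _ _ _ km hkm
            have h1 := hchain e he q hq
            rw [hes, hqu] at h1
            have h2 := chevLevel_inr_lt D s u h1
            omega
          simp only [ChevalleyDatum.xMat, Matrix.of_apply, hsr, hneg, if_false, hnil, List.map_nil,
            List.sum_nil, add_zero, Matrix.one_apply, Sum.inr.injEq]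
          simp

/-- the subgroup of unipotent matrices lowering the level by at least `k` -/
noncomputable def chevLower (D : ChevalleyDatum) (F : Type*) [Field F] (k : ℕ) (hk : 1 ≤ k) :
    Subgroup (GL D.Idx F) :=
  lowerSubgroup (R := F) (chevLevel D) (D.rank + D.nroots) (chevLevel_lt D) k hk

theorem mem_chevLower (D : ChevalleyDatum) (F : Type*) [Field F] (k : ℕ) (hk : 1 ≤ k) (g : GL D.Idx F) :
    g ∈ chevLower D F k hk ↔ Lowers (chevLevel D) k ((g : Matrix D.Idx D.Idx F) - 1) := Iff.rfl

theorem posUnipotent_le_chevLower {F : Type*} [Field F] (D : ChevalleyDatum) (hD : PosOk D) :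
    D.posUnipotent F ≤ chevLower D F 1 le_rfl := by
  unfold ChevalleyDatum.posUnipotent
  rw [Subgroup.closure_le]
  rintro g ⟨r, t, hr, hg⟩
  show Lowers (chevLevel D) 1 ((g : Matrix D.Idx D.Idx F) - 1)
  rw [hg]
  unfold ChevalleyDatum.x
  rw [dif_pos hr.1]
  exact xMat_sub_one_lowers D hD ⟨r, hr.1⟩ hr t

open scoped commutatorElement in
theorem lowerCentralSeries_posUnipotent_le {F : Type*} [Field F] (D : ChevalleyDatum) (hD : PosOk D) (k : ℕ) :
    (D.posUnipotent F).lowerCentralSeries k ≤ chevLower D F (k + 1) (by omega) := by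
  induction k with
  | zero =>
    simpa using posUnipotent_le_chevLower (F := F) D hD
  | succ k ih =>
    rw [Subgroup.lowerCentralSeries_succ]
    rw [Subgroup.commutator_le]
    intro x hx g hg
    exact commutator_mem_lowerSubgroup (R := F) (chevLevel D) (D.rank + D.nroots) (chevLevel_lt D) (k + 1) 1
      (by omega) le_rfl x g (ih hx) (posUnipotent_le_chevLower D hD hg)

theorem posUnipotent_isNilpotent {F : Type*} [Field F] (D : ChevalleyDatum) (hD : PosOk D) :
    Group.IsNilpotent (D.posUnipotent F) := by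
  apply Subgroup.isNilpotent_of_lowerCentralSeries_eq_bot (n := D.rank + D.nroots)
  rw [eq_bot_iff]
  refine (lowerCentralSeries_posUnipotent_le D hD _).trans ?_
  apply le_of_eq
  exact lowerSubgroup_eq_bot (R := F) (chevLevel D) (D.rank + D.nroots) (chevLevel_lt D) _ _ (by omega)

end Chev

end Cfsg.Agent.Helper5
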