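import Mathlib

set_option autoImplicit false
set_option linter.style.haveILetI false
set_option linter.unusedVariables false
set_option linter.unusedSectionVars false

namespace Cfsg.Agent.Helper5

open MulAction

/-- If every non-fixed orbit has size divisible by `m`, then `|α| ≡ |fixed points| mod m`. -/
theorem card_modEq_card_fixedPoints_of_dvd {H α : Type*} [Group H] [MulAction H α] [Finite α] (m : ℕ)
    (h : ∀ a : α, a ∉ fixedPoints H α → m ∣ Nat.card (orbit H a)) :
    Nat.card α ≡ Nat.card (fixedPoints H α) [MOD m] := by
  have := Fintype.ofFinite α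
  have := Fintype.ofFinite (fixedPoints H α)
  rw [Nat.card_eq_fintype_card, Nat.card_eq_fintype_card]
  classical
    calc
      Fintype.card α = Fintype.card (Σ y : Quotient (orbitRel H α), { x // Quotient.mk'' x = y }) :=
        Fintype.card_congr (Equiv.sigmaFiberEquiv (@Quotient.mk'' _ (orbitRel H α))).symm
      _ = ∑ a : Quotient (orbitRel H α), Fintype.card { x // Quotient.mk'' x = a } :=
        Fintype.card_sigma
      _ ≡ ∑ _a : fixedPoints H α, 1 [MOD m] := ?_
      _ = _ := by simp
    rw [← ZMod.natCast_eq_natCast_iff _ _ m, Nat.cast_sum, Nat.cast_sum]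
    have key :
      ∀ x,
        Fintype.card { y // (Quotient.mk'' y : Quotient (orbitRel H α)) = Quotient.mk'' x } =
          Fintype.card (orbit H x) :=
      fun x => by simp only [Quotient.eq'']; congr
    refine
      Eq.symm
        (Finset.sum_bij_ne_zero (fun a _ _ => Quotient.mk'' a.1) (fun _ _ _ => Finset.mem_univ _)
          (fun a₁ _ _ a₂ _ _ h =>
            Subtype.ext (mem_fixedPoints'.mp a₂.2 a₁.1 (Quotient.exact' h)))
          (fun b => Quotient.inductionOn' b fun b _ hb => ?_) fun a ha _ => by
          rw [key, mem_fixedPoints_iff_card_orbit_eq_one.mp a.2])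
    have hfix : b ∈ fixedPoints H α := by
      by_contra hnf
      apply hb
      have h1 := h b hnf
      rw [Nat.card_eq_fintype_card] at h1
      show ((Fintype.card { y // (Quotient.mk'' y : Quotient (orbitRel H α)) = Quotient.mk'' b } : ℕ) : ZMod m) = 0
      rw [key]
      exact (ZMod.natCast_eq_zero_iff _ _).mpr h1
    have h1 : Fintype.card (orbit H b) = 1 := mem_fixedPoints_iff_card_orbit_eq_one.mp hfix
    refine ⟨⟨b, hfix⟩, Finset.mem_univ _, ?_, rfl⟩
    have hb' : ((Fintype.card { y // (Quotient.mk'' y : Quotient (orbitRel H α)) = Quotient.mk'' b } : ℕ) : ZMod m) ≠ 0 := hb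
    rw [key, h1] at hb'
    exact hb'

end Cfsg.Agent.Helper5
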