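import Mathlib
import Cfsg.Prelude.Def_Blocks
import Cfsg.Agent.Lib.Helper24.CharInduced
import Cfsg.Agent.Lib.Helper24.CharHom

/-!
# Clifford theory for the `Cfsg` character vocabulary (helper5's shared library)

Built on helper24's character library.
-/

set_option autoImplicit false
set_option linter.style.haveILetI false
set_option linter.unusedVariables false
set_option linter.unusedSectionVars false

namespace Cfsg.Agent.Helper5

open Cfsg Cfsg.Agent.Helper24

universe u w

open scoped ComplexConjugate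

section Constituents

variable {G : Type u} [Group G] [Fintype G]

/-- An irreducible constituent can be split off a character. -/
theorem exists_add_of_constituent {φ χ : G → ℂ} (hφ : IsCharacter G φ) (hχ : IsIrrCharacter G χ)
    (h : classInner φ χ ≠ 0) : ∃ ρ : G → ℂ, IsCharacter G ρ ∧ φ = χ + ρ := by
  classical
  letI := irrFintype (G := G)
  obtain ⟨hm, hdec⟩ := isCharacter_decomp hφ
  obtain ⟨m, hm'⟩ := hm ⟨χ, hχ⟩
  have hm0 : m ≠ 0 := by
    rintro rfl
    exact h (by simpa using hm')
  refine ⟨((m - 1 : ℕ) : ℂ) • χ + ∑ ψ ∈ Finset.univ.erase (⟨χ, hχ⟩ : IrrCharacter G),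
    classInner φ (ψ : G → ℂ) • (ψ : G → ℂ), ?_, ?_⟩
  · apply isCharacter_add (isCharacter_natCast_smul _ (isCharacter_of_isIrrCharacter hχ))
    apply isCharacter_sum
    intro ψ _
    obtain ⟨k, hk⟩ := hm ψ
    rw [hk]
    exact isCharacter_natCast_smul _ (isCharacter_of_isIrrCharacter ψ.2)
  · conv_lhs => rw [hdec]
    rw [← Finset.add_sum_erase _ _ (Finset.mem_univ (⟨χ, hχ⟩ : IrrCharacter G)), hm', ← add_assoc]
    congr 1
    have : (m : ℂ) = 1 + ((m - 1 : ℕ) : ℂ) := by
      have : m = 1 + (m - 1) := by omega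
      conv_lhs => rw [this]
      push_cast
      ring
    rw [this, add_smul, one_smul]

/-- A character all of whose irreducible multiplicities vanish is zero. -/
theorem char_eq_zero_of_forall {ρ : G → ℂ} (hρ : IsCharacter G ρ)
    (h : ∀ χ : G → ℂ, IsIrrCharacter G χ → classInner ρ χ = 0) : ρ = 0 :=
  classFunction_eq_zero_of_orthogonal (isClassFunction_of_isCharacter hρ) h

/-- A nonzero character has an irreducible constituent. -/
theorem exists_constituent {ρ : G → ℂ} (hρ : IsCharacter G ρ) (h0 : ρ ≠ 0) :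
    ∃ χ : G → ℂ, IsIrrCharacter G χ ∧ classInner ρ χ ≠ 0 := by
  by_contra hcon
  push Not at hcon
  exact h0 (char_eq_zero_of_forall hρ hcon)

/-- Sum of two natural-number valued inner products vanishes only if both do. -/
theorem classInner_add_ne_zero {α β γ : G → ℂ} (hα : IsCharacter G α) (hβ : IsCharacter G β)
    (hγ : IsCharacter G γ) (h : classInner α γ ≠ 0) : classInner (α + β) γ ≠ 0 := by
  letI := irrFintype (G := G)
  obtain ⟨a, ha⟩ := classInner_char_nat hα hγ
  obtain ⟨b, hb⟩ := classInner_char_nat hβ hγ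
  rw [classInner_add_left, ha, hb]
  rw [ha] at h
  have ha0 : a ≠ 0 := by rintro rfl; exact h (by simp)
  have : ((a + b : ℕ) : ℂ) ≠ 0 := by
    rw [Nat.cast_ne_zero]; omega
  simpa using this

end Constituents

section Transport

variable {G : Type u} [Group G] {H : Type w} [Group H]

theorem isIrrCharacter_comp_equiv (e : H ≃* G) {χ : G → ℂ} (h : IsIrrCharacter G χ) :
    IsIrrCharacter H (χ ∘ e) :=
  isIrrCharacter_comp_of_surjective e.toMonoidHom e.surjective h

theorem isCharacter_comp_equiv (e : H ≃* G) {χ : G → ℂ} (h : IsCharacter G χ) :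
    IsCharacter H (χ ∘ e) :=
  isCharacter_comp e.toMonoidHom h

theorem classInner_comp_equiv [Fintype G] [Fintype H] (e : H ≃* G) (α β : G → ℂ) :
    classInner (α ∘ e) (β ∘ e) = classInner α β := by
  unfold classInner
  rw [Nat.card_congr e.toEquiv]
  congr 1
  exact Fintype.sum_equiv e.toEquiv _ _ (fun _ => rfl)

end Transport

section ConjFun

variable {G : Type u} [Group G]

/-- The conjugate of a function on a normal subgroup: `n ↦ ϑ (g n g⁻¹)`. -/
def conjFun (N : Subgroup G) [hN : N.Normal] (g : G) (ϑ : N → ℂ) : N → ℂ :=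
  fun n => ϑ ⟨g * n * g⁻¹, hN.conj_mem (n : G) n.2 g⟩

theorem conjFun_apply (N : Subgroup G) [hN : N.Normal] (g : G) (ϑ : N → ℂ) (n : N) :
    conjFun N g ϑ n = ϑ ⟨g * n * g⁻¹, hN.conj_mem (n : G) n.2 g⟩ := rfl

theorem conjFun_eq_comp (N : Subgroup G) [hN : N.Normal] (g : G) (ϑ : N → ℂ) :
    conjFun N g ϑ = ϑ ∘ (MulAut.conjNormal g : MulAut N) := by
  funext n
  rw [conjFun_apply, Function.comp_apply]
  congr 1

theorem conjFun_one (N : Subgroup G) [hN : N.Normal] (ϑ : N → ℂ) : conjFun N 1 ϑ = ϑ := by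
  funext n
  rw [conjFun_apply]
  congr 1
  apply Subtype.ext
  simp

theorem conjFun_mul (N : Subgroup G) [hN : N.Normal] (g h : G) (ϑ : N → ℂ) :
    conjFun N (g * h) ϑ = conjFun N h (conjFun N g ϑ) := by
  funext n
  rw [conjFun_apply, conjFun_apply, conjFun_apply]
  congr 1
  apply Subtype.ext
  simp [mul_assoc]

theorem conjFun_inv_conjFun (N : Subgroup G) [hN : N.Normal] (g : G) (ϑ : N → ℂ) :
    conjFun N g⁻¹ (conjFun N g ϑ) = ϑ := by
  rw [← conjFun_mul, mul_inv_cancel, conjFun_one]

theorem conjFun_conjFun_inv (N : Subgroup G) [hN : N.Normal] (g : G) (ϑ : N → ℂ) :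
    conjFun N g (conjFun N g⁻¹ ϑ) = ϑ := by
  rw [← conjFun_mul, inv_mul_cancel, conjFun_one]

theorem isIrrCharacter_conjFun (N : Subgroup G) [hN : N.Normal] (g : G) {ϑ : N → ℂ}
    (h : IsIrrCharacter N ϑ) : IsIrrCharacter N (conjFun N g ϑ) := by
  rw [conjFun_eq_comp]
  exact isIrrCharacter_comp_equiv (MulAut.conjNormal g : MulAut N) h

theorem isCharacter_conjFun (N : Subgroup G) [hN : N.Normal] (g : G) {ϑ : N → ℂ}
    (h : IsCharacter N ϑ) : IsCharacter N (conjFun N g ϑ) := by
  rw [conjFun_eq_comp]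
  exact isCharacter_comp_equiv (MulAut.conjNormal g : MulAut N) h

theorem classInner_conjFun (N : Subgroup G) [hN : N.Normal] [Fintype N] (g : G) (α β : N → ℂ) :
    classInner (conjFun N g α) (conjFun N g β) = classInner α β := by
  rw [conjFun_eq_comp, conjFun_eq_comp]
  exact classInner_comp_equiv (MulAut.conjNormal g : MulAut N) α β

/-- The restriction of a class function of `G` to a normal subgroup is conjugation invariant. -/
theorem conjFun_restrict (N : Subgroup G) [hN : N.Normal] (g : G) {χ : G → ℂ}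
    (hχ : IsClassFunction G χ) : conjFun N g (fun n : N => χ n) = fun n : N => χ n := by
  funext n
  rw [conjFun_apply]
  exact hχ n g

theorem classInner_restrict_conjFun (N : Subgroup G) [hN : N.Normal] [Fintype N] (g : G)
    {χ : G → ℂ} (hχ : IsClassFunction G χ) (ϑ : N → ℂ) :
    classInner (fun n : N => χ n) (conjFun N g ϑ) = classInner (fun n : N => χ n) ϑ := by
  conv_lhs => rw [← conjFun_restrict N g hχ]
  exact classInner_conjFun N g _ ϑ

theorem conjFun_add (N : Subgroup G) [hN : N.Normal] (g : G) (α β : N → ℂ) :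
    conjFun N g (α + β) = conjFun N g α + conjFun N g β := rfl

theorem conjFun_smul (N : Subgroup G) [hN : N.Normal] (g : G) (c : ℂ) (α : N → ℂ) :
    conjFun N g (c • α) = c • conjFun N g α := rfl

end ConjFun

section IndNormal

variable {G : Type u} [Group G] [Fintype G]

/-- Induction from a normal subgroup, restricted back: the average of the conjugates. -/
theorem indFun_normal_restrict (N : Subgroup G) [hN : N.Normal] (ϑ : N → ℂ) :
    (fun n : N => indFun N ϑ n) = (Nat.card N : ℂ)⁻¹ • ∑ x : G, conjFun N x ϑ := by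
  funext n
  rw [indFun_apply, Pi.smul_apply, Finset.sum_apply, smul_eq_mul]
  congr 1
  rw [← Equiv.sum_comp (Equiv.inv G)]
  apply Finset.sum_congr rfl
  intro x _
  rw [conjFun_apply]
  have hmem : (Equiv.inv G x)⁻¹ * (n : G) * (Equiv.inv G x) ∈ N := by
    have := hN.conj_mem (n : G) n.2 x
    simpa using this
  rw [extendByZero_of_mem N ϑ hmem]
  congr 1
  apply Subtype.ext
  simp

/-- An induced function from a normal subgroup vanishes outside it. -/
theorem indFun_normal_of_not_mem (N : Subgroup G) [hN : N.Normal] (ϑ : N → ℂ) {g : G}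
    (hg : g ∉ N) : indFun N ϑ g = 0 := by
  rw [indFun_apply]
  rw [Finset.sum_eq_zero, mul_zero]
  intro x _
  apply extendByZero_of_not_mem
  intro h
  apply hg
  have := hN.conj_mem _ h x
  simpa [mul_assoc] using this

/-- For an invariant function, inducing and restricting multiplies by the index. -/
theorem indFun_normal_restrict_of_invariant (N : Subgroup G) [hN : N.Normal] (ϑ : N → ℂ)
    (hinv : ∀ g : G, conjFun N g ϑ = ϑ) :
    (fun n : N => indFun N ϑ n) = (N.index : ℂ) • ϑ := by
  rw [indFun_normal_restrict]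
  simp only [hinv, Finset.sum_const, Finset.card_univ]
  rw [← Nat.card_eq_fintype_card, ← N.card_mul_index]
  have hN0 : (Nat.card N : ℂ) ≠ 0 := by
    rw [Nat.cast_ne_zero]; exact Nat.card_pos.ne'
  rw [← Nat.cast_smul_eq_nsmul ℂ, smul_smul]
  congr 1
  push_cast
  field_simp

end IndNormal

section ResFun

variable {G : Type u} [Group G]

/-- Restriction of a function from a subgroup to a smaller subgroup. -/
def resFun {K H : Subgroup G} (hKH : K ≤ H) (ψ : H → ℂ) : K → ℂ := fun k => ψ ⟨k, hKH k.2⟩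

theorem resFun_apply {K H : Subgroup G} (hKH : K ≤ H) (ψ : H → ℂ) (k : K) :
    resFun hKH ψ k = ψ ⟨k, hKH k.2⟩ := rfl

theorem resFun_eq_comp {K H : Subgroup G} (hKH : K ≤ H) (ψ : H → ℂ) :
    resFun hKH ψ = ψ ∘ Subgroup.inclusion hKH := rfl

theorem isCharacter_resFun {K H : Subgroup G} (hKH : K ≤ H) {ψ : H → ℂ} (h : IsCharacter H ψ) :
    IsCharacter K (resFun hKH ψ) :=
  isCharacter_comp (Subgroup.inclusion hKH) h

theorem resFun_add {K H : Subgroup G} (hKH : K ≤ H) (α β : H → ℂ) :
    resFun hKH (α + β) = resFun hKH α + resFun hKH β := rfl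

theorem resFun_smul {K H : Subgroup G} (hKH : K ≤ H) (c : ℂ) (α : H → ℂ) :
    resFun hKH (c • α) = c • resFun hKH α := rfl

theorem resFun_zero {K H : Subgroup G} (hKH : K ≤ H) : resFun hKH (0 : H → ℂ) = 0 := rfl

theorem resFun_sum {K H : Subgroup G} (hKH : K ≤ H) {ι : Type*} (s : Finset ι) (f : ι → H → ℂ) :
    resFun hKH (∑ i ∈ s, f i) = ∑ i ∈ s, resFun hKH (f i) := by
  funext k
  simp [resFun_apply, Finset.sum_apply]

theorem resFun_restrict {K H : Subgroup G} (hKH : K ≤ H) (χ : G → ℂ) :
    resFun hKH (fun h : H => χ h) = fun k : K => χ k := rfl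

end ResFun

section Clifford

variable {G : Type u} [Group G] [Fintype G]

/-- **Clifford's theorem** (conjugacy part): two irreducible constituents of the restriction of
an irreducible character to a normal subgroup are conjugate. -/
theorem clifford_conj (N : Subgroup G) [hN : N.Normal] [Fintype N] {χ : G → ℂ}
    (hχ : IsIrrCharacter G χ) {ϑ φ : N → ℂ} (hϑ : IsIrrCharacter N ϑ) (hφ : IsIrrCharacter N φ)
    (h1 : classInner (fun n : N => χ n) ϑ ≠ 0) (h2 : classInner (fun n : N => χ n) φ ≠ 0) :
    ∃ x : G, conjFun N x ϑ = φ := by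
  have hcf := isClassFunction_of_isIrrCharacter hχ
  have hfr : classInner (indFun N ϑ) χ = classInner ϑ (fun n : N => χ n) :=
    frobenius_reciprocity N ϑ hcf
  have h3 : classInner (indFun N ϑ) χ ≠ 0 := by
    rw [hfr, ← classInner_conj_symm]
    intro h
    apply h1
    have := congrArg conj h
    simpa using this
  obtain ⟨ρ, hρ, hdec⟩ := exists_add_of_constituent
    (isCharacter_indFun N (isCharacter_of_isIrrCharacter hϑ)) hχ h3
  have hres : (fun n : N => indFun N ϑ n) = (fun n : N => χ n) + (fun n : N => ρ n) := by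
    funext n; rw [hdec]; rfl
  have h4 : classInner (fun n : N => indFun N ϑ n) φ ≠ 0 := by
    rw [hres]
    exact classInner_add_ne_zero (isCharacter_restrict N (isCharacter_of_isIrrCharacter hχ))
      (isCharacter_restrict N hρ) (isCharacter_of_isIrrCharacter hφ) h2
  rw [indFun_normal_restrict, classInner_smul_left, classInner_sum_left] at h4
  have : ∃ x : G, classInner (conjFun N x ϑ) φ ≠ 0 := by
    by_contra hcon
    push Not at hcon
    apply h4
    rw [Finset.sum_eq_zero (fun x _ => hcon x), mul_zero]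
  obtain ⟨x, hx⟩ := this
  refine ⟨x, ?_⟩
  by_contra hne
  apply hx
  rw [irr_orthogonality (isIrrCharacter_conjFun N x hϑ) hφ, if_neg hne]

/-- Relative form of `clifford_conj`: for `N ≤ H ≤ G`, `N` normal in `G`, and `ψ` irreducible on
`H`, two irreducible constituents of `ψ` restricted to `N` are conjugate under `H`. -/
theorem clifford_conj_rel (N H : Subgroup G) [hN : N.Normal] (hNH : N ≤ H) [Fintype N] [Fintype H]
    {ψ : H → ℂ} (hψ : IsIrrCharacter H ψ) {ϑ φ : N → ℂ} (hϑ : IsIrrCharacter N ϑ)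
    (hφ : IsIrrCharacter N φ) (h1 : classInner (resFun hNH ψ) ϑ ≠ 0)
    (h2 : classInner (resFun hNH ψ) φ ≠ 0) : ∃ x ∈ H, conjFun N x ϑ = φ := by
  haveI : (N.subgroupOf H).Normal := Subgroup.normal_subgroupOf
  letI : Fintype (N.subgroupOf H) := Fintype.ofFinite _
  let e : N.subgroupOf H ≃* N := Subgroup.subgroupOfEquivOfLe hNH
  have hres : (fun n' : N.subgroupOf H => ψ n') = resFun hNH ψ ∘ e := by
    funext n'
    rfl
  have h1' : classInner (fun n' : N.subgroupOf H => ψ n') (ϑ ∘ e) ≠ 0 := by
    rw [hres, classInner_comp_equiv]; exact h1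
  have h2' : classInner (fun n' : N.subgroupOf H => ψ n') (φ ∘ e) ≠ 0 := by
    rw [hres, classInner_comp_equiv]; exact h2
  obtain ⟨x, hx⟩ := clifford_conj (N.subgroupOf H) hψ (isIrrCharacter_comp_equiv e hϑ)
    (isIrrCharacter_comp_equiv e hφ) h1' h2'
  refine ⟨x, x.2, ?_⟩
  funext n
  have := congrFun hx (e.symm n)
  rw [conjFun_apply, Function.comp_apply, Function.comp_apply, MulEquiv.apply_symm_apply] at this
  rw [conjFun_apply, ← this]
  congr 1

/-- Restriction to a normal subgroup `N` of a function induced from an intermediate subgroup. -/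
theorem indFun_restrict_normal (N T : Subgroup G) [hN : N.Normal] (hNT : N ≤ T) (ψ : T → ℂ) :
    (fun n : N => indFun T ψ n) = (Nat.card T : ℂ)⁻¹ • ∑ x : G, conjFun N x (resFun hNT ψ) := by
  funext n
  rw [indFun_apply, Pi.smul_apply, Finset.sum_apply, smul_eq_mul]
  congr 1
  rw [← Equiv.sum_comp (Equiv.inv G)]
  apply Finset.sum_congr rfl
  intro x _
  rw [conjFun_apply, resFun_apply]
  have hmem : (Equiv.inv G x)⁻¹ * (n : G) * (Equiv.inv G x) ∈ N := by
    have := hN.conj_mem (n : G) n.2 x
    simpa using this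
  rw [extendByZero_of_mem T ψ (hNT hmem)]
  congr 1
  apply Subtype.ext
  simp

end Clifford

section Invariant

variable {G : Type u} [Group G] [Fintype G]

/-- If `ϑ` is an invariant irreducible constituent of `χ` restricted to the normal subgroup `N`,
then the restriction is a multiple of `ϑ`. -/
theorem restrict_eq_smul_of_invariant (N : Subgroup G) [hN : N.Normal] [Fintype N] {χ : G → ℂ}
    (hχ : IsIrrCharacter G χ) {ϑ : N → ℂ} (hϑ : IsIrrCharacter N ϑ)
    (hinv : ∀ g : G, conjFun N g ϑ = ϑ) (hcon : classInner (fun n : N => χ n) ϑ ≠ 0) :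
    ∃ e : ℕ, e ≠ 0 ∧ classInner (fun n : N => χ n) ϑ = e ∧ (fun n : N => χ n) = (e : ℂ) • ϑ := by
  classical
  letI := irrFintype (G := N)
  have hχN : IsCharacter N (fun n : N => χ n) :=
    isCharacter_restrict N (isCharacter_of_isIrrCharacter hχ)
  obtain ⟨e, he⟩ := classInner_char_nat hχN (isCharacter_of_isIrrCharacter hϑ)
  have he0 : e ≠ 0 := by
    rintro rfl
    exact hcon (by simpa using he)
  refine ⟨e, he0, he, ?_⟩
  obtain ⟨_, hdecN⟩ := isCharacter_decomp hχN
  conv_lhs => rw [hdecN]
  rw [Finset.sum_eq_single (⟨ϑ, hϑ⟩ : IrrCharacter N)]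
  · simp only
    rw [he]
  · intro φ _ hne
    have : classInner (fun n : N => χ n) (φ : N → ℂ) = 0 := by
      by_contra h2
      obtain ⟨x, hx⟩ := clifford_conj N hχ hϑ φ.2 hcon h2
      rw [hinv x] at hx
      exact hne (Subtype.ext hx.symm)
    rw [this, zero_smul]
  · intro h; exact absurd (Finset.mem_univ _) h

end Invariant

end Cfsg.Agent.Helper5
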