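import Mathlib
import Cfsg.Agent.Lib.Helper5.Clifford
import Cfsg.Agent.Lib.Helper24.CharComplete

/-!
# More Clifford theory: the restriction as a multiple of the orbit sum (helper5)
-/

set_option autoImplicit false
set_option linter.style.haveILetI false
set_option linter.unusedVariables false
set_option linter.unusedSectionVars false

namespace Cfsg.Agent.Helper5

open Cfsg Cfsg.Agent.Helper24

universe u

open scoped ComplexConjugate

section CosetSum

variable {G : Type u} [Group G] [Fintype G]

/-- Summing a function constant on left cosets of `H`. -/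
theorem sum_eq_card_mul_sum_quotient (H : Subgroup G) [Fintype (G ⧸ H)] (F : G → ℂ)
    (hF : ∀ x : G, ∀ h ∈ H, F (x * h) = F x) :
    ∑ x : G, F x = (Nat.card H : ℂ) * ∑ q : G ⧸ H, F q.out := by
  classical
  letI : Fintype H := Fintype.ofFinite H
  let e : G ≃ (G ⧸ H) × H :=
    { toFun := fun y => ((y : G ⧸ H), ⟨((y : G ⧸ H).out)⁻¹ * y, by
        rw [← QuotientGroup.eq]
        exact QuotientGroup.out_eq' _⟩)
      invFun := fun qh => qh.1.out * qh.2.1
      left_inv := fun y => by
        show (y : G ⧸ H).out * (((y : G ⧸ H).out)⁻¹ * y) = y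
        rw [mul_inv_cancel_left]
      right_inv := by
        rintro ⟨q, ⟨h, hh⟩⟩
        have h2 : ((q.out * h : G) : G ⧸ H) = q := by
          have h1 : ((q.out * h : G) : G ⧸ H) = ((q.out : G) : G ⧸ H) := by
            rw [eq_comm, QuotientGroup.eq]
            simpa using hh
          rw [h1]
          exact QuotientGroup.out_eq' _
        apply Prod.ext
        · exact h2
        · apply Subtype.ext
          show (((q.out * h : G) : G ⧸ H).out)⁻¹ * (q.out * h) = h
          rw [h2, inv_mul_cancel_left] }
  rw [← Equiv.sum_comp e.symm, Fintype.sum_prod_type, Finset.mul_sum]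
  refine Finset.sum_congr rfl fun q _ => ?_
  have : ∀ h : H, F (e.symm (q, h)) = F q.out := fun h => hF q.out h.1 h.2
  simp only [this, Finset.sum_const, Finset.card_univ, nsmul_eq_mul]
  rw [Nat.card_eq_fintype_card]

end CosetSum

section OrbitSum

variable {G : Type u} [Group G] [Fintype G]

/-- **Clifford's theorem**, orbit-sum form: the restriction of an irreducible character `χ` to a
normal subgroup `N` is proportional to the sum of all conjugates of any irreducible constituent
`ϑ`:  `t • χ_N = e • ∑ x, ϑ^x` with `t` the order of the inertia group and `e = [χ_N, ϑ]`. -/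
theorem clifford_orbit_sum (N : Subgroup G) [hN : N.Normal] [Fintype N] {χ : G → ℂ}
    (hχ : IsIrrCharacter G χ) {ϑ : N → ℂ} (hϑ : IsIrrCharacter N ϑ)
    (hcon : classInner (fun n : N => χ n) ϑ ≠ 0) :
    (Nat.card {x : G // conjFun N x ϑ = ϑ} : ℂ) • (fun n : N => χ n) =
      classInner (fun n : N => χ n) ϑ • ∑ x : G, conjFun N x ϑ := by
  classical
  letI := irrFintype (G := N)
  have hcfG := isClassFunction_of_isIrrCharacter hχ
  have hcf : IsClassFunction N (fun n : N => χ n) := by
    intro a b
    exact hcfG a b
  set f : N → ℂ := fun n : N => χ n with hf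
  set e := classInner f ϑ with he
  set t := Nat.card {x : G // conjFun N x ϑ = ϑ} with ht
  -- the conjugates as irreducible characters
  let c : G → IrrCharacter N := fun x => ⟨conjFun N x ϑ, isIrrCharacter_conjFun N x hϑ⟩
  have hsum : ∑ x : G, conjFun N x ϑ =
      ∑ μ : IrrCharacter N, ((Finset.univ.filter (fun x : G => c x = μ)).card : ℂ) • (μ : N → ℂ) := by
    rw [← Finset.sum_fiberwise (Finset.univ) c (fun x => conjFun N x ϑ)]
    refine Finset.sum_congr rfl fun μ _ => ?_
    have : ∀ x ∈ Finset.univ.filter (fun x : G => c x = μ), conjFun N x ϑ = (μ : N → ℂ) := by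
      intro x hx
      rw [Finset.mem_filter] at hx
      rw [← hx.2]
    rw [Finset.sum_congr rfl this, Finset.sum_const, ← Nat.cast_smul_eq_nsmul ℂ]
  conv_lhs => rw [classFunction_expansion hcf]
  rw [hsum, Finset.smul_sum, Finset.smul_sum]
  refine Finset.sum_congr rfl fun μ _ => ?_
  rw [smul_smul, smul_smul]
  congr 1
  by_cases hμ : ∃ x₀ : G, c x₀ = μ
  · obtain ⟨x₀, hx₀⟩ := hμ
    have h1 : classInner f (μ : N → ℂ) = e := by
      rw [← hx₀]
      exact classInner_restrict_conjFun N x₀ hcfG ϑ
    have h2 : (Finset.univ.filter (fun x : G => c x = μ)).card = t := by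
      rw [ht, Nat.card_eq_fintype_card, Fintype.card_subtype]
      apply Finset.card_bij (fun x _ => x * x₀⁻¹)
      · intro x hx
        rw [Finset.mem_filter] at hx ⊢
        refine ⟨Finset.mem_univ _, ?_⟩
        have h3 : conjFun N x ϑ = conjFun N x₀ ϑ := by
          have := hx.2.trans hx₀.symm
          exact congrArg Subtype.val this
        rw [conjFun_mul, h3, conjFun_inv_conjFun]
      · intro a _ b _ hab
        exact mul_right_cancel hab
      · intro y hy
        rw [Finset.mem_filter] at hy
        refine ⟨y * x₀, ?_, by rw [mul_inv_cancel_right]⟩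
        rw [Finset.mem_filter]
        refine ⟨Finset.mem_univ _, ?_⟩
        rw [← hx₀]
        apply Subtype.ext
        show conjFun N (y * x₀) ϑ = conjFun N x₀ ϑ
        rw [conjFun_mul, hy.2]
    rw [h1, h2, mul_comm]
  · have h1 : classInner f (μ : N → ℂ) = 0 := by
      by_contra h0
      obtain ⟨x, hx⟩ := clifford_conj N hχ hϑ μ.2 hcon h0
      exact hμ ⟨x, Subtype.ext hx⟩
    have h2 : (Finset.univ.filter (fun x : G => c x = μ)).card = 0 := by
      rw [Finset.card_eq_zero, Finset.filter_eq_empty_iff]
      intro x _ hx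
      exact hμ ⟨x, hx⟩
    rw [h1, h2]
    simp

end OrbitSum

end Cfsg.Agent.Helper5
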