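import Mathlib
import Cfsg.Prelude.Def_Blocks
import Cfsg.Agent.Lib.Helper5.Clifford
import Cfsg.Agent.Lib.Helper24.CharAbelian
import Cfsg.Agent.Lib.Helper23.Schur

/-!
# Characters and central subgroups (helper5's shared library)
-/

set_option autoImplicit false
set_option linter.style.haveILetI false
set_option linter.unusedVariables false
set_option linter.unusedSectionVars false

namespace Cfsg.Agent.Helper5

open Cfsg Cfsg.Agent.Helper24

universe u

open scoped ComplexConjugate

section Central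

variable {G : Type u} [Group G] [Fintype G]

/-- The restriction of an irreducible character to a central subgroup is a multiple of a linear
character. -/
theorem restrict_central_eq (Z : Subgroup G) [hZn : Z.Normal] [Fintype Z]
    (hZ : Z ≤ Subgroup.center G) {χ : G → ℂ} (hχ : IsIrrCharacter G χ) :
    ∃ φ : Z → ℂ, IsIrrCharacter Z φ ∧ φ 1 = 1 ∧ (fun z : Z => χ z) = (χ 1) • φ := by
  classical
  letI := irrFintype (G := Z)
  have hχZ : IsCharacter Z (fun z : Z => χ z) :=
    isCharacter_restrict Z (isCharacter_of_isIrrCharacter hχ)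
  have hne : (fun z : Z => χ z) ≠ 0 := by
    intro h
    have := congrFun h 1
    exact Cfsg.Agent.Helper23.irr_one_ne_zero χ hχ this
  obtain ⟨φ, hφ, hcon⟩ := exists_constituent hχZ hne
  have hinv : ∀ g : G, conjFun Z g φ = φ := by
    intro g
    funext z
    rw [conjFun_apply]
    congr 1
    apply Subtype.ext
    show g * (z : G) * g⁻¹ = z
    have := Subgroup.mem_center_iff.mp (hZ z.2) g
    rw [this]; group
  obtain ⟨e, he0, hee, he⟩ := restrict_eq_smul_of_invariant Z hχ hφ hinv hcon
  have hcomm : ∀ a b : Z, a * b = b * a := by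
    intro a b
    apply Subtype.ext
    show (a : G) * b = b * a
    exact Subgroup.mem_center_iff.mp (hZ b.2) a
  have hφ1 : φ 1 = 1 := by
    rw [irr_one_eq_charDegree hφ, charDegree_eq_one_of_comm hcomm hφ]
    simp
  refine ⟨φ, hφ, hφ1, ?_⟩
  have h1 := congrFun he 1
  simp only [Pi.smul_apply, smul_eq_mul, hφ1, mul_one] at h1
  have h1' : χ 1 = (e : ℂ) := h1
  rw [h1']
  exact he

/-- Norm of an irreducible character summed over a central subgroup. -/
theorem sum_mul_conj_central (Z : Subgroup G) [hZn : Z.Normal] [Fintype Z]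
    (hZ : Z ≤ Subgroup.center G) {χ : G → ℂ} (hχ : IsIrrCharacter G χ) :
    ∑ z : Z, χ z * conj (χ z) = (Nat.card Z : ℂ) * (χ 1 * conj (χ 1)) := by
  obtain ⟨φ, hφ, hφ1, he⟩ := restrict_central_eq Z hZ hχ
  have h1 : classInner (fun z : Z => χ z) (fun z : Z => χ z) = χ 1 * conj (χ 1) := by
    rw [he, classInner_smul_left, classInner_smul_right, irr_orthogonality hφ hφ, if_pos rfl]
    ring
  unfold classInner at h1
  have hZ0 : (Nat.card Z : ℂ) ≠ 0 := by
    rw [Nat.cast_ne_zero]; exact Nat.card_pos.ne'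
  have : ∑ z : Z, χ z * conj (χ z) =
      (Nat.card Z : ℂ) * ((Nat.card Z : ℂ)⁻¹ * ∑ z : Z, χ z * conj (χ z)) := by
    field_simp
  rw [this, h1]

/-- The sum of `|χ|²` over the group is the group order. -/
theorem sum_mul_conj_irr {χ : G → ℂ} (hχ : IsIrrCharacter G χ) :
    ∑ g : G, χ g * conj (χ g) = (Nat.card G : ℂ) := by
  have h : classInner χ χ = 1 := by rw [irr_orthogonality hχ hχ, if_pos rfl]
  unfold classInner at h
  have hG0 : (Nat.card G : ℂ) ≠ 0 := by
    rw [Nat.cast_ne_zero]; exact Nat.card_pos.ne'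
  have : ∑ g : G, χ g * conj (χ g) =
      (Nat.card G : ℂ) * ((Nat.card G : ℂ)⁻¹ * ∑ g : G, χ g * conj (χ g)) := by
    field_simp
  rw [this, h, mul_one]

/-- Splitting a sum over the group into the part over a subgroup and the rest. -/
theorem sum_eq_sum_subgroup_add (H : Subgroup G) [Fintype H] [DecidablePred (· ∈ H)]
    (F : G → ℂ) :
    ∑ g : G, F g = ∑ h : H, F h + ∑ g ∈ Finset.univ.filter (fun g : G => ¬ g ∈ H), F g := by
  rw [← Finset.sum_filter_add_sum_filter_not Finset.univ (fun g : G => g ∈ H)]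
  congr 1
  exact Finset.sum_subtype (Finset.univ.filter (fun g : G => g ∈ H)) (by simp) F

/-- If `χ` vanishes outside the central subgroup `Z` then `χ(1)² = |G : Z|`. -/
theorem sq_degree_of_vanish_off_central (Z : Subgroup G) [hZn : Z.Normal] [Fintype Z]
    (hZ : Z ≤ Subgroup.center G) {χ : G → ℂ} (hχ : IsIrrCharacter G χ)
    (hv : ∀ g : G, g ∉ Z → χ g = 0) : charDegree χ ^ 2 = Z.index := by
  classical
  have h1 := sum_eq_sum_subgroup_add Z (fun g => χ g * conj (χ g))
  have h0 : ∑ g ∈ Finset.univ.filter (fun g : G => ¬ g ∈ Z), χ g * conj (χ g) = 0 := by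
    apply Finset.sum_eq_zero
    intro g hg
    rw [Finset.mem_filter] at hg
    rw [hv g hg.2, zero_mul]
  rw [sum_mul_conj_irr hχ, sum_mul_conj_central Z hZ hχ, h0, add_zero,
    irr_one_eq_charDegree hχ, Complex.conj_natCast, ← Z.card_mul_index] at h1
  have hZ0 : (Nat.card Z : ℂ) ≠ 0 := by
    rw [Nat.cast_ne_zero]; exact Nat.card_pos.ne'
  have h2 : ((Z.index : ℕ) : ℂ) = ((charDegree χ ^ 2 : ℕ) : ℂ) := by
    push_cast at h1 ⊢
    have := mul_left_cancel₀ hZ0 h1
    rw [this]; ring
  exact (Nat.cast_injective h2).symm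

end Central

end Cfsg.Agent.Helper5
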