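import Mathlib

/-!
# Divisibility of the size of a set by a common divisor of its orbit sizes (helper5)
-/

set_option autoImplicit false

namespace Cfsg.Agent.Helper5

/-- If `m` divides the size of every orbit of a group action on a finite set `X`, then `m`
divides the size of `X`. -/
theorem dvd_card_of_forall_dvd_orbit {P X : Type*} [Group P] [MulAction P X] [Finite X] (m : ℕ)
    (h : ∀ x : X, m ∣ Nat.card (MulAction.orbit P x)) : m ∣ Nat.card X := by
  classical
  haveI : Finite (MulAction.orbitRel.Quotient P X) := Quotient.finite _
  letI : Fintype (MulAction.orbitRel.Quotient P X) := Fintype.ofFinite _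
  rw [Nat.card_congr (MulAction.selfEquivSigmaOrbits P X), Nat.card_sigma]
  apply Finset.dvd_sum
  intro ω _
  exact h _

/-- Orbit-stabilizer with `Nat.card`. -/
theorem natCard_orbit_mul_natCard_stabilizer {P X : Type*} [Group P] [MulAction P X] (x : X) :
    Nat.card (MulAction.orbit P x) * Nat.card (MulAction.stabilizer P x) = Nat.card P := by
  rw [Nat.card_congr (MulAction.orbitEquivQuotientStabilizer P x)]
  exact (Subgroup.card_eq_card_quotient_mul_card_subgroup _).symm

/-- If the stabilizer of every point has order dividing `s`, and `s * r = |P|`, then `r` divides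
the size of `X`. -/
theorem dvd_card_of_forall_card_stabilizer_dvd {P X : Type*} [Group P] [Finite P] [MulAction P X]
    [Finite X] (s r : ℕ) (hsr : s * r = Nat.card P)
    (h : ∀ x : X, Nat.card (MulAction.stabilizer P x) ∣ s) : r ∣ Nat.card X := by
  classical
  apply dvd_card_of_forall_dvd_orbit (P := P)
  intro x
  obtain ⟨k, hk⟩ := h x
  have h1 := natCard_orbit_mul_natCard_stabilizer (P := P) x
  have hpos : 0 < Nat.card (MulAction.stabilizer P x) := Nat.card_pos
  refine ⟨k, ?_⟩
  apply Nat.eq_of_mul_eq_mul_right hpos
  rw [h1, ← hsr, hk]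
  ring

end Cfsg.Agent.Helper5
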