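import Mathlib

set_option autoImplicit false

/-!
# Thompson-type lattice lemma over the p-adic integers: definitions

Everything here is pure linear algebra over `ℤ_[p]`: a lattice `L` (free of finite rank) with an
endomorphism `X` of order dividing `p`.
-/

namespace Cfsg.Agent.Helper5.TL

open scoped Padic

variable (p : ℕ) [Fact p.Prime]

section Lattice

variable {L : Type*} [AddCommGroup L] [Module ℤ_[p] L]

/-- the norm element `σ = Σ_{i<p} X^i` of an endomorphism `X`. -/
noncomputable def sig (X : Module.End ℤ_[p] L) : Module.End ℤ_[p] L :=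
  ∑ i ∈ Finset.range p, X ^ i

/-- fixed points `ker (X - 1)` -/
noncomputable def fixedPts (X : Module.End ℤ_[p] L) : Submodule ℤ_[p] L := LinearMap.ker (X - 1)

/-- `σ L` -/
noncomputable def sigRange (X : Module.End ℤ_[p] L) : Submodule ℤ_[p] L :=
  LinearMap.range (sig p X)

/-- `ker σ` -/
noncomputable def sigKer (X : Module.End ℤ_[p] L) : Submodule ℤ_[p] L := LinearMap.ker (sig p X)

/-- `(X - 1) L` -/
noncomputable def augRange (X : Module.End ℤ_[p] L) : Submodule ℤ_[p] L := LinearMap.range (X - 1)

/-- the quotient `W / W'` is generated by one element (has dimension at most one). -/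
def CyclicQuot (W W' : Submodule ℤ_[p] L) : Prop :=
  ∃ w ∈ W, ∀ u ∈ W, ∃ c : ℤ_[p], u - c • w ∈ W'

end Lattice

end Cfsg.Agent.Helper5.TL
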