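import Mathlib
import Cfsg.Agent.Lib.Helper5.TLDefs

set_option autoImplicit false

/-!
# Thompson-type lattice lemma, Part I (pieces DIM / A / B): auxiliary definitions

`ThetaData`: an `F_p`-coordinate map for a quotient `W / W'` of submodules of a `P`-lattice, all of
whose matrices lift to endomorphisms commuting with `X`.  `IsReiner`: the output of `reiner_split`.
`IsReinerProj`: the three projections of a Reiner decomposition.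
-/

namespace Cfsg.Agent.Helper5.TL

open scoped Padic

variable (p : ℕ) [Fact p.Prime]

variable {L : Type*} [AddCommGroup L] [Module ℤ_[p] L]

/-- coordinate data for `W / W'`. -/
def ThetaData (X : Module.End ℤ_[p] L) (W W' : Submodule ℤ_[p] L) (n : ℕ)
    (θ : L → Fin n → ZMod p) : Prop :=
  (∀ u u', θ (u + u') = θ u + θ u') ∧
  (∀ (c : ℤ_[p]) (u : L), θ (c • u) = PadicInt.toZMod c • θ u) ∧
  (∀ u ∈ W', θ u = 0) ∧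
  (∀ u ∈ W, θ u = 0 → u ∈ W') ∧
  (∀ c : Fin n → ZMod p, ∃ u ∈ W, θ u = c) ∧
  (∀ g : Matrix (Fin n) (Fin n) (ZMod p), ∃ φ : Module.End ℤ_[p] L,
    Commute φ X ∧ (∀ u ∈ W, φ u ∈ W) ∧ ∀ u ∈ W, θ (φ u) = g.mulVec (θ u))

/-- the output of `reiner_split`. -/
def IsReiner (X : Module.End ℤ_[p] L) (F L₁ L₂ : Submodule ℤ_[p] L) (r : ℕ) (v : Fin r → L) : Prop :=
  F ⊔ L₁ ⊔ L₂ = ⊤ ∧ Disjoint F (L₁ ⊔ L₂) ∧ Disjoint L₁ L₂ ∧
    (∀ u ∈ F, X u ∈ F) ∧ (∀ u ∈ L₁, X u = u) ∧ (∀ u ∈ L₂, X u ∈ L₂) ∧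
    (∀ u ∈ L₂, sig p X u = 0) ∧
    LinearIndependent ℤ_[p] (fun ij : Fin p × Fin r => (X ^ (ij.1 : ℕ)) (v ij.2)) ∧
    Submodule.span ℤ_[p] (Set.range (fun ij : Fin p × Fin r => (X ^ (ij.1 : ℕ)) (v ij.2))) = F

/-- the three projections of a decomposition `L = F ⊕ L₁ ⊕ L₂` into `X`-stable summands. -/
def IsReinerProj (X : Module.End ℤ_[p] L) (F L₁ L₂ : Submodule ℤ_[p] L)
    (qF q₁ q₂ : Module.End ℤ_[p] L) : Prop :=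
  qF + q₁ + q₂ = 1 ∧ (∀ u, qF u ∈ F) ∧ (∀ u, q₁ u ∈ L₁) ∧ (∀ u, q₂ u ∈ L₂) ∧
    (∀ u ∈ F, qF u = u ∧ q₁ u = 0 ∧ q₂ u = 0) ∧
    (∀ u ∈ L₁, qF u = 0 ∧ q₁ u = u ∧ q₂ u = 0) ∧
    (∀ u ∈ L₂, qF u = 0 ∧ q₁ u = 0 ∧ q₂ u = u) ∧
    Commute qF X ∧ Commute q₁ X ∧ Commute q₂ X

end Cfsg.Agent.Helper5.TL
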