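import Mathlib
import Cfsg.Agent.Lib.Helper5.TLDefs
import Cfsg.Agent.Lib.Helper20.TLLOC
import Cfsg.Agent.Lib.Helper20.TLKEY
import Cfsg.Agent.Lib.Helper20.TLDIM
import Cfsg.Agent.Lib.Helper5.TL2Asm

set_option autoImplicit false

namespace Cfsg.Agent.Helper5.TL

open scoped Padic

variable (p : ℕ) [Fact p.Prime]

section Generic

variable {L : Type*} [AddCommGroup L] [Module ℤ_[p] L]

/-- `fixedPts` (true) or `sigKer` (false). -/
noncomputable def topS (b : Bool) (X : Module.End ℤ_[p] L) : Submodule ℤ_[p] L :=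
  bif b then fixedPts p X else sigKer p X

/-- `sigRange` (true) or `augRange` (false). -/
noncomputable def botS (b : Bool) (X : Module.End ℤ_[p] L) : Submodule ℤ_[p] L :=
  bif b then sigRange p X else augRange p X

theorem mem_fixedPts {X : Module.End ℤ_[p] L} {v : L} : v ∈ fixedPts p X ↔ X v = v := by
  unfold fixedPts
  rw [LinearMap.mem_ker, LinearMap.sub_apply, sub_eq_zero]
  rfl

theorem mem_sigKer {X : Module.End ℤ_[p] L} {v : L} : v ∈ sigKer p X ↔ sig p X v = 0 := by
  unfold sigKer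
  exact LinearMap.mem_ker

theorem mem_sigRange {X : Module.End ℤ_[p] L} {v : L} : v ∈ sigRange p X ↔ ∃ m, sig p X m = v := by
  unfold sigRange
  exact LinearMap.mem_range

theorem mem_augRange {X : Module.End ℤ_[p] L} {v : L} : v ∈ augRange p X ↔ ∃ m, X m - m = v := by
  unfold augRange
  rw [LinearMap.mem_range]
  simp only [LinearMap.sub_apply]
  rfl

theorem commute_sig {X T : Module.End ℤ_[p] L} (h : Commute T X) : Commute T (sig p X) := by
  unfold sig
  exact Commute.sum_right _ _ _ (fun i _ => h.pow_right i)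

theorem top_of_commute (b : Bool) {X T : Module.End ℤ_[p] L} (h : Commute T X) {v : L}
    (hv : v ∈ topS p b X) : T v ∈ topS p b X := by
  cases b
  · simp only [topS, cond_false] at hv ⊢
    rw [mem_sigKer] at hv ⊢
    have := commute_sig p h
    have h2 : sig p X (T v) = T (sig p X v) := by
      have := congrArg (fun f => f v) this.eq
      simpa [Module.End.mul_apply] using this.symm
    rw [h2, hv, map_zero]
  · simp only [topS, cond_true] at hv ⊢
    rw [mem_fixedPts] at hv ⊢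
    have h2 : X (T v) = T (X v) := by
      have := congrArg (fun f => f v) h.eq
      simpa [Module.End.mul_apply] using this.symm
    rw [h2, hv]

theorem bot_of_commute (b : Bool) {X T : Module.End ℤ_[p] L} (h : Commute T X) {v : L}
    (hv : v ∈ botS p b X) : T v ∈ botS p b X := by
  cases b
  · simp only [botS, cond_false] at hv ⊢
    rw [mem_augRange] at hv ⊢
    obtain ⟨m, rfl⟩ := hv
    refine ⟨T m, ?_⟩
    have h2 : X (T m) = T (X m) := by
      have := congrArg (fun f => f m) h.eq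
      simpa [Module.End.mul_apply] using this.symm
    rw [h2, map_sub]
  · simp only [botS, cond_true] at hv ⊢
    rw [mem_sigRange] at hv ⊢
    obtain ⟨m, rfl⟩ := hv
    refine ⟨T m, ?_⟩
    have := commute_sig p h
    have h2 : sig p X (T m) = T (sig p X m) := by
      have := congrArg (fun f => f m) this.eq
      simpa [Module.End.mul_apply] using this.symm
    exact h2

theorem pow_apply_fixed {X : Module.End ℤ_[p] L} {v : L} (hv : X v = v) (i : ℕ) : (X ^ i) v = v := by
  induction i with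
  | zero => simp
  | succ n ih => rw [pow_succ, Module.End.mul_apply, hv, ih]

theorem p_smul_top_mem_bot (b : Bool) {X : Module.End ℤ_[p] L} {v : L}
    (hv : v ∈ topS p b X) : (p : ℤ_[p]) • v ∈ botS p b X := by
  cases b
  · simp only [topS, cond_false] at hv
    simp only [botS, cond_false]
    rw [mem_sigKer] at hv
    rw [mem_augRange]
    refine ⟨-∑ i ∈ Finset.range p, ∑ j ∈ Finset.range i, (X ^ j) v, ?_⟩
    have key : ∀ i : ℕ, X (∑ j ∈ Finset.range i, (X ^ j) v) - ∑ j ∈ Finset.range i, (X ^ j) v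
        = (X ^ i) v - v := by
      intro i
      induction i with
      | zero => simp
      | succ n ih =>
        rw [Finset.sum_range_succ, map_add, add_sub_add_comm, ih]
        rw [pow_succ', Module.End.mul_apply]
        abel
    rw [map_neg, map_sum]
    have h1 : ∑ i ∈ Finset.range p, (X ^ i) v = 0 := by
      have := hv
      unfold sig at this
      simpa [LinearMap.sum_apply] using this
    calc -∑ i ∈ Finset.range p, X (∑ j ∈ Finset.range i, (X ^ j) v)
          - -∑ i ∈ Finset.range p, ∑ j ∈ Finset.range i, (X ^ j) v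
        = -∑ i ∈ Finset.range p, (X (∑ j ∈ Finset.range i, (X ^ j) v)
            - ∑ j ∈ Finset.range i, (X ^ j) v) := by
          rw [Finset.sum_sub_distrib]; abel
      _ = -∑ i ∈ Finset.range p, ((X ^ i) v - v) := by
          congr 1
          exact Finset.sum_congr rfl (fun i _ => key i)
      _ = (p : ℤ_[p]) • v := by
          rw [Finset.sum_sub_distrib, h1]
          simp [Finset.sum_const, Finset.card_range, Nat.cast_smul_eq_nsmul]
  · simp only [topS, cond_true] at hv
    simp only [botS, cond_true]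
    rw [mem_fixedPts] at hv
    rw [mem_sigRange]
    refine ⟨v, ?_⟩
    unfold sig
    rw [LinearMap.sum_apply]
    simp only [pow_apply_fixed p hv]
    simp [Finset.sum_const, Finset.card_range, Nat.cast_smul_eq_nsmul]

end Generic

section Contra

variable {G : Type*} [Group G] [Finite G]
variable {M : Type*} [AddCommGroup M] [Module ℤ_[p] M] [Module.Free ℤ_[p] M] [Module.Finite ℤ_[p] M]

theorem contra (ρ : Representation ℤ_[p] G M)
    (hirr : ∀ ε : Module.End ℤ_[p] M, (∀ g, Commute ε (ρ g)) → ε * ε = ε → ε = 0 ∨ ε = 1)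
    (b : Bool) (x : G) (lam : Module.End ℤ_[p] M) (hlam : ∀ g, Commute lam (ρ g))
    (v₀ v₁ : M) (h0' : v₀ ∉ botS p b (ρ x)) (h0'' : lam v₀ ∈ botS p b (ρ x))
    (h1 : v₁ ∈ topS p b (ρ x)) (h1' : v₁ ∉ botS p b (ρ x))
    (h1'' : lam v₁ - v₁ ∈ botS p b (ρ x)) : False := by
  rcases unit_or_nilp p ρ hirr lam hlam with ⟨mu, hmu, _, h2⟩ | ⟨k, nu, hk⟩
  · apply h0'
    have := bot_of_commute p b (hmu x) h0''
    have h3 : mu (lam v₀) = v₀ := by
      have := congrArg (fun f => f v₀) h2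
      simpa [Module.End.mul_apply] using this
    rwa [h3] at this
  · apply h1'
    have hpne : (p : ℤ_[p]) ≠ 0 := by
      exact_mod_cast (Fact.out : p.Prime).ne_zero
    -- nu commutes with ρ x
    have hnu : Commute nu (ρ x) := by
      have h3 : Commute (lam ^ k) (ρ x) := (hlam x).pow_left k
      rw [hk] at h3
      have h4 : (p : ℤ_[p]) • (nu * ρ x) = (p : ℤ_[p]) • (ρ x * nu) := by
        rw [← smul_mul_assoc, ← mul_smul_comm]; exact h3.eq
      have := smul_right_injective (Module.End ℤ_[p] M) hpne h4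
      exact this
    -- lam^k v₁ - v₁ ∈ bot
    have hind : ∀ j : ℕ, (lam ^ j) v₁ - v₁ ∈ botS p b (ρ x) := by
      intro j
      induction j with
      | zero => simp
      | succ n ih =>
        have e1 : (lam ^ (n + 1)) v₁ - v₁ = lam ((lam ^ n) v₁ - v₁) + (lam v₁ - v₁) := by
          rw [pow_succ', Module.End.mul_apply, map_sub]; abel
        rw [e1]
        exact Submodule.add_mem _ (bot_of_commute p b (hlam x) ih) h1''
    have h5 : (lam ^ k) v₁ ∈ botS p b (ρ x) := by
      rw [hk, LinearMap.smul_apply]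
      exact p_smul_top_mem_bot p b (top_of_commute p b hnu h1)
    have := Submodule.sub_mem _ h5 (hind k)
    simpa using this

end Contra

section Avg

variable {G : Type*} [Group G] [Finite G]
variable {M : Type*} [AddCommGroup M] [Module ℤ_[p] M]

/-- the sum of `ρ k` over a subgroup. -/
noncomputable def sumK (ρ : Representation ℤ_[p] G M) (K : Subgroup G) : Module.End ℤ_[p] M :=
  ∑ᶠ k ∈ (K : Set G), ρ k

theorem sumK_eq (ρ : Representation ℤ_[p] G M) (K : Subgroup G) [Fintype K] :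
    sumK p ρ K = ∑ k : K, ρ (k : G) := by
  unfold sumK
  rw [finsum_mem_eq_finite_toFinset_sum _ (Set.toFinite _)]
  refine Finset.sum_bij' (fun a ha => ⟨a, by simpa using ha⟩) (fun a _ => (a : G)) ?_ ?_ ?_ ?_ ?_
  · intro a ha; exact Finset.mem_univ _
  · intro a _; simp
  · intro a ha; rfl
  · intro a _; rfl
  · intro a ha; rfl

theorem rho_mul_sumK (ρ : Representation ℤ_[p] G M) (K : Subgroup G) (k : G) (hk : k ∈ K) :
    ρ k * sumK p ρ K = sumK p ρ K := by
  classical
  haveI : Fintype K := Fintype.ofFinite K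
  rw [sumK_eq, Finset.mul_sum]
  refine Fintype.sum_bijective (fun a : K => (⟨k, hk⟩ : K) * a) (Group.mulLeft_bijective _) _ _ ?_
  intro a
  rw [← map_mul]
  rfl

theorem sumK_mul_rho (ρ : Representation ℤ_[p] G M) (K : Subgroup G) (k : G) (hk : k ∈ K) :
    sumK p ρ K * ρ k = sumK p ρ K := by
  classical
  haveI : Fintype K := Fintype.ofFinite K
  rw [sumK_eq, Finset.sum_mul]
  refine Fintype.sum_bijective (fun a : K => a * (⟨k, hk⟩ : K)) (Group.mulRight_bijective _) _ _ ?_
  intro a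
  rw [← map_mul]
  rfl

theorem sumK_conj (ρ : Representation ℤ_[p] G M) (K : Subgroup G) (n : G)
    (hn : ∀ k ∈ K, n * k * n⁻¹ ∈ K) (hn' : ∀ k ∈ K, n⁻¹ * k * n ∈ K) :
    ρ n * sumK p ρ K = sumK p ρ K * ρ n := by
  classical
  haveI : Fintype K := Fintype.ofFinite K
  rw [sumK_eq, Finset.mul_sum, Finset.sum_mul]
  refine Fintype.sum_bijective (fun a : K => (⟨n * a * n⁻¹, hn a a.2⟩ : K)) ?_ _ _ ?_
  · refine ⟨fun a b h => ?_, fun b => ⟨⟨n⁻¹ * b * n, hn' b b.2⟩, ?_⟩⟩
    · have := congrArg Subtype.val h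
      simp only at this
      apply Subtype.ext
      simpa using this
    · apply Subtype.ext
      simp [mul_assoc]
  · intro a
    rw [← map_mul, ← map_mul]
    congr 1
    simp [mul_assoc]

end Avg

section Conj

variable {L : Type*} [AddCommGroup L] [Module ℤ_[p] L]

theorem pow_sub_self_mem_augRange (X : Module.End ℤ_[p] L) (i : ℕ) (m : L) :
    (X ^ i) m - m ∈ augRange p X := by
  rw [mem_augRange]
  refine ⟨∑ j ∈ Finset.range i, (X ^ j) m, ?_⟩
  induction i with
  | zero => simp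
  | succ n ih =>
    rw [Finset.sum_range_succ, map_add, add_sub_add_comm, ih]
    rw [pow_succ', Module.End.mul_apply]
    abel

/-- an endomorphism `T` with `T X = X^a T` and commuting with `σ` preserves all four submodules,
provided `X^a` fixes what `X` fixes (automatic). -/
theorem top_of_twist (b : Bool) {X T : Module.End ℤ_[p] L} (a : ℕ) (h : T * X = X ^ a * T)
    (a' : ℕ) (h' : X * T = T * X ^ a')
    (hs : Commute T (sig p X)) {v : L} (hv : v ∈ topS p b X) : T v ∈ topS p b X := by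
  cases b
  · simp only [topS, cond_false] at hv ⊢
    rw [mem_sigKer] at hv ⊢
    have h2 : sig p X (T v) = T (sig p X v) := by
      have := congrArg (fun f => f v) hs.eq
      simpa [Module.End.mul_apply] using this.symm
    rw [h2, hv, map_zero]
  · simp only [topS, cond_true] at hv ⊢
    rw [mem_fixedPts] at hv ⊢
    have h2 : X (T v) = T ((X ^ a') v) := by
      have := congrArg (fun f => f v) h'
      simpa [Module.End.mul_apply] using this
    rw [h2, pow_apply_fixed p hv]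

theorem bot_of_twist (b : Bool) {X T : Module.End ℤ_[p] L} (a : ℕ) (h : T * X = X ^ a * T)
    (hs : Commute T (sig p X)) {v : L} (hv : v ∈ botS p b X) : T v ∈ botS p b X := by
  cases b
  · simp only [botS, cond_false] at hv ⊢
    rw [mem_augRange] at hv
    obtain ⟨m, rfl⟩ := hv
    have h2 : T (X m) = (X ^ a) (T m) := by
      have := congrArg (fun f => f m) h
      simpa [Module.End.mul_apply] using this
    rw [map_sub, h2]
    exact pow_sub_self_mem_augRange p X a (T m)
  · simp only [botS, cond_true] at hv ⊢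
    rw [mem_sigRange] at hv ⊢
    obtain ⟨m, rfl⟩ := hv
    refine ⟨T m, ?_⟩
    have := congrArg (fun f => f m) hs.eq
    simpa [Module.End.mul_apply] using this.symm

end Conj

section GroupFacts

variable {G : Type*} [Group G] [Finite G]

theorem pow_p_eq_one (P : Sylow p G) (hP : Nat.card P = p) (x : G) (hx : x ∈ (P : Subgroup G)) :
    x ^ p = 1 := by
  have h : (⟨x, hx⟩ : (P : Subgroup G)) ^ Nat.card (P : Subgroup G) = 1 := pow_card_eq_one'
  have hP' : Nat.card (P : Subgroup G) = p := hP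
  rw [hP'] at h
  have := congrArg Subtype.val h
  simpa using this

theorem orderOf_eq_p (P : Sylow p G) (hP : Nat.card P = p) (x : G) (hx : x ∈ (P : Subgroup G))
    (hx1 : x ≠ 1) : orderOf x = p :=
  orderOf_eq_prime (pow_p_eq_one p P hP x hx) hx1

theorem exists_pow_eq (P : Sylow p G) (hP : Nat.card P = p) (x : G) (hx : x ∈ (P : Subgroup G))
    (hx1 : x ≠ 1) (u : G) (hu : u ∈ (P : Subgroup G)) : ∃ i : ℕ, u = x ^ i := by
  have hP' : Nat.card (P : Subgroup G) = p := hP
  haveI : Fact (Nat.card (P : Subgroup G)).Prime := ⟨by rw [hP']; exact Fact.out⟩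
  have hne : (⟨x, hx⟩ : (P : Subgroup G)) ≠ 1 := by
    intro h; apply hx1; exact congrArg Subtype.val h
  have htop := zpowers_eq_top_of_prime_card (G := (P : Subgroup G)) (g := ⟨x, hx⟩) rfl hne
  have hmem : (⟨u, hu⟩ : (P : Subgroup G)) ∈ Subgroup.zpowers (⟨x, hx⟩ : (P : Subgroup G)) := by
    rw [htop]; exact Subgroup.mem_top _
  rw [← mem_powers_iff_mem_zpowers] at hmem
  obtain ⟨i, hi⟩ := hmem
  refine ⟨i, ?_⟩
  have := congrArg Subtype.val hi
  simpa using this.symm

variable {M : Type*} [AddCommGroup M] [Module ℤ_[p] M]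

theorem sig_eq_sumK (ρ : Representation ℤ_[p] G M) (P : Sylow p G) (hP : Nat.card P = p) (x : G)
    (hx : x ∈ (P : Subgroup G)) (hx1 : x ≠ 1) : sig p (ρ x) = sumK p ρ (P : Subgroup G) := by
  classical
  haveI : Fintype (P : Subgroup G) := Fintype.ofFinite _
  rw [sumK_eq]
  unfold sig
  rw [Finset.sum_range]
  have hord := orderOf_eq_p p P hP x hx hx1
  have hP' : Nat.card (P : Subgroup G) = p := hP
  let f : Fin p → (P : Subgroup G) := fun i => ⟨x ^ (i : ℕ), Subgroup.pow_mem _ hx _⟩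
  have hinj : Function.Injective f := by
    intro i j hij
    have h1 : x ^ (i : ℕ) = x ^ (j : ℕ) := congrArg Subtype.val hij
    have := pow_injOn_Iio_orderOf (x := x) (by rw [hord]; exact i.2) (by rw [hord]; exact j.2) h1
    exact Fin.ext this
  have hbij : Function.Bijective f := by
    rw [Fintype.bijective_iff_injective_and_card]
    refine ⟨hinj, ?_⟩
    rw [Fintype.card_fin, ← Nat.card_eq_fintype_card, hP']
  refine Fintype.sum_bijective f hbij _ _ ?_
  intro i
  rw [← map_pow]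

theorem exists_conj_pow (P : Sylow p G) (hP : Nat.card P = p) (x : G) (hx : x ∈ (P : Subgroup G))
    (hx1 : x ≠ 1) (n : G) (hn : n ∈ Subgroup.normalizer ((P : Subgroup G) : Set G)) :
    ∃ a : ℕ, n * x * n⁻¹ = x ^ a := by
  have : n * x * n⁻¹ ∈ (P : Subgroup G) := by
    rw [Subgroup.mem_normalizer_iff] at hn
    exact (hn x).1 hx
  exact exists_pow_eq p P hP x hx hx1 _ this

end GroupFacts

section RepFacts

variable {G : Type*} [Group G] [Finite G]
variable {M : Type*} [AddCommGroup M] [Module ℤ_[p] M]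

theorem rho_twist (ρ : Representation ℤ_[p] G M) (P : Sylow p G) (hP : Nat.card P = p) (x : G)
    (hx : x ∈ (P : Subgroup G)) (hx1 : x ≠ 1) (n : G)
    (hn : n ∈ Subgroup.normalizer ((P : Subgroup G) : Set G)) :
    (∃ a : ℕ, ρ n * ρ x = ρ x ^ a * ρ n) ∧ (∃ a' : ℕ, ρ x * ρ n = ρ n * ρ x ^ a') ∧
      Commute (ρ n) (sig p (ρ x)) := by
  refine ⟨?_, ?_, ?_⟩
  · obtain ⟨a, ha⟩ := exists_conj_pow p P hP x hx hx1 n hn
    refine ⟨a, ?_⟩
    rw [← map_pow, ← map_mul, ← map_mul, ← ha]
    congr 1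
    group
  · obtain ⟨a', ha'⟩ := exists_conj_pow p P hP x hx hx1 n⁻¹ (Subgroup.inv_mem _ hn)
    refine ⟨a', ?_⟩
    rw [← map_pow, ← map_mul, ← map_mul, ← ha']
    congr 1
    group
  · rw [sig_eq_sumK p ρ P hP x hx hx1]
    have h1 : ∀ k ∈ (P : Subgroup G), n * k * n⁻¹ ∈ (P : Subgroup G) := by
      intro k hk
      rw [Subgroup.mem_normalizer_iff] at hn
      exact (hn k).1 hk
    have h2 : ∀ k ∈ (P : Subgroup G), n⁻¹ * k * n ∈ (P : Subgroup G) := by
      intro k hk
      have hn' := Subgroup.inv_mem _ hn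
      rw [Subgroup.mem_normalizer_iff] at hn'
      have := (hn' k).1 hk
      simpa using this
    exact sumK_conj p ρ (P : Subgroup G) n h1 h2

theorem top_of_normalizer (b : Bool) (ρ : Representation ℤ_[p] G M) (P : Sylow p G)
    (hP : Nat.card P = p) (x : G) (hx : x ∈ (P : Subgroup G)) (hx1 : x ≠ 1) (n : G)
    (hn : n ∈ Subgroup.normalizer ((P : Subgroup G) : Set G)) {v : M}
    (hv : v ∈ topS p b (ρ x)) : ρ n v ∈ topS p b (ρ x) := by
  obtain ⟨⟨a, ha⟩, ⟨a', ha'⟩, hs⟩ := rho_twist p ρ P hP x hx hx1 n hn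
  exact top_of_twist p b a ha a' ha' hs hv

theorem bot_of_normalizer (b : Bool) (ρ : Representation ℤ_[p] G M) (P : Sylow p G)
    (hP : Nat.card P = p) (x : G) (hx : x ∈ (P : Subgroup G)) (hx1 : x ≠ 1) (n : G)
    (hn : n ∈ Subgroup.normalizer ((P : Subgroup G) : Set G)) {v : M}
    (hv : v ∈ botS p b (ρ x)) : ρ n v ∈ botS p b (ρ x) := by
  obtain ⟨⟨a, ha⟩, _, hs⟩ := rho_twist p ρ P hP x hx hx1 n hn
  exact bot_of_twist p b a ha hs hv

end RepFacts

section Unify

variable {L : Type*} [AddCommGroup L] [Module ℤ_[p] L] [Module.Free ℤ_[p] L] [Module.Finite ℤ_[p] L]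

theorem step (b : Bool) (X : Module.End ℤ_[p] L) (hX : X ^ p = 1) (ν : Module.End ℤ_[p] L)
    (hν1 : ∀ u ∈ topS p b X, ν u ∈ topS p b X)
    (hν2 : ∀ u ∈ botS p b X, ν u ∈ botS p b X)
    (hν3 : ∀ u ∈ topS p b X, (ν ^ (p - 1)) u - u ∈ botS p b X)
    (hdim : ¬ CyclicQuot p (topS p b X) (botS p b X)) :
    ∃ (φ : Module.End ℤ_[p] L) (v₀ v₁ : L), Commute φ X ∧
      (∀ u ∈ topS p b X, ν (φ u) - φ (ν u) ∈ botS p b X) ∧
      v₀ ∈ topS p b X ∧ v₀ ∉ botS p b X ∧ φ v₀ ∈ botS p b X ∧
      v₁ ∈ topS p b X ∧ v₁ ∉ botS p b X ∧ φ v₁ - v₁ ∈ botS p b X := by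
  cases b
  · exact step_B p X hX ν hν1 hν2 hν3 hdim
  · exact step_A p X hX ν hν1 hν2 hν3 hdim

end Unify

section UnifyKey

variable {G : Type*} [Group G] [Finite G]
variable {M : Type*} [AddCommGroup M] [Module ℤ_[p] M] [Module.Free ℤ_[p] M] [Module.Finite ℤ_[p] M]

theorem key (b : Bool) (ρ : Representation ℤ_[p] G M) (P : Sylow p G) (hP : Nat.card P = p)
    (x : G) (hx : x ∈ (P : Subgroup G)) (hx1 : x ≠ 1)
    (φ : Module.End ℤ_[p] M) (hφ : Commute φ (ρ x))
    (h : ∀ n ∈ Subgroup.normalizer ((P : Subgroup G) : Set G), ∀ v ∈ topS p b (ρ x),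
      ρ n (φ (ρ n⁻¹ v)) - φ v ∈ botS p b (ρ x)) :
    ∃ lam : Module.End ℤ_[p] M, (∀ g, Commute lam (ρ g)) ∧
      ∀ v ∈ topS p b (ρ x), lam v - φ v ∈ botS p b (ρ x) := by
  obtain ⟨lam, hlam, hA, hB⟩ := key_transfer p ρ P hP x hx hx1 φ hφ
  refine ⟨lam, hlam, ?_⟩
  cases b
  · exact hB h
  · exact hA h

end UnifyKey

section Restrict

variable {M : Type*} [AddCommGroup M] [Module ℤ_[p] M]

theorem restrict_pow_coe (L : Submodule ℤ_[p] M) (X : Module.End ℤ_[p] M)
    (hLX : ∀ v ∈ L, X v ∈ L) (i : ℕ) (w : L) :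
    (((X.restrict hLX : Module.End ℤ_[p] L) ^ i) w : M) = (X ^ i) (w : M) := by
  induction i generalizing w with
  | zero => simp
  | succ n ih =>
    rw [pow_succ, pow_succ, Module.End.mul_apply, Module.End.mul_apply, ih]
    rfl

theorem restrict_sig_coe (L : Submodule ℤ_[p] M) (X : Module.End ℤ_[p] M)
    (hLX : ∀ v ∈ L, X v ∈ L) (w : L) :
    ((sig p (X.restrict hLX : Module.End ℤ_[p] L)) w : M) = sig p X (w : M) := by
  unfold sig
  rw [LinearMap.sum_apply, LinearMap.sum_apply, Submodule.coe_sum]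
  exact Finset.sum_congr rfl (fun i _ => restrict_pow_coe p L X hLX i w)

theorem restrict_top_iff (b : Bool) (L : Submodule ℤ_[p] M) (X : Module.End ℤ_[p] M)
    (hLX : ∀ v ∈ L, X v ∈ L) (w : L) :
    w ∈ topS p b (X.restrict hLX : Module.End ℤ_[p] L) ↔ (w : M) ∈ topS p b X := by
  cases b
  · simp only [topS, cond_false]
    rw [mem_sigKer, mem_sigKer, ← restrict_sig_coe p L X hLX w]
    constructor
    · intro h; rw [h]; rfl
    · intro h; exact Subtype.ext h
  · simp only [topS, cond_true]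
    rw [mem_fixedPts, mem_fixedPts]
    constructor
    · intro h
      have := congrArg Subtype.val h
      exact this
    · intro h; exact Subtype.ext h

theorem restrict_bot_coe (b : Bool) (L : Submodule ℤ_[p] M) (X : Module.End ℤ_[p] M)
    (hLX : ∀ v ∈ L, X v ∈ L) (w : L)
    (hw : w ∈ botS p b (X.restrict hLX : Module.End ℤ_[p] L)) : (w : M) ∈ botS p b X := by
  cases b
  · simp only [botS, cond_false] at hw ⊢
    rw [mem_augRange] at hw ⊢
    obtain ⟨m, hm⟩ := hw
    refine ⟨(m : M), ?_⟩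
    rw [← hm]
    rfl
  · simp only [botS, cond_true] at hw ⊢
    rw [mem_sigRange] at hw ⊢
    obtain ⟨m, hm⟩ := hw
    refine ⟨(m : M), ?_⟩
    rw [← hm, restrict_sig_coe]

theorem restrict_bot_of_coe (b : Bool) (L : Submodule ℤ_[p] M) (X e : Module.End ℤ_[p] M)
    (hLX : ∀ v ∈ L, X v ∈ L) (he : Commute e X) (heL : ∀ v, e v ∈ L) (heL' : ∀ v ∈ L, e v = v)
    (w : L) (hw : (w : M) ∈ botS p b X) :
    w ∈ botS p b (X.restrict hLX : Module.End ℤ_[p] L) := by
  cases b
  · simp only [botS, cond_false] at hw ⊢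
    rw [mem_augRange] at hw ⊢
    obtain ⟨m, hm⟩ := hw
    refine ⟨⟨e m, heL m⟩, ?_⟩
    apply Subtype.ext
    have h1 : e (X m) = X (e m) := by
      have := congrArg (fun f => f m) he.eq
      simpa [Module.End.mul_apply] using this
    have h2 : e (w : M) = (w : M) := heL' _ w.2
    rw [← h2, ← hm, map_sub, h1]
    rfl
  · simp only [botS, cond_true] at hw ⊢
    rw [mem_sigRange] at hw ⊢
    obtain ⟨m, hm⟩ := hw
    refine ⟨⟨e m, heL m⟩, ?_⟩
    apply Subtype.ext
    rw [restrict_sig_coe]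
    have h1 : e (sig p X m) = sig p X (e m) := by
      have := congrArg (fun f => f m) (commute_sig p he).eq
      simpa [Module.End.mul_apply] using this
    have h2 : e (w : M) = (w : M) := heL' _ w.2
    rw [← h2, ← hm, h1]

end Restrict

section PowPred

variable {G : Type*} [Group G] [Finite G]

theorem pow_pred_commute (P : Sylow p G) (hP : Nat.card P = p) (x : G) (hx : x ∈ (P : Subgroup G))
    (hx1 : x ≠ 1) (n : G) (hn : n ∈ Subgroup.normalizer ((P : Subgroup G) : Set G)) :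
    n ^ (p - 1) * x = x * n ^ (p - 1) := by
  have hpp : p.Prime := Fact.out
  obtain ⟨a, ha⟩ := exists_conj_pow p P hP x hx hx1 n hn
  have hord := orderOf_eq_p p P hP x hx hx1
  have hiter : ∀ j : ℕ, n ^ j * x * (n ^ j)⁻¹ = x ^ (a ^ j) := by
    intro j
    induction j with
    | zero => simp
    | succ j ih =>
      have e1 : n ^ (j + 1) * x * (n ^ (j + 1))⁻¹ = n * (n ^ j * x * (n ^ j)⁻¹) * n⁻¹ := by
        rw [pow_succ']; group
      rw [e1, ih]
      have e2 : n * x ^ (a ^ j) * n⁻¹ = (n * x * n⁻¹) ^ (a ^ j) := by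
        rw [conj_pow]
      rw [e2, ha, ← pow_mul, pow_succ']
  have hpa : ¬ p ∣ a := by
    intro hdvd
    apply hx1
    have h1 : x ^ a = 1 := by
      rw [← hord] at hdvd
      exact orderOf_dvd_iff_pow_eq_one.1 hdvd
    rw [h1] at ha
    have : n * x = n := by
      have := congrArg (fun g => g * n) ha
      simpa using this
    exact mul_eq_left.1 this
  have hfer : a ^ (p - 1) ≡ 1 [MOD p] := by
    have hcop : Nat.Coprime a p := (Nat.Coprime.symm ((Nat.Prime.coprime_iff_not_dvd hpp).2 hpa))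
    have := Nat.ModEq.pow_totient hcop
    rwa [Nat.totient_prime hpp] at this
  have h2 : x ^ (a ^ (p - 1)) = x := by
    have : x ^ (a ^ (p - 1)) = x ^ 1 := by
      rw [pow_eq_pow_iff_modEq, hord]
      exact hfer
    rwa [pow_one] at this
  have h3 := hiter (p - 1)
  rw [h2] at h3
  have := congrArg (fun g => g * n ^ (p - 1)) h3
  simpa using this

end PowPred

section Main

variable {G : Type*} [Group G] [Finite G]
variable {M : Type*} [AddCommGroup M] [Module ℤ_[p] M] [Module.Free ℤ_[p] M] [Module.Finite ℤ_[p] M]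

/-- the averaging idempotent and its basic properties -/
theorem exists_avg (ρ : Representation ℤ_[p] G M) (K : Subgroup G) (hKp : ¬ p ∣ Nat.card K) :
    ∃ (u : ℤ_[p]) (e : Module.End ℤ_[p] M), u * (Nat.card K : ℤ_[p]) = 1 ∧ e = u • sumK p ρ K ∧
      e * e = e ∧ (∀ k ∈ K, ρ k * e = e) ∧ (∀ k ∈ K, e * ρ k = e) ∧
      (∀ n : G, (∀ k ∈ K, n * k * n⁻¹ ∈ K) → (∀ k ∈ K, n⁻¹ * k * n ∈ K) → Commute e (ρ n)) := by
  classical
  haveI : Fintype K := Fintype.ofFinite K
  have hpp : p.Prime := Fact.out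
  have hunit : IsUnit ((Nat.card K : ℕ) : ℤ_[p]) := by
    rw [PadicInt.isUnit_iff, PadicInt.norm_natCast_eq_one_iff]
    exact (Nat.Prime.coprime_iff_not_dvd hpp).2 hKp
  obtain ⟨u, hu⟩ := hunit.exists_left_inv
  have hSS : sumK p ρ K * sumK p ρ K = (Nat.card K : ℤ_[p]) • sumK p ρ K := by
    have h1 : sumK p ρ K * sumK p ρ K = ∑ k : K, ρ (k : G) * sumK p ρ K := by
      nth_rewrite 1 [sumK_eq p ρ K]
      rw [Finset.sum_mul]
    rw [h1, Finset.sum_congr rfl (fun (k : K) _ => rho_mul_sumK p ρ K (k : G) k.2)]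
    rw [Finset.sum_const, Finset.card_univ, Nat.card_eq_fintype_card, Nat.cast_smul_eq_nsmul]
  refine ⟨u, u • sumK p ρ K, hu, rfl, ?_, ?_, ?_, ?_⟩
  · rw [smul_mul_smul_comm, hSS, smul_smul, mul_assoc, hu, mul_one]
  · intro k hk
    rw [mul_smul_comm, rho_mul_sumK p ρ K k hk]
  · intro k hk
    rw [smul_mul_assoc, sumK_mul_rho p ρ K k hk]
  · intro n h1 h2
    unfold Commute SemiconjBy
    rw [smul_mul_assoc, mul_smul_comm, sumK_conj p ρ K n h1 h2]

set_option maxHeartbeats 1000000 in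
theorem cyclic_of_irr (b : Bool) (ρ : Representation ℤ_[p] G M)
    (hirr : ∀ ε : Module.End ℤ_[p] M, (∀ g, Commute ε (ρ g)) → ε * ε = ε → ε = 0 ∨ ε = 1)
    (P : Sylow p G) (hP : Nat.card P = p) (K : Subgroup G)
    (hKC : ∀ k ∈ K, ∀ u ∈ (P : Subgroup G), k * u = u * k)
    (hC : ∀ c : G, (∀ u ∈ (P : Subgroup G), c * u = u * c) →
      ∃ u k : G, u ∈ (P : Subgroup G) ∧ k ∈ K ∧ c = u * k)
    (n₀ : G) (hn₀ : n₀ ∈ Subgroup.normalizer ((P : Subgroup G) : Set G))
    (hgen : ∀ n ∈ Subgroup.normalizer ((P : Subgroup G) : Set G),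
      ∃ (i : ℕ) (c : G), (∀ u ∈ (P : Subgroup G), c * u = u * c) ∧ n = n₀ ^ i * c)
    (x : G) (hx : x ∈ (P : Subgroup G)) (hx1 : x ≠ 1)
    (e : Module.End ℤ_[p] M) (he2 : e * e = e) (hek : ∀ k ∈ K, ρ k * e = e)
    (heN : ∀ n ∈ Subgroup.normalizer ((P : Subgroup G) : Set G), Commute e (ρ n))
    (hLX : ∀ v ∈ LinearMap.range e, ρ x v ∈ LinearMap.range e) :
    CyclicQuot p (topS p b ((ρ x).restrict hLX : Module.End ℤ_[p] (LinearMap.range e)))
      (botS p b ((ρ x).restrict hLX : Module.End ℤ_[p] (LinearMap.range e))) := by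
  classical
  by_contra hdim
  have hpp : p.Prime := Fact.out
  have hxN : x ∈ Subgroup.normalizer ((P : Subgroup G) : Set G) := Subgroup.le_normalizer hx
  have heX : Commute e (ρ x) := heN x hxN
  have heL : ∀ v, e v ∈ LinearMap.range e := fun v => ⟨v, rfl⟩
  have heL' : ∀ v ∈ LinearMap.range e, e v = v := by
    rintro _ ⟨m, rfl⟩
    have := congrArg (fun f => f m) he2
    simpa [Module.End.mul_apply] using this
  have hLN : ∀ n ∈ Subgroup.normalizer ((P : Subgroup G) : Set G), ∀ v ∈ LinearMap.range e,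
      ρ n v ∈ LinearMap.range e := by
    intro n hn v hv
    rw [← heL' v hv]
    have := congrArg (fun f => f v) (heN n hn).eq
    simp only [Module.End.mul_apply] at this
    rw [← this]
    exact heL _
  have hkL : ∀ k ∈ K, ∀ v ∈ LinearMap.range e, ρ k v = v := by
    intro k hk v hv
    rw [← heL' v hv]
    have := congrArg (fun f => f v) (hek k hk)
    simpa [Module.End.mul_apply] using this
  have hXp : (ρ x) ^ p = 1 := by
    rw [← map_pow, pow_p_eq_one p P hP x hx, map_one]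
  -- abbreviations
  have hXLp : ((ρ x).restrict hLX : Module.End ℤ_[p] (LinearMap.range e)) ^ p = 1 := by
    apply LinearMap.ext
    intro w
    apply Subtype.ext
    rw [restrict_pow_coe p _ (ρ x) hLX p w, hXp]
    rfl
  -- centralizing elements act on L as powers of X
  have hcent : ∀ c : G, (∀ u ∈ (P : Subgroup G), c * u = u * c) →
      ∃ i : ℕ, ∀ v ∈ LinearMap.range e, ρ c v = ((ρ x) ^ i) v := by
    intro c hc
    obtain ⟨u', k, hu', hk, rfl⟩ := hC c hc
    obtain ⟨i, rfl⟩ := exists_pow_eq p P hP x hx hx1 u' hu'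
    refine ⟨i, fun v hv => ?_⟩
    rw [map_mul, Module.End.mul_apply, hkL k hk v hv, map_pow]
  obtain ⟨φ, v₀, v₁, hφX, hφν, h0, h0', h0'', h1, h1', h1''⟩ :=
    step p b ((ρ x).restrict hLX : Module.End ℤ_[p] (LinearMap.range e)) hXLp
      ((ρ n₀).restrict (hLN n₀ hn₀))
      (by
        intro u hu
        rw [restrict_top_iff] at hu ⊢
        exact top_of_normalizer p b ρ P hP x hx hx1 n₀ hn₀ hu)
      (by
        intro u hu
        apply restrict_bot_of_coe p b _ (ρ x) e hLX heX heL heL'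
        exact bot_of_normalizer p b ρ P hP x hx hx1 n₀ hn₀ (restrict_bot_coe p b _ (ρ x) hLX u hu))
      (by
        intro u hu
        have hcomm : ∀ u' ∈ (P : Subgroup G), n₀ ^ (p - 1) * u' = u' * n₀ ^ (p - 1) := by
          intro u' hu'
          obtain ⟨j, rfl⟩ := exists_pow_eq p P hP x hx hx1 u' hu'
          have h := pow_pred_commute p P hP x hx hx1 n₀ hn₀
          exact ((Commute.pow_right (show Commute (n₀ ^ (p - 1)) x from h) j)).eq
        obtain ⟨i, hi⟩ := hcent (n₀ ^ (p - 1)) hcomm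
        have e1 : (((ρ n₀).restrict (hLN n₀ hn₀) : Module.End ℤ_[p] (LinearMap.range e)) ^ (p - 1)) u
            = (((ρ x).restrict hLX : Module.End ℤ_[p] (LinearMap.range e)) ^ i) u := by
          apply Subtype.ext
          rw [restrict_pow_coe, restrict_pow_coe, ← map_pow]
          exact hi _ u.2
        rw [e1]
        cases b
        · exact pow_sub_self_mem_augRange p _ i u
        · have hu' : u ∈ fixedPts p ((ρ x).restrict hLX : Module.End ℤ_[p] (LinearMap.range e)) := hu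
          rw [mem_fixedPts] at hu'
          rw [pow_apply_fixed p hu', sub_self]
          exact Submodule.zero_mem _)
      hdim
  -- the endomorphism φ' of M
  let φ' : Module.End ℤ_[p] M := (LinearMap.range e).subtype ∘ₗ φ ∘ₗ e.rangeRestrict
  have hφ'0 : ∀ v, φ' v = ((φ ⟨e v, heL v⟩ : (LinearMap.range e)) : M) := fun v => rfl
  have hφ'1 : ∀ v (hv : v ∈ (LinearMap.range e)), φ' v = ((φ ⟨v, hv⟩ : (LinearMap.range e)) : M) := by
    intro v hv
    rw [hφ'0]
    congr 2
    exact Subtype.ext (heL' v hv)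
  have hφ'L : ∀ v, φ' v ∈ (LinearMap.range e) := fun v => (φ ⟨e v, heL v⟩).2
  have hφ'e : ∀ v, φ' (e v) = φ' v := by
    intro v
    rw [hφ'1 (e v) (heL v), hφ'0]
  have hφ'X : Commute φ' (ρ x) := by
    apply LinearMap.ext
    intro v
    simp only [Module.End.mul_apply]
    rw [hφ'0, hφ'0]
    have h2 : (⟨e (ρ x v), heL _⟩ : (LinearMap.range e)) = ((ρ x).restrict hLX) ⟨e v, heL v⟩ := by
      apply Subtype.ext
      have := congrArg (fun f => f v) heX.eq
      simpa [Module.End.mul_apply] using this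
    rw [h2]
    have h3 : φ (((ρ x).restrict hLX) ⟨e v, heL v⟩) = ((ρ x).restrict hLX) (φ ⟨e v, heL v⟩) := by
      have := congrArg (fun f => f (⟨e v, heL v⟩ : (LinearMap.range e))) hφX.eq
      simpa [Module.End.mul_apply] using this
    rw [h3]
    rfl
  -- the equivariance predicate
  let Qp : G → Prop := fun n => ∀ v ∈ (LinearMap.range e), v ∈ topS p b (ρ x) →
    ρ n (φ' (ρ n⁻¹ v)) - φ' v ∈ botS p b (ρ x)
  have hQ1 : ∀ n n' : G, n ∈ Subgroup.normalizer ((P : Subgroup G) : Set G) →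
      n' ∈ Subgroup.normalizer ((P : Subgroup G) : Set G) → Qp n → Qp n' → Qp (n * n') := by
    intro n n' hn hn' hq hq' v hvL hvT
    have hn_inv := Subgroup.inv_mem _ hn
    have hwL : ρ n⁻¹ v ∈ (LinearMap.range e) := hLN n⁻¹ hn_inv v hvL
    have hwT : ρ n⁻¹ v ∈ topS p b (ρ x) := top_of_normalizer p b ρ P hP x hx hx1 n⁻¹ hn_inv hvT
    have e1 : ρ (n * n') (φ' (ρ (n * n')⁻¹ v)) - φ' v
        = ρ n (ρ n' (φ' (ρ n'⁻¹ (ρ n⁻¹ v))) - φ' (ρ n⁻¹ v)) + (ρ n (φ' (ρ n⁻¹ v)) - φ' v) := by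
      rw [mul_inv_rev, map_mul, map_mul, Module.End.mul_apply, Module.End.mul_apply, map_sub]
      abel
    rw [e1]
    exact Submodule.add_mem _
      (bot_of_normalizer p b ρ P hP x hx hx1 n hn (hq' _ hwL hwT)) (hq v hvL hvT)
  have hQone : Qp 1 := by
    intro v _ _
    simp
  have hQ2 : Qp n₀ := by
    intro v hvL hvT
    have hn_inv := Subgroup.inv_mem _ hn₀
    have hwL : ρ n₀⁻¹ v ∈ (LinearMap.range e) := hLN n₀⁻¹ hn_inv v hvL
    have hwT : ρ n₀⁻¹ v ∈ topS p b (ρ x) := top_of_normalizer p b ρ P hP x hx hx1 n₀⁻¹ hn_inv hvT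
    have hw' : (⟨ρ n₀⁻¹ v, hwL⟩ : (LinearMap.range e)) ∈ topS p b ((ρ x).restrict hLX : Module.End ℤ_[p] (LinearMap.range e)) := by
      rw [restrict_top_iff]; exact hwT
    have h3 := restrict_bot_coe p b (LinearMap.range e) (ρ x) hLX _ (hφν _ hw')
    have e2 : ((ρ n₀).restrict (hLN n₀ hn₀)) (⟨ρ n₀⁻¹ v, hwL⟩ : (LinearMap.range e)) = ⟨v, hvL⟩ := by
      apply Subtype.ext
      change ρ n₀ (ρ n₀⁻¹ v) = v
      rw [← Module.End.mul_apply, ← map_mul, mul_inv_cancel, map_one]
      rfl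
    rw [e2] at h3
    rw [hφ'1 _ hwL, hφ'1 _ hvL]
    exact h3
  have hQpow : ∀ i : ℕ, Qp (n₀ ^ i) := by
    intro i
    induction i with
    | zero => rw [pow_zero]; exact hQone
    | succ i ih =>
      rw [pow_succ]
      exact hQ1 _ _ (Subgroup.pow_mem _ hn₀ i) hn₀ ih hQ2
  have hQ3 : ∀ c : G, (∀ u ∈ (P : Subgroup G), c * u = u * c) → Qp c := by
    intro c hc v hvL hvT
    have hc' : ∀ u ∈ (P : Subgroup G), c⁻¹ * u = u * c⁻¹ := by
      intro u hu
      have := hc u hu
      calc c⁻¹ * u = c⁻¹ * (u * c) * c⁻¹ := by group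
        _ = c⁻¹ * (c * u) * c⁻¹ := by rw [this]
        _ = u * c⁻¹ := by group
    obtain ⟨i', hi'⟩ := hcent c⁻¹ hc'
    have h4 : φ' (((ρ x) ^ i') v) = ((ρ x) ^ i') (φ' v) := by
      have := congrArg (fun f => f v) (hφ'X.pow_right i').eq
      simpa [Module.End.mul_apply] using this
    rw [hi' v hvL, h4, ← hi' _ (hφ'L v), ← Module.End.mul_apply, ← map_mul, mul_inv_cancel, map_one]
    simp
  have hQall : ∀ n ∈ Subgroup.normalizer ((P : Subgroup G) : Set G), Qp n := by
    intro n hn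
    obtain ⟨i, c, hc, rfl⟩ := hgen n hn
    have hcN : c ∈ Subgroup.normalizer ((P : Subgroup G) : Set G) := by
      rw [Subgroup.mem_normalizer_iff]
      intro u
      constructor
      · intro hu
        have : c * u * c⁻¹ = u := by rw [hc u hu]; group
        rw [this]; exact hu
      · intro hu
        have h5 := hc _ hu
        have : u = c * u * c⁻¹ := by
          have h6 : c * (c * u * c⁻¹) = c * u * c⁻¹ * c := h5
          have h7 : c * u * c⁻¹ * c = c * u := by group
          rw [h7] at h6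
          have h8 := mul_left_cancel h6
          exact h8.symm
        rw [this]; exact hu
    exact hQ1 _ _ (Subgroup.pow_mem _ hn₀ i) hcN (hQpow i) (hQ3 c hc)
  have hequiv : ∀ n ∈ Subgroup.normalizer ((P : Subgroup G) : Set G), ∀ v ∈ topS p b (ρ x),
      ρ n (φ' (ρ n⁻¹ v)) - φ' v ∈ botS p b (ρ x) := by
    intro n hn v hv
    have h5 := hQall n hn (e v) (heL v) (top_of_commute p b heX hv)
    have h6 : ρ n⁻¹ (e v) = e (ρ n⁻¹ v) := by
      have := congrArg (fun f => f v) (heN n⁻¹ (Subgroup.inv_mem _ hn)).eq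
      simpa [Module.End.mul_apply] using this.symm
    rw [h6, hφ'e, hφ'e] at h5
    exact h5
  obtain ⟨lam, hlam, hl⟩ := key p b ρ P hP x hx hx1 φ' hφ'X hequiv
  have hv0T : (v₀ : M) ∈ topS p b (ρ x) := (restrict_top_iff p b _ (ρ x) hLX v₀).1 h0
  have hv1T : (v₁ : M) ∈ topS p b (ρ x) := (restrict_top_iff p b _ (ρ x) hLX v₁).1 h1
  have hv0B : (v₀ : M) ∉ botS p b (ρ x) := fun h =>
    h0' (restrict_bot_of_coe p b _ (ρ x) e hLX heX heL heL' v₀ h)
  have hv1B : (v₁ : M) ∉ botS p b (ρ x) := fun h =>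
    h1' (restrict_bot_of_coe p b _ (ρ x) e hLX heX heL heL' v₁ h)
  have hφv0 : φ' (v₀ : M) ∈ botS p b (ρ x) := by
    rw [hφ'1 _ v₀.2]
    exact restrict_bot_coe p b _ (ρ x) hLX _ h0''
  have hφv1 : φ' (v₁ : M) - (v₁ : M) ∈ botS p b (ρ x) := by
    rw [hφ'1 _ v₁.2]
    exact restrict_bot_coe p b _ (ρ x) hLX _ h1''
  refine contra p ρ hirr b x lam hlam (v₀ : M) (v₁ : M) hv0B ?_ hv1T hv1B ?_
  · have := Submodule.add_mem _ (hl _ hv0T) hφv0
    simpa using this
  · have := Submodule.add_mem _ (hl _ hv1T) hφv1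
    simpa using this

theorem trace_mul_sumK (ρ : Representation ℤ_[p] G M) (K : Subgroup G) (x : G) :
    LinearMap.trace ℤ_[p] M (ρ x * sumK p ρ K) =
      ∑ᶠ y ∈ (K : Set G), LinearMap.trace ℤ_[p] M (ρ (x * y)) := by
  classical
  haveI : Fintype K := Fintype.ofFinite K
  rw [sumK_eq, Finset.mul_sum, map_sum]
  rw [finsum_mem_eq_finite_toFinset_sum _ (Set.toFinite _)]
  refine Finset.sum_bij' (fun a _ => (a : G)) (fun a ha => ⟨a, by simpa using ha⟩) ?_ ?_ ?_ ?_ ?_
  · intro a _; simp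
  · intro a ha; exact Finset.mem_univ _
  · intro a _; rfl
  · intro a ha; rfl
  · intro a _
    rw [← map_mul]

set_option maxHeartbeats 1000000 in
/-- PIECE TL (the Thompson-type lemma). -/
theorem thompson_lemma (ρ : Representation ℤ_[p] G M)
    (hirr : ∀ ε : Module.End ℤ_[p] M, (∀ g, Commute ε (ρ g)) → ε * ε = ε → ε = 0 ∨ ε = 1)
    (P : Sylow p G) (hP : Nat.card P = p) (K : Subgroup G) (hKp : ¬ p ∣ Nat.card K)
    (hKC : ∀ k ∈ K, ∀ u ∈ (P : Subgroup G), k * u = u * k)
    (hKN : ∀ n ∈ Subgroup.normalizer ((P : Subgroup G) : Set G), ∀ k ∈ K, n * k * n⁻¹ ∈ K)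
    (hC : ∀ c : G, (∀ u ∈ (P : Subgroup G), c * u = u * c) →
      ∃ u k : G, u ∈ (P : Subgroup G) ∧ k ∈ K ∧ c = u * k)
    (n₀ : G) (hn₀ : n₀ ∈ Subgroup.normalizer ((P : Subgroup G) : Set G))
    (hgen : ∀ n ∈ Subgroup.normalizer ((P : Subgroup G) : Set G),
      ∃ (i : ℕ) (c : G), (∀ u ∈ (P : Subgroup G), c * u = u * c) ∧ n = n₀ ^ i * c)
    (x : G) (hx : x ∈ (P : Subgroup G)) (hx1 : x ≠ 1) :
    ∃ t : ℤ, (t = -1 ∨ t = 0 ∨ t = 1) ∧
      ∑ᶠ y ∈ (K : Set G), LinearMap.trace ℤ_[p] M (ρ (x * y)) = (Nat.card K : ℤ_[p]) * (t : ℤ_[p]) := by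
  classical
  obtain ⟨u, e, hu, he, he2, hek, hek', heconj⟩ := exists_avg p ρ K hKp
  have heN : ∀ n ∈ Subgroup.normalizer ((P : Subgroup G) : Set G), Commute e (ρ n) := by
    intro n hn
    refine heconj n (hKN n hn) ?_
    intro k hk
    have := hKN n⁻¹ (Subgroup.inv_mem _ hn) k hk
    simpa using this
  have hxN : x ∈ Subgroup.normalizer ((P : Subgroup G) : Set G) := Subgroup.le_normalizer hx
  have heL' : ∀ v ∈ LinearMap.range e, e v = v := by
    rintro _ ⟨m, rfl⟩
    have := congrArg (fun f => f m) he2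
    simpa [Module.End.mul_apply] using this
  have hLX : ∀ v ∈ LinearMap.range e, ρ x v ∈ LinearMap.range e := by
    intro v hv
    rw [← heL' v hv]
    have := congrArg (fun f => f v) (heN x hxN).eq
    simp only [Module.End.mul_apply] at this
    rw [← this]
    exact ⟨_, rfl⟩
  have hXp : (ρ x) ^ p = 1 := by
    rw [← map_pow, pow_p_eq_one p P hP x hx, map_one]
  have hXLp : ((ρ x).restrict hLX : Module.End ℤ_[p] (LinearMap.range e)) ^ p = 1 := by
    apply LinearMap.ext
    intro w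
    apply Subtype.ext
    rw [restrict_pow_coe p _ (ρ x) hLX p w, hXp]
    rfl
  obtain ⟨a, b', htr, ha, hb⟩ := trace_eq_sub p
    ((ρ x).restrict hLX : Module.End ℤ_[p] (LinearMap.range e)) hXLp
  have ha1 := ha (cyclic_of_irr p true ρ hirr P hP K hKC hC n₀ hn₀ hgen x hx hx1 e he2 hek heN hLX)
  have hb1 := hb (cyclic_of_irr p false ρ hirr P hP K hKC hC n₀ hn₀ hgen x hx hx1 e he2 hek heN hLX)
  refine ⟨(a : ℤ) - (b' : ℤ), by omega, ?_⟩
  -- trace computation
  have hf : ∀ v, (ρ x * e) v ∈ LinearMap.range e := by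
    intro v
    rw [Module.End.mul_apply]
    exact hLX _ ⟨v, rfl⟩
  have h1 := LinearMap.trace_restrict_eq_of_forall_mem (LinearMap.range e) (ρ x * e) hf
  have h2 : (ρ x * e).restrict (fun v _ => hf v)
      = ((ρ x).restrict hLX : Module.End ℤ_[p] (LinearMap.range e)) := by
    apply LinearMap.ext
    intro w
    apply Subtype.ext
    change (ρ x * e) (w : M) = ρ x (w : M)
    rw [Module.End.mul_apply, heL' _ w.2]
  rw [h2, htr] at h1
  have h3 : LinearMap.trace ℤ_[p] M (ρ x * e)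
      = u * ∑ᶠ y ∈ (K : Set G), LinearMap.trace ℤ_[p] M (ρ (x * y)) := by
    rw [he, mul_smul_comm, map_smul, trace_mul_sumK, smul_eq_mul]
  rw [h3] at h1
  have h4 : ∑ᶠ y ∈ (K : Set G), LinearMap.trace ℤ_[p] M (ρ (x * y))
      = (Nat.card K : ℤ_[p]) * (u * ∑ᶠ y ∈ (K : Set G), LinearMap.trace ℤ_[p] M (ρ (x * y))) := by
    rw [← mul_assoc, mul_comm (Nat.card K : ℤ_[p]) u, hu, one_mul]
  rw [h4, ← h1]
  push_cast
  ring

end Main

end Cfsg.Agent.Helper5.TL
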