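import Mathlib
import Cfsg.Prelude.Def_Blocks
import Cfsg.Agent.Lib.Helper5.TLDefs
import Cfsg.Agent.Lib.Helper5.TLConcl
import Cfsg.Agent.Lib.Helper5.TLMain
import Cfsg.Agent.Lib.Helper20.TLJ
import Cfsg.Agent.Lib.Helper15.TLGT
import Cfsg.Agent.Lib.Helper15.TLFIN1
import Cfsg.Agent.Lib.Helper23.TLSM
import Cfsg.Agent.Lib.Helper24.TLTLCCore
import Cfsg.Agent.Lib.Helper24.TLTLPCore
import Cfsg.Agent.Lib.Helper24.TLAPPXCore
import Cfsg.Agent.Lib.Helper24.TLFINTOPB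
import Cfsg.Agent.Lib.Helper7.TLFinMidC

set_option autoImplicit false

/-!
# S4441: final wrappers (pieces TLC, TLP, APPX, FINMID, FINTOP) from the landed cores
-/

namespace Cfsg.Agent.Helper5.TLF

open scoped Padic
open Cfsg.Agent.Helper5.TL

variable (p : ℕ) [Fact p.Prime]
variable {G : Type*} [Group G] [Finite G]

/-- PIECE TLC. -/
theorem tl_char (P : Sylow p G) (hP : Nat.card P = p) (χ : Cfsg.IrrCharacter G)
    (x : G) (hx : x ∈ (P : Subgroup G)) (hx1 : x ≠ 1) :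
    ∃ mult : Cfsg.IrrCharacter G → ℕ, 1 ≤ mult χ ∧
      (∀ ψ ψ' : Cfsg.IrrCharacter G, 0 < mult ψ → 0 < mult ψ' →
        (∃ r : ℚ, Cfsg.centralChar (ψ : G → ℂ) x = (r : ℂ)) →
          Cfsg.centralChar (ψ' : G → ℂ) x = Cfsg.centralChar (ψ : G → ℂ) x) ∧
      ∃ t : ℤ, (t = -1 ∨ t = 0 ∨ t = 1) ∧
        ∑ᶠ ψ : Cfsg.IrrCharacter G, (mult ψ : ℂ) *
          ∑ᶠ y ∈ {y : G | y ∈ Subgroup.centralizer ((P : Subgroup G) : Set G) ∧ ¬ p ∣ orderOf y},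
            (ψ : G → ℂ) (x * y) =
        (Nat.card {y : G | y ∈ Subgroup.centralizer ((P : Subgroup G) : Set G) ∧ ¬ p ∣ orderOf y} : ℂ)
          * (t : ℂ) :=
  tl_char_core p P hP χ x hx hx1 (exists_padic_embedding p) (exists_pcore p P hP)
    (fun _ ρ hirr K hKp hKC hKN hC n₀ hn₀ hgen =>
      thompson_lemma p ρ hirr P hP K hKp hKC hKN hC n₀ hn₀ hgen x hx hx1)

/-- PIECE TLP. -/
theorem tl_principal (M : Ideal Cfsg.AlgInt) (hM : Cfsg.IsPModular p M) (P : Sylow p G)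
    (hP : Nat.card P = p) (χ : Cfsg.IrrCharacter G)
    (x : G) (hx : x ∈ (P : Subgroup G)) (hx1 : x ≠ 1) :
    ∃ mult : Cfsg.IrrCharacter G → ℕ, 1 ≤ mult χ ∧
      (∀ ψ ψ' : Cfsg.IrrCharacter G, 0 < mult ψ → 0 < mult ψ' →
        (∃ r : ℚ, Cfsg.centralChar (ψ : G → ℂ) x = (r : ℂ)) →
          Cfsg.centralChar (ψ' : G → ℂ) x = Cfsg.centralChar (ψ : G → ℂ) x) ∧
      ∃ t : ℤ, (t = -1 ∨ t = 0 ∨ t = 1) ∧
        ∑ᶠ ψ ∈ Cfsg.principalBlock M G, (mult ψ : ℂ) * (ψ : G → ℂ) x = (t : ℂ) :=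
  tl_principal_core p M hM P hP χ x hx hx1 (exists_pcore p P hP)
    (fun ψ hψ => sum_pcore_eq_zero p M hM P hP x hx hx1 ψ hψ)
    (tl_char p P hP χ x hx hx1)

/-- PIECE APPX. -/
theorem abs_eq_one_of_int_value (M : Ideal Cfsg.AlgInt) (hM : Cfsg.IsPModular p M) (P : Sylow p G)
    (hP : Nat.card P = p) (χ : Cfsg.IrrCharacter G) (hχ : χ ∈ Cfsg.principalBlock M G)
    (x : G) (hx : x ∈ (P : Subgroup G)) (hx1 : x ≠ 1) (a : ℤ) (ha : (χ : G → ℂ) x = (a : ℂ))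
    (ha0 : a ≠ 0) : a = 1 ∨ a = -1 :=
  abs_eq_one_of_int_value_core (Cfsg.principalBlock M G) χ hχ x a ha ha0
    (tl_principal p M hM P hP χ x hx hx1)

/-- PIECE FINTOP. -/
theorem concl_top (M : Ideal Cfsg.AlgInt) (hM : Cfsg.IsPModular p M) (hodd : p ≠ 2) (P : Sylow p G)
    (hP : Nat.card P = p)
    (he : (Subgroup.centralizer ((P : Subgroup G) : Set G)).relIndex
      (Subgroup.normalizer ((P : Subgroup G) : Set G)) = p - 1) : Concl p M P (p - 1) :=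
  concl_top_core p M hM hodd P hP he (exists_pcore p P hP)
    (fun χ hχ x hx hx1 a ha ha0 => abs_eq_one_of_int_value p M hM P hP χ hχ x hx hx1 a ha ha0)

/-- PIECE FINMID. -/
theorem concl_mid (M : Ideal Cfsg.AlgInt) (hM : Cfsg.IsPModular p M) (P : Sylow p G)
    (hP : Nat.card P = p) (e : ℕ) (he1 : 1 < e) (he2 : e + 1 < p)
    (he : (Subgroup.centralizer ((P : Subgroup G) : Set G)).relIndex
      (Subgroup.normalizer ((P : Subgroup G) : Set G)) = e) : Concl p M P e := by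
  obtain ⟨K, n₀, -, -, -, -, hn₀, hgen⟩ := exists_pcore p P hP
  exact Cfsg.Agent.Helper7.TLFinMid.concl_mid_core p M hM P hP e he1 he2 he ⟨n₀, hn₀, hgen⟩
    (fun χ hχ x hx hx1 a ha ha0 => abs_eq_one_of_int_value p M hM P hP χ hχ x hx hx1 a ha ha0)
    (fun χ x hx hx1 => tl_principal p M hM P hP χ x hx hx1)

end Cfsg.Agent.Helper5.TLF
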