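import Mathlib
import Cfsg.Prelude.Def_Blocks

set_option autoImplicit false

/-!
# S4442 (blocks of defect one, general block): the definition of the `θ`-part `FP`

`P` a Sylow `p`-subgroup, `C = C_G(P)`, `θ` a function on `C` (an irreducible character of `C` with
`P` in its kernel).  For a class function `χ` of `G` and `a ∈ P`,
`FP p P θ χ a = |K|⁻¹ Σ_{c ∈ K} χ (a c) conj (θ c)`, `K` the set of `p`-regular elements of `C`.
When `|P| = p`, `C = P × K` and `a ↦ FP p P θ χ a` is the character `Σ_λ ⟨χ|_C, λ × θ_K⟩ λ` of `P`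
(the generalized decomposition numbers of `χ` with respect to the block of `θ`).
-/

namespace Cfsg.Agent.Helper5.TLD

open scoped ComplexConjugate

variable {G : Type*} [Group G]

/-- the `θ`-part of `χ`, as a function of `a` (meant for `a ∈ P`). -/
noncomputable def FP (p : ℕ) (P : Sylow p G)
    (θ : Subgroup.centralizer ((P : Subgroup G) : Set G) → ℂ) (χ : G → ℂ) (a : G) : ℂ :=
  (Nat.card {c : Subgroup.centralizer ((P : Subgroup G) : Set G) | ¬ p ∣ orderOf c} : ℂ)⁻¹ *
    ∑ᶠ c ∈ {c : Subgroup.centralizer ((P : Subgroup G) : Set G) | ¬ p ∣ orderOf c},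
      χ (a * (c : G)) * conj (θ c)

end Cfsg.Agent.Helper5.TLD
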