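import Mathlib

set_option autoImplicit false

/-!
# Thompson-type lattice lemma over a complete unramified discrete valuation ring: definitions

`R` is a discrete valuation ring in which the prime number `p` is a uniformizer
(`PUnif R p`), e.g. `ℤ_[p]` or the Witt vectors of a perfect field; `kk R` is its
residue field.  A lattice `L` is a free `R`-module of finite rank with an endomorphism `X`, `X ^ p = 1`.
This file is the general-`R` version of `TLDefs.lean` + `TL2Defs.lean` (there `R = ℤ_[p]`).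
All definitions take `p` as their first explicit argument (as the `ℤ_[p]` versions do), so that the
old proofs port by replacing the ring.
-/

namespace Cfsg.Agent.Helper5.TLR

/-- the residue field -/
abbrev kk (R : Type*) [CommRing R] [IsLocalRing R] : Type _ := IsLocalRing.ResidueField R

section Lattice

variable {R : Type*} [CommRing R] {L : Type*} [AddCommGroup L] [Module R L]

/-- the norm element `σ = Σ_{i<p} X^i` of an endomorphism `X`. -/
noncomputable def sig (p : ℕ) (X : Module.End R L) : Module.End R L :=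
  ∑ i ∈ Finset.range p, X ^ i

/-- fixed points `ker (X - 1)` -/
noncomputable def fixedPts (_p : ℕ) (X : Module.End R L) : Submodule R L := LinearMap.ker (X - 1)

/-- `σ L` -/
noncomputable def sigRange (p : ℕ) (X : Module.End R L) : Submodule R L :=
  LinearMap.range (sig p X)

/-- `ker σ` -/
noncomputable def sigKer (p : ℕ) (X : Module.End R L) : Submodule R L := LinearMap.ker (sig p X)

/-- `(X - 1) L` -/
noncomputable def augRange (_p : ℕ) (X : Module.End R L) : Submodule R L := LinearMap.range (X - 1)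

/-- the quotient `W / W'` is generated by one element (has dimension at most one). -/
def CyclicQuot (_p : ℕ) (W W' : Submodule R L) : Prop :=
  ∃ w ∈ W, ∀ u ∈ W, ∃ c : R, u - c • w ∈ W'

/-- the output of `reiner_split`. -/
def IsReiner (p : ℕ) (X : Module.End R L) (F L₁ L₂ : Submodule R L) (r : ℕ) (v : Fin r → L) :
    Prop :=
  F ⊔ L₁ ⊔ L₂ = ⊤ ∧ Disjoint F (L₁ ⊔ L₂) ∧ Disjoint L₁ L₂ ∧
    (∀ u ∈ F, X u ∈ F) ∧ (∀ u ∈ L₁, X u = u) ∧ (∀ u ∈ L₂, X u ∈ L₂) ∧
    (∀ u ∈ L₂, sig p X u = 0) ∧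
    LinearIndependent R (fun ij : Fin p × Fin r => (X ^ (ij.1 : ℕ)) (v ij.2)) ∧
    Submodule.span R (Set.range (fun ij : Fin p × Fin r => (X ^ (ij.1 : ℕ)) (v ij.2))) = F

/-- the three projections of a decomposition `L = F ⊕ L₁ ⊕ L₂` into `X`-stable summands. -/
def IsReinerProj (_p : ℕ) (X : Module.End R L) (F L₁ L₂ : Submodule R L)
    (qF q₁ q₂ : Module.End R L) : Prop :=
  qF + q₁ + q₂ = 1 ∧ (∀ u, qF u ∈ F) ∧ (∀ u, q₁ u ∈ L₁) ∧ (∀ u, q₂ u ∈ L₂) ∧
    (∀ u ∈ F, qF u = u ∧ q₁ u = 0 ∧ q₂ u = 0) ∧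
    (∀ u ∈ L₁, qF u = 0 ∧ q₁ u = u ∧ q₂ u = 0) ∧
    (∀ u ∈ L₂, qF u = 0 ∧ q₁ u = 0 ∧ q₂ u = u) ∧
    Commute qF X ∧ Commute q₁ X ∧ Commute q₂ X

end Lattice

section Theta

variable {R : Type*} [CommRing R] [IsLocalRing R] {L : Type*} [AddCommGroup L] [Module R L]

/-- coordinate data for `W / W'` over the residue field. -/
def ThetaData (_p : ℕ) (X : Module.End R L) (W W' : Submodule R L) (n : ℕ)
    (θ : L → Fin n → kk R) : Prop :=
  (∀ u u', θ (u + u') = θ u + θ u') ∧
  (∀ (c : R) (u : L), θ (c • u) = IsLocalRing.residue R c • θ u) ∧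
  (∀ u ∈ W', θ u = 0) ∧
  (∀ u ∈ W, θ u = 0 → u ∈ W') ∧
  (∀ c : Fin n → kk R, ∃ u ∈ W, θ u = c) ∧
  (∀ g : Matrix (Fin n) (Fin n) (kk R), ∃ φ : Module.End R L,
    Commute φ X ∧ (∀ u ∈ W, φ u ∈ W) ∧ ∀ u ∈ W, θ (φ u) = g.mulVec (θ u))

end Theta

/-- `p` is a uniformizer of `R`.  The prime `p` is an `outParam`: it is determined by the ring, so
that statements about `R`-lattices can leave `p` implicit exactly as for `ℤ_[p]`. -/
class PUnif (R : Type*) [CommRing R] (p : outParam ℕ) : Prop where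
  irr : Irreducible (p : R)

section Basic

variable (p : ℕ) [Fact p.Prime] {R : Type*} [CommRing R] [IsDomain R]
  [IsDiscreteValuationRing R] [PUnif R p]

theorem irreducible_p : Irreducible (p : R) := PUnif.irr

theorem maximalIdeal_eq_span_p : IsLocalRing.maximalIdeal R = Ideal.span {(p : R)} :=
  (Irreducible.maximalIdeal_eq (irreducible_p p))

theorem p_ne_zero : (p : R) ≠ 0 := (irreducible_p p : Irreducible (p : R)).ne_zero

theorem p_mem_maximalIdeal : (p : R) ∈ IsLocalRing.maximalIdeal R := by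
  rw [maximalIdeal_eq_span_p p]
  exact Ideal.mem_span_singleton_self _

theorem mem_maximalIdeal_iff {c : R} : c ∈ IsLocalRing.maximalIdeal R ↔ (p : R) ∣ c := by
  rw [maximalIdeal_eq_span_p p, Ideal.mem_span_singleton]

theorem residue_eq_zero_iff {c : R} : IsLocalRing.residue R c = 0 ↔ (p : R) ∣ c := by
  rw [IsLocalRing.residue_eq_zero_iff, mem_maximalIdeal_iff p]

theorem isUnit_of_not_dvd {c : R} (hc : ¬ (p : R) ∣ c) : IsUnit c := by
  by_contra h
  exact hc ((mem_maximalIdeal_iff p).1 ((IsLocalRing.mem_maximalIdeal c).2 h))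

theorem not_dvd_of_isUnit {c : R} (hc : IsUnit c) : ¬ (p : R) ∣ c := by
  intro h
  exact (IsLocalRing.mem_maximalIdeal c).1 ((mem_maximalIdeal_iff p).2 h) hc

theorem isUnit_iff_not_dvd {c : R} : IsUnit c ↔ ¬ (p : R) ∣ c :=
  ⟨not_dvd_of_isUnit p, isUnit_of_not_dvd p⟩

/-- every nonzero element is a unit times a power of `p`. -/
theorem exists_unit_mul_pow {r : R} (hr : r ≠ 0) :
    ∃ (c : Rˣ) (k : ℕ), r = (c : R) * (p : R) ^ k := by
  obtain ⟨k, c, h⟩ := IsDiscreteValuationRing.eq_unit_mul_pow_irreducible hr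
    (irreducible_p p : Irreducible (p : R))
  exact ⟨c, k, h⟩

theorem charP_kk : CharP (kk R) p := by
  have hpp : p.Prime := Fact.out
  have h0 : ((p : ℕ) : kk R) = 0 := by
    have : IsLocalRing.residue R (p : R) = 0 := (residue_eq_zero_iff p).2 dvd_rfl
    simpa using this
  obtain ⟨q, hq⟩ := CharP.exists (kk R)
  have hdvd : q ∣ p := (CharP.cast_eq_zero_iff (kk R) q p).1 h0
  rcases (Nat.dvd_prime hpp).1 hdvd with h1 | h1
  · subst h1
    exact absurd (CharP.char_is_prime_or_zero (kk R) 1) (by norm_num)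
  · subst h1
    exact hq

theorem natCast_residue_eq_zero_iff (m : ℕ) : ((m : ℕ) : kk R) = 0 ↔ p ∣ m := by
  haveI := charP_kk p (R := R)
  exact CharP.cast_eq_zero_iff (kk R) p m

theorem isUnit_natCast {m : ℕ} (hm : ¬ p ∣ m) : IsUnit ((m : ℕ) : R) := by
  apply isUnit_of_not_dvd p
  intro h
  apply hm
  rw [← natCast_residue_eq_zero_iff p (R := R)]
  have := (residue_eq_zero_iff p).2 h
  simpa using this

theorem natCast_dvd_iff [CharZero R] {m : ℕ} : (p : R) ∣ (m : R) ↔ p ∣ m := by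
  constructor
  · intro h
    rw [← natCast_residue_eq_zero_iff p (R := R)]
    have := (residue_eq_zero_iff p).2 h
    simpa using this
  · rintro ⟨k, rfl⟩
    exact ⟨(k : R), by push_cast; ring⟩

end Basic

end Cfsg.Agent.Helper5.TLR
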