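import Mathlib
import Cfsg.Prelude.Def_Characters

set_option autoImplicit false
set_option linter.unusedSectionVars false
set_option linter.unusedSimpArgs false
set_option linter.unusedVariables false
set_option linter.style.haveILetI false

namespace Cfsg.Agent.Helper5

open Cfsg
open scoped ComplexConjugate

theorem finsum_mem_eq_sum_ite {α M : Type*} [Fintype α] [AddCommMonoid M] (s : Set α)
    [DecidablePred (· ∈ s)] (f : α → M) : ∑ᶠ a ∈ s, f a = ∑ a, if a ∈ s then f a else 0 := by
  rw [finsum_mem_def, finsum_eq_sum_of_fintype]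
  apply Finset.sum_congr rfl
  intro a _
  rw [Set.indicator_apply]

theorem extendByZero_coe {G : Type*} [Group G] (H : Subgroup G) (φ : H → ℂ) (h : H) :
    Cfsg.extendByZero H φ (h : G) = φ h := by
  unfold Cfsg.extendByZero
  exact Subtype.val_injective.extend_apply φ 0 h

theorem extendByZero_of_mem {G : Type*} [Group G] (H : Subgroup G) (φ : H → ℂ) (g : G) (hg : g ∈ H) :
    Cfsg.extendByZero H φ g = φ ⟨g, hg⟩ :=
  extendByZero_coe H φ ⟨g, hg⟩

theorem extendByZero_of_not_mem {G : Type*} [Group G] (H : Subgroup G) (φ : H → ℂ) (g : G) (hg : g ∉ H) :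
    Cfsg.extendByZero H φ g = 0 := by
  unfold Cfsg.extendByZero
  rw [Function.extend_apply']
  · rfl
  · rintro ⟨h, rfl⟩
    exact hg h.2

/-- conjugation action of a subgroup `Q` of the normalizer of `K` on `K` -/
@[reducible] def conjActOn {G : Type*} [Group G] (K Q : Subgroup G)
    (hQ : Q ≤ Subgroup.normalizer (K : Set G)) : MulAction Q K where
  smul q k := ⟨(q : G) * k * (q : G)⁻¹, (Subgroup.mem_normalizer_iff.mp (hQ q.2) k).mp k.2⟩
  one_smul k := by
    apply Subtype.ext
    simp [HSMul.hSMul]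
  mul_smul q r k := by
    apply Subtype.ext
    simp [HSMul.hSMul, mul_assoc]

/-- A `p`-subgroup of the normalizer of `K`, `p ∣ |K|`, centralizes a nontrivial element of `K`. -/
theorem exists_ne_one_commute_of_pgroup {G : Type*} [Group G] [Finite G] (p : ℕ) [Fact p.Prime]
    (K Q : Subgroup G) (hQ : Q ≤ Subgroup.normalizer (K : Set G)) (hQp : IsPGroup p Q)
    (hpK : p ∣ Nat.card K) : ∃ k ∈ K, k ≠ 1 ∧ ∀ q ∈ Q, q * k = k * q := by
  letI : MulAction Q K := conjActOn K Q hQ
  have hsmul : ∀ (q : Q) (k : K), ((q • k : K) : G) = (q : G) * k * (q : G)⁻¹ := fun _ _ => rfl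
  have h1 : (1 : K) ∈ MulAction.fixedPoints Q K := by
    intro q
    apply Subtype.ext
    rw [hsmul]
    simp
  obtain ⟨b, hb, hne⟩ := hQp.exists_fixed_point_of_prime_dvd_card_of_fixed_point K hpK h1
  refine ⟨b, b.2, ?_, ?_⟩
  · intro h
    apply hne
    apply Subtype.ext
    rw [h]; rfl
  · intro q hq
    have := congrArg (fun t : K => (t : G)) (hb ⟨q, hq⟩)
    simp only [hsmul] at this
    calc q * b = q * b * q⁻¹ * q := by group
      _ = b * q := by rw [this]

end Cfsg.Agent.Helper5
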