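import Mathlib
import Cfsg.Prelude.Def_Blocks
import Cfsg.Agent.Lib.Helper24.CharIntegral
import Cfsg.Agent.Lib.Helper23.Schur

/-!
# The degree of an irreducible character divides the index of a faithfully represented
central subgroup (helper5)
-/

set_option autoImplicit false
set_option linter.style.haveILetI false
set_option linter.unusedVariables false
set_option linter.unusedSectionVars false

namespace Cfsg.Agent.Helper5

open Cfsg Cfsg.Agent.Helper24 Cfsg.Agent.Helper23

universe u

open scoped ComplexConjugate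

section OrbitSum

variable {X : Type*} {G : Type*} [Group X] [MulAction X G] [Fintype G]

/-- Summing an invariant function over a finite set with a group action, orbit by orbit. -/
theorem sum_eq_sum_orbits [Fintype (MulAction.orbitRel.Quotient X G)] (f : G → ℂ)
    (hf : ∀ (x : X) (g : G), f (x • g) = f g) :
    ∑ g : G, f g = ∑ ω : MulAction.orbitRel.Quotient X G,
      (Nat.card (MulAction.orbit X (Quotient.out ω)) : ℂ) * f (Quotient.out ω) := by
  classical
  rw [← Finset.sum_fiberwise Finset.univ
    (fun g : G => (Quotient.mk'' g : MulAction.orbitRel.Quotient X G)) f]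
  refine Finset.sum_congr rfl fun ω _ => ?_
  have hmem : ∀ g : G, (Quotient.mk'' g : MulAction.orbitRel.Quotient X G) = ω ↔
      g ∈ MulAction.orbit X (Quotient.out ω) := by
    intro g
    rw [← MulAction.orbitRel_apply]
    constructor
    · intro h
      have h2 : (Quotient.mk'' g : MulAction.orbitRel.Quotient X G) =
          Quotient.mk'' (Quotient.out ω) := by rw [h, Quotient.out_eq']
      exact Quotient.eq''.mp h2
    · intro h
      have := Quotient.eq''.mpr h
      rw [this, Quotient.out_eq']
  have h1 : ∀ g ∈ Finset.univ.filter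
      (fun g : G => (Quotient.mk'' g : MulAction.orbitRel.Quotient X G) = ω),
      f g = f (Quotient.out ω) := by
    intro g hg
    rw [Finset.mem_filter, hmem] at hg
    obtain ⟨x, hx⟩ := hg.2
    rw [← hx]
    exact hf x _
  rw [Finset.sum_congr rfl h1, Finset.sum_const, nsmul_eq_mul]
  congr 2
  rw [Nat.card_eq_fintype_card, ← Fintype.card_subtype]
  apply Fintype.card_congr
  exact Equiv.subtypeEquivRight hmem

end OrbitSum

section Twist

variable {G : Type u} [Group G]

/-- The action of `Z × G` on `G` by translation by the central subgroup `Z` and conjugation. -/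
@[reducible] def twistAction (Z : Subgroup G) (hZ : Z ≤ Subgroup.center G) :
    MulAction (Z × G) G where
  smul p g := (p.1 : G) * (p.2 * g * p.2⁻¹)
  one_smul g := by
    show ((1 : Z × G).1 : G) * ((1 : Z × G).2 * g * (1 : Z × G).2⁻¹) = g
    simp
  mul_smul p q g := by
    show ((p * q).1 : G) * ((p * q).2 * g * (p * q).2⁻¹) =
      (p.1 : G) * (p.2 * ((q.1 : G) * (q.2 * g * q.2⁻¹)) * p.2⁻¹)
    have hq : ∀ x : G, x * (q.1 : G) = (q.1 : G) * x := fun x =>
      (Subgroup.mem_center_iff.mp (hZ q.1.2) x)
    simp only [Prod.fst_mul, Prod.snd_mul, Subgroup.coe_mul, mul_inv_rev]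
    calc (p.1 : G) * (q.1 : G) * (p.2 * q.2 * g * (q.2⁻¹ * p.2⁻¹))
        = (p.1 : G) * ((q.1 : G) * p.2) * (q.2 * g * q.2⁻¹) * p.2⁻¹ := by group
      _ = (p.1 : G) * (p.2 * (q.1 : G)) * (q.2 * g * q.2⁻¹) * p.2⁻¹ := by rw [hq p.2]
      _ = (p.1 : G) * (p.2 * ((q.1 : G) * (q.2 * g * q.2⁻¹)) * p.2⁻¹) := by group

end Twist

section Main

variable {G : Type u} [Group G] [Fintype G]

/-- `|χ(z)|² = χ(1)²` for central `z`. -/
theorem irr_central_normSq {χ : G → ℂ} (hχ : IsIrrCharacter G χ) (z : G)
    (hz : z ∈ Subgroup.center G) : χ z * conj (χ z) = χ 1 * χ 1 := by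
  have h1 := irr_central_mul χ hχ z hz z⁻¹
  rw [mul_inv_cancel, irr_inv (isCharacter_of_isIrrCharacter hχ)] at h1
  have h0 := irr_one_ne_zero χ hχ
  field_simp at h1
  rw [← h1]
  ring

theorem orbit_stabilizer_natCard {X Y : Type*} [Group X] [MulAction X Y] (y : Y) :
    Nat.card (MulAction.orbit X y) * Nat.card (MulAction.stabilizer X y) = Nat.card X := by
  rw [Nat.card_congr (MulAction.orbitEquivQuotientStabilizer X y)]
  exact (Subgroup.card_eq_card_quotient_mul_card_subgroup _).symm

/-- **The degree of an irreducible character divides the index of a central subgroup on which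
the character is faithful.** -/
theorem charDegree_dvd_index_of_central (Z : Subgroup G) (hZ : Z ≤ Subgroup.center G)
    {χ : G → ℂ} (hχ : IsIrrCharacter G χ) (hf : ∀ z ∈ Z, χ z = χ 1 → z = 1) :
    charDegree χ ∣ Z.index := by
  classical
  letI := twistAction Z hZ
  haveI : Finite (MulAction.orbitRel.Quotient (Z × G) G) := Quotient.finite _
  letI : Fintype (MulAction.orbitRel.Quotient (Z × G) G) := Fintype.ofFinite _
  have hsm : ∀ (p : Z × G) (g : G), p • g = (p.1 : G) * (p.2 * g * p.2⁻¹) := fun p g => rfl
  obtain ⟨n, hn, hn1⟩ := irr_one_eq hχ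
  have hn0 : (n : ℂ) ≠ 0 := by exact_mod_cast hn.ne'
  have h10 : χ 1 ≠ 0 := by rw [hn1]; exact hn0
  have hconj1 : conj (χ 1) = χ 1 := by rw [hn1]; simp
  have hχsm : ∀ (p : Z × G) (g : G), χ (p • g) = χ p.1 / χ 1 * χ g := by
    intro p g
    rw [hsm, irr_central_mul χ hχ _ (hZ p.1.2), irr_conj χ hχ]
  set f : G → ℂ := fun g => χ g * conj (χ g) with hfdef
  have hfinv : ∀ (p : Z × G) (g : G), f (p • g) = f g := by
    intro p g
    simp only [hfdef, hχsm, map_mul, map_div₀, hconj1]
    have := irr_central_normSq hχ _ (hZ p.1.2)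
    field_simp
    linear_combination (χ g * conj (χ g)) * this
  have hsum : ∑ g : G, f g = Nat.card G := by
    have horth := irr_orthogonality hχ hχ
    rw [if_pos rfl, classInner] at horth
    have hcard : (Nat.card G : ℂ) ≠ 0 := by exact_mod_cast (Nat.card_pos (α := G)).ne'
    field_simp at horth
    exact horth
  rw [sum_eq_sum_orbits (X := Z × G) f hfinv] at hsum
  -- orbit sizes
  have horb : ∀ g : G, χ g ≠ 0 → (Nat.card (MulAction.orbit (Z × G) g) : ℂ) =
      (Nat.card Z : ℂ) * ((Subgroup.centralizer ({g} : Set G)).index : ℂ) := by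
    intro g hg
    have h1 := orbit_stabilizer_natCard (X := Z × G) g
    have h2 : Nat.card (MulAction.stabilizer (Z × G) g) =
        Nat.card (Subgroup.centralizer ({g} : Set G)) := by
      apply Nat.card_congr
      have key : ∀ p : Z × G, p • g = g → p.1 = 1 ∧ p.2 * g * p.2⁻¹ = g := by
        intro p hp
        have h3 := hχsm p g
        rw [hp] at h3
        have h4 : χ p.1 / χ 1 = 1 := by
          have : (χ p.1 / χ 1 - 1) * χ g = 0 := by rw [sub_mul, one_mul, ← h3, sub_self]
          rcases mul_eq_zero.mp this with h5 | h5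
          · exact sub_eq_zero.mp h5
          · exact absurd h5 hg
        have h5 : χ p.1 = χ 1 := by
          field_simp at h4
          exact h4
        have h6 : (p.1 : G) = 1 := hf _ p.1.2 h5
        refine ⟨Subtype.ext h6, ?_⟩
        rw [hsm, h6, one_mul] at hp
        exact hp
      refine
        { toFun := fun p => ⟨p.1.2, ?_⟩
          invFun := fun c => ⟨(1, c.1), ?_⟩
          left_inv := ?_
          right_inv := fun c => rfl }
      · rw [Subgroup.mem_centralizer_singleton_iff]
        have := (key p.1 p.2).2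
        calc p.1.2 * g = p.1.2 * g * p.1.2⁻¹ * p.1.2 := by group
          _ = g * p.1.2 := by rw [this]
      · rw [MulAction.mem_stabilizer_iff, hsm]
        have := Subgroup.mem_centralizer_singleton_iff.mp c.2
        simp only [Subgroup.coe_one, one_mul]
        rw [this]
        group
      · intro p
        apply Subtype.ext
        apply Prod.ext
        · exact ((key p.1 p.2).1).symm
        · rfl
    rw [h2] at h1
    have h3 := Subgroup.card_mul_index (Subgroup.centralizer ({g} : Set G))
    have h4 : Nat.card (Z × G) = Nat.card Z * Nat.card G := Nat.card_prod _ _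
    have hC : (Nat.card (Subgroup.centralizer ({g} : Set G)) : ℂ) ≠ 0 := by
      exact_mod_cast (Nat.card_pos (α := Subgroup.centralizer ({g} : Set G))).ne'
    have h5 : (Nat.card (MulAction.orbit (Z × G) g) : ℂ) *
        (Nat.card (Subgroup.centralizer ({g} : Set G)) : ℂ) =
        (Nat.card Z : ℂ) * ((Nat.card (Subgroup.centralizer ({g} : Set G)) : ℂ) *
          ((Subgroup.centralizer ({g} : Set G)).index : ℂ)) := by
      rw [← Nat.cast_mul, h1, h4, ← h3]
      push_cast
      ring
    have h6 : (Nat.card (MulAction.orbit (Z × G) g) : ℂ) *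
        (Nat.card (Subgroup.centralizer ({g} : Set G)) : ℂ) =
        ((Nat.card Z : ℂ) * ((Subgroup.centralizer ({g} : Set G)).index : ℂ)) *
          (Nat.card (Subgroup.centralizer ({g} : Set G)) : ℂ) := by
      rw [h5]; ring
    exact mul_right_cancel₀ hC h6
  -- the integrality statement
  have hZ0 : (Nat.card Z : ℂ) ≠ 0 := by exact_mod_cast (Nat.card_pos (α := Z)).ne'
  have hint : IsIntegral ℤ ((Z.index : ℂ) / χ 1) := by
    have h2 : (Z.index : ℂ) / χ 1 = ∑ ω : MulAction.orbitRel.Quotient (Z × G) G,
        centralChar χ (Quotient.out ω) * conj (χ (Quotient.out ω)) := by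
      have h3 : (Z.index : ℂ) = (Nat.card G : ℂ) / (Nat.card Z : ℂ) := by
        rw [← Z.card_mul_index]
        push_cast
        field_simp
      rw [h3, ← hsum, Finset.sum_div, Finset.sum_div]
      refine Finset.sum_congr rfl fun ω _ => ?_
      by_cases hg : χ (Quotient.out ω) = 0
      · simp [hfdef, centralChar, hg]
      · rw [horb _ hg, centralChar]
        simp only [hfdef]
        field_simp
    rw [h2]
    refine IsIntegral.sum _ fun ω _ => ?_
    refine IsIntegral.mul (isIntegral_centralChar hχ _) ?_
    have := isIntegral_of_isCharacter (isCharacter_of_isIrrCharacter hχ) (Quotient.out ω)⁻¹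
    rwa [irr_inv (isCharacter_of_isIrrCharacter hχ)] at this
  rw [charDegree_natCast n hn1]
  rw [hn1] at hint
  have hnq : (n : ℚ) ≠ 0 := by exact_mod_cast hn.ne'
  have h2 : ((Z.index : ℂ) / (n : ℂ)) = algebraMap ℚ ℂ ((Z.index : ℚ) / (n : ℚ)) := by
    simp
  rw [h2, isIntegral_algebraMap_iff (algebraMap ℚ ℂ).injective] at hint
  obtain ⟨m, hm⟩ := IsIntegrallyClosed.isIntegral_iff.mp hint
  have h3 : (m : ℚ) * n = Z.index := by
    have : (algebraMap ℤ ℚ m) = (m : ℚ) := rfl
    rw [this] at hm
    rw [hm]
    field_simp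
  have h4 : (m * (n : ℤ)) = (Z.index : ℤ) := by exact_mod_cast h3
  have h5 : (n : ℤ) ∣ (Z.index : ℤ) := ⟨m, by rw [← h4]; ring⟩
  exact_mod_cast h5

end Main

end Cfsg.Agent.Helper5
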