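import Mathlib
import Cfsg.Prelude.Def_Blocks
import Cfsg.Agent.Lib.Helper24.CharHom

/-!
# Extending invariant irreducible representations (helper5's shared library)
-/

set_option autoImplicit false
set_option linter.style.haveILetI false
set_option linter.unusedVariables false
set_option linter.unusedSectionVars false

namespace Cfsg.Agent.Helper5

open Cfsg Cfsg.Agent.Helper24 Module

universe u v

open scoped ComplexConjugate

section EquivOfChar

variable {N : Type u} [Group N] [Fintype N]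
variable {V : Type v} [AddCommGroup V] [Module ℂ V] [FiniteDimensional ℂ V]
variable {W : Type v} [AddCommGroup W] [Module ℂ W] [FiniteDimensional ℂ W]

/-- Two irreducible complex representations of a finite group with the same character are
equivalent. -/
theorem nonempty_equiv_of_char_eq (ρ : Representation ℂ N V) (σ : Representation ℂ N W)
    (hρ : ρ.IsIrreducible) (hσ : σ.IsIrreducible) (h : ρ.character = σ.character) :
    Nonempty (ρ.Equiv σ) := by
  classical
  by_contra hne
  have hcard : (Nat.card N : ℂ) ≠ 0 := by exact_mod_cast (Nat.card_pos (α := N)).ne'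
  haveI : Invertible (Nat.card N : ℂ) := invertibleOfNonzero hcard
  haveI := hρ
  haveI := hσ
  have key := Representation.char_orthonormal σ ρ
  rw [if_neg hne] at key
  have h1 : classInner ρ.character ρ.character = 1 := by
    rw [irr_orthogonality (isIrrCharacter_of_rep ρ hρ) (isIrrCharacter_of_rep ρ hρ), if_pos rfl]
  have h2 : classInner ρ.character ρ.character =
      (Nat.card N : ℂ)⁻¹ * ∑ g, σ.character g * ρ.character g⁻¹ := by
    simp only [classInner]
    congr 1
    refine Finset.sum_congr rfl fun g _ => ?_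
    rw [char_inv, h]
  rw [h2, key] at h1
  simp at h1

end EquivOfChar

section Twist

variable {G : Type u} [Group G]
variable {V : Type v} [AddCommGroup V] [Module ℂ V]

/-- Pull back a representation along a group homomorphism. -/
def compRep {H : Type u} [Group H] (ρ : Representation ℂ G V) (f : H →* G) :
    Representation ℂ H V := MonoidHom.comp ρ f

theorem compRep_apply {H : Type u} [Group H] (ρ : Representation ℂ G V) (f : H →* G) (h : H) :
    compRep ρ f h = ρ (f h) := rfl

/-- Precomposing an irreducible representation with a surjective homomorphism gives an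
irreducible representation. -/
theorem isIrreducible_comp_surjective {H : Type u} [Group H] (f : H →* G)
    (hf : Function.Surjective f) (ρ : Representation ℂ G V) (hρ : ρ.IsIrreducible) :
    (compRep ρ f).IsIrreducible := by
  rw [isIrreducible_iff] at hρ ⊢
  refine ⟨hρ.1, ?_⟩
  intro U hU
  apply hρ.2 U
  intro g v hv
  obtain ⟨h, rfl⟩ := hf g
  exact hU h v hv

end Twist

section Intertwiner

variable {G : Type u} [Group G]
variable {V : Type v} [AddCommGroup V] [Module ℂ V] [FiniteDimensional ℂ V]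

/-- For an irreducible representation of a normal subgroup whose character is invariant under
`g`, there is an invertible operator realizing the conjugation by `g`. -/
theorem exists_intertwiner (N : Subgroup G) [hN : N.Normal] [Fintype N]
    (ρ : Representation ℂ N V) (hρ : ρ.IsIrreducible) (g : G)
    (hinv : ∀ n : N, ρ.character (MulAut.conjNormal g n) = ρ.character n) :
    ∃ M : (V →ₗ[ℂ] V)ˣ, ∀ n : N,
      M * ρ.asGroupHom n * M⁻¹ = ρ.asGroupHom (MulAut.conjNormal g n) := by
  let f : N →* N := (MulAut.conjNormal g : MulAut N).toMonoidHom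
  have hf : Function.Surjective f := (MulAut.conjNormal g : MulAut N).surjective
  have hρ' : (compRep ρ f).IsIrreducible :=
    isIrreducible_comp_surjective f hf ρ hρ
  have hchar : ρ.character = (compRep ρ f).character := by
    funext n
    exact (hinv n).symm
  obtain ⟨φ⟩ := nonempty_equiv_of_char_eq ρ (compRep ρ f) hρ hρ' hchar
  let e : V ≃ₗ[ℂ] V := φ.toLinearEquiv
  let M : (V →ₗ[ℂ] V)ˣ :=
    ⟨e.toLinearMap, e.symm.toLinearMap, by ext v; simp, by ext v; simp⟩
  refine ⟨M, ?_⟩
  intro n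
  rw [mul_inv_eq_iff_eq_mul]
  apply Units.ext
  rw [Units.val_mul, Units.val_mul, Representation.asGroupHom_apply,
    Representation.asGroupHom_apply]
  have := φ.toIntertwiningMap.isIntertwining' n
  exact this

end Intertwiner

section IntertwinerGroup

variable {G : Type u} [Group G]
variable {V : Type v} [AddCommGroup V] [Module ℂ V]

/-- The group of pairs `(g, A)` with `A` an invertible operator realizing conjugation by `g` on
the representation `ρ` of the normal subgroup `N`. -/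
def intertwinerGroup (N : Subgroup G) [hN : N.Normal] (ρ : Representation ℂ N V) :
    Subgroup (G × (V →ₗ[ℂ] V)ˣ) where
  carrier := {x | ∀ n : N, x.2 * ρ.asGroupHom n * x.2⁻¹ = ρ.asGroupHom (MulAut.conjNormal x.1 n)}
  mul_mem' := by
    intro a b ha hb n
    simp only [Set.mem_setOf_eq, Prod.fst_mul, Prod.snd_mul] at ha hb ⊢
    rw [map_mul, MulAut.mul_apply, ← ha, ← hb]
    group
  one_mem' := by
    intro n
    simp
  inv_mem' := by
    intro a ha n
    simp only [Set.mem_setOf_eq, Prod.fst_inv, Prod.snd_inv] at ha ⊢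
    have h1 := ha (MulAut.conjNormal a.1⁻¹ n)
    have h2 : MulAut.conjNormal a.1 (MulAut.conjNormal a.1⁻¹ n) = n := by
      rw [← MulAut.mul_apply, ← map_mul, mul_inv_cancel, map_one, MulAut.one_apply]
    rw [h2] at h1
    rw [← h1]
    group

theorem mem_intertwinerGroup (N : Subgroup G) [hN : N.Normal] (ρ : Representation ℂ N V)
    (x : G × (V →ₗ[ℂ] V)ˣ) : x ∈ intertwinerGroup N ρ ↔
      ∀ n : N, x.2 * ρ.asGroupHom n * x.2⁻¹ = ρ.asGroupHom (MulAut.conjNormal x.1 n) := Iff.rfl

/-- Elements of `N` together with their operators lie in the intertwiner group. -/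
theorem mem_intertwinerGroup_of_mem (N : Subgroup G) [hN : N.Normal] (ρ : Representation ℂ N V)
    (m : N) : ((m : G), ρ.asGroupHom m) ∈ intertwinerGroup N ρ := by
  intro n
  simp only
  rw [← map_inv, ← map_mul, ← map_mul]
  congr 1

/-- Scalars can be multiplied in. -/
theorem mem_intertwinerGroup_mul_central (N : Subgroup G) [hN : N.Normal]
    (ρ : Representation ℂ N V) {g : G} {A : (V →ₗ[ℂ] V)ˣ} (h : (g, A) ∈ intertwinerGroup N ρ)
    (s : (V →ₗ[ℂ] V)ˣ) (hs : ∀ B : (V →ₗ[ℂ] V)ˣ, s * B = B * s) :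
    (g, s * A) ∈ intertwinerGroup N ρ := by
  intro n
  have := h n
  simp only at this ⊢
  rw [← this, mul_inv_rev, hs A]
  have e : A * s * (ρ.asGroupHom n) * (A⁻¹ * s⁻¹) = A * (ρ.asGroupHom n) * A⁻¹ * (s * s⁻¹) := by
    rw [mul_assoc A s, hs (ρ.asGroupHom n), ← mul_assoc, ← mul_assoc, mul_assoc _ s, hs A⁻¹]
    group
  rw [e, mul_inv_cancel, mul_one]

end IntertwinerGroup

section CyclicExtension

variable {G : Type u} [Group G] [Fintype G]
variable {V : Type v} [AddCommGroup V] [Module ℂ V] [FiniteDimensional ℂ V]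

/-- Rescaling an intertwiner `M` for `g₀` so that its `m`-th power agrees with `ρ (g₀ ^ m)`. -/
theorem exists_normalized_intertwiner (N : Subgroup G) [hN : N.Normal] [Fintype N]
    (ρ : Representation ℂ N V) (hρ : ρ.IsIrreducible) (g₀ : G) (m : ℕ) (hm : 0 < m)
    (hg₀m : g₀ ^ m ∈ N)
    (hinv : ∀ n : N, ρ.character (MulAut.conjNormal g₀ n) = ρ.character n) :
    ∃ M : (V →ₗ[ℂ] V)ˣ, (g₀, M) ∈ intertwinerGroup N ρ ∧ M ^ m = ρ.asGroupHom ⟨g₀ ^ m, hg₀m⟩ := by
  classical
  set h₀ : N := ⟨g₀ ^ m, hg₀m⟩ with hh₀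
  set R := ρ.asGroupHom with hR
  obtain ⟨M, hM⟩ := exists_intertwiner N ρ hρ g₀ hinv
  have hMΓ : (g₀, M) ∈ intertwinerGroup N ρ := hM
  have hMm : (g₀ ^ m, M ^ m) ∈ intertwinerGroup N ρ := by
    have := (intertwinerGroup N ρ).pow_mem hMΓ m
    simpa using this
  have hcomm : ∀ n : N, ((R h₀)⁻¹ * M ^ m) * R n = R n * ((R h₀)⁻¹ * M ^ m) := by
    intro n
    have h1 := hMm n
    have h2 : MulAut.conjNormal (g₀ ^ m) n = h₀ * n * h₀⁻¹ := by
      apply Subtype.ext
      rw [MulAut.conjNormal_apply]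
      rfl
    simp only at h1
    rw [h2, map_mul, map_mul, map_inv] at h1
    have h3 : M ^ m * R n = R h₀ * R n * (R h₀)⁻¹ * M ^ m := by
      rw [hR, ← h1, mul_assoc _ _ (M ^ m), inv_mul_cancel, mul_one]
    calc (R h₀)⁻¹ * M ^ m * R n = (R h₀)⁻¹ * (M ^ m * R n) := by group
      _ = (R h₀)⁻¹ * (R h₀ * R n * (R h₀)⁻¹ * M ^ m) := by rw [h3]
      _ = R n * ((R h₀)⁻¹ * M ^ m) := by group
  obtain ⟨c, hc⟩ := exists_scalar_of_comm ρ hρ
    (((R h₀)⁻¹ * M ^ m : (V →ₗ[ℂ] V)ˣ) : V →ₗ[ℂ] V) (by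
      intro n
      have := congrArg Units.val (hcomm n)
      rw [Units.val_mul, Units.val_mul, hR, Representation.asGroupHom_apply] at this
      exact this)
  have hnt : Nontrivial V := ((isIrreducible_iff ρ).mp hρ).1
  have hc0 : c ≠ 0 := by
    rintro rfl
    rw [zero_smul] at hc
    exact Units.ne_zero _ hc
  obtain ⟨d, hd⟩ := IsAlgClosed.exists_pow_nat_eq (c⁻¹) hm
  have hd0 : d ≠ 0 := by
    rintro rfl
    rw [zero_pow hm.ne'] at hd
    exact inv_ne_zero hc0 hd.symm
  let s : (V →ₗ[ℂ] V)ˣ :=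
    Units.map (algebraMap ℂ (V →ₗ[ℂ] V)).toMonoidHom (Units.mk0 d hd0)
  have hsval : (s : V →ₗ[ℂ] V) = d • (1 : V →ₗ[ℂ] V) := by
    show algebraMap ℂ (V →ₗ[ℂ] V) d = _
    rw [Algebra.algebraMap_eq_smul_one]
  have hs : ∀ B : (V →ₗ[ℂ] V)ˣ, s * B = B * s := by
    intro B
    apply Units.ext
    rw [Units.val_mul, Units.val_mul, hsval]
    simp
  refine ⟨s * M, mem_intertwinerGroup_mul_central N ρ hMΓ s hs, ?_⟩
  apply Units.ext
  rw [(show Commute s M from hs M).mul_pow, Units.val_mul, Units.val_pow_eq_pow_val, hsval,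
    smul_pow, one_pow, hd]
  have h4 : ((M ^ m : (V →ₗ[ℂ] V)ˣ) : V →ₗ[ℂ] V) = c • ((R h₀ : (V →ₗ[ℂ] V)ˣ) : V →ₗ[ℂ] V) := by
    have h5 : (M ^ m : (V →ₗ[ℂ] V)ˣ) = R h₀ * ((R h₀)⁻¹ * M ^ m) := by group
    rw [h5, Units.val_mul, hc]
    simp
  rw [h4, smul_mul_assoc, one_mul, smul_smul, inv_mul_cancel₀ hc0, one_smul]

/-- **Extension over a cyclic quotient**: an irreducible representation of a normal subgroup `N`
with `G / N` cyclic, whose character is `G`-invariant, extends to `G`. -/
theorem exists_extension_of_cyclic (N : Subgroup G) [hN : N.Normal] [Fintype N]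
    (hcyc : IsCyclic (G ⧸ N)) (ρ : Representation ℂ N V) (hρ : ρ.IsIrreducible)
    (hinv : ∀ (g : G) (n : N), ρ.character (MulAut.conjNormal g n) = ρ.character n) :
    ∃ ρ' : Representation ℂ G V, ∀ n : N, ρ' (n : G) = ρ n := by
  classical
  obtain ⟨q, hq⟩ := hcyc.exists_generator
  obtain ⟨g₀, rfl⟩ := QuotientGroup.mk_surjective q
  set m := orderOf (QuotientGroup.mk g₀ : G ⧸ N) with hm
  have hmpos : 0 < m := orderOf_pos _
  have hg₀m : g₀ ^ m ∈ N := by
    rw [← QuotientGroup.eq_one_iff, QuotientGroup.mk_pow, hm, pow_orderOf_eq_one]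
  set h₀ : N := ⟨g₀ ^ m, hg₀m⟩ with hh₀
  set R := ρ.asGroupHom with hR
  obtain ⟨M, hMΓ, hMm⟩ := exists_normalized_intertwiner N ρ hρ g₀ m hmpos hg₀m (hinv g₀)
  have hMz : ∀ k : ℤ, (g₀ ^ k, M ^ k) ∈ intertwinerGroup N ρ := by
    intro k
    have := (intertwinerGroup N ρ).zpow_mem hMΓ k
    simpa using this
  let φ : Multiplicative ℤ →* MulAut N :=
    (MulAut.conjNormal (H := N)).comp (zpowersHom G g₀)
  have hφ : ∀ k : Multiplicative ℤ, φ k = MulAut.conjNormal (g₀ ^ (Multiplicative.toAdd k)) := by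
    intro k; rfl
  have hΨ : ∀ k : Multiplicative ℤ, N.subtype.comp (φ k).toMonoidHom =
      (MulAut.conj (zpowersHom G g₀ k)).toMonoidHom.comp N.subtype := by
    intro k
    ext n
    rw [hφ]
    simp only [MonoidHom.comp_apply, MulEquiv.coe_toMonoidHom, Subgroup.coe_subtype,
      MulAut.conjNormal_apply, zpowersHom_apply, MulAut.conj_apply]
  have hΦ : ∀ k : Multiplicative ℤ, R.comp (φ k).toMonoidHom =
      (MulAut.conj (zpowersHom (V →ₗ[ℂ] V)ˣ M k)).toMonoidHom.comp R := by
    intro k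
    ext1 n
    have := hMz (Multiplicative.toAdd k) n
    simp only at this
    simp only [MonoidHom.comp_apply, MulEquiv.coe_toMonoidHom, MulAut.conj_apply, zpowersHom_apply,
      hφ]
    rw [← this]
  let Ψ : N ⋊[φ] Multiplicative ℤ →* G := SemidirectProduct.lift N.subtype (zpowersHom G g₀) hΨ
  let Φ : N ⋊[φ] Multiplicative ℤ →* (V →ₗ[ℂ] V)ˣ :=
    SemidirectProduct.lift R (zpowersHom (V →ₗ[ℂ] V)ˣ M) hΦ
  have hΨapp : ∀ x : N ⋊[φ] Multiplicative ℤ, Ψ x = (x.left : G) * g₀ ^ (Multiplicative.toAdd x.right) := by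
    intro x; rfl
  have hΦapp : ∀ x : N ⋊[φ] Multiplicative ℤ, Φ x = R x.left * M ^ (Multiplicative.toAdd x.right) := by
    intro x; rfl
  have hsurj : Function.Surjective Ψ := by
    intro x
    obtain ⟨k, hk⟩ := Subgroup.mem_zpowers_iff.mp (hq (QuotientGroup.mk x))
    have h1 : (QuotientGroup.mk (g₀ ^ k) : G ⧸ N) = QuotientGroup.mk x := by
      rw [QuotientGroup.mk_zpow]; exact hk
    have h2 : (g₀ ^ k)⁻¹ * x ∈ N := QuotientGroup.eq.mp h1
    have h3 : x * (g₀ ^ k)⁻¹ ∈ N := by
      have := hN.conj_mem _ h2 (g₀ ^ k)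
      simpa [mul_assoc] using this
    refine ⟨⟨⟨x * (g₀ ^ k)⁻¹, h3⟩, Multiplicative.ofAdd k⟩, ?_⟩
    rw [hΨapp]
    simp
  have hker : Ψ.ker ≤ Φ.ker := by
    intro x hx
    rw [MonoidHom.mem_ker, hΨapp] at hx
    rw [MonoidHom.mem_ker, hΦapp]
    set k := Multiplicative.toAdd x.right with hk
    have h1 : g₀ ^ k = ((x.left⁻¹ : N) : G) := by
      rw [Subgroup.coe_inv]
      exact eq_inv_of_mul_eq_one_right hx
    have h2 : (QuotientGroup.mk g₀ : G ⧸ N) ^ k = 1 := by
      rw [← QuotientGroup.mk_zpow, h1, QuotientGroup.eq_one_iff]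
      exact (x.left⁻¹).2
    obtain ⟨j, hj⟩ := (orderOf_dvd_iff_zpow_eq_one).mpr h2
    have h3 : x.left = h₀ ^ (-j) := by
      apply Subtype.ext
      rw [Subgroup.coe_zpow]
      show (x.left : G) = (g₀ ^ m) ^ (-j)
      have h4 : (x.left : G) = (g₀ ^ k)⁻¹ := by rw [h1, Subgroup.coe_inv, inv_inv]
      rw [h4, hj, zpow_mul, zpow_natCast, zpow_neg]
    rw [h3, map_zpow, hj, zpow_mul, zpow_natCast, hMm, ← zpow_add]
    simp
  let ρt : G →* (V →ₗ[ℂ] V)ˣ := Ψ.liftOfSurjective hsurj ⟨Φ, hker⟩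
  refine ⟨(Units.coeHom (V →ₗ[ℂ] V)).comp ρt, ?_⟩
  intro n
  have h1 : (n : G) = Ψ (SemidirectProduct.inl n) := by
    rw [hΨapp]; simp
  have h2 : ρt (n : G) = R n := by
    rw [h1]
    show (Ψ.liftOfSurjective hsurj ⟨Φ, hker⟩) (Ψ (SemidirectProduct.inl n)) = R n
    rw [MonoidHom.liftOfRightInverse_comp_apply]
    show Φ (SemidirectProduct.inl n) = R n
    rw [hΦapp]; simp
  show ((ρt (n : G) : (V →ₗ[ℂ] V)ˣ) : V →ₗ[ℂ] V) = ρ n
  rw [h2, hR, Representation.asGroupHom_apply]

/-- An extension of an irreducible representation is irreducible. -/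
theorem isIrreducible_of_restrict (N : Subgroup G) (ρ : Representation ℂ N V)
    (hρ : ρ.IsIrreducible) (ρ' : Representation ℂ G V) (h : ∀ n : N, ρ' (n : G) = ρ n) :
    ρ'.IsIrreducible := by
  rw [isIrreducible_iff] at hρ ⊢
  refine ⟨hρ.1, ?_⟩
  intro U hU
  apply hρ.2 U
  intro n v hv
  rw [← h n]
  exact hU n v hv

end CyclicExtension

end Cfsg.Agent.Helper5
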