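import Mathlib
import Cfsg.Agent.Lib.Helper5.Clifford
import Cfsg.Agent.Lib.Helper5.RepExtend

/-!
# A representation affording an irreducible character is irreducible (helper5's shared library)
-/

set_option autoImplicit false

namespace Cfsg.Agent.Helper5

open Cfsg Cfsg.Agent.Helper24 Module

universe u v

section IrrOfChar

variable {G : Type u} [Group G] [Fintype G]
variable {V : Type v} [AddCommGroup V] [Module ℂ V] [FiniteDimensional ℂ V]

/-- A representation whose character is an irreducible character is irreducible. -/
theorem isIrreducible_of_isIrrCharacter (ρ : Representation ℂ G V)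
    (h : IsIrrCharacter G ρ.character) : ρ.IsIrreducible := by
  classical
  haveI := neZero_card_complex (G := G)
  letI := irrFintype (G := G)
  have hnt : Nontrivial V := by
    by_contra hV
    rw [not_nontrivial_iff_subsingleton] at hV
    obtain ⟨n, hn, h1⟩ := irr_one_eq h
    rw [Representation.char_one] at h1
    have : finrank ℂ V = 0 := Module.finrank_zero_of_subsingleton
    rw [this] at h1
    have : n = 0 := by exact_mod_cast h1.symm
    omega
  by_contra hirr
  rw [isIrreducible_iff] at hirr
  push_neg at hirr
  obtain ⟨U, hUinv, hUbot, hUtop⟩ := hirr hnt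
  let US : Subrepresentation ρ := ⟨U, fun g v hv => hUinv g v hv⟩
  obtain ⟨US', hcompl⟩ := exists_isCompl US
  have hc : IsCompl US.toSubmodule US'.toSubmodule := by
    constructor
    · rw [disjoint_iff]
      have := hcompl.inf_eq_bot
      exact congrArg Subrepresentation.toSubmodule this
    · rw [codisjoint_iff]
      have := hcompl.sup_eq_top
      exact congrArg Subrepresentation.toSubmodule this
  have hpos1 : 0 < Module.finrank ℂ US.toSubmodule := by
    rw [Module.finrank_pos_iff]
    exact Submodule.nontrivial_iff_ne_bot.mpr hUbot
  have hpos2 : 0 < Module.finrank ℂ US'.toSubmodule := by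
    rw [Module.finrank_pos_iff]
    apply Submodule.nontrivial_iff_ne_bot.mpr
    intro h0
    apply hUtop
    have := hc.sup_eq_top
    rw [h0, sup_bot_eq] at this
    exact this
  have heq : ρ.character = US.toRepresentation.character + US'.toRepresentation.character := by
    rw [← char_prod]
    symm
    apply Representation.char_iso
    refine Representation.Equiv.mk (Submodule.prodEquivOfIsCompl _ _ hc) ?_
    intro g
    ext ⟨v, hv⟩ <;> simp [Representation.prod, Subrepresentation.toRepresentation]
  set α := US.toRepresentation.character with hα
  set β := US'.toRepresentation.character with hβ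
  have hαc : IsCharacter G α := isCharacter_of_rep _
  have hβc : IsCharacter G β := isCharacter_of_rep _
  have hα0 : α ≠ 0 := by
    intro h0
    have := congrFun h0 1
    rw [hα, Representation.char_one, Pi.zero_apply] at this
    have : finrank ℂ US.toSubmodule = 0 := by exact_mod_cast this
    omega
  have hβ0 : β ≠ 0 := by
    intro h0
    have := congrFun h0 1
    rw [hβ, Representation.char_one, Pi.zero_apply] at this
    have : finrank ℂ US'.toSubmodule = 0 := by exact_mod_cast this
    omega
  -- each summand contains `χ`
  have key : ∀ γ δ : G → ℂ, IsCharacter G γ → IsCharacter G δ → γ ≠ 0 →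
      ρ.character = γ + δ → ∃ n : ℕ, 0 < n ∧ classInner γ ρ.character = n := by
    intro γ δ hγ hδ hγ0 hsum
    obtain ⟨φ, hφ, hφne⟩ := exists_constituent hγ hγ0
    obtain ⟨a, ha⟩ := classInner_char_nat hγ (isCharacter_of_isIrrCharacter hφ)
    obtain ⟨b, hb⟩ := classInner_char_nat hδ (isCharacter_of_isIrrCharacter hφ)
    have ha0 : a ≠ 0 := by
      rintro rfl
      exact hφne (by simpa using ha)
    have h1 : classInner ρ.character φ = ((a + b : ℕ) : ℂ) := by
      rw [hsum, classInner_add_left, ha, hb]
      push_cast
      rfl
    have h2 : ρ.character = φ := by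
      by_contra hne
      rw [irr_orthogonality h hφ, if_neg hne] at h1
      have : a + b = 0 := by exact_mod_cast h1.symm
      omega
    refine ⟨a, Nat.pos_of_ne_zero ha0, ?_⟩
    rw [h2]
    exact ha
  obtain ⟨a, ha0, ha⟩ := key α β hαc hβc hα0 heq
  obtain ⟨b, hb0, hb⟩ := key β α hβc hαc hβ0 (by rw [heq, add_comm])
  have h1 : classInner ρ.character ρ.character = ((a + b : ℕ) : ℂ) := by
    conv_lhs => rw [heq]
    rw [classInner_add_left, ← heq, ha, hb]
    push_cast
    rfl
  rw [irr_orthogonality h h, if_pos rfl] at h1
  have : a + b = 1 := by exact_mod_cast h1.symm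
  omega

end IrrOfChar

end Cfsg.Agent.Helper5
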