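import Mathlib
import Cfsg.Agent.Lib.Helper5.TLRDefs

set_option autoImplicit false

namespace Cfsg.Agent.Helper5.TLR


variable (p : ℕ) [Fact p.Prime]
variable {R : Type*} [CommRing R] [IsDomain R] [IsDiscreteValuationRing R] [CharZero R] [PUnif R p]

section Generic

variable {L : Type*} [AddCommGroup L] [Module R L]

/-- `fixedPts` (true) or `sigKer` (false). -/
noncomputable def topS (b : Bool) (X : Module.End R L) : Submodule R L :=
  bif b then fixedPts p X else sigKer p X

/-- `sigRange` (true) or `augRange` (false). -/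
noncomputable def botS (b : Bool) (X : Module.End R L) : Submodule R L :=
  bif b then sigRange p X else augRange p X

theorem mem_fixedPts {X : Module.End R L} {v : L} : v ∈ fixedPts p X ↔ X v = v := by
  unfold fixedPts
  rw [LinearMap.mem_ker, LinearMap.sub_apply, sub_eq_zero]
  rfl

theorem mem_sigKer {X : Module.End R L} {v : L} : v ∈ sigKer p X ↔ sig p X v = 0 := by
  unfold sigKer
  exact LinearMap.mem_ker

theorem mem_sigRange {X : Module.End R L} {v : L} : v ∈ sigRange p X ↔ ∃ m, sig p X m = v := by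
  unfold sigRange
  exact LinearMap.mem_range

theorem mem_augRange {X : Module.End R L} {v : L} : v ∈ augRange p X ↔ ∃ m, X m - m = v := by
  unfold augRange
  rw [LinearMap.mem_range]
  simp only [LinearMap.sub_apply]
  rfl

theorem commute_sig {X T : Module.End R L} (h : Commute T X) : Commute T (sig p X) := by
  unfold sig
  exact Commute.sum_right _ _ _ (fun i _ => h.pow_right i)

theorem top_of_commute (b : Bool) {X T : Module.End R L} (h : Commute T X) {v : L}
    (hv : v ∈ topS p b X) : T v ∈ topS p b X := by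
  cases b
  · simp only [topS, cond_false] at hv ⊢
    rw [mem_sigKer] at hv ⊢
    have := commute_sig p h
    have h2 : sig p X (T v) = T (sig p X v) := by
      have := congrArg (fun f => f v) this.eq
      simpa [Module.End.mul_apply] using this.symm
    rw [h2, hv, map_zero]
  · simp only [topS, cond_true] at hv ⊢
    rw [mem_fixedPts] at hv ⊢
    have h2 : X (T v) = T (X v) := by
      have := congrArg (fun f => f v) h.eq
      simpa [Module.End.mul_apply] using this.symm
    rw [h2, hv]

theorem bot_of_commute (b : Bool) {X T : Module.End R L} (h : Commute T X) {v : L}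
    (hv : v ∈ botS p b X) : T v ∈ botS p b X := by
  cases b
  · simp only [botS, cond_false] at hv ⊢
    rw [mem_augRange] at hv ⊢
    obtain ⟨m, rfl⟩ := hv
    refine ⟨T m, ?_⟩
    have h2 : X (T m) = T (X m) := by
      have := congrArg (fun f => f m) h.eq
      simpa [Module.End.mul_apply] using this.symm
    rw [h2, map_sub]
  · simp only [botS, cond_true] at hv ⊢
    rw [mem_sigRange] at hv ⊢
    obtain ⟨m, rfl⟩ := hv
    refine ⟨T m, ?_⟩
    have := commute_sig p h
    have h2 : sig p X (T m) = T (sig p X m) := by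
      have := congrArg (fun f => f m) this.eq
      simpa [Module.End.mul_apply] using this.symm
    exact h2

theorem pow_apply_fixed {X : Module.End R L} {v : L} (hv : X v = v) (i : ℕ) : (X ^ i) v = v := by
  induction i with
  | zero => simp
  | succ n ih => rw [pow_succ, Module.End.mul_apply, hv, ih]

theorem p_smul_top_mem_bot (b : Bool) {X : Module.End R L} {v : L}
    (hv : v ∈ topS p b X) : (p : R) • v ∈ botS p b X := by
  cases b
  · simp only [topS, cond_false] at hv
    simp only [botS, cond_false]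
    rw [mem_sigKer] at hv
    rw [mem_augRange]
    refine ⟨-∑ i ∈ Finset.range p, ∑ j ∈ Finset.range i, (X ^ j) v, ?_⟩
    have key : ∀ i : ℕ, X (∑ j ∈ Finset.range i, (X ^ j) v) - ∑ j ∈ Finset.range i, (X ^ j) v
        = (X ^ i) v - v := by
      intro i
      induction i with
      | zero => simp
      | succ n ih =>
        rw [Finset.sum_range_succ, map_add, add_sub_add_comm, ih]
        rw [pow_succ', Module.End.mul_apply]
        abel
    rw [map_neg, map_sum]
    have h1 : ∑ i ∈ Finset.range p, (X ^ i) v = 0 := by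
      have := hv
      unfold sig at this
      simpa [LinearMap.sum_apply] using this
    calc -∑ i ∈ Finset.range p, X (∑ j ∈ Finset.range i, (X ^ j) v)
          - -∑ i ∈ Finset.range p, ∑ j ∈ Finset.range i, (X ^ j) v
        = -∑ i ∈ Finset.range p, (X (∑ j ∈ Finset.range i, (X ^ j) v)
            - ∑ j ∈ Finset.range i, (X ^ j) v) := by
          rw [Finset.sum_sub_distrib]; abel
      _ = -∑ i ∈ Finset.range p, ((X ^ i) v - v) := by
          congr 1
          exact Finset.sum_congr rfl (fun i _ => key i)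
      _ = (p : R) • v := by
          rw [Finset.sum_sub_distrib, h1]
          simp [Finset.sum_const, Finset.card_range, Nat.cast_smul_eq_nsmul]
  · simp only [topS, cond_true] at hv
    simp only [botS, cond_true]
    rw [mem_fixedPts] at hv
    rw [mem_sigRange]
    refine ⟨v, ?_⟩
    unfold sig
    rw [LinearMap.sum_apply]
    simp only [pow_apply_fixed hv]
    simp [Finset.sum_const, Finset.card_range, Nat.cast_smul_eq_nsmul]

end Generic


section Avg

variable {G : Type*} [Group G] [Finite G]
variable {M : Type*} [AddCommGroup M] [Module R M]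

/-- the sum of `ρ k` over a subgroup. -/
noncomputable def sumK (ρ : Representation R G M) (K : Subgroup G) : Module.End R M :=
  ∑ᶠ k ∈ (K : Set G), ρ k

theorem sumK_eq (ρ : Representation R G M) (K : Subgroup G) [Fintype K] :
    sumK ρ K = ∑ k : K, ρ (k : G) := by
  unfold sumK
  rw [finsum_mem_eq_finite_toFinset_sum _ (Set.toFinite _)]
  refine Finset.sum_bij' (fun a ha => ⟨a, by simpa using ha⟩) (fun a _ => (a : G)) ?_ ?_ ?_ ?_ ?_
  · intro a ha; exact Finset.mem_univ _
  · intro a _; simp
  · intro a ha; rfl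
  · intro a _; rfl
  · intro a ha; rfl

theorem rho_mul_sumK (ρ : Representation R G M) (K : Subgroup G) (k : G) (hk : k ∈ K) :
    ρ k * sumK ρ K = sumK ρ K := by
  classical
  haveI : Fintype K := Fintype.ofFinite K
  rw [sumK_eq, Finset.mul_sum]
  refine Fintype.sum_bijective (fun a : K => (⟨k, hk⟩ : K) * a) (Group.mulLeft_bijective _) _ _ ?_
  intro a
  rw [← map_mul]
  rfl

theorem sumK_mul_rho (ρ : Representation R G M) (K : Subgroup G) (k : G) (hk : k ∈ K) :
    sumK ρ K * ρ k = sumK ρ K := by
  classical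
  haveI : Fintype K := Fintype.ofFinite K
  rw [sumK_eq, Finset.sum_mul]
  refine Fintype.sum_bijective (fun a : K => a * (⟨k, hk⟩ : K)) (Group.mulRight_bijective _) _ _ ?_
  intro a
  rw [← map_mul]
  rfl

theorem sumK_conj (ρ : Representation R G M) (K : Subgroup G) (n : G)
    (hn : ∀ k ∈ K, n * k * n⁻¹ ∈ K) (hn' : ∀ k ∈ K, n⁻¹ * k * n ∈ K) :
    ρ n * sumK ρ K = sumK ρ K * ρ n := by
  classical
  haveI : Fintype K := Fintype.ofFinite K
  rw [sumK_eq, Finset.mul_sum, Finset.sum_mul]
  refine Fintype.sum_bijective (fun a : K => (⟨n * a * n⁻¹, hn a a.2⟩ : K)) ?_ _ _ ?_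
  · refine ⟨fun a b h => ?_, fun b => ⟨⟨n⁻¹ * b * n, hn' b b.2⟩, ?_⟩⟩
    · have := congrArg Subtype.val h
      simp only at this
      apply Subtype.ext
      simpa using this
    · apply Subtype.ext
      simp [mul_assoc]
  · intro a
    rw [← map_mul, ← map_mul]
    congr 1
    simp [mul_assoc]

end Avg

section Conj

variable {L : Type*} [AddCommGroup L] [Module R L]

theorem pow_sub_self_mem_augRange (X : Module.End R L) (i : ℕ) (m : L) :
    (X ^ i) m - m ∈ augRange p X := by
  rw [mem_augRange]
  refine ⟨∑ j ∈ Finset.range i, (X ^ j) m, ?_⟩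
  induction i with
  | zero => simp
  | succ n ih =>
    rw [Finset.sum_range_succ, map_add, add_sub_add_comm, ih]
    rw [pow_succ', Module.End.mul_apply]
    abel

/-- an endomorphism `T` with `T X = X^a T` and commuting with `σ` preserves all four submodules,
provided `X^a` fixes what `X` fixes (automatic). -/
theorem top_of_twist (b : Bool) {X T : Module.End R L} (a : ℕ) (h : T * X = X ^ a * T)
    (a' : ℕ) (h' : X * T = T * X ^ a')
    (hs : Commute T (sig p X)) {v : L} (hv : v ∈ topS p b X) : T v ∈ topS p b X := by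
  cases b
  · simp only [topS, cond_false] at hv ⊢
    rw [mem_sigKer] at hv ⊢
    have h2 : sig p X (T v) = T (sig p X v) := by
      have := congrArg (fun f => f v) hs.eq
      simpa [Module.End.mul_apply] using this.symm
    rw [h2, hv, map_zero]
  · simp only [topS, cond_true] at hv ⊢
    rw [mem_fixedPts] at hv ⊢
    have h2 : X (T v) = T ((X ^ a') v) := by
      have := congrArg (fun f => f v) h'
      simpa [Module.End.mul_apply] using this
    rw [h2, pow_apply_fixed hv]

theorem bot_of_twist (b : Bool) {X T : Module.End R L} (a : ℕ) (h : T * X = X ^ a * T)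
    (hs : Commute T (sig p X)) {v : L} (hv : v ∈ botS p b X) : T v ∈ botS p b X := by
  cases b
  · simp only [botS, cond_false] at hv ⊢
    rw [mem_augRange] at hv
    obtain ⟨m, rfl⟩ := hv
    have h2 : T (X m) = (X ^ a) (T m) := by
      have := congrArg (fun f => f m) h
      simpa [Module.End.mul_apply] using this
    rw [map_sub, h2]
    exact pow_sub_self_mem_augRange p X a (T m)
  · simp only [botS, cond_true] at hv ⊢
    rw [mem_sigRange] at hv ⊢
    obtain ⟨m, rfl⟩ := hv
    refine ⟨T m, ?_⟩
    have := congrArg (fun f => f m) hs.eq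
    simpa [Module.End.mul_apply] using this.symm

end Conj

section GroupFacts

variable {G : Type*} [Group G] [Finite G]

theorem pow_p_eq_one (P : Sylow p G) (hP : Nat.card P = p) (x : G) (hx : x ∈ (P : Subgroup G)) :
    x ^ p = 1 := by
  have h : (⟨x, hx⟩ : (P : Subgroup G)) ^ Nat.card (P : Subgroup G) = 1 := pow_card_eq_one'
  have hP' : Nat.card (P : Subgroup G) = p := hP
  rw [hP'] at h
  have := congrArg Subtype.val h
  simpa using this

theorem orderOf_eq_p (P : Sylow p G) (hP : Nat.card P = p) (x : G) (hx : x ∈ (P : Subgroup G))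
    (hx1 : x ≠ 1) : orderOf x = p :=
  orderOf_eq_prime (pow_p_eq_one p P hP x hx) hx1

theorem exists_pow_eq (P : Sylow p G) (hP : Nat.card P = p) (x : G) (hx : x ∈ (P : Subgroup G))
    (hx1 : x ≠ 1) (u : G) (hu : u ∈ (P : Subgroup G)) : ∃ i : ℕ, u = x ^ i := by
  have hP' : Nat.card (P : Subgroup G) = p := hP
  haveI : Fact (Nat.card (P : Subgroup G)).Prime := ⟨by rw [hP']; exact Fact.out⟩
  have hne : (⟨x, hx⟩ : (P : Subgroup G)) ≠ 1 := by
    intro h; apply hx1; exact congrArg Subtype.val h
  have htop := zpowers_eq_top_of_prime_card (G := (P : Subgroup G)) (g := ⟨x, hx⟩) rfl hne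
  have hmem : (⟨u, hu⟩ : (P : Subgroup G)) ∈ Subgroup.zpowers (⟨x, hx⟩ : (P : Subgroup G)) := by
    rw [htop]; exact Subgroup.mem_top _
  rw [← mem_powers_iff_mem_zpowers] at hmem
  obtain ⟨i, hi⟩ := hmem
  refine ⟨i, ?_⟩
  have := congrArg Subtype.val hi
  simpa using this.symm

variable {M : Type*} [AddCommGroup M] [Module R M]

theorem sig_eq_sumK (ρ : Representation R G M) (P : Sylow p G) (hP : Nat.card P = p) (x : G)
    (hx : x ∈ (P : Subgroup G)) (hx1 : x ≠ 1) : sig p (ρ x) = sumK ρ (P : Subgroup G) := by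
  classical
  haveI : Fintype (P : Subgroup G) := Fintype.ofFinite _
  rw [sumK_eq]
  unfold sig
  rw [Finset.sum_range]
  have hord := orderOf_eq_p p P hP x hx hx1
  have hP' : Nat.card (P : Subgroup G) = p := hP
  let f : Fin p → (P : Subgroup G) := fun i => ⟨x ^ (i : ℕ), Subgroup.pow_mem _ hx _⟩
  have hinj : Function.Injective f := by
    intro i j hij
    have h1 : x ^ (i : ℕ) = x ^ (j : ℕ) := congrArg Subtype.val hij
    have := pow_injOn_Iio_orderOf (x := x) (by rw [hord]; exact i.2) (by rw [hord]; exact j.2) h1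
    exact Fin.ext this
  have hbij : Function.Bijective f := by
    rw [Fintype.bijective_iff_injective_and_card]
    refine ⟨hinj, ?_⟩
    rw [Fintype.card_fin, ← Nat.card_eq_fintype_card, hP']
  refine Fintype.sum_bijective f hbij _ _ ?_
  intro i
  rw [← map_pow]

theorem exists_conj_pow (P : Sylow p G) (hP : Nat.card P = p) (x : G) (hx : x ∈ (P : Subgroup G))
    (hx1 : x ≠ 1) (n : G) (hn : n ∈ Subgroup.normalizer ((P : Subgroup G) : Set G)) :
    ∃ a : ℕ, n * x * n⁻¹ = x ^ a := by
  have : n * x * n⁻¹ ∈ (P : Subgroup G) := by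
    rw [Subgroup.mem_normalizer_iff] at hn
    exact (hn x).1 hx
  exact exists_pow_eq p P hP x hx hx1 _ this

end GroupFacts

section RepFacts

variable {G : Type*} [Group G] [Finite G]
variable {M : Type*} [AddCommGroup M] [Module R M]

theorem rho_twist (ρ : Representation R G M) (P : Sylow p G) (hP : Nat.card P = p) (x : G)
    (hx : x ∈ (P : Subgroup G)) (hx1 : x ≠ 1) (n : G)
    (hn : n ∈ Subgroup.normalizer ((P : Subgroup G) : Set G)) :
    (∃ a : ℕ, ρ n * ρ x = ρ x ^ a * ρ n) ∧ (∃ a' : ℕ, ρ x * ρ n = ρ n * ρ x ^ a') ∧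
      Commute (ρ n) (sig p (ρ x)) := by
  refine ⟨?_, ?_, ?_⟩
  · obtain ⟨a, ha⟩ := exists_conj_pow p P hP x hx hx1 n hn
    refine ⟨a, ?_⟩
    rw [← map_pow, ← map_mul, ← map_mul, ← ha]
    congr 1
    group
  · obtain ⟨a', ha'⟩ := exists_conj_pow p P hP x hx hx1 n⁻¹ (Subgroup.inv_mem _ hn)
    refine ⟨a', ?_⟩
    rw [← map_pow, ← map_mul, ← map_mul, ← ha']
    congr 1
    group
  · rw [sig_eq_sumK p ρ P hP x hx hx1]
    have h1 : ∀ k ∈ (P : Subgroup G), n * k * n⁻¹ ∈ (P : Subgroup G) := by
      intro k hk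
      rw [Subgroup.mem_normalizer_iff] at hn
      exact (hn k).1 hk
    have h2 : ∀ k ∈ (P : Subgroup G), n⁻¹ * k * n ∈ (P : Subgroup G) := by
      intro k hk
      have hn' := Subgroup.inv_mem _ hn
      rw [Subgroup.mem_normalizer_iff] at hn'
      have := (hn' k).1 hk
      simpa using this
    exact sumK_conj ρ (P : Subgroup G) n h1 h2

theorem top_of_normalizer (b : Bool) (ρ : Representation R G M) (P : Sylow p G)
    (hP : Nat.card P = p) (x : G) (hx : x ∈ (P : Subgroup G)) (hx1 : x ≠ 1) (n : G)
    (hn : n ∈ Subgroup.normalizer ((P : Subgroup G) : Set G)) {v : M}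
    (hv : v ∈ topS p b (ρ x)) : ρ n v ∈ topS p b (ρ x) := by
  obtain ⟨⟨a, ha⟩, ⟨a', ha'⟩, hs⟩ := rho_twist p ρ P hP x hx hx1 n hn
  exact top_of_twist p b a ha a' ha' hs hv

theorem bot_of_normalizer (b : Bool) (ρ : Representation R G M) (P : Sylow p G)
    (hP : Nat.card P = p) (x : G) (hx : x ∈ (P : Subgroup G)) (hx1 : x ≠ 1) (n : G)
    (hn : n ∈ Subgroup.normalizer ((P : Subgroup G) : Set G)) {v : M}
    (hv : v ∈ botS p b (ρ x)) : ρ n v ∈ botS p b (ρ x) := by
  obtain ⟨⟨a, ha⟩, _, hs⟩ := rho_twist p ρ P hP x hx hx1 n hn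
  exact bot_of_twist p b a ha hs hv

end RepFacts



section Restrict

variable {M : Type*} [AddCommGroup M] [Module R M]

theorem restrict_pow_coe (L : Submodule R M) (X : Module.End R M)
    (hLX : ∀ v ∈ L, X v ∈ L) (i : ℕ) (w : L) :
    (((X.restrict hLX : Module.End R L) ^ i) w : M) = (X ^ i) (w : M) := by
  induction i generalizing w with
  | zero => simp
  | succ n ih =>
    rw [pow_succ, pow_succ, Module.End.mul_apply, Module.End.mul_apply, ih]
    rfl

theorem restrict_sig_coe (L : Submodule R M) (X : Module.End R M)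
    (hLX : ∀ v ∈ L, X v ∈ L) (w : L) :
    ((sig p (X.restrict hLX : Module.End R L)) w : M) = sig p X (w : M) := by
  unfold sig
  rw [LinearMap.sum_apply, LinearMap.sum_apply, Submodule.coe_sum]
  exact Finset.sum_congr rfl (fun i _ => restrict_pow_coe L X hLX i w)

theorem restrict_top_iff (b : Bool) (L : Submodule R M) (X : Module.End R M)
    (hLX : ∀ v ∈ L, X v ∈ L) (w : L) :
    w ∈ topS p b (X.restrict hLX : Module.End R L) ↔ (w : M) ∈ topS p b X := by
  cases b
  · simp only [topS, cond_false]
    rw [mem_sigKer, mem_sigKer, ← restrict_sig_coe p L X hLX w]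
    constructor
    · intro h; rw [h]; rfl
    · intro h; exact Subtype.ext h
  · simp only [topS, cond_true]
    rw [mem_fixedPts, mem_fixedPts]
    constructor
    · intro h
      have := congrArg Subtype.val h
      exact this
    · intro h; exact Subtype.ext h

theorem restrict_bot_coe (b : Bool) (L : Submodule R M) (X : Module.End R M)
    (hLX : ∀ v ∈ L, X v ∈ L) (w : L)
    (hw : w ∈ botS p b (X.restrict hLX : Module.End R L)) : (w : M) ∈ botS p b X := by
  cases b
  · simp only [botS, cond_false] at hw ⊢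
    rw [mem_augRange] at hw ⊢
    obtain ⟨m, hm⟩ := hw
    refine ⟨(m : M), ?_⟩
    rw [← hm]
    rfl
  · simp only [botS, cond_true] at hw ⊢
    rw [mem_sigRange] at hw ⊢
    obtain ⟨m, hm⟩ := hw
    refine ⟨(m : M), ?_⟩
    rw [← hm, restrict_sig_coe]

theorem restrict_bot_of_coe (b : Bool) (L : Submodule R M) (X e : Module.End R M)
    (hLX : ∀ v ∈ L, X v ∈ L) (he : Commute e X) (heL : ∀ v, e v ∈ L) (heL' : ∀ v ∈ L, e v = v)
    (w : L) (hw : (w : M) ∈ botS p b X) :
    w ∈ botS p b (X.restrict hLX : Module.End R L) := by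
  cases b
  · simp only [botS, cond_false] at hw ⊢
    rw [mem_augRange] at hw ⊢
    obtain ⟨m, hm⟩ := hw
    refine ⟨⟨e m, heL m⟩, ?_⟩
    apply Subtype.ext
    have h1 : e (X m) = X (e m) := by
      have := congrArg (fun f => f m) he.eq
      simpa [Module.End.mul_apply] using this
    have h2 : e (w : M) = (w : M) := heL' _ w.2
    rw [← h2, ← hm, map_sub, h1]
    rfl
  · simp only [botS, cond_true] at hw ⊢
    rw [mem_sigRange] at hw ⊢
    obtain ⟨m, hm⟩ := hw
    refine ⟨⟨e m, heL m⟩, ?_⟩
    apply Subtype.ext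
    rw [restrict_sig_coe]
    have h1 : e (sig p X m) = sig p X (e m) := by
      have := congrArg (fun f => f m) (commute_sig p he).eq
      simpa [Module.End.mul_apply] using this
    have h2 : e (w : M) = (w : M) := heL' _ w.2
    rw [← h2, ← hm, h1]

end Restrict

section PowPred

variable {G : Type*} [Group G] [Finite G]

theorem pow_pred_commute (P : Sylow p G) (hP : Nat.card P = p) (x : G) (hx : x ∈ (P : Subgroup G))
    (hx1 : x ≠ 1) (n : G) (hn : n ∈ Subgroup.normalizer ((P : Subgroup G) : Set G)) :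
    n ^ (p - 1) * x = x * n ^ (p - 1) := by
  have hpp : p.Prime := Fact.out
  obtain ⟨a, ha⟩ := exists_conj_pow p P hP x hx hx1 n hn
  have hord := orderOf_eq_p p P hP x hx hx1
  have hiter : ∀ j : ℕ, n ^ j * x * (n ^ j)⁻¹ = x ^ (a ^ j) := by
    intro j
    induction j with
    | zero => simp
    | succ j ih =>
      have e1 : n ^ (j + 1) * x * (n ^ (j + 1))⁻¹ = n * (n ^ j * x * (n ^ j)⁻¹) * n⁻¹ := by
        rw [pow_succ']; group
      rw [e1, ih]
      have e2 : n * x ^ (a ^ j) * n⁻¹ = (n * x * n⁻¹) ^ (a ^ j) := by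
        rw [conj_pow]
      rw [e2, ha, ← pow_mul, pow_succ']
  have hpa : ¬ p ∣ a := by
    intro hdvd
    apply hx1
    have h1 : x ^ a = 1 := by
      rw [← hord] at hdvd
      exact orderOf_dvd_iff_pow_eq_one.1 hdvd
    rw [h1] at ha
    have : n * x = n := by
      have := congrArg (fun g => g * n) ha
      simpa using this
    exact mul_eq_left.1 this
  have hfer : a ^ (p - 1) ≡ 1 [MOD p] := by
    have hcop : Nat.Coprime a p := (Nat.Coprime.symm ((Nat.Prime.coprime_iff_not_dvd hpp).2 hpa))
    have := Nat.ModEq.pow_totient hcop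
    rwa [Nat.totient_prime hpp] at this
  have h2 : x ^ (a ^ (p - 1)) = x := by
    have : x ^ (a ^ (p - 1)) = x ^ 1 := by
      rw [pow_eq_pow_iff_modEq, hord]
      exact hfer
    rwa [pow_one] at this
  have h3 := hiter (p - 1)
  rw [h2] at h3
  have := congrArg (fun g => g * n ^ (p - 1)) h3
  simpa using this

end PowPred

section Main

variable {G : Type*} [Group G] [Finite G]
variable {M : Type*} [AddCommGroup M] [Module R M] [Module.Free R M] [Module.Finite R M]

/-- the averaging idempotent and its basic properties -/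
theorem exists_avg (ρ : Representation R G M) (K : Subgroup G) (hKp : ¬ p ∣ Nat.card K) :
    ∃ (u : R) (e : Module.End R M), u * (Nat.card K : R) = 1 ∧ e = u • sumK ρ K ∧
      e * e = e ∧ (∀ k ∈ K, ρ k * e = e) ∧ (∀ k ∈ K, e * ρ k = e) ∧
      (∀ n : G, (∀ k ∈ K, n * k * n⁻¹ ∈ K) → (∀ k ∈ K, n⁻¹ * k * n ∈ K) → Commute e (ρ n)) := by
  classical
  haveI : Fintype K := Fintype.ofFinite K
  have hpp : p.Prime := Fact.out
  have hunit : IsUnit ((Nat.card K : ℕ) : R) := isUnit_natCast p hKp
  obtain ⟨u, hu⟩ := hunit.exists_left_inv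
  have hSS : sumK ρ K * sumK ρ K = (Nat.card K : R) • sumK ρ K := by
    have h1 : sumK ρ K * sumK ρ K = ∑ k : K, ρ (k : G) * sumK ρ K := by
      nth_rewrite 1 [sumK_eq ρ K]
      rw [Finset.sum_mul]
    rw [h1, Finset.sum_congr rfl (fun (k : K) _ => rho_mul_sumK ρ K (k : G) k.2)]
    rw [Finset.sum_const, Finset.card_univ, Nat.card_eq_fintype_card, Nat.cast_smul_eq_nsmul]
  refine ⟨u, u • sumK ρ K, hu, rfl, ?_, ?_, ?_, ?_⟩
  · rw [smul_mul_smul_comm, hSS, smul_smul, mul_assoc, hu, mul_one]
  · intro k hk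
    rw [mul_smul_comm, rho_mul_sumK ρ K k hk]
  · intro k hk
    rw [smul_mul_assoc, sumK_mul_rho ρ K k hk]
  · intro n h1 h2
    unfold Commute SemiconjBy
    rw [smul_mul_assoc, mul_smul_comm, sumK_conj ρ K n h1 h2]

end Main

end Cfsg.Agent.Helper5.TLR
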