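import Mathlib

set_option autoImplicit false

/-!
# S4442 lattice side, LAYER C: the lattice `U →ₗ[R] M` — definitions

`post B : ψ ↦ B ∘ ψ`, `pre A : ψ ↦ ψ ∘ A`, and the partial trace
`ptr : End (U →ₗ[R] M) → End M` over the `U`-factor (`Hom(U, M) = U* ⊗ M`).
-/

namespace Cfsg.Agent.Helper5.TLR

variable {R : Type*} [CommRing R]
variable {U : Type*} [AddCommGroup U] [Module R U]
variable {M : Type*} [AddCommGroup M] [Module R M]

/-- post-composition with `B`, as an endomorphism of `U →ₗ[R] M`. -/
def post (U : Type*) [AddCommGroup U] [Module R U] (B : Module.End R M) :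
    Module.End R (U →ₗ[R] M) where
  toFun ψ := B ∘ₗ ψ
  map_add' ψ ψ' := LinearMap.comp_add _ _ _
  map_smul' c ψ := LinearMap.comp_smul _ _ _

/-- pre-composition with `A`, as an endomorphism of `U →ₗ[R] M`. -/
def pre (M : Type*) [AddCommGroup M] [Module R M] (A : Module.End R U) :
    Module.End R (U →ₗ[R] M) where
  toFun ψ := ψ ∘ₗ A
  map_add' ψ ψ' := LinearMap.add_comp _ _ _
  map_smul' c ψ := LinearMap.smul_comp _ _ _

@[simp] theorem post_apply (B : Module.End R M) (ψ : U →ₗ[R] M) (u : U) :
    post U B ψ u = B (ψ u) := rfl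

@[simp] theorem pre_apply (A : Module.End R U) (ψ : U →ₗ[R] M) (u : U) :
    pre M A ψ u = ψ (A u) := rfl

/-- the partial trace over `U` with respect to a basis `b` of `U`:
`ptr b Ψ m = Σ_i (Ψ (b.coord i (·) • m)) (b i)`. -/
noncomputable def ptr {ι : Type*} [Fintype ι] (b : Module.Basis ι R U)
    (Ψ : Module.End R (U →ₗ[R] M)) : Module.End R M where
  toFun m := ∑ i, Ψ ((b.coord i).smulRight m) (b i)
  map_add' m m' := by
    rw [← Finset.sum_add_distrib]
    refine Finset.sum_congr rfl fun i _ => ?_
    have : (b.coord i).smulRight (m + m') = (b.coord i).smulRight m + (b.coord i).smulRight m' := by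
      ext u
      simp [smul_add]
    rw [this, map_add, LinearMap.add_apply]
  map_smul' c m := by
    rw [RingHom.id_apply, Finset.smul_sum]
    refine Finset.sum_congr rfl fun i _ => ?_
    have : (b.coord i).smulRight (c • m) = c • (b.coord i).smulRight m := by
      ext u
      simp only [LinearMap.smulRight_apply, LinearMap.smul_apply]
      rw [smul_comm]
    rw [this, map_smul, LinearMap.smul_apply]

theorem ptr_apply {ι : Type*} [Fintype ι] (b : Module.Basis ι R U)
    (Ψ : Module.End R (U →ₗ[R] M)) (m : M) :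
    ptr b Ψ m = ∑ i, Ψ ((b.coord i).smulRight m) (b i) := rfl

end Cfsg.Agent.Helper5.TLR
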