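import Mathlib
import Cfsg.Agent.Lib.Helper5.TLRDefs
import Cfsg.Agent.Lib.Helper5.TLRHomDefs

set_option autoImplicit false

/-!
# S4442 lattice side, LAYER C: algebra of `post` and `pre` on `U →ₗ[R] M`
-/

namespace Cfsg.Agent.Helper5.TLR

variable {R : Type*} [CommRing R]
variable {U : Type*} [AddCommGroup U] [Module R U]
variable {M : Type*} [AddCommGroup M] [Module R M]

theorem post_one : post U (1 : Module.End R M) = 1 := by
  ext ψ u; rfl

theorem post_zero : post U (0 : Module.End R M) = 0 := by
  ext ψ u; rfl

theorem post_mul (B B' : Module.End R M) : post U (B * B') = post U B * post U B' := by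
  ext ψ u; rfl

theorem post_add (B B' : Module.End R M) : post U (B + B') = post U B + post U B' := by
  ext ψ u; rfl

theorem post_sub (B B' : Module.End R M) : post U (B - B') = post U B - post U B' := by
  ext ψ u; rfl

theorem post_smul (c : R) (B : Module.End R M) : post U (c • B) = c • post U B := by
  ext ψ u; rfl

/-- `post U` as a ring homomorphism. -/
def postHom (U : Type*) [AddCommGroup U] [Module R U] (M : Type*) [AddCommGroup M] [Module R M] :
    Module.End R M →+* Module.End R (U →ₗ[R] M) where
  toFun := post U
  map_one' := post_one
  map_mul' := post_mul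
  map_zero' := post_zero
  map_add' := post_add

theorem postHom_apply (B : Module.End R M) : postHom U M B = post U B := rfl

theorem post_pow (B : Module.End R M) (i : ℕ) : post U (B ^ i) = post U B ^ i :=
  map_pow (postHom U M) B i

theorem post_sum {ι : Type*} (s : Finset ι) (f : ι → Module.End R M) :
    post U (∑ i ∈ s, f i) = ∑ i ∈ s, post U (f i) :=
  map_sum (postHom U M) f s

theorem pre_one : pre M (1 : Module.End R U) = 1 := by
  ext ψ u; rfl

theorem pre_mul (A A' : Module.End R U) : pre M (A * A') = pre M A' * pre M A := by
  ext ψ u; rfl

theorem pre_add (A A' : Module.End R U) : pre M (A + A') = pre M A + pre M A' := by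
  ext ψ u
  simp only [pre_apply, LinearMap.add_apply, map_add]

theorem pre_smul (c : R) (A : Module.End R U) : pre M (c • A) = c • pre M A := by
  ext ψ u
  simp only [pre_apply, LinearMap.smul_apply, map_smul]

theorem pre_pow (A : Module.End R U) (i : ℕ) : pre M (A ^ i) = pre M A ^ i := by
  induction i with
  | zero => simp [pre_one]
  | succ n ih => rw [pow_succ, pre_mul, ih, pow_succ']

theorem post_pre_comm (B : Module.End R M) (A : Module.End R U) :
    Commute (post U B) (pre M A) := by
  show post U B * pre M A = pre M A * post U B
  ext ψ u; rfl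

theorem sig_post (p : ℕ) (X : Module.End R M) : sig p (post U X) = post U (sig p X) := by
  unfold sig
  rw [post_sum]
  refine Finset.sum_congr rfl fun i _ => ?_
  rw [post_pow]

theorem post_commute {B B' : Module.End R M} (h : Commute B B') :
    Commute (post U B) (post U B') := by
  show post U B * post U B' = post U B' * post U B
  rw [← post_mul, ← post_mul, h.eq]

theorem post_smulRight (B : Module.End R M) (ξ : U →ₗ[R] R) (m : M) :
    post U B (ξ.smulRight m) = ξ.smulRight (B m) := by
  ext u
  simp only [post_apply, LinearMap.smulRight_apply, map_smul]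

theorem pre_smulRight (A : Module.End R U) (ξ : U →ₗ[R] R) (m : M) :
    pre M A (ξ.smulRight m) = (ξ ∘ₗ A).smulRight m := by
  ext u
  simp only [pre_apply, LinearMap.smulRight_apply, LinearMap.comp_apply]

end Cfsg.Agent.Helper5.TLR
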