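import Mathlib
import Cfsg.Agent.Lib.Helper5.TLRDefs
import Cfsg.Agent.Lib.Helper26.TLRW
import Cfsg.Agent.Lib.Helper19.TLS2W
import Cfsg.Agent.Lib.Helper19.TLDIMW
import Cfsg.Agent.Lib.Helper19.TLKEYW
import Cfsg.Agent.Lib.Helper16.TL2FPW
import Cfsg.Agent.Lib.Helper16.TL2PROJW
import Cfsg.Agent.Lib.Helper16.TL2FFW
import Cfsg.Agent.Lib.Helper16.TL2TRFW
import Cfsg.Agent.Lib.Helper16.TL2THB0W
import Cfsg.Agent.Lib.Helper16.TL2TR2W
import Cfsg.Agent.Lib.Helper18.TL2AP1W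
import Cfsg.Agent.Lib.Helper18.TL2AP2W
import Cfsg.Agent.Lib.Helper18.TL2THA0W
import Cfsg.Agent.Lib.Helper18.TL2TRANSFERW
import Cfsg.Agent.Lib.Helper3.TLRLOC

set_option autoImplicit false

namespace Cfsg.Agent.Helper5.TLR


variable (p : ℕ) [Fact p.Prime]
variable {R : Type*} [CommRing R] [IsDomain R] [IsDiscreteValuationRing R] [CharZero R] [PUnif R p]

variable {L : Type*} [AddCommGroup L] [Module R L]

/-- `σ` of a restriction is the restriction of `σ`. -/
theorem sig_restrict_coe (X : Module.End R L) (L' : Submodule R L)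
    (hstab : ∀ u ∈ L', X u ∈ L') (w : L') :
    ((sig p (X.restrict hstab) w : L') : L) = sig p X (w : L) := by
  unfold sig
  rw [LinearMap.sum_apply, LinearMap.sum_apply, Submodule.coe_sum]
  refine Finset.sum_congr rfl fun i _ => ?_
  rw [Module.End.pow_restrict i hstab]
  rfl

theorem pow_restrict_eq_one (X : Module.End R L) (hX : X ^ p = 1) (L' : Submodule R L)
    (hstab : ∀ u ∈ L', X u ∈ L') : (X.restrict hstab) ^ p = 1 := by
  apply LinearMap.ext
  intro w
  apply Subtype.ext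
  rw [Module.End.pow_restrict p hstab]
  show (X ^ p) (w : L) = w
  rw [hX]; rfl

theorem sig_comm_of_commute (X q : Module.End R L) (hc : Commute q X) (u : L) :
    q (sig p X u) = sig p X (q u) := by
  have h : Commute q (sig p X) := by
    unfold sig
    exact Commute.sum_right _ _ _ fun i _ => hc.pow_right i
  exact congrArg (fun f : Module.End R L => f u) h.eq

theorem sig_eq_smul_of_fixed (X : Module.End R L) (u : L) (hu : X u = u) :
    sig p X u = (p : R) • u := by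
  unfold sig
  rw [LinearMap.sum_apply]
  have : ∀ i : ℕ, (X ^ i) u = u := by
    intro i
    induction i with
    | zero => rfl
    | succ k ih => rw [pow_succ, Module.End.mul_apply, hu, ih]
  rw [Finset.sum_congr rfl fun i _ => this i]
  simp [Nat.cast_smul_eq_nsmul]

theorem padic_p_ne_zero : (p : R) ≠ 0 := by
  exact_mod_cast (Fact.out : p.Prime).ne_zero

section Asm

variable [Module.Free R L] [Module.Finite R L]

omit [Module.Finite R L] in
theorem eq_zero_of_p_smul (u : L) (h : (p : R) • u = 0) : u = 0 := by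
  rcases smul_eq_zero.mp h with h | h
  · exact absurd h (padic_p_ne_zero p)
  · exact h

omit [Module.Finite R L] in
theorem reiner_HA (X : Module.End R L) (F L₁ L₂ : Submodule R L)
    (hσ2 : ∀ u ∈ L₂, sig p X u = 0)
    (hff1 : ∀ u ∈ F, X u = u → ∃ y, u = sig p X y)
    (qF q₁ q₂ : Module.End R L) (hq : IsReinerProj p X F L₁ L₂ qF q₁ q₂) :
    ∀ u ∈ fixedPts p X, ∀ w ∈ L₁, q₁ u = sig p X w → u ∈ sigRange p X := by
  obtain ⟨hsum, hqF, hq1, hq2, hqFF, hqL1, hqL2, hcF, hc1, hc2⟩ := hq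
  intro u hu w hw hw2
  have hXu : X u = u := by
    have : (X - 1) u = 0 := hu
    rw [LinearMap.sub_apply, sub_eq_zero] at this
    exact this
  have hdec : u = qF u + q₁ u + q₂ u := by
    have := congrArg (fun f : Module.End R L => f u) hsum
    simpa using this.symm
  have hF1 : X (qF u) = qF u := by
    have := congrArg (fun f : Module.End R L => f u) hcF.eq
    simp only [Module.End.mul_apply] at this
    rw [← this, hXu]
  have h21 : X (q₂ u) = q₂ u := by
    have := congrArg (fun f : Module.End R L => f u) hc2.eq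
    simp only [Module.End.mul_apply] at this
    rw [← this, hXu]
  have h22 : q₂ u = 0 := by
    apply eq_zero_of_p_smul p (R := R)
    rw [← sig_eq_smul_of_fixed p X _ h21]
    exact hσ2 _ (hq2 u)
  obtain ⟨y, hy⟩ := hff1 _ (hqF u) hF1
  refine ⟨y + w, ?_⟩
  rw [map_add, ← hy, ← hw2, hdec, h22, add_zero]
  simp only [map_add]
  have e1 : qF (qF u) = qF u := (hqFF _ (hqF u)).1
  have e2 : qF (q₁ u) = 0 := (hqL1 _ (hq1 u)).1
  have e3 : q₁ (qF u) = 0 := (hqFF _ (hqF u)).2.1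
  have e4 : q₁ (q₁ u) = q₁ u := (hqL1 _ (hq1 u)).2.1
  rw [e1, e2, e3, e4]
  abel

omit [Module.Finite R L] in
theorem reiner_HB (X : Module.End R L) (F L₁ L₂ : Submodule R L)
    (h1 : ∀ u ∈ L₁, X u = u)
    (hff2 : ∀ u ∈ F, sig p X u = 0 → ∃ y, u = (X - 1) y)
    (qF q₁ q₂ : Module.End R L) (hq : IsReinerProj p X F L₁ L₂ qF q₁ q₂) :
    ∀ u ∈ sigKer p X, ∀ w ∈ L₂, q₂ u = (X - 1) w → u ∈ augRange p X := by
  obtain ⟨hsum, hqF, hq1, hq2, hqFF, hqL1, hqL2, hcF, hc1, hc2⟩ := hq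
  intro u hu w hw hw2
  have hσu : sig p X u = 0 := hu
  have hdec : u = qF u + q₁ u + q₂ u := by
    have := congrArg (fun f : Module.End R L => f u) hsum
    simpa using this.symm
  have hF1 : sig p X (qF u) = 0 := by
    rw [← sig_comm_of_commute p X qF hcF, hσu, map_zero]
  have h11 : sig p X (q₁ u) = 0 := by
    rw [← sig_comm_of_commute p X q₁ hc1, hσu, map_zero]
  have h12 : q₁ u = 0 := by
    apply eq_zero_of_p_smul p (R := R)
    rw [← sig_eq_smul_of_fixed p X _ (h1 _ (hq1 u))]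
    exact h11
  obtain ⟨y, hy⟩ := hff2 _ (hqF u) hF1
  refine ⟨y + w, ?_⟩
  rw [map_add, ← hy, ← hw2]
  conv_rhs => rw [hdec, h12, add_zero]

/-- the common core of DIM / A / B: coordinate data for `Ĥ⁰` and `Ĥ⁻¹` with `tr X = a - b`. -/
theorem exists_theta (X : Module.End R L) (hX : X ^ p = 1) :
    ∃ (a b : ℕ) (θA : L → Fin a → kk R) (θB : L → Fin b → kk R),
      ThetaData p X (fixedPts p X) (sigRange p X) a θA ∧
      ThetaData p X (sigKer p X) (augRange p X) b θB := by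
  obtain ⟨F, L₁, L₂, r, v, hsup, hd1, hd2, hF, h1, h2, hσ2, hli, hspan⟩ := reiner_split p X hX
  have hst1 : ∀ u ∈ L₁, X u ∈ L₁ := fun u hu => by rw [h1 u hu]; exact hu
  obtain ⟨qF, q₁, q₂, hq⟩ := reiner_proj p X F L₁ L₂ hsup hd1 hd2 hF hst1 h2
  obtain ⟨hff1, hff2⟩ := reiner_free_part p X hX F r v hli hspan
  have hHA := reiner_HA p X F L₁ L₂ hσ2 hff1 qF q₁ q₂ hq
  have hHB := reiner_HB p X F L₁ L₂ h1 hff2 qF q₁ q₂ hq
  obtain ⟨hsum, hqF, hq1, hq2, hqFF, hqL1, hqL2, hcF, hc1, hc2⟩ := hq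
  -- data on `L₁`
  obtain ⟨θ₁, hθ₁⟩ := theta_trivial p (X.restrict hst1) (fun u => Subtype.ext (h1 u u.2))
  -- data on `L₂`
  have hX₂ : (X.restrict h2) ^ p = 1 := pow_restrict_eq_one p X hX L₂ h2
  have h0₂ : sig p (X.restrict h2) = 0 := by
    apply LinearMap.ext
    intro w
    apply Subtype.ext
    rw [sig_restrict_coe]
    exact hσ2 _ w.2
  obtain ⟨b, θ₂, hb, hθ₂⟩ := theta_sig_zero p (X.restrict h2) hX₂ h0₂
  refine ⟨Module.finrank R L₁, b, fun u => θ₁ (q₁.codRestrict L₁ hq1 u),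
    fun u => θ₂ (q₂.codRestrict L₂ hq2 u), ?_, ?_⟩
  · -- A
    refine theta_transfer p X L₁ hst1 (q₁.codRestrict L₁ hq1) ?_ ?_ (fixedPts p X) (sigRange p X)
      ⊤ (sigRange p (X.restrict hst1)) _ θ₁ hθ₁ ?_ ?_ ?_ ?_
    · intro u
      exact Subtype.ext (hqL1 _ u.2).2.1
    · intro u
      apply Subtype.ext
      show q₁ (X u) = X (q₁ u)
      exact congrArg (fun f : Module.End R L => f u) hc1.eq
    · intro u _
      exact Submodule.mem_top
    · rintro u ⟨z, rfl⟩
      refine ⟨q₁.codRestrict L₁ hq1 z, ?_⟩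
      apply Subtype.ext
      rw [sig_restrict_coe]
      show sig p X (q₁ z) = q₁ (sig p X z)
      rw [sig_comm_of_commute p X q₁ hc1]
    · rintro u hu ⟨w, hw⟩
      refine hHA u hu (w : L) w.2 ?_
      have := congrArg (fun t : L₁ => (t : L)) hw
      simp only [sig_restrict_coe] at this
      exact this.symm
    · intro u _
      show (X - 1) (u : L) = 0
      rw [LinearMap.sub_apply, h1 _ u.2]
      simp
  · -- B
    refine theta_transfer p X L₂ h2 (q₂.codRestrict L₂ hq2) ?_ ?_ (sigKer p X) (augRange p X)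
      ⊤ (augRange p (X.restrict h2)) _ θ₂ hθ₂ ?_ ?_ ?_ ?_
    · intro u
      exact Subtype.ext (hqL2 _ u.2).2.2
    · intro u
      apply Subtype.ext
      show q₂ (X u) = X (q₂ u)
      exact congrArg (fun f : Module.End R L => f u) hc2.eq
    · intro u _
      exact Submodule.mem_top
    · rintro u ⟨z, rfl⟩
      refine ⟨q₂.codRestrict L₂ hq2 z, ?_⟩
      apply Subtype.ext
      show X (q₂ z) - q₂ z = q₂ ((X - 1) z)
      rw [LinearMap.sub_apply, map_sub]
      have := congrArg (fun f : Module.End R L => f z) hc2.eq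
      simp only [Module.End.mul_apply] at this
      rw [this]; rfl
    · rintro u hu ⟨w, hw⟩
      refine hHB u hu (w : L) w.2 ?_
      have := congrArg (fun t : L₂ => (t : L)) hw
      exact this.symm
    · intro u _
      exact hσ2 _ u.2

/-- PIECE A (Step 5). -/
theorem step_A (X : Module.End R L) (hX : X ^ p = 1) (ν : Module.End R L)
    (hν1 : ∀ u ∈ fixedPts p X, ν u ∈ fixedPts p X)
    (hν2 : ∀ u ∈ sigRange p X, ν u ∈ sigRange p X)
    (hν3 : ∀ u ∈ fixedPts p X, (ν ^ (p - 1)) u - u ∈ sigRange p X)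
    (hdim : ¬ CyclicQuot p (fixedPts p X) (sigRange p X)) :
    ∃ (φ : Module.End R L) (v₀ v₁ : L), Commute φ X ∧
      (∀ u ∈ fixedPts p X, ν (φ u) - φ (ν u) ∈ sigRange p X) ∧
      v₀ ∈ fixedPts p X ∧ v₀ ∉ sigRange p X ∧ φ v₀ ∈ sigRange p X ∧
      v₁ ∈ fixedPts p X ∧ v₁ ∉ sigRange p X ∧ φ v₁ - v₁ ∈ sigRange p X := by
  obtain ⟨a, b, θA, θB, hA, hB⟩ := exists_theta p X hX
  have ha : 2 ≤ a := by
    by_contra hcon
    exact hdim ((cyclic_iff_of_theta p X _ _ a θA hA).mpr (by omega))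
  exact step_of_theta p X _ _ a θA hA ha ν hν1 hν2 hν3

/-- PIECE B (Step 6). -/
theorem step_B (X : Module.End R L) (hX : X ^ p = 1) (ν : Module.End R L)
    (hν1 : ∀ u ∈ sigKer p X, ν u ∈ sigKer p X)
    (hν2 : ∀ u ∈ augRange p X, ν u ∈ augRange p X)
    (hν3 : ∀ u ∈ sigKer p X, (ν ^ (p - 1)) u - u ∈ augRange p X)
    (hdim : ¬ CyclicQuot p (sigKer p X) (augRange p X)) :
    ∃ (φ : Module.End R L) (v₀ v₁ : L), Commute φ X ∧
      (∀ u ∈ sigKer p X, ν (φ u) - φ (ν u) ∈ augRange p X) ∧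
      v₀ ∈ sigKer p X ∧ v₀ ∉ augRange p X ∧ φ v₀ ∈ augRange p X ∧
      v₁ ∈ sigKer p X ∧ v₁ ∉ augRange p X ∧ φ v₁ - v₁ ∈ augRange p X := by
  obtain ⟨a, b, θA, θB, hA, hB⟩ := exists_theta p X hX
  have hb : 2 ≤ b := by
    by_contra hcon
    exact hdim ((cyclic_iff_of_theta p X _ _ b θB hB).mpr (by omega))
  exact step_of_theta p X _ _ b θB hB hb ν hν1 hν2 hν3

end Asm

end Cfsg.Agent.Helper5.TLR
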