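import Mathlib
import Cfsg.Agent.Lib.Helper5.TLRDefs
import Cfsg.Agent.Lib.Helper5.TLRHomDefs
import Cfsg.Agent.Lib.Helper5.TLRHom

set_option autoImplicit false

/-!
# S4442 lattice side, LAYER C: the averaging idempotent of a representation of a finite group whose
order is invertible
-/

namespace Cfsg.Agent.Helper5.TLR

section Avg

variable {R : Type*} [CommRing R]
variable {Γ : Type*} [Group Γ] [Fintype Γ]
variable {W : Type*} [AddCommGroup W] [Module R W]

/-- the averaging operator `u₀ Σ_g τ g`. -/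
noncomputable def avgOp (u₀ : R) (τ : Representation R Γ W) : Module.End R W :=
  u₀ • ∑ g : Γ, τ g

theorem rep_mul_avgOp (u₀ : R) (τ : Representation R Γ W) (g : Γ) :
    τ g * avgOp u₀ τ = avgOp u₀ τ := by
  unfold avgOp
  rw [mul_smul_comm, Finset.mul_sum]
  congr 1
  refine Fintype.sum_equiv (Equiv.mulLeft g) _ _ fun h => ?_
  rw [← map_mul]
  rfl

theorem avgOp_mul_rep (u₀ : R) (τ : Representation R Γ W) (g : Γ) :
    avgOp u₀ τ * τ g = avgOp u₀ τ := by
  unfold avgOp
  rw [smul_mul_assoc, Finset.sum_mul]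
  congr 1
  refine Fintype.sum_equiv (Equiv.mulRight g) _ _ fun h => ?_
  rw [← map_mul]
  rfl

theorem avgOp_idem (u₀ : R) (hu₀ : u₀ * (Fintype.card Γ : R) = 1) (τ : Representation R Γ W) :
    avgOp u₀ τ * avgOp u₀ τ = avgOp u₀ τ := by
  have h1 : avgOp u₀ τ * avgOp u₀ τ = u₀ • ∑ g : Γ, τ g * avgOp u₀ τ := by
    have h0 : avgOp u₀ τ = u₀ • ∑ g : Γ, τ g := rfl
    calc avgOp u₀ τ * avgOp u₀ τ = (u₀ • ∑ g : Γ, τ g) * avgOp u₀ τ := by rw [← h0]
      _ = u₀ • ∑ g : Γ, τ g * avgOp u₀ τ := by rw [smul_mul_assoc, Finset.sum_mul]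
  rw [h1, Finset.sum_congr rfl (fun g _ => rep_mul_avgOp u₀ τ g), Finset.sum_const,
    Finset.card_univ, ← Nat.cast_smul_eq_nsmul R, smul_smul, hu₀, one_smul]

theorem avgOp_apply_of_fixed (u₀ : R) (hu₀ : u₀ * (Fintype.card Γ : R) = 1)
    (τ : Representation R Γ W) (w : W) (hw : ∀ g, τ g w = w) : avgOp u₀ τ w = w := by
  unfold avgOp
  rw [LinearMap.smul_apply, LinearMap.sum_apply, Finset.sum_congr rfl (fun g _ => hw g),
    Finset.sum_const, Finset.card_univ, ← Nat.cast_smul_eq_nsmul R, smul_smul, hu₀, one_smul]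

theorem rep_avgOp_apply (u₀ : R) (τ : Representation R Γ W) (g : Γ) (w : W) :
    τ g (avgOp u₀ τ w) = avgOp u₀ τ w := by
  have := congrArg (fun f => f w) (rep_mul_avgOp u₀ τ g)
  simpa [Module.End.mul_apply] using this

theorem mem_range_avgOp_iff (u₀ : R) (hu₀ : u₀ * (Fintype.card Γ : R) = 1)
    (τ : Representation R Γ W) (w : W) :
    w ∈ LinearMap.range (avgOp u₀ τ) ↔ ∀ g, τ g w = w := by
  constructor
  · rintro ⟨v, rfl⟩ g
    exact rep_avgOp_apply u₀ τ g v
  · intro h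
    exact ⟨w, avgOp_apply_of_fixed u₀ hu₀ τ w h⟩

theorem commute_avgOp (u₀ : R) (τ : Representation R Γ W) (T : Module.End R W)
    (hT : ∀ g, Commute T (τ g)) : Commute T (avgOp u₀ τ) := by
  unfold avgOp
  exact (Commute.sum_right _ _ _ (fun g _ => hT g)).smul_right u₀

/-- an operator which permutes the `τ g` (through a bijection `c` of `Γ`) commutes with the average. -/
theorem commute_avgOp_of_perm (u₀ : R) (τ : Representation R Γ W) (T : Module.End R W)
    (c : Γ ≃ Γ) (hT : ∀ g, T * τ g = τ (c g) * T) : Commute T (avgOp u₀ τ) := by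
  show T * avgOp u₀ τ = avgOp u₀ τ * T
  unfold avgOp
  rw [mul_smul_comm, smul_mul_assoc, Finset.mul_sum, Finset.sum_mul]
  congr 1
  rw [Finset.sum_congr rfl (fun g _ => hT g)]
  exact Fintype.sum_equiv c _ _ fun h => rfl

end Avg

end Cfsg.Agent.Helper5.TLR
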