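import Mathlib
import Cfsg.Agent.Lib.Helper5.TLRDefs
import Cfsg.Agent.Lib.Helper26.TLRW
import Cfsg.Agent.Lib.Helper19.TLS2W
import Cfsg.Agent.Lib.Helper19.TLDIMW
import Cfsg.Agent.Lib.Helper19.TLKEYW
import Cfsg.Agent.Lib.Helper16.TL2FPW
import Cfsg.Agent.Lib.Helper16.TL2PROJW
import Cfsg.Agent.Lib.Helper16.TL2FFW
import Cfsg.Agent.Lib.Helper16.TL2TRFW
import Cfsg.Agent.Lib.Helper16.TL2THB0W
import Cfsg.Agent.Lib.Helper16.TL2TR2W
import Cfsg.Agent.Lib.Helper18.TL2AP1W
import Cfsg.Agent.Lib.Helper18.TL2AP2W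
import Cfsg.Agent.Lib.Helper18.TL2THA0W
import Cfsg.Agent.Lib.Helper18.TL2TRANSFERW
import Cfsg.Agent.Lib.Helper3.TLRLOC
import Cfsg.Agent.Lib.Helper5.TLRAsm
import Cfsg.Agent.Lib.Helper5.TLRGen0

set_option autoImplicit false

namespace Cfsg.Agent.Helper5.TLR


variable (p : ℕ) [Fact p.Prime]
variable {R : Type*} [CommRing R] [IsDomain R] [IsDiscreteValuationRing R] [CharZero R] [PUnif R p]

section Contra

variable {G : Type*} [Group G] [Finite G]
variable {M : Type*} [AddCommGroup M] [Module R M] [Module.Free R M] [Module.Finite R M]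

theorem contra [IsAdicComplete (Ideal.span {(p : R)}) R] (ρ : Representation R G M)
    (hirr : ∀ ε : Module.End R M, (∀ g, Commute ε (ρ g)) → ε * ε = ε → ε = 0 ∨ ε = 1)
    (b : Bool) (x : G) (lam : Module.End R M) (hlam : ∀ g, Commute lam (ρ g))
    (v₀ v₁ : M) (h0' : v₀ ∉ botS p b (ρ x)) (h0'' : lam v₀ ∈ botS p b (ρ x))
    (h1 : v₁ ∈ topS p b (ρ x)) (h1' : v₁ ∉ botS p b (ρ x))
    (h1'' : lam v₁ - v₁ ∈ botS p b (ρ x)) : False := by
  rcases unit_or_nilp p ρ hirr lam hlam with ⟨mu, hmu, _, h2⟩ | ⟨k, nu, hk⟩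
  · apply h0'
    have := bot_of_commute p b (hmu x) h0''
    have h3 : mu (lam v₀) = v₀ := by
      have := congrArg (fun f => f v₀) h2
      simpa [Module.End.mul_apply] using this
    rwa [h3] at this
  · apply h1'
    have hpne : (p : R) ≠ 0 := by
      exact_mod_cast (Fact.out : p.Prime).ne_zero
    -- nu commutes with ρ x
    have hnu : Commute nu (ρ x) := by
      have h3 : Commute (lam ^ k) (ρ x) := (hlam x).pow_left k
      rw [hk] at h3
      have h4 : (p : R) • (nu * ρ x) = (p : R) • (ρ x * nu) := by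
        rw [← smul_mul_assoc, ← mul_smul_comm]; exact h3.eq
      have := smul_right_injective (Module.End R M) hpne h4
      exact this
    -- lam^k v₁ - v₁ ∈ bot
    have hind : ∀ j : ℕ, (lam ^ j) v₁ - v₁ ∈ botS p b (ρ x) := by
      intro j
      induction j with
      | zero => simp
      | succ n ih =>
        have e1 : (lam ^ (n + 1)) v₁ - v₁ = lam ((lam ^ n) v₁ - v₁) + (lam v₁ - v₁) := by
          rw [pow_succ', Module.End.mul_apply, map_sub]; abel
        rw [e1]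
        exact Submodule.add_mem _ (bot_of_commute p b (hlam x) ih) h1''
    have h5 : (lam ^ k) v₁ ∈ botS p b (ρ x) := by
      rw [hk, LinearMap.smul_apply]
      exact p_smul_top_mem_bot p b (top_of_commute p b hnu h1)
    have := Submodule.sub_mem _ h5 (hind k)
    simpa using this

end Contra

section Unify

variable {L : Type*} [AddCommGroup L] [Module R L] [Module.Free R L] [Module.Finite R L]

theorem step (b : Bool) (X : Module.End R L) (hX : X ^ p = 1) (ν : Module.End R L)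
    (hν1 : ∀ u ∈ topS p b X, ν u ∈ topS p b X)
    (hν2 : ∀ u ∈ botS p b X, ν u ∈ botS p b X)
    (hν3 : ∀ u ∈ topS p b X, (ν ^ (p - 1)) u - u ∈ botS p b X)
    (hdim : ¬ CyclicQuot p (topS p b X) (botS p b X)) :
    ∃ (φ : Module.End R L) (v₀ v₁ : L), Commute φ X ∧
      (∀ u ∈ topS p b X, ν (φ u) - φ (ν u) ∈ botS p b X) ∧
      v₀ ∈ topS p b X ∧ v₀ ∉ botS p b X ∧ φ v₀ ∈ botS p b X ∧
      v₁ ∈ topS p b X ∧ v₁ ∉ botS p b X ∧ φ v₁ - v₁ ∈ botS p b X := by
  cases b
  · exact step_B p X hX ν hν1 hν2 hν3 hdim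
  · exact step_A p X hX ν hν1 hν2 hν3 hdim

end Unify

section UnifyKey

variable {G : Type*} [Group G] [Finite G]
variable {M : Type*} [AddCommGroup M] [Module R M] [Module.Free R M] [Module.Finite R M]

theorem key (b : Bool) (ρ : Representation R G M) (P : Sylow p G) (hP : Nat.card P = p)
    (x : G) (hx : x ∈ (P : Subgroup G)) (hx1 : x ≠ 1)
    (φ : Module.End R M) (hφ : Commute φ (ρ x))
    (h : ∀ n ∈ Subgroup.normalizer ((P : Subgroup G) : Set G), ∀ v ∈ topS p b (ρ x),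
      ρ n (φ (ρ n⁻¹ v)) - φ v ∈ botS p b (ρ x)) :
    ∃ lam : Module.End R M, (∀ g, Commute lam (ρ g)) ∧
      ∀ v ∈ topS p b (ρ x), lam v - φ v ∈ botS p b (ρ x) := by
  obtain ⟨lam, hlam, hA, hB⟩ := key_transfer p ρ P hP x hx hx1 φ hφ
  refine ⟨lam, hlam, ?_⟩
  cases b
  · exact hB h
  · exact hA h

end UnifyKey

end Cfsg.Agent.Helper5.TLR
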