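import Mathlib
import Cfsg.Agent.Lib.Helper5.TLRDefs
import Cfsg.Agent.Lib.Helper26.TLRW
import Cfsg.Agent.Lib.Helper19.TLS2W
import Cfsg.Agent.Lib.Helper19.TLDIMW
import Cfsg.Agent.Lib.Helper19.TLKEYW
import Cfsg.Agent.Lib.Helper16.TL2FPW
import Cfsg.Agent.Lib.Helper16.TL2PROJW
import Cfsg.Agent.Lib.Helper16.TL2FFW
import Cfsg.Agent.Lib.Helper16.TL2TRFW
import Cfsg.Agent.Lib.Helper16.TL2THB0W
import Cfsg.Agent.Lib.Helper16.TL2TR2W
import Cfsg.Agent.Lib.Helper18.TL2AP1W
import Cfsg.Agent.Lib.Helper18.TL2AP2W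
import Cfsg.Agent.Lib.Helper18.TL2THA0W
import Cfsg.Agent.Lib.Helper18.TL2TRANSFERW
import Cfsg.Agent.Lib.Helper3.TLRLOC
import Cfsg.Agent.Lib.Helper5.TLRAsm
import Cfsg.Agent.Lib.Helper5.TLRGen0
import Cfsg.Agent.Lib.Helper5.TLRGen1

set_option autoImplicit false

/-!
# S4442 lattice side, LAYER C, step 1: the abstract "nontrivial equivariant idempotent" step
-/

namespace Cfsg.Agent.Helper5.TLR

variable (p : ℕ) [Fact p.Prime]
variable {R : Type*} [CommRing R] [IsDomain R] [IsDiscreteValuationRing R] [CharZero R] [PUnif R p]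

section StepIdem

variable {W : Type*} [AddCommGroup W] [Module R W] [Module.Free R W] [Module.Finite R W]

omit [Fact p.Prime] [IsDomain R] [IsDiscreteValuationRing R] [CharZero R] [PUnif R p]
  [Module.Free R W] [Module.Finite R W] in
theorem twist_inv {X ν ν' : Module.End R W} (hνν' : ν * ν' = 1) (hν'ν : ν' * ν = 1)
    (a' : ℕ) (hXν : X * ν = ν * X ^ a') : ν' * X = X ^ a' * ν' := by
  calc ν' * X = ν' * X * (ν * ν') := by rw [hνν', mul_one]
    _ = ν' * (X * ν) * ν' := by simp only [mul_assoc]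
    _ = ν' * (ν * X ^ a') * ν' := by rw [hXν]
    _ = (ν' * ν) * X ^ a' * ν' := by simp only [mul_assoc]
    _ = X ^ a' * ν' := by rw [hν'ν, one_mul]

omit [Fact p.Prime] [IsDomain R] [IsDiscreteValuationRing R] [CharZero R] [PUnif R p]
  [Module.Free R W] [Module.Finite R W] in
theorem commute_inv {T ν ν' : Module.End R W} (hνν' : ν * ν' = 1) (hν'ν : ν' * ν = 1)
    (h : Commute ν T) : Commute ν' T := by
  show ν' * T = T * ν'
  calc ν' * T = ν' * T * (ν * ν') := by rw [hνν', mul_one]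
    _ = ν' * (T * ν) * ν' := by simp only [mul_assoc]
    _ = ν' * (ν * T) * ν' := by rw [h.eq]
    _ = (ν' * ν) * T * ν' := by simp only [mul_assoc]
    _ = T * ν' := by rw [hν'ν, one_mul]

set_option maxHeartbeats 1000000 in
theorem step_idem (b : Bool) (X π ν ν' : Module.End R W) (hX : X ^ p = 1) (hπ : π * π = π)
    (hπX : Commute π X) (hνν' : ν * ν' = 1) (hν'ν : ν' * ν = 1) (hπν : Commute π ν)
    (a : ℕ) (hνX : ν * X = X ^ a * ν) (a' : ℕ) (hXν : X * ν = ν * X ^ a')
    (hνσ : Commute ν (sig p X))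
    (hνp : ∀ w, (ν ^ (p - 1)) (π w) = π w)
    (hLX : ∀ v ∈ LinearMap.range π, X v ∈ LinearMap.range π)
    (hdim : ¬ CyclicQuot p (topS p b (X.restrict hLX : Module.End R (LinearMap.range π)))
      (botS p b (X.restrict hLX : Module.End R (LinearMap.range π)))) :
    ∃ (Ψ : Module.End R W) (v₀ v₁ : W), Ψ * π = Ψ ∧ π * Ψ = Ψ ∧ Commute Ψ X ∧
      (∀ w ∈ topS p b X, ν (Ψ (ν' w)) - Ψ w ∈ botS p b X) ∧
      π v₀ = v₀ ∧ v₀ ∈ topS p b X ∧ v₀ ∉ botS p b X ∧ Ψ v₀ ∈ botS p b X ∧
      π v₁ = v₁ ∧ v₁ ∈ topS p b X ∧ v₁ ∉ botS p b X ∧ Ψ v₁ - v₁ ∈ botS p b X := by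
  classical
  have heL : ∀ v, π v ∈ LinearMap.range π := fun v => ⟨v, rfl⟩
  have heL' : ∀ v ∈ LinearMap.range π, π v = v := by
    rintro _ ⟨m, rfl⟩
    have := congrArg (fun f => f m) hπ
    simpa [Module.End.mul_apply] using this
  have hν'X : ν' * X = X ^ a' * ν' := twist_inv hνν' hν'ν a' hXν
  have hXν' : X * ν' = ν' * X ^ a := by
    calc X * ν' = (ν' * ν) * X * ν' := by rw [hν'ν, one_mul]
      _ = ν' * (ν * X) * ν' := by simp only [mul_assoc]
      _ = ν' * (X ^ a * ν) * ν' := by rw [hνX]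
      _ = ν' * X ^ a * (ν * ν') := by simp only [mul_assoc]
      _ = ν' * X ^ a := by rw [hνν', mul_one]
  have hν'σ : Commute ν' (sig p X) := commute_inv hνν' hν'ν hνσ
  have hπν' : Commute π ν' := (commute_inv hνν' hν'ν hπν.symm).symm
  have hLν : ∀ v ∈ LinearMap.range π, ν v ∈ LinearMap.range π := by
    intro v hv
    rw [← heL' v hv]
    have := congrArg (fun f => f v) hπν.eq
    simp only [Module.End.mul_apply] at this
    rw [← this]
    exact heL _
  have hLν' : ∀ v ∈ LinearMap.range π, ν' v ∈ LinearMap.range π := by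
    intro v hv
    rw [← heL' v hv]
    have := congrArg (fun f => f v) hπν'.eq
    simp only [Module.End.mul_apply] at this
    rw [← this]
    exact heL _
  have hXLp : (X.restrict hLX : Module.End R (LinearMap.range π)) ^ p = 1 := by
    apply LinearMap.ext
    intro w
    apply Subtype.ext
    rw [restrict_pow_coe _ X hLX p w, hX]
    rfl
  obtain ⟨φ, v₀, v₁, hφX, hφν, h0, h0', h0'', h1, h1', h1''⟩ :=
    step p b (X.restrict hLX : Module.End R (LinearMap.range π)) hXLp (ν.restrict hLν)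
      (by
        intro u hu
        rw [restrict_top_iff] at hu ⊢
        exact top_of_twist p b a hνX a' hXν hνσ hu)
      (by
        intro u hu
        apply restrict_bot_of_coe p b _ X π hLX hπX heL heL'
        exact bot_of_twist p b a hνX hνσ (restrict_bot_coe p b _ X hLX u hu))
      (by
        intro u hu
        have e1 : ((ν.restrict hLν : Module.End R (LinearMap.range π)) ^ (p - 1)) u = u := by
          apply Subtype.ext
          rw [restrict_pow_coe]
          have := hνp (u : W)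
          rwa [heL' _ u.2] at this
        rw [e1, sub_self]
        exact Submodule.zero_mem _)
      hdim
  -- the endomorphism Ψ of W
  let Ψ : Module.End R W := (LinearMap.range π).subtype ∘ₗ φ ∘ₗ π.rangeRestrict
  have hΨ0 : ∀ v, Ψ v = ((φ ⟨π v, heL v⟩ : (LinearMap.range π)) : W) := fun v => rfl
  have hΨ1 : ∀ v (hv : v ∈ (LinearMap.range π)), Ψ v = ((φ ⟨v, hv⟩ : (LinearMap.range π)) : W) := by
    intro v hv
    rw [hΨ0]
    congr 2
    exact Subtype.ext (heL' v hv)
  have hΨL : ∀ v, Ψ v ∈ (LinearMap.range π) := fun v => (φ ⟨π v, heL v⟩).2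
  have hΨe : ∀ v, Ψ (π v) = Ψ v := by
    intro v
    rw [hΨ1 (π v) (heL v), hΨ0]
  have hΨX : Commute Ψ X := by
    apply LinearMap.ext
    intro v
    simp only [Module.End.mul_apply]
    rw [hΨ0, hΨ0]
    have h2 : (⟨π (X v), heL _⟩ : (LinearMap.range π)) = (X.restrict hLX) ⟨π v, heL v⟩ := by
      apply Subtype.ext
      have := congrArg (fun f => f v) hπX.eq
      simpa [Module.End.mul_apply] using this
    rw [h2]
    have h3 : φ ((X.restrict hLX) ⟨π v, heL v⟩) = (X.restrict hLX) (φ ⟨π v, heL v⟩) := by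
      have := congrArg (fun f => f (⟨π v, heL v⟩ : (LinearMap.range π))) hφX.eq
      simpa [Module.End.mul_apply] using this
    rw [h3]
    rfl
  refine ⟨Ψ, (v₀ : W), (v₁ : W), ?_, ?_, hΨX, ?_, heL' _ v₀.2, ?_, ?_, ?_, heL' _ v₁.2, ?_, ?_, ?_⟩
  · apply LinearMap.ext
    intro v
    rw [Module.End.mul_apply]
    exact hΨe v
  · apply LinearMap.ext
    intro v
    rw [Module.End.mul_apply]
    exact heL' _ (hΨL v)
  · intro w hw
    -- u = ν' (π w) ∈ L ∩ top
    have hπw : π w ∈ topS p b X := top_of_commute p b hπX hw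
    have hu : ν' (π w) ∈ topS p b X := top_of_twist p b a' hν'X a hXν' hν'σ hπw
    have huL : ν' (π w) ∈ LinearMap.range π := hLν' _ (heL w)
    have hu' : (⟨ν' (π w), huL⟩ : LinearMap.range π) ∈
        topS p b (X.restrict hLX : Module.End R (LinearMap.range π)) := by
      rw [restrict_top_iff]
      exact hu
    have key := restrict_bot_coe p b _ X hLX _ (hφν _ hu')
    -- rewrite
    have e1 : Ψ (ν' w) = ((φ ⟨ν' (π w), huL⟩ : (LinearMap.range π)) : W) := by
      rw [hΨ0]
      congr 2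
      apply Subtype.ext
      have := congrArg (fun f => f w) hπν'.eq
      simpa [Module.End.mul_apply] using this
    have e2 : (ν.restrict hLν) (⟨ν' (π w), huL⟩ : LinearMap.range π) = ⟨π w, heL w⟩ := by
      apply Subtype.ext
      show ν (ν' (π w)) = π w
      have := congrArg (fun f => f (π w)) hνν'
      simpa [Module.End.mul_apply] using this
    rw [e2] at key
    have e3 : Ψ w = ((φ ⟨π w, heL w⟩ : (LinearMap.range π)) : W) := hΨ0 w
    rw [e1, e3]
    exact key
  · exact (restrict_top_iff p b _ X hLX v₀).1 h0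
  · intro hcon
    exact h0' (restrict_bot_of_coe p b _ X π hLX hπX heL heL' v₀ hcon)
  · rw [hΨ1 _ v₀.2]
    exact restrict_bot_coe p b _ X hLX _ h0''
  · exact (restrict_top_iff p b _ X hLX v₁).1 h1
  · intro hcon
    exact h1' (restrict_bot_of_coe p b _ X π hLX hπX heL heL' v₁ hcon)
  · rw [hΨ1 _ v₁.2]
    exact restrict_bot_coe p b _ X hLX _ h1''

end StepIdem

end Cfsg.Agent.Helper5.TLR
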