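import Mathlib
import Cfsg.Agent.Lib.Helper5.TLRDefs
import Cfsg.Agent.Lib.Helper26.TLRW
import Cfsg.Agent.Lib.Helper19.TLS2W
import Cfsg.Agent.Lib.Helper19.TLDIMW
import Cfsg.Agent.Lib.Helper19.TLKEYW
import Cfsg.Agent.Lib.Helper16.TL2FPW
import Cfsg.Agent.Lib.Helper16.TL2PROJW
import Cfsg.Agent.Lib.Helper16.TL2FFW
import Cfsg.Agent.Lib.Helper16.TL2TRFW
import Cfsg.Agent.Lib.Helper16.TL2THB0W
import Cfsg.Agent.Lib.Helper16.TL2TR2W
import Cfsg.Agent.Lib.Helper18.TL2AP1W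
import Cfsg.Agent.Lib.Helper18.TL2AP2W
import Cfsg.Agent.Lib.Helper18.TL2THA0W
import Cfsg.Agent.Lib.Helper18.TL2TRANSFERW
import Cfsg.Agent.Lib.Helper3.TLRLOC
import Cfsg.Agent.Lib.Helper5.TLRAsm
import Cfsg.Agent.Lib.Helper5.TLRGen0
import Cfsg.Agent.Lib.Helper5.TLRGen1
import Cfsg.Agent.Lib.Helper5.TLRHomDefs
import Cfsg.Agent.Lib.Helper5.TLRHom
import Cfsg.Agent.Lib.Helper28.TLCHOMPTR
import Cfsg.Agent.Lib.Helper28.TLCHOMTB
import Cfsg.Agent.Lib.Helper28.TLCHOMTR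
import Cfsg.Agent.Lib.Helper23.TLCHOMEV
import Cfsg.Agent.Lib.Helper23.TLCNAVG
import Cfsg.Agent.Lib.Helper5.TLRAvg
import Cfsg.Agent.Lib.Helper5.TLRMainA

set_option autoImplicit false

/-!
# S4442 lattice side, LAYER C: the general Thompson lattice lemma
-/

namespace Cfsg.Agent.Helper5.TLR

variable (p : ℕ) [Fact p.Prime]
variable {R : Type*} [CommRing R] [IsDomain R] [IsDiscreteValuationRing R] [CharZero R] [PUnif R p]

section HomRep

variable {U : Type*} [AddCommGroup U] [Module R U]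
variable {M : Type*} [AddCommGroup M] [Module R M]
variable {K : Type*} [Group K] [Fintype K]

omit [IsDomain R] [IsDiscreteValuationRing R] [CharZero R] [Fintype K] in
theorem post_mul_pre_eq_linHom (σ : Representation R K M) (𝔛 : Representation R K U) (k : K) :
    post U (σ k) * pre M (𝔛 k⁻¹) = Representation.linHom 𝔛 σ k := by
  ext ψ u
  simp [Representation.linHom_apply]

omit [IsDomain R] [IsDiscreteValuationRing R] [CharZero R] in
theorem avgK_eq_avgOp (u₀ : R) (σ : Representation R K M) (𝔛 : Representation R K U) :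
    avgK u₀ σ 𝔛 = avgOp u₀ (Representation.linHom 𝔛 σ) := by
  unfold avgK avgOp
  congr 1

omit [IsDomain R] [IsDiscreteValuationRing R] [CharZero R] in
theorem mem_range_avgK_iff (u₀ : R) (hu₀ : u₀ * (Fintype.card K : R) = 1)
    (σ : Representation R K M) (𝔛 : Representation R K U) (ψ : U →ₗ[R] M) :
    ψ ∈ LinearMap.range (avgK u₀ σ 𝔛) ↔ ∀ k, σ k ∘ₗ ψ = ψ ∘ₗ 𝔛 k := by
  rw [avgK_eq_avgOp, mem_range_avgOp_iff u₀ hu₀]
  constructor
  · intro h k
    have h1 := h k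
    rw [Representation.linHom_apply] at h1
    -- σ k ∘ ψ ∘ 𝔛 k⁻¹ = ψ
    have h2 : (σ k ∘ₗ ψ ∘ₗ 𝔛 k⁻¹) ∘ₗ 𝔛 k = ψ ∘ₗ 𝔛 k := by rw [h1]
    rw [← h2]
    ext u
    simp only [LinearMap.comp_apply]
    rw [← Module.End.mul_apply (𝔛 k⁻¹), ← map_mul, inv_mul_cancel, map_one]
    rfl
  · intro h k
    rw [Representation.linHom_apply]
    ext u
    simp only [LinearMap.comp_apply]
    have h1 := congrArg (fun f => f (𝔛 k⁻¹ u)) (h k)
    simp only [LinearMap.comp_apply] at h1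
    rw [h1, ← Module.End.mul_apply (𝔛 k), ← map_mul, mul_inv_cancel, map_one]
    rfl

end HomRep

section PtrLemmas

variable {U : Type*} [AddCommGroup U] [Module R U]
variable {M : Type*} [AddCommGroup M] [Module R M]
variable {ι : Type*} [Fintype ι] [DecidableEq ι] (bU : Module.Basis ι R U)

omit [IsDomain R] [IsDiscreteValuationRing R] [CharZero R] [DecidableEq ι] in
theorem commute_ptr_of_commute_post {Ψ : Module.End R (U →ₗ[R] M)} {B : Module.End R M}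
    (h : Commute Ψ (post U B)) : Commute (ptr bU Ψ) B := by
  show ptr bU Ψ * B = B * ptr bU Ψ
  rw [← ptr_mul_post, ← ptr_post_mul, h.eq]

omit [IsDomain R] [IsDiscreteValuationRing R] [CharZero R] in
/-- if `post B * pre A⁻¹` fixes `Ψ` on both sides then `ptr Ψ` commutes with `B`. -/
theorem commute_ptr_of_fixed {Ψ : Module.End R (U →ₗ[R] M)} {B : Module.End R M}
    {A : Module.End R U} (h1 : (post U B * pre M A) * Ψ = Ψ) (h2 : Ψ * (post U B * pre M A) = Ψ) :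
    Commute (ptr bU Ψ) B := by
  have e1 : B * ptr bU (pre M A * Ψ) = ptr bU Ψ := by
    rw [← ptr_post_mul, ← mul_assoc, h1]
  have e2 : ptr bU (Ψ * pre M A) * B = ptr bU Ψ := by
    rw [← ptr_mul_post, mul_assoc, ← (post_pre_comm B A).eq, h2]
  rw [ptr_pre_mul] at e1
  show ptr bU Ψ * B = B * ptr bU Ψ
  calc ptr bU Ψ * B = B * ptr bU (Ψ * pre M A) * B := by rw [e1]
    _ = B * (ptr bU (Ψ * pre M A) * B) := by rw [mul_assoc]
    _ = B * ptr bU Ψ := by rw [e2]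

end PtrLemmas

section Main

variable {G : Type*} [Group G] [Finite G]
variable {M : Type*} [AddCommGroup M] [Module R M] [Module.Free R M] [Module.Finite R M]
variable {U : Type*} [AddCommGroup U] [Module R U] [Module.Free R U] [Module.Finite R U]

omit [Fact p.Prime] [IsDomain R] [IsDiscreteValuationRing R] [CharZero R] [PUnif R p] [Finite G]
  [Module.Free R M] [Module.Finite R M] [Module.Free R U] [Module.Finite R U] in
theorem rho_inv_mul (ρ : Representation R G M) (g : G) : ρ g⁻¹ * ρ g = 1 := by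
  rw [← map_mul, inv_mul_cancel, map_one]

omit [Fact p.Prime] [IsDomain R] [IsDiscreteValuationRing R] [CharZero R] [PUnif R p] [Finite G]
  [Module.Free R M] [Module.Finite R M] [Module.Free R U] [Module.Finite R U] in
theorem rho_mul_inv (ρ : Representation R G M) (g : G) : ρ g * ρ g⁻¹ = 1 := by
  rw [← map_mul, mul_inv_cancel, map_one]

set_option maxHeartbeats 2000000 in
theorem cyclic_gen [IsAdicComplete (Ideal.span {(p : R)}) R] (b : Bool) (ρ : Representation R G M)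
    (hirr : ∀ ε : Module.End R M, (∀ g, Commute ε (ρ g)) → ε * ε = ε → ε = 0 ∨ ε = 1)
    (P : Sylow p G) (hP : Nat.card P = p) (K : Subgroup G) [Fintype K]
    (hKC : ∀ k ∈ K, ∀ u ∈ (P : Subgroup G), k * u = u * k)
    (hKN : ∀ n ∈ Subgroup.normalizer ((P : Subgroup G) : Set G), ∀ k ∈ K, n * k * n⁻¹ ∈ K)
    (hC : ∀ c : G, (∀ u ∈ (P : Subgroup G), c * u = u * c) →
      ∃ u k : G, u ∈ (P : Subgroup G) ∧ k ∈ K ∧ c = u * k)
    (n₀ : G) (hn₀ : n₀ ∈ Subgroup.normalizer ((P : Subgroup G) : Set G))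
    (hgen : ∀ n ∈ Subgroup.normalizer ((P : Subgroup G) : Set G),
      ∃ (i : ℕ) (c : G), (∀ u ∈ (P : Subgroup G), c * u = u * c) ∧ n = n₀ ^ i * c)
    (x : G) (hx : x ∈ (P : Subgroup G)) (hx1 : x ≠ 1)
    (𝔛 : Representation R K U)
    (hEnd : ∀ φ : Module.End R U, (∀ k, Commute φ (𝔛 k)) → ∃ c : R, φ = c • 1)
    (s : ℕ) (hs : 0 < s) (A A' : Module.End R U) (hAA' : A * A' = 1) (hA'A : A' * A = 1)
    (hA : ∀ k k' : K, (k' : G) = n₀ ^ s * k * (n₀ ^ s)⁻¹ → A * 𝔛 k = 𝔛 k' * A)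
    (k₁ : K) (hk₁ : (k₁ : G) = (n₀ ^ s) ^ (p - 1)) (hA1 : A ^ (p - 1) = 𝔛 k₁)
    (hne : ∀ r, 0 < r → r < s → ∀ φ : Module.End R U,
      (∀ k k' : K, (k' : G) = n₀ ^ r * k * (n₀ ^ r)⁻¹ → φ * 𝔛 k = 𝔛 k' * φ) → φ = 0)
    (u₀ : R) (hu₀ : u₀ * (Fintype.card K : R) = 1)
    (hLX : ∀ v ∈ LinearMap.range (avgK u₀ (ρ.comp K.subtype) 𝔛),
      post U (ρ x) v ∈ LinearMap.range (avgK u₀ (ρ.comp K.subtype) 𝔛)) :
    CyclicQuot p (topS p b ((post U (ρ x)).restrict hLX :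
        Module.End R (LinearMap.range (avgK u₀ (ρ.comp K.subtype) 𝔛))))
      (botS p b ((post U (ρ x)).restrict hLX :
        Module.End R (LinearMap.range (avgK u₀ (ρ.comp K.subtype) 𝔛)))) := by
  classical
  by_contra hdim
  set σ : Representation R K M := ρ.comp K.subtype with hσ
  have hσk : ∀ k : K, σ k = ρ (k : G) := fun k => rfl
  set π := avgK u₀ σ 𝔛 with hπdef
  have hπop : π = avgOp u₀ (Representation.linHom 𝔛 σ) := avgK_eq_avgOp u₀ σ 𝔛
  set t₀ := n₀ ^ s with ht₀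
  have ht₀N : t₀ ∈ Subgroup.normalizer ((P : Subgroup G) : Set G) := Subgroup.pow_mem _ hn₀ s
  have ht₀N' : t₀⁻¹ ∈ Subgroup.normalizer ((P : Subgroup G) : Set G) := Subgroup.inv_mem _ ht₀N
  set ν : Module.End R (U →ₗ[R] M) := post U (ρ t₀) * pre M A' with hν
  set ν' : Module.End R (U →ₗ[R] M) := post U (ρ t₀⁻¹) * pre M A with hν'
  have hπ2 : π * π = π := by rw [hπop]; exact avgOp_idem u₀ hu₀ _
  have hXp : (ρ x) ^ p = 1 := by
    rw [← map_pow, pow_p_eq_one p P hP x hx, map_one]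
  have hX'p : (post U (ρ x) : Module.End R (U →ₗ[R] M)) ^ p = 1 := by
    rw [← post_pow, hXp, post_one]
  have hxk : ∀ k : K, Commute (ρ x) (σ k) := by
    intro k
    show ρ x * ρ (k : G) = ρ (k : G) * ρ x
    rw [← map_mul, ← map_mul, hKC k k.2 x hx]
  have hπX : Commute π (post U (ρ x)) := by
    rw [hπop]
    apply Commute.symm
    apply commute_avgOp
    intro k
    rw [← post_mul_pre_eq_linHom]
    exact (post_commute (hxk k)).mul_right (post_pre_comm _ _)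
  have hpreAA' : pre M A' * pre M A = (1 : Module.End R (U →ₗ[R] M)) := by
    rw [← pre_mul, hAA', pre_one]
  have hpreA'A : pre M A * pre M A' = (1 : Module.End R (U →ₗ[R] M)) := by
    rw [← pre_mul, hA'A, pre_one]
  have hνν' : ν * ν' = 1 := by
    rw [hν, hν']
    calc post U (ρ t₀) * pre M A' * (post U (ρ t₀⁻¹) * pre M A)
        = post U (ρ t₀) * (pre M A' * post U (ρ t₀⁻¹)) * pre M A := by simp only [mul_assoc]
      _ = post U (ρ t₀) * (post U (ρ t₀⁻¹) * pre M A') * pre M A := by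
          rw [(post_pre_comm (ρ t₀⁻¹) A').eq]
      _ = (post U (ρ t₀) * post U (ρ t₀⁻¹)) * (pre M A' * pre M A) := by simp only [mul_assoc]
      _ = 1 := by rw [← post_mul, rho_mul_inv, post_one, hpreAA', mul_one]
  have hν'ν : ν' * ν = 1 := by
    rw [hν, hν']
    calc post U (ρ t₀⁻¹) * pre M A * (post U (ρ t₀) * pre M A')
        = post U (ρ t₀⁻¹) * (pre M A * post U (ρ t₀)) * pre M A' := by simp only [mul_assoc]
      _ = post U (ρ t₀⁻¹) * (post U (ρ t₀) * pre M A) * pre M A' := by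
          rw [(post_pre_comm (ρ t₀) A).eq]
      _ = (post U (ρ t₀⁻¹) * post U (ρ t₀)) * (pre M A * pre M A') := by simp only [mul_assoc]
      _ = 1 := by rw [← post_mul, rho_inv_mul, post_one, hpreA'A, mul_one]
  -- conjugation by t₀ on K
  let cK : K ≃ K :=
    { toFun := fun k => ⟨t₀ * k * t₀⁻¹, hKN t₀ ht₀N k k.2⟩
      invFun := fun k => ⟨t₀⁻¹ * k * t₀, by
        have := hKN t₀⁻¹ ht₀N' k k.2
        simpa using this⟩
      left_inv := fun k => by
        apply Subtype.ext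
        show t₀⁻¹ * (t₀ * (k : G) * t₀⁻¹) * t₀ = k
        group
      right_inv := fun k => by
        apply Subtype.ext
        show t₀ * (t₀⁻¹ * (k : G) * t₀) * t₀⁻¹ = k
        group }
  have hcK : ∀ k : K, ((cK k : K) : G) = t₀ * k * t₀⁻¹ := fun k => rfl
  have hA'tw : ∀ k : K, 𝔛 k⁻¹ * A' = A' * 𝔛 (cK k)⁻¹ := by
    intro k
    have h1 : A * 𝔛 k⁻¹ = 𝔛 (cK k)⁻¹ * A := by
      apply hA
      show (((cK k)⁻¹ : K) : G) = t₀ * ((k⁻¹ : K) : G) * t₀⁻¹
      rw [Subgroup.coe_inv, hcK, Subgroup.coe_inv]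
      group
    calc 𝔛 k⁻¹ * A' = (A' * A) * 𝔛 k⁻¹ * A' := by rw [hA'A, one_mul]
      _ = A' * (A * 𝔛 k⁻¹) * A' := by simp only [mul_assoc]
      _ = A' * (𝔛 (cK k)⁻¹ * A) * A' := by rw [h1]
      _ = A' * 𝔛 (cK k)⁻¹ * (A * A') := by simp only [mul_assoc]
      _ = A' * 𝔛 (cK k)⁻¹ := by rw [hAA', mul_one]
  have hπν : Commute π ν := by
    rw [hπop]
    apply Commute.symm
    apply commute_avgOp_of_perm u₀ _ ν cK
    intro k
    rw [← post_mul_pre_eq_linHom, ← post_mul_pre_eq_linHom, hν]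
    have e1 : ρ t₀ * σ k = σ (cK k) * ρ t₀ := by
      rw [hσk, hσk, hcK, ← map_mul, ← map_mul]
      congr 1
      group
    calc post U (ρ t₀) * pre M A' * (post U (σ k) * pre M (𝔛 k⁻¹))
        = post U (ρ t₀) * (pre M A' * post U (σ k)) * pre M (𝔛 k⁻¹) := by simp only [mul_assoc]
      _ = post U (ρ t₀) * (post U (σ k) * pre M A') * pre M (𝔛 k⁻¹) := by
          rw [(post_pre_comm (σ k) A').eq]
      _ = (post U (ρ t₀) * post U (σ k)) * (pre M A' * pre M (𝔛 k⁻¹)) := by simp only [mul_assoc]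
      _ = post U (σ (cK k) * ρ t₀) * pre M (A' * 𝔛 (cK k)⁻¹) := by
          rw [← post_mul, e1, ← pre_mul, hA'tw]
      _ = (post U (σ (cK k)) * post U (ρ t₀)) * (pre M (𝔛 (cK k)⁻¹) * pre M A') := by
          rw [post_mul, pre_mul]
      _ = post U (σ (cK k)) * (post U (ρ t₀) * pre M (𝔛 (cK k)⁻¹)) * pre M A' := by
          simp only [mul_assoc]
      _ = post U (σ (cK k)) * (pre M (𝔛 (cK k)⁻¹) * post U (ρ t₀)) * pre M A' := by
          rw [(post_pre_comm (ρ t₀) (𝔛 (cK k)⁻¹)).eq]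
      _ = post U (σ (cK k)) * pre M (𝔛 (cK k)⁻¹) * (post U (ρ t₀) * pre M A') := by
          simp only [mul_assoc]
  obtain ⟨⟨a, ha⟩, ⟨a', ha'⟩, hsig⟩ := rho_twist p ρ P hP x hx hx1 t₀ ht₀N
  have hνX : ν * post U (ρ x) = post U (ρ x) ^ a * ν := by
    rw [hν]
    calc post U (ρ t₀) * pre M A' * post U (ρ x)
        = post U (ρ t₀) * (pre M A' * post U (ρ x)) := by rw [mul_assoc]
      _ = post U (ρ t₀) * (post U (ρ x) * pre M A') := by rw [(post_pre_comm (ρ x) A').eq]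
      _ = post U (ρ t₀ * ρ x) * pre M A' := by rw [post_mul, mul_assoc]
      _ = post U (ρ x) ^ a * (post U (ρ t₀) * pre M A') := by
          rw [ha, post_mul, post_pow, mul_assoc]
  have hXν : post U (ρ x) * ν = ν * post U (ρ x) ^ a' := by
    rw [hν]
    calc post U (ρ x) * (post U (ρ t₀) * pre M A')
        = post U (ρ x * ρ t₀) * pre M A' := by rw [post_mul, mul_assoc]
      _ = post U (ρ t₀) * (post U (ρ x) ^ a' * pre M A') := by
          rw [ha', post_mul, post_pow, mul_assoc]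
      _ = post U (ρ t₀) * (pre M A' * post U (ρ x) ^ a') := by
          rw [((post_pre_comm (ρ x) A').pow_left a').eq]
      _ = post U (ρ t₀) * pre M A' * post U (ρ x) ^ a' := by rw [mul_assoc]
  have hνσ : Commute ν (sig p (post U (ρ x))) := by
    rw [sig_post, hν]
    exact (post_commute hsig).mul_left (post_pre_comm _ _).symm
  have hA'pow : A' ^ (p - 1) = 𝔛 k₁⁻¹ := by
    have hc : Commute A' A := by
      show A' * A = A * A'
      rw [hA'A, hAA']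
    have h1 : A' ^ (p - 1) * A ^ (p - 1) = 1 := by
      rw [← hc.mul_pow, hA'A, one_pow]
    calc A' ^ (p - 1) = A' ^ (p - 1) * (𝔛 k₁ * 𝔛 k₁⁻¹) := by
          rw [← map_mul, mul_inv_cancel, map_one, mul_one]
      _ = (A' ^ (p - 1) * A ^ (p - 1)) * 𝔛 k₁⁻¹ := by rw [hA1, mul_assoc]
      _ = 𝔛 k₁⁻¹ := by rw [h1, one_mul]
  have hνp : ∀ w, (ν ^ (p - 1)) (π w) = π w := by
    intro w
    have h1 : ν ^ (p - 1) = Representation.linHom 𝔛 σ k₁ := by
      rw [hν, (post_pre_comm (ρ t₀) A').mul_pow, ← post_pow, ← pre_pow, hA'pow, ← map_pow,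
        ← post_mul_pre_eq_linHom, hσk, hk₁]
    rw [h1, hπop]
    exact rep_avgOp_apply u₀ _ k₁ w
  obtain ⟨Ψ, v₀, v₁, hΨπ, hπΨ, hΨX, hΨν, hπv₀, hv₀T, hv₀B, hΨv₀, hπv₁, hv₁T, hv₁B, hΨv₁⟩ :=
    step_idem p b (post U (ρ x)) π ν ν' hX'p hπ2 hπX hνν' hν'ν hπν a hνX a' hXν hνσ hνp hLX hdim
  -- the basis of U and the endomorphism Φ of M
  let bU := Module.Free.chooseBasis R U
  set nU : R := (Module.finrank R U : R) with hnU
  set Φ : Module.End R M := nU • ptr bU Ψ with hΦ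
  have hΦx : Commute Φ (ρ x) := (commute_ptr_of_commute_post bU hΨX).smul_left nU
  have hτΨ : ∀ k : K, (post U (σ k) * pre M (𝔛 k⁻¹)) * Ψ = Ψ := by
    intro k
    rw [post_mul_pre_eq_linHom]
    calc Representation.linHom 𝔛 σ k * Ψ = Representation.linHom 𝔛 σ k * (π * Ψ) := by rw [hπΨ]
      _ = (Representation.linHom 𝔛 σ k * π) * Ψ := by rw [mul_assoc]
      _ = π * Ψ := by rw [hπop, rep_mul_avgOp]
      _ = Ψ := hπΨ
  have hΨτ : ∀ k : K, Ψ * (post U (σ k) * pre M (𝔛 k⁻¹)) = Ψ := by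
    intro k
    rw [post_mul_pre_eq_linHom]
    calc Ψ * Representation.linHom 𝔛 σ k = (Ψ * π) * Representation.linHom 𝔛 σ k := by rw [hΨπ]
      _ = Ψ * (π * Representation.linHom 𝔛 σ k) := by rw [mul_assoc]
      _ = Ψ * π := by rw [hπop, avgOp_mul_rep]
      _ = Ψ := hΨπ
  have hΦK : ∀ k ∈ K, Commute Φ (ρ k) := by
    intro k hk
    have := commute_ptr_of_fixed bU (hτΨ ⟨k, hk⟩) (hΨτ ⟨k, hk⟩)
    exact this.smul_left nU
  have hpost_t₀ : post U (ρ t₀) = ν * pre M A := by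
    rw [hν, mul_assoc, hpreAA', mul_one]
  have hpost_t₀' : post U (ρ t₀⁻¹) = pre M A' * ν' := by
    rw [hν', ← mul_assoc, ← (post_pre_comm (ρ t₀⁻¹) A').eq, mul_assoc, hpreAA', mul_one]
  have hc1 : Commute (pre M A : Module.End R (U →ₗ[R] M)) ν := by
    rw [hν]
    refine Commute.mul_right (post_pre_comm _ _).symm ?_
    show pre M A * pre M A' = pre M A' * pre M A
    rw [hpreA'A, hpreAA']
  have hc2 : Commute (pre M A' : Module.End R (U →ₗ[R] M)) ν' := by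
    rw [hν']
    refine Commute.mul_right (post_pre_comm _ _).symm ?_
    show pre M A' * pre M A = pre M A * pre M A'
    rw [hpreA'A, hpreAA']
  have hconj : ρ t₀ * ptr bU Ψ * ρ t₀⁻¹ = ptr bU (ν * Ψ * ν') := by
    rw [← ptr_post_mul, ← ptr_mul_post, hpost_t₀, hpost_t₀']
    have e1 : ν * pre M A * Ψ * (pre M A' * ν') = pre M A * ((ν * Ψ * ν') * pre M A') := by
      rw [← hc1.eq, hc2.eq]
      simp only [mul_assoc]
    rw [e1, ptr_pre_mul]
    congr 1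
    rw [mul_assoc (ν * Ψ * ν'), hpreAA', mul_one]
  have hΦt : ∀ v ∈ topS p b (ρ x), ρ t₀ (Φ (ρ t₀⁻¹ v)) - Φ v ∈ botS p b (ρ x) := by
    intro v hv
    have e1 : ρ t₀ (Φ (ρ t₀⁻¹ v)) - Φ v = nU • (ptr bU (ν * Ψ * ν' - Ψ) v) := by
      rw [ptr_sub, ← hconj, hΦ]
      simp only [Module.End.mul_apply, LinearMap.smul_apply, LinearMap.sub_apply, map_smul,
        smul_sub]
    rw [e1]
    apply Submodule.smul_mem
    rw [ptr_apply]
    apply Submodule.sum_mem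
    intro i _
    apply apply_mem_bot p b (ρ x)
    have hw := smulRight_mem_top (U := U) p b (ρ x) (bU.coord i) v hv
    have := hΨν _ hw
    simpa only [LinearMap.sub_apply, Module.End.mul_apply] using this
  obtain ⟨hΦtx, hΦtN⟩ :=
    navg_equivariant p b ρ P hP K hKN hC n₀ hn₀ hgen x hx hx1 Φ hΦx hΦK s hs hΦt
  set Φt : Module.End R M := ∑ r ∈ Finset.range s, ρ (n₀ ^ r) * Φ * ρ (n₀ ^ r)⁻¹ with hΦtdef
  obtain ⟨lam, hlam, hl⟩ := key p b ρ P hP x hx hx1 Φt hΦtx hΦtN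
  have hKhom : ∀ ψ : U →ₗ[R] M, π ψ = ψ → ∀ k, σ k ∘ₗ ψ = ψ ∘ₗ 𝔛 k := by
    intro ψ hψ
    exact (mem_range_avgK_iff u₀ hu₀ σ 𝔛 ψ).1 ⟨ψ, hψ⟩
  have hΦev : ∀ ψ : U →ₗ[R] M, π ψ = ψ → ∀ u, Φ (ψ u) = Ψ ψ u := by
    intro ψ hψ u
    rw [hΦ, LinearMap.smul_apply]
    exact ptr_ev bU u₀ hu₀ σ 𝔛 hEnd Ψ hΨπ ψ (hKhom ψ hψ) u
  have hΦtw : ∀ r, 0 < r → r < s → ∀ ψ : U →ₗ[R] M, π ψ = ψ → ∀ u,
      Φ (ρ (n₀ ^ r)⁻¹ (ψ u)) = 0 := by
    intro r hr0 hrs ψ hψ u
    have hnr : n₀ ^ r ∈ Subgroup.normalizer ((P : Subgroup G) : Set G) :=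
      Subgroup.pow_mem _ hn₀ r
    let α : K →* K :=
      { toFun := fun k => ⟨n₀ ^ r * k * (n₀ ^ r)⁻¹, hKN _ hnr k k.2⟩
        map_one' := by
          apply Subtype.ext
          show n₀ ^ r * ((1 : K) : G) * (n₀ ^ r)⁻¹ = ((1 : K) : G)
          simp
        map_mul' := fun k k' => by
          apply Subtype.ext
          show n₀ ^ r * ((k * k' : K) : G) * (n₀ ^ r)⁻¹ =
            (n₀ ^ r * (k : G) * (n₀ ^ r)⁻¹) * (n₀ ^ r * (k' : G) * (n₀ ^ r)⁻¹)
          rw [Subgroup.coe_mul]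
          group }
    have hα : ∀ k : K, ((α k : K) : G) = n₀ ^ r * k * (n₀ ^ r)⁻¹ := fun k => rfl
    have hneα : ∀ φ : Module.End R U, (∀ k, φ * 𝔛 k = 𝔛 (α k) * φ) → φ = 0 := by
      intro φ h
      apply hne r hr0 hrs φ
      intro k k' hk'
      have : k' = α k := Subtype.ext hk'
      rw [this]
      exact h k
    have hψr : ∀ k, σ k ∘ₗ (post U (ρ (n₀ ^ r)⁻¹) ψ) = (post U (ρ (n₀ ^ r)⁻¹) ψ) ∘ₗ 𝔛 (α k) := by
      intro k
      ext u'
      simp only [LinearMap.comp_apply, post_apply]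
      have h1 := congrArg (fun f => f u') (hKhom ψ hψ (α k))
      simp only [LinearMap.comp_apply] at h1
      rw [← h1, hσk, hσk, ← Module.End.mul_apply, ← Module.End.mul_apply, ← map_mul, ← map_mul,
        hα]
      congr 2
      group
    have h2 := ptr_ev_twist bU u₀ σ 𝔛 α hneα Ψ hΨπ _ hψr u
    rw [hΦ, LinearMap.smul_apply]
    rw [show ρ (n₀ ^ r)⁻¹ (ψ u) = (post U (ρ (n₀ ^ r)⁻¹) ψ) u from rfl, h2, smul_zero]
  have hΦtev : ∀ ψ : U →ₗ[R] M, π ψ = ψ → ∀ u, Φt (ψ u) = Ψ ψ u := by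
    intro ψ hψ u
    rw [hΦtdef, LinearMap.sum_apply, Finset.sum_eq_single 0]
    · simp only [pow_zero, inv_one, map_one, one_mul, mul_one]
      exact hΦev ψ hψ u
    · intro r hr hr0
      simp only [Module.End.mul_apply]
      rw [hΦtw r (Nat.pos_of_ne_zero hr0) (Finset.mem_range.1 hr) ψ hψ u, map_zero]
    · intro h
      exact absurd (Finset.mem_range.2 hs) h
  obtain ⟨i₀, hi₀⟩ : ∃ i, v₀ (bU i) ∉ botS p b (ρ x) := by
    by_contra hcon
    push_neg at hcon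
    exact hv₀B (mem_bot_of_apply p b (ρ x) bU v₀ hcon)
  obtain ⟨i₁, hi₁⟩ : ∃ i, v₁ (bU i) ∉ botS p b (ρ x) := by
    by_contra hcon
    push_neg at hcon
    exact hv₁B (mem_bot_of_apply p b (ρ x) bU v₁ hcon)
  have hw₀T : v₀ (bU i₀) ∈ topS p b (ρ x) := apply_mem_top p b (ρ x) v₀ hv₀T _
  have hw₁T : v₁ (bU i₁) ∈ topS p b (ρ x) := apply_mem_top p b (ρ x) v₁ hv₁T _
  refine contra p ρ hirr b x lam hlam (v₀ (bU i₀)) (v₁ (bU i₁)) hi₀ ?_ hw₁T hi₁ ?_
  · have h1 := hl _ hw₀T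
    rw [hΦtev v₀ hπv₀] at h1
    have h2 := apply_mem_bot p b (ρ x) (Ψ v₀) hΨv₀ (bU i₀)
    have := Submodule.add_mem _ h1 h2
    simpa using this
  · have h1 := hl _ hw₁T
    rw [hΦtev v₁ hπv₁] at h1
    have h2 := apply_mem_bot p b (ρ x) (Ψ v₁ - v₁) hΨv₁ (bU i₁)
    have := Submodule.add_mem _ h1 h2
    simpa using this

set_option maxHeartbeats 1000000 in
/-- **The general Thompson lattice lemma.** -/
theorem thompson_gen [IsAdicComplete (Ideal.span {(p : R)}) R] (ρ : Representation R G M)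
    (hirr : ∀ ε : Module.End R M, (∀ g, Commute ε (ρ g)) → ε * ε = ε → ε = 0 ∨ ε = 1)
    (P : Sylow p G) (hP : Nat.card P = p) (K : Subgroup G) [Fintype K]
    (hKp : ¬ p ∣ Fintype.card K)
    (hKC : ∀ k ∈ K, ∀ u ∈ (P : Subgroup G), k * u = u * k)
    (hKN : ∀ n ∈ Subgroup.normalizer ((P : Subgroup G) : Set G), ∀ k ∈ K, n * k * n⁻¹ ∈ K)
    (hC : ∀ c : G, (∀ u ∈ (P : Subgroup G), c * u = u * c) →
      ∃ u k : G, u ∈ (P : Subgroup G) ∧ k ∈ K ∧ c = u * k)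
    (n₀ : G) (hn₀ : n₀ ∈ Subgroup.normalizer ((P : Subgroup G) : Set G))
    (hgen : ∀ n ∈ Subgroup.normalizer ((P : Subgroup G) : Set G),
      ∃ (i : ℕ) (c : G), (∀ u ∈ (P : Subgroup G), c * u = u * c) ∧ n = n₀ ^ i * c)
    (x : G) (hx : x ∈ (P : Subgroup G)) (hx1 : x ≠ 1)
    (𝔛 : Representation R K U)
    (hEnd : ∀ φ : Module.End R U, (∀ k, Commute φ (𝔛 k)) → ∃ c : R, φ = c • 1)
    (s : ℕ) (hs : 0 < s) (A A' : Module.End R U) (hAA' : A * A' = 1) (hA'A : A' * A = 1)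
    (hA : ∀ k k' : K, (k' : G) = n₀ ^ s * k * (n₀ ^ s)⁻¹ → A * 𝔛 k = 𝔛 k' * A)
    (k₁ : K) (hk₁ : (k₁ : G) = (n₀ ^ s) ^ (p - 1)) (hA1 : A ^ (p - 1) = 𝔛 k₁)
    (hne : ∀ r, 0 < r → r < s → ∀ φ : Module.End R U,
      (∀ k k' : K, (k' : G) = n₀ ^ r * k * (n₀ ^ r)⁻¹ → φ * 𝔛 k = 𝔛 k' * φ) → φ = 0) :
    ∃ t : ℤ, (t = -1 ∨ t = 0 ∨ t = 1) ∧
      ∑ k : K, LinearMap.trace R U (𝔛 k⁻¹) * LinearMap.trace R M (ρ (x * k)) =
        (Fintype.card K : R) * (t : R) := by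
  classical
  obtain ⟨u₀, hu₀⟩ := (isUnit_natCast p (R := R) hKp).exists_left_inv
  set σ : Representation R K M := ρ.comp K.subtype with hσ
  have hσk : ∀ k : K, σ k = ρ (k : G) := fun k => rfl
  set π := avgK u₀ σ 𝔛 with hπdef
  have hπop : π = avgOp u₀ (Representation.linHom 𝔛 σ) := avgK_eq_avgOp u₀ σ 𝔛
  have hπ2 : π * π = π := by rw [hπop]; exact avgOp_idem u₀ hu₀ _
  have hxk : ∀ k : K, Commute (ρ x) (σ k) := by
    intro k
    show ρ x * ρ (k : G) = ρ (k : G) * ρ x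
    rw [← map_mul, ← map_mul, hKC k k.2 x hx]
  have hπX : Commute π (post U (ρ x)) := by
    rw [hπop]
    apply Commute.symm
    apply commute_avgOp
    intro k
    rw [← post_mul_pre_eq_linHom]
    exact (post_commute (hxk k)).mul_right (post_pre_comm _ _)
  have heL' : ∀ v ∈ LinearMap.range π, π v = v := by
    rintro _ ⟨m, rfl⟩
    have := congrArg (fun f => f m) hπ2
    simpa [Module.End.mul_apply] using this
  have hLX : ∀ v ∈ LinearMap.range π, post U (ρ x) v ∈ LinearMap.range π := by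
    intro v hv
    rw [← heL' v hv]
    have := congrArg (fun f => f v) hπX.eq
    simp only [Module.End.mul_apply] at this
    rw [← this]
    exact ⟨_, rfl⟩
  have hXp : (ρ x) ^ p = 1 := by
    rw [← map_pow, pow_p_eq_one p P hP x hx, map_one]
  have hX'p : (post U (ρ x) : Module.End R (U →ₗ[R] M)) ^ p = 1 := by
    rw [← post_pow, hXp, post_one]
  have hXLp : ((post U (ρ x)).restrict hLX : Module.End R (LinearMap.range π)) ^ p = 1 := by
    apply LinearMap.ext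
    intro w
    apply Subtype.ext
    rw [restrict_pow_coe _ (post U (ρ x)) hLX p w, hX'p]
    rfl
  obtain ⟨a, b', htr, ha, hb⟩ := trace_eq_sub p
    ((post U (ρ x)).restrict hLX : Module.End R (LinearMap.range π)) hXLp
  have ha1 := ha (cyclic_gen p true ρ hirr P hP K hKC hKN hC n₀ hn₀ hgen x hx hx1 𝔛 hEnd s hs A A'
    hAA' hA'A hA k₁ hk₁ hA1 hne u₀ hu₀ hLX)
  have hb1 := hb (cyclic_gen p false ρ hirr P hP K hKC hKN hC n₀ hn₀ hgen x hx hx1 𝔛 hEnd s hs A A'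
    hAA' hA'A hA k₁ hk₁ hA1 hne u₀ hu₀ hLX)
  refine ⟨(a : ℤ) - (b' : ℤ), by omega, ?_⟩
  have hf : ∀ v, (post U (ρ x) * π) v ∈ LinearMap.range π := by
    intro v
    rw [Module.End.mul_apply]
    exact hLX _ ⟨v, rfl⟩
  have h1 := LinearMap.trace_restrict_eq_of_forall_mem (LinearMap.range π) (post U (ρ x) * π) hf
  have h2 : (post U (ρ x) * π).restrict (fun v _ => hf v)
      = ((post U (ρ x)).restrict hLX : Module.End R (LinearMap.range π)) := by
    apply LinearMap.ext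
    intro w
    apply Subtype.ext
    change (post U (ρ x) * π) (w : U →ₗ[R] M) = post U (ρ x) (w : U →ₗ[R] M)
    rw [Module.End.mul_apply, heL' _ w.2]
  rw [h2, htr] at h1
  have h3 : LinearMap.trace R (U →ₗ[R] M) (post U (ρ x) * π)
      = u₀ * ∑ k : K, LinearMap.trace R U (𝔛 k⁻¹) * LinearMap.trace R M (ρ (x * k)) := by
    rw [hπdef, avgK, mul_smul_comm, map_smul, smul_eq_mul, Finset.mul_sum, map_sum]
    congr 1
    refine Finset.sum_congr rfl fun k _ => ?_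
    rw [← mul_assoc, ← post_mul, hσk, ← map_mul, trace_post_mul_pre]
  rw [h3] at h1
  have h4 : ∑ k : K, LinearMap.trace R U (𝔛 k⁻¹) * LinearMap.trace R M (ρ (x * k))
      = (Fintype.card K : R) *
        (u₀ * ∑ k : K, LinearMap.trace R U (𝔛 k⁻¹) * LinearMap.trace R M (ρ (x * k))) := by
    rw [← mul_assoc, mul_comm (Fintype.card K : R) u₀, hu₀, one_mul]
  rw [h4, ← h1]
  push_cast
  ring

end Main

end Cfsg.Agent.Helper5.TLR
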