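import Mathlib
import Cfsg.Prelude.Def_Blocks
import Cfsg.Agent.Lib.Helper5.TLRDefs
import Cfsg.Agent.Lib.Helper5.TLDDefs
import Cfsg.Agent.Lib.Helper2.TLDGT2
import Cfsg.Agent.Lib.Helper1.TLDFPK
import Cfsg.Agent.Lib.Helper1.TLDRES
import Cfsg.Agent.Lib.Helper28.TLDTWIST
import Cfsg.Agent.Lib.Helper28.TLDCLAUSE
import Cfsg.Agent.Lib.Helper5.TLRMainB
import Cfsg.Agent.Lib.Helper28.TLBWITT
import Cfsg.Agent.Lib.Helper28.TLBJR
import Cfsg.Agent.Lib.Helper24.TLBBRR
import Cfsg.Agent.Lib.Helper1.TLBCONV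
import Cfsg.Agent.Lib.Helper24.CharComplete
import Cfsg.Agent.Lib.Helper24.CharLinear
import Cfsg.Agent.Lib.Helper24.CharOrtho

set_option autoImplicit false

/-!
# S4442, Layer C' assembly: the character form of the general Thompson lattice lemma
-/

namespace Cfsg.Agent.Helper5.TLD

open scoped ComplexConjugate
open Cfsg Cfsg.Agent.Helper5.TLR

set_option linter.unusedSectionVars false
set_option linter.unusedVariables false
set_option linter.style.haveILetI false

variable (p : ℕ) [Fact p.Prime] {G : Type*} [Group G] [Finite G]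

set_option maxHeartbeats 1600000 in
/-- **Layer C'**: the character form of the Thompson lattice lemma for the `θ`-parts. -/
theorem tl_char_gen (P : Sylow p G) (hP : Nat.card P = p)
    (θ : IrrCharacter (Subgroup.centralizer ((P : Subgroup G) : Set G)))
    (hθP : ∀ x : Subgroup.centralizer ((P : Subgroup G) : Set G), (x : G) ∈ (P : Subgroup G) →
      (θ : Subgroup.centralizer ((P : Subgroup G) : Set G) → ℂ) x =
        (θ : Subgroup.centralizer ((P : Subgroup G) : Set G) → ℂ) 1)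
    (χ : IrrCharacter G) (x : G) (hx : x ∈ (P : Subgroup G)) (hx1 : x ≠ 1) :
    ∃ mult : IrrCharacter G → ℕ, 1 ≤ mult χ ∧
      (∀ ψ ψ' : IrrCharacter G, 0 < mult ψ → 0 < mult ψ' →
        (∃ r : ℚ, FP p P (θ : Subgroup.centralizer ((P : Subgroup G) : Set G) → ℂ) (ψ : G → ℂ) x /
          (charDegree (ψ : G → ℂ) : ℂ) = (r : ℂ)) →
        FP p P (θ : Subgroup.centralizer ((P : Subgroup G) : Set G) → ℂ) (ψ' : G → ℂ) x /
          (charDegree (ψ' : G → ℂ) : ℂ) =
        FP p P (θ : Subgroup.centralizer ((P : Subgroup G) : Set G) → ℂ) (ψ : G → ℂ) x /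
          (charDegree (ψ : G → ℂ) : ℂ)) ∧
      ∃ t : ℤ, (t = -1 ∨ t = 0 ∨ t = 1) ∧
        ∑ᶠ ψ : IrrCharacter G, (mult ψ : ℂ) *
          FP p P (θ : Subgroup.centralizer ((P : Subgroup G) : Set G) → ℂ) (ψ : G → ℂ) x = (t : ℂ) := by
  classical
  haveI : Fintype G := Fintype.ofFinite G
  haveI : Fintype (IrrCharacter G) := Cfsg.Agent.Helper24.irrFintype
  obtain ⟨j, hj⟩ := exists_WR_embedding p
  obtain ⟨K, n₀, hK1, hK2, hK3, hK4, hK5, hK6, hn₀p, hpow⟩ := exists_pcore' p P hP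
  haveI : Fintype K := Fintype.ofFinite K
  have hKp : ¬ p ∣ Fintype.card K := by rwa [← Nat.card_eq_fintype_card]
  obtain ⟨ϑ, hϑ⟩ := exists_res_irr p P hP K hK1 θ hθP
  obtain ⟨n, 𝔛, s, A, A', k₁, hchar, hs, hAA', hA'A, hA, hk₁, hA1, hne⟩ :=
    exists_twist_data (R := WR p) p j hj K hKp n₀ (fun k hk => hK3 n₀ hK5 k hk) hn₀p hpow ϑ
  have hirr𝔛 : IsIrrCharacter K (fun g => j (LinearMap.trace (WR p) (Fin n → WR p) (𝔛 g))) := by
    have : (fun g => j (LinearMap.trace (WR p) (Fin n → WR p) (𝔛 g))) = (ϑ : K → ℂ) :=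
      funext hchar
    rw [this]
    exact ϑ.2
  have hEnd : ∀ φ : Module.End (WR p) (Fin n → WR p), (∀ k, Commute φ (𝔛 k)) →
      ∃ c : WR p, φ = c • 1 := fun φ hφ => commutant_of_irr_char j hj 𝔛 hirr𝔛 φ hφ
  obtain ⟨n', ρ, mult, hcomm, hch, hχ⟩ := exists_lattice (R := WR p) j hj χ
  have hch' : ∀ g, j (LinearMap.trace (WR p) (Fin n' → WR p) (ρ g)) =
      ∑ ψ : IrrCharacter G, (mult ψ : ℂ) * (ψ : G → ℂ) g := by
    intro g
    rw [hch g, finsum_eq_sum_of_fintype]
  have hirr : ∀ ε : Module.End (WR p) (Fin n' → WR p), (∀ g, Commute ε (ρ g)) → ε * ε = ε →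
      ε = 0 ∨ ε = 1 := by
    intro ε hε hidem
    rcases hcomm ε hε with h | h
    · exact Or.inl h
    · right
      refine LinearMap.ext fun v => ?_
      apply h
      have := congrArg (fun T : Module.End (WR p) (Fin n' → WR p) => T v) hidem
      simpa using this
  have hKC : ∀ k ∈ K, ∀ u ∈ (P : Subgroup G), k * u = u * k := by
    intro k hk u hu
    have := ((hK1 k).mp hk).1
    rw [Subgroup.mem_centralizer_iff] at this
    exact (this u hu).symm
  obtain ⟨t, ht, hsum⟩ := thompson_gen p ρ hirr P hP K hKp hKC hK3 hK4 n₀ hK5 hK6 x hx hx1 𝔛 hEnd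
    s hs A A' hAA' hA'A hA k₁ hk₁ hA1 hne
  have hcardK : (Fintype.card K : ℂ) ≠ 0 := by
    exact_mod_cast Fintype.card_ne_zero
  have hcardG : (Fintype.card G : ℂ) ≠ 0 := by
    exact_mod_cast Fintype.card_ne_zero
  -- the coefficients
  have hcoef : ∀ k : K, j (LinearMap.trace (WR p) (Fin n → WR p) (𝔛 k⁻¹)) =
      conj ((θ : Subgroup.centralizer ((P : Subgroup G) : Set G) → ℂ)
        ⟨(k : G), ((hK1 k).1 k.2).1⟩) := by
    intro k
    rw [hchar, Cfsg.Agent.Helper24.irr_inv (Cfsg.Agent.Helper24.isCharacter_of_isIrrCharacter ϑ.2),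
      hϑ]
  -- `FP` through `K`
  have hFP : ∀ (ψ : G → ℂ) (a : G),
      (Fintype.card K : ℂ) * FP p P (θ : Subgroup.centralizer ((P : Subgroup G) : Set G) → ℂ) ψ a =
      ∑ k : K, ψ (a * (k : G)) * j (LinearMap.trace (WR p) (Fin n → WR p) (𝔛 k⁻¹)) := by
    intro ψ a
    rw [FP_eq_sum p P K hK1, ← mul_assoc, mul_inv_cancel₀ hcardK, one_mul]
    refine Finset.sum_congr rfl fun k _ => ?_
    rw [hcoef]
  refine ⟨mult, hχ, ?_, t, ht, ?_⟩
  · -- the clause
    intro ψ ψ' hψ hψ' ⟨r, hr⟩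
    set w : G → WR p := fun h => ∑ g : G, ∑ k : K,
      if g * (x * (k : G)) * g⁻¹ = h then LinearMap.trace (WR p) (Fin n → WR p) (𝔛 k⁻¹) else 0
      with hw
    have hwc : ∀ g h : G, w (g * h * g⁻¹) = w h := by
      intro g h
      simp only [hw]
      refine Fintype.sum_equiv (Equiv.mulLeft g⁻¹) _ _ fun g' => ?_
      refine Finset.sum_congr rfl fun k _ => ?_
      have : (g' * (x * (k : G)) * g'⁻¹ = g * h * g⁻¹) ↔
          ((Equiv.mulLeft g⁻¹) g' * (x * (k : G)) * ((Equiv.mulLeft g⁻¹) g')⁻¹ = h) := by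
        simp only [Equiv.coe_mulLeft, mul_inv_rev, inv_inv]
        constructor
        · intro h1
          calc g⁻¹ * g' * (x * (k : G)) * (g'⁻¹ * g)
              = g⁻¹ * (g' * (x * (k : G)) * g'⁻¹) * g := by group
            _ = h := by rw [h1]; group
        · intro h1
          rw [← h1]
          group
      simp only [this]
    have hsumw : ∀ ψ'' : IrrCharacter G, ∑ᶠ h : G, j (w h) * (ψ'' : G → ℂ) h =
        (Fintype.card G : ℂ) * ((Fintype.card K : ℂ) *
          FP p P (θ : Subgroup.centralizer ((P : Subgroup G) : Set G) → ℂ) (ψ'' : G → ℂ) x) := by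
      intro ψ''
      rw [finsum_eq_sum_of_fintype, hFP]
      simp only [hw, map_sum, Finset.sum_mul]
      rw [Finset.sum_comm]
      have hcl := Cfsg.Agent.Helper24.isClassFunction_of_isIrrCharacter ψ''.2
      have h1 : ∀ g : G, ∑ h : G, ∑ k : K,
          j (if g * (x * (k : G)) * g⁻¹ = h then
            LinearMap.trace (WR p) (Fin n → WR p) (𝔛 k⁻¹) else 0) * (ψ'' : G → ℂ) h =
          ∑ k : K, (ψ'' : G → ℂ) (x * (k : G)) *
            j (LinearMap.trace (WR p) (Fin n → WR p) (𝔛 k⁻¹)) := by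
        intro g
        rw [Finset.sum_comm]
        refine Finset.sum_congr rfl fun k _ => ?_
        rw [Finset.sum_eq_single (g * (x * (k : G)) * g⁻¹)]
        · rw [if_pos rfl, hcl, mul_comm]
        · intro h _ hne'
          rw [if_neg (Ne.symm hne'), map_zero, zero_mul]
        · intro h
          exact absurd (Finset.mem_univ _) h
      rw [Finset.sum_congr rfl fun g _ => h1 g, Finset.sum_const, Finset.card_univ, nsmul_eq_mul]
    have hψ1 : (ψ : G → ℂ) 1 = (charDegree (ψ : G → ℂ) : ℂ) :=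
      Cfsg.Agent.Helper24.irr_one_eq_charDegree ψ.2
    have hψ'1 : (ψ' : G → ℂ) 1 = (charDegree (ψ' : G → ℂ) : ℂ) :=
      Cfsg.Agent.Helper24.irr_one_eq_charDegree ψ'.2
    have hr' : (∑ᶠ h : G, j (w h) * (ψ : G → ℂ) h) / (ψ : G → ℂ) 1 =
        (((Fintype.card G : ℚ) * (Fintype.card K : ℚ) * r : ℚ) : ℂ) := by
      rw [hsumw, hψ1]
      push_cast
      rw [← hr]
      ring
    have hcl := central_clause_gen j hj ρ mult hcomm hch w hwc ψ ψ' hψ hψ' _ hr'
    rw [hsumw, hsumw, hψ1, hψ'1] at hcl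
    have h2 : (Fintype.card G : ℂ) * (Fintype.card K : ℂ) *
        (FP p P (θ : Subgroup.centralizer ((P : Subgroup G) : Set G) → ℂ) (ψ' : G → ℂ) x /
          (charDegree (ψ' : G → ℂ) : ℂ)) =
        (Fintype.card G : ℂ) * (Fintype.card K : ℂ) *
        (FP p P (θ : Subgroup.centralizer ((P : Subgroup G) : Set G) → ℂ) (ψ : G → ℂ) x /
          (charDegree (ψ : G → ℂ) : ℂ)) := by
      rw [mul_div_assoc, mul_div_assoc] at hcl
      linear_combination hcl
    exact mul_left_cancel₀ (mul_ne_zero hcardG hcardK) h2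
  · -- the sum
    have h1 := congrArg j hsum
    rw [map_sum, map_mul, map_natCast, map_intCast] at h1
    have h2 : ∑ k : K, j (LinearMap.trace (WR p) (Fin n → WR p) (𝔛 k⁻¹) *
        LinearMap.trace (WR p) (Fin n' → WR p) (ρ (x * (k : G)))) =
        ∑ ψ : IrrCharacter G, (mult ψ : ℂ) * ((Fintype.card K : ℂ) *
          FP p P (θ : Subgroup.centralizer ((P : Subgroup G) : Set G) → ℂ) (ψ : G → ℂ) x) := by
      have e1 : ∀ k : K, j (LinearMap.trace (WR p) (Fin n → WR p) (𝔛 k⁻¹) *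
          LinearMap.trace (WR p) (Fin n' → WR p) (ρ (x * (k : G)))) =
          ∑ ψ : IrrCharacter G, (mult ψ : ℂ) * ((ψ : G → ℂ) (x * (k : G)) *
            j (LinearMap.trace (WR p) (Fin n → WR p) (𝔛 k⁻¹))) := by
        intro k
        rw [RingHom.map_mul, hch', Finset.mul_sum]
        refine Finset.sum_congr rfl fun ψ _ => ?_
        ring
      rw [Finset.sum_congr rfl fun k _ => e1 k, Finset.sum_comm]
      refine Finset.sum_congr rfl fun ψ _ => ?_
      rw [hFP, Finset.mul_sum]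
    rw [h2] at h1
    rw [finsum_eq_sum_of_fintype]
    have h3 : (Fintype.card K : ℂ) * ∑ ψ : IrrCharacter G, (mult ψ : ℂ) *
        FP p P (θ : Subgroup.centralizer ((P : Subgroup G) : Set G) → ℂ) (ψ : G → ℂ) x =
        (Fintype.card K : ℂ) * (t : ℂ) := by
      rw [← h1, Finset.mul_sum]
      refine Finset.sum_congr rfl fun ψ _ => ?_
      ring
    exact mul_left_cancel₀ hcardK h3

end Cfsg.Agent.Helper5.TLD
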