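import Mathlib
import Cfsg.Prelude.Def_Blocks
import Cfsg.Agent.Lib.Helper5.TLDDefs
import Cfsg.Agent.Lib.Helper18.TLDTPKG
import Cfsg.Agent.Lib.Helper1.TLDDCHAR
import Cfsg.Agent.Lib.Helper1.TLDDCONJ
import Cfsg.Agent.Lib.Helper12.TLDDSM
import Cfsg.Agent.Lib.Helper6.TLDDCOL
import Cfsg.Agent.Lib.Helper6.TLDDDEG0
import Cfsg.Agent.Lib.Helper12.TLDDW
import Cfsg.Agent.Lib.Helper20.TLDDDICH
import Cfsg.Agent.Lib.Helper18.TLDDEXP
import Cfsg.Agent.Lib.Helper20.TLDDNV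
import Cfsg.Agent.Lib.Helper2.TLDDORB
import Cfsg.Agent.Lib.Helper2.TLDDVAN
import Cfsg.Agent.Lib.Helper18.TLDDDEG
import Cfsg.Agent.Lib.Helper7.TLDABS
import Cfsg.Agent.Lib.Helper15.TLDGGT
import Cfsg.Agent.Lib.Helper15.TLDGGW
import Cfsg.Agent.Lib.Helper15.TLDGGINV
import Cfsg.Agent.Lib.Helper23.TLDGGSMB
import Cfsg.Agent.Lib.Helper23.TLDGGCOL
import Cfsg.Agent.Lib.Helper23.TLDGGB
import Cfsg.Agent.Lib.Helper5.TLDAsmC
import Cfsg.Agent.Lib.Helper15.TLGT
import Cfsg.Agent.Lib.Helper24.CharComplete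
import Cfsg.Agent.Lib.Helper24.CharOrtho

set_option autoImplicit false

/-!
# S4442: final assembly
-/

namespace Cfsg.Agent.Helper5.TLD

open scoped ComplexConjugate
open Cfsg

set_option linter.unusedSectionVars false
set_option linter.unusedVariables false
set_option linter.style.haveILetI false

variable (p : ℕ) [Fact p.Prime] {G : Type*} [Group G] [Finite G]

/-- GLUE GTL: the Thompson relation restricted to `B`. -/
theorem tl_rel (M : Ideal AlgInt) (hM : IsPModular p M) (P : Sylow p G)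
    (hP : Nat.card P = p) (B : Set (IrrCharacter G)) (hB : IsPBlock M B)
    (b : Set (IrrCharacter (Subgroup.centralizer ((P : Subgroup G) : Set G))))
    (hind : IsInducedBlock M (Subgroup.centralizer ((P : Subgroup G) : Set G)) b B)
    (θ : IrrCharacter (Subgroup.centralizer ((P : Subgroup G) : Set G))) (hθ : θ ∈ b)
    (hθP : ∀ x : Subgroup.centralizer ((P : Subgroup G) : Set G), (x : G) ∈ (P : Subgroup G) →
      (θ : Subgroup.centralizer ((P : Subgroup G) : Set G) → ℂ) x =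
        (θ : Subgroup.centralizer ((P : Subgroup G) : Set G) → ℂ) 1)
    (X : Finset (IrrCharacter G)) (hX : ∀ χ, χ ∈ X ↔ χ ∈ B)
    (χ : IrrCharacter G) (a : (P : Subgroup G)) (ha : a ≠ 1) :
    ∃ mult : IrrCharacter G → ℕ, 1 ≤ mult χ ∧
      (∀ y ∈ X, ∀ y' ∈ X, 0 < mult y → 0 < mult y' →
        (∃ r : ℚ, FP p P (θ : Subgroup.centralizer ((P : Subgroup G) : Set G) → ℂ) (y : G → ℂ)
          (a : G) / (charDegree (y : G → ℂ) : ℂ) = (r : ℂ)) →
        FP p P (θ : Subgroup.centralizer ((P : Subgroup G) : Set G) → ℂ) (y' : G → ℂ) (a : G) /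
          (charDegree (y' : G → ℂ) : ℂ) =
        FP p P (θ : Subgroup.centralizer ((P : Subgroup G) : Set G) → ℂ) (y : G → ℂ) (a : G) /
          (charDegree (y : G → ℂ) : ℂ)) ∧
      ∃ t : ℤ, (t = -1 ∨ t = 0 ∨ t = 1) ∧
        ∑ y ∈ X, (mult y : ℂ) *
          FP p P (θ : Subgroup.centralizer ((P : Subgroup G) : Set G) → ℂ) (y : G → ℂ) (a : G) =
            (t : ℂ) := by
  classical
  have ha1 : (a : G) ≠ 1 := fun h => ha (Subtype.ext h)
  obtain ⟨mult, h1, h2, t, ht, h3⟩ := tl_char_gen p P hP θ hθP χ (a : G) a.2 ha1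
  refine ⟨mult, h1, fun y _ y' _ hy hy' hr => h2 y y' hy hy' hr, t, ht, ?_⟩
  rw [← h3]
  symm
  apply finsum_eq_sum_of_support_subset
  intro ψ hψ
  rw [Function.mem_support] at hψ
  rw [Finset.mem_coe, hX]
  by_contra hψB
  apply hψ
  rw [FP_eq_zero_of_not_mem p M hM P hP B hB b hind θ hθ hθP ψ hψB (a : G) a.2 ha1, mul_zero]

set_option maxHeartbeats 1600000 in
/-- **S4442**, with the block as a finset. -/
theorem main_S4442 (M : Ideal AlgInt) (hM : IsPModular p M) (hodd : p ≠ 2) (P : Sylow p G)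
    (hP : Nat.card P = p) (B : Set (IrrCharacter G)) (hB : IsPBlock M B)
    (hBP : IsDefectGroup p M B P)
    (b : Set (IrrCharacter (Subgroup.centralizer ((P : Subgroup G) : Set G))))
    (hind : IsInducedBlock M (Subgroup.centralizer ((P : Subgroup G) : Set G)) b B)
    (θ : IrrCharacter (Subgroup.centralizer ((P : Subgroup G) : Set G))) (hθ : θ ∈ b)
    (hθP : ∀ x : Subgroup.centralizer ((P : Subgroup G) : Set G), (x : G) ∈ (P : Subgroup G) →
      (θ : Subgroup.centralizer ((P : Subgroup G) : Set G) → ℂ) x =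
        (θ : Subgroup.centralizer ((P : Subgroup G) : Set G) → ℂ) 1)
    (T : Subgroup G)
    (hT : ∀ g : G, g ∈ T ↔ (g ∈ Subgroup.normalizer ((P : Subgroup G) : Set G) ∧
      ∀ c c' : Subgroup.centralizer ((P : Subgroup G) : Set G), (c' : G) = g * c * g⁻¹ →
        (θ : Subgroup.centralizer ((P : Subgroup G) : Set G) → ℂ) c' =
          (θ : Subgroup.centralizer ((P : Subgroup G) : Set G) → ℂ) c))
    (e f : ℕ) (he : (Subgroup.centralizer ((P : Subgroup G) : Set G)).relIndex T = e)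
    (hf : (Subgroup.centralizer ((P : Subgroup G) : Set G)).relIndex
      (Subgroup.normalizer ((P : Subgroup G) : Set G)) = f) :
    e ∣ p - 1 ∧ ∃ Xs Y : Finset (IrrCharacter G), (∀ χ, χ ∈ B ↔ χ ∈ Xs ∨ χ ∈ Y) ∧
      Disjoint Xs Y ∧ Xs.card = e ∧ Y.card = (p - 1) / e ∧
      (∀ χ ∈ Xs, (charDegree (χ : G → ℂ) : ℤ) ≡ ((f / e * charDegree
          (θ : Subgroup.centralizer ((P : Subgroup G) : Set G) → ℂ) : ℕ) : ℤ) [ZMOD p] ∨
        (charDegree (χ : G → ℂ) : ℤ) ≡ -((f / e * charDegree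
          (θ : Subgroup.centralizer ((P : Subgroup G) : Set G) → ℂ) : ℕ) : ℤ) [ZMOD p]) ∧
      (∃ ε : ℤ, (ε = 1 ∨ ε = -1) ∧ ∀ ψ ∈ Y, (charDegree (ψ : G → ℂ) : ℤ) ≡ ε * ((f * charDegree
          (θ : Subgroup.centralizer ((P : Subgroup G) : Set G) → ℂ) : ℕ) : ℤ) [ZMOD p]) ∧
      ∀ ψ ∈ Y, ∀ ψ' ∈ Y, ∀ g : G, ¬ p ∣ orderOf g → (ψ : G → ℂ) g = (ψ' : G → ℂ) g := by
  classical
  have hpp : p.Prime := Fact.out
  haveI : Fintype G := Fintype.ofFinite G
  haveI : Fintype (IrrCharacter G) := Cfsg.Agent.Helper24.irrFintype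
  haveI : Fintype (P : Subgroup G) := Fintype.ofFinite _
  obtain ⟨hCT, hTN⟩ := cent_le_T_le_norm p P θ T hT
  -- arithmetic of the indices
  have hmul : e * T.relIndex (Subgroup.normalizer ((P : Subgroup G) : Set G)) = f := by
    rw [← he, ← hf]
    exact Subgroup.relIndex_mul_relIndex _ _ _ hCT hTN
  have hfd : f ∣ p - 1 := by
    rw [← hf]
    exact Cfsg.Agent.Helper5.TL.relIndex_dvd p P hP
  have hef : e ∣ f := ⟨_, hmul.symm⟩
  have hed : e ∣ p - 1 := hef.trans hfd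
  have hp1 : 0 < p - 1 := by have := hpp.two_le; omega
  have he0 : 0 < e := Nat.pos_of_dvd_of_pos hed hp1
  refine ⟨hed, ?_⟩
  obtain ⟨ν, hνe, hfpf, hν3, hν4⟩ := exists_T_package p P hP T hCT hTN e he
  set X : Finset (IrrCharacter G) := Finset.univ.filter (fun χ => χ ∈ B) with hXdef
  have hX : ∀ χ, χ ∈ X ↔ χ ∈ B := by
    intro χ
    rw [hXdef, Finset.mem_filter]
    exact ⟨fun h => h.2, fun h => ⟨Finset.mem_univ _, h⟩⟩
  set F : IrrCharacter G → ↥(P : Subgroup G) → ℂ := fun χ a =>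
    FP p P (θ : Subgroup.centralizer ((P : Subgroup G) : Set G) → ℂ) (χ : G → ℂ) (a : G) with hF
  set d : IrrCharacter G → ℕ := fun χ => charDegree (χ : G → ℂ) with hd
  obtain ⟨Xs, Y, s, ε, δ, dd, ζ, hunion, hdisj, hXs, hY, hXsval, hε, hδ, hYval, -, -, -, -, hw⟩ :=
    abs_structure (A := (P : Subgroup G)) p hodd hP X F d ν e he0 hed hνe hfpf
      (fun χ _ => isCharacter_FP p P hP θ hθP χ)
      (fun χ _ a => FP_nu_invariant p P θ T hT ν hν4 χ a)
      (fun χ _ => Cfsg.Agent.Helper24.charDegree_pos χ.2)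
      (fun a a' ha ha' => col_rel p M hM P hP B hB b hind θ hθ hθP T hT e ν hfpf hν3 hν4 X hX
        a a' ha ha')
      (fun a ha => deg_rel p M hM P hP B hB b hind θ hθ hθP X hX a ha)
      (fun χ hχ => by
        obtain ⟨a, haP, ha1, hne⟩ :=
          exists_FP_ne_zero p M hM P hP B hB hBP b hind θ hθ hθP χ ((hX χ).1 hχ)
        exact ⟨⟨a, haP⟩, fun h => ha1 (congrArg Subtype.val h), hne⟩)
      (fun χ _ a ha => tl_rel p M hM P hP B hB b hind θ hθ hθP X hX χ a ha)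
  have hmem : ∀ χ, χ ∈ B ↔ χ ∈ Xs ∨ χ ∈ Y := by
    intro χ
    rw [← hX, ← hunion, Finset.mem_union]
  have hXsB : ∀ χ ∈ Xs, χ ∈ B := fun χ h => (hmem χ).2 (Or.inl h)
  have hYB : ∀ χ ∈ Y, χ ∈ B := fun χ h => (hmem χ).2 (Or.inr h)
  set D : ℤ := ((f / e * charDegree
    (θ : Subgroup.centralizer ((P : Subgroup G) : Set G) → ℂ) : ℕ) : ℤ) with hD
  refine ⟨Xs, Y, hmem, hdisj, hXs, hY, ?_, ⟨-ε, ?_, ?_⟩, ?_⟩
  · intro χ hχ
    obtain ⟨hs, -, z, hz, hzs⟩ := hXsval χ hχ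
    have h1 := degree_congr p M hM P hP B hB b hind θ hθ hθP T hT e f he hf χ (hXsB χ hχ) z hz
    rcases hs with hs | hs
    · left
      rw [hs] at hzs
      calc (charDegree (χ : G → ℂ) : ℤ) ≡ D * z [ZMOD p] := h1
        _ ≡ D * 1 [ZMOD p] := Int.ModEq.mul_left _ hzs
        _ = D := mul_one _
    · right
      rw [hs] at hzs
      calc (charDegree (χ : G → ℂ) : ℤ) ≡ D * z [ZMOD p] := h1
        _ ≡ D * (-1) [ZMOD p] := Int.ModEq.mul_left _ hzs
        _ = -D := by ring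
  · rcases hε with h | h
    · right; rw [h]
    · left; rw [h]; norm_num
  · intro ψ hψ
    obtain ⟨z, hz, hzs⟩ := hYval ψ hψ
    have h1 := degree_congr p M hM P hP B hB b hind θ hθ hθP T hT e f he hf ψ (hYB ψ hψ) z hz
    have h2 : D * (e : ℤ) = ((f * charDegree
        (θ : Subgroup.centralizer ((P : Subgroup G) : Set G) → ℂ) : ℕ) : ℤ) := by
      rw [hD]
      have : f / e * e = f := Nat.div_mul_cancel hef
      have h3 : ((f / e : ℕ) : ℤ) * (e : ℤ) = (f : ℤ) := by exact_mod_cast this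
      rw [Nat.cast_mul, Nat.cast_mul]
      linear_combination (charDegree
        (θ : Subgroup.centralizer ((P : Subgroup G) : Set G) → ℂ) : ℤ) * h3
    calc (charDegree (ψ : G → ℂ) : ℤ) ≡ D * z [ZMOD p] := h1
      _ ≡ D * (-ε * (e : ℤ)) [ZMOD p] := Int.ModEq.mul_left _ hzs
      _ = -ε * (D * (e : ℤ)) := by ring
      _ = -ε * ((f * charDegree
        (θ : Subgroup.centralizer ((P : Subgroup G) : Set G) → ℂ) : ℕ) : ℤ) := by rw [h2]
  · intro ψ hψ ψ' hψ' g hg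
    exact (hw (fun χ => (χ : G → ℂ) g)
      (fun a ha => w_rel p M hM P hP B hB _ X hX g hg a ha)).1 ψ hψ ψ' hψ'

end Cfsg.Agent.Helper5.TLD
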