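import Mathlib
import Cfsg.Prelude.Def_Blocks
import Cfsg.Agent.Lib.Helper5.TLDDefs
import Cfsg.Agent.Lib.Helper18.TLDTPKG
import Cfsg.Agent.Lib.Helper1.TLDDCHAR
import Cfsg.Agent.Lib.Helper1.TLDDCONJ
import Cfsg.Agent.Lib.Helper12.TLDDSM
import Cfsg.Agent.Lib.Helper6.TLDDCOL
import Cfsg.Agent.Lib.Helper6.TLDDDEG0
import Cfsg.Agent.Lib.Helper12.TLDDW
import Cfsg.Agent.Lib.Helper20.TLDDDICH
import Cfsg.Agent.Lib.Helper18.TLDDEXP
import Cfsg.Agent.Lib.Helper20.TLDDNV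
import Cfsg.Agent.Lib.Helper2.TLDDORB
import Cfsg.Agent.Lib.Helper2.TLDDVAN
import Cfsg.Agent.Lib.Helper18.TLDDDEG
import Cfsg.Agent.Lib.Helper7.TLDABS
import Cfsg.Agent.Lib.Helper15.TLDGGT
import Cfsg.Agent.Lib.Helper15.TLDGGW
import Cfsg.Agent.Lib.Helper15.TLDGGINV
import Cfsg.Agent.Lib.Helper23.TLDGGSMB
import Cfsg.Agent.Lib.Helper23.TLDGGCOL
import Cfsg.Agent.Lib.Helper23.TLDGGB
import Cfsg.Agent.Lib.Helper12.TLGEXTPOW
import Cfsg.Agent.Lib.Helper12.TLGPOWCHAR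
import Cfsg.Agent.Lib.Helper12.TLGSTAB
import Cfsg.Agent.Lib.Helper28.TLGROOT
import Cfsg.Agent.Lib.Helper28.TLGEXTA
import Cfsg.Agent.Lib.Helper18.TLGGALVAL
import Cfsg.Agent.Lib.Helper18.TLGSIGMAU
import Cfsg.Agent.Lib.Helper5.TLDAsmC
import Cfsg.Agent.Lib.Helper5.TLDFinal
import Cfsg.Agent.Lib.Helper15.TLGT
import Cfsg.Agent.Lib.Helper24.CharComplete
import Cfsg.Agent.Lib.Helper24.CharOrtho

set_option autoImplicit false

/-!
# S4507: the rich form of the structure theorem for blocks of defect one (with the Galois action)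
-/

namespace Cfsg.Agent.Helper5.TLG

open scoped ComplexConjugate
open Cfsg Cfsg.Agent.Helper5.TLD

set_option linter.unusedSectionVars false
set_option linter.unusedVariables false
set_option linter.style.haveILetI false

variable (p : ℕ) [Fact p.Prime] {G : Type*} [Group G] [Finite G]

set_option maxHeartbeats 3200000 in
/-- the rich structure theorem (no oddness hypothesis). -/
theorem main_rich (M : Ideal AlgInt) (hM : IsPModular p M) (P : Sylow p G)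
    (hP : Nat.card P = p) (B : Set (IrrCharacter G)) (hB : IsPBlock M B)
    (hBP : IsDefectGroup p M B P)
    (b : Set (IrrCharacter (Subgroup.centralizer ((P : Subgroup G) : Set G))))
    (hind : IsInducedBlock M (Subgroup.centralizer ((P : Subgroup G) : Set G)) b B)
    (θ : IrrCharacter (Subgroup.centralizer ((P : Subgroup G) : Set G))) (hθ : θ ∈ b)
    (hθP : ∀ x : Subgroup.centralizer ((P : Subgroup G) : Set G), (x : G) ∈ (P : Subgroup G) →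
      (θ : Subgroup.centralizer ((P : Subgroup G) : Set G) → ℂ) x =
        (θ : Subgroup.centralizer ((P : Subgroup G) : Set G) → ℂ) 1)
    (T : Subgroup G)
    (hT : ∀ g : G, g ∈ T ↔ (g ∈ Subgroup.normalizer ((P : Subgroup G) : Set G) ∧
      ∀ c c' : Subgroup.centralizer ((P : Subgroup G) : Set G), (c' : G) = g * c * g⁻¹ →
        (θ : Subgroup.centralizer ((P : Subgroup G) : Set G) → ℂ) c' =
          (θ : Subgroup.centralizer ((P : Subgroup G) : Set G) → ℂ) c))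
    (e : ℕ) (he : (Subgroup.centralizer ((P : Subgroup G) : Set G)).relIndex T = e) :
    e ∣ p - 1 ∧ ∃ (Xs Y : Finset (IrrCharacter G)) (s : IrrCharacter G → ℤ) (ε : ℤ),
      (∀ χ, χ ∈ B ↔ χ ∈ Xs ∨ χ ∈ Y) ∧ Disjoint Xs Y ∧ Xs.card = e ∧ Y.card = (p - 1) / e ∧
      (∀ χ ∈ Xs, s χ = 1 ∨ s χ = -1) ∧ (ε = 1 ∨ ε = -1) ∧
      (∀ x : G, ¬ p ∣ orderOf x → ∀ η ∈ Y,
        (ε : ℂ) * (η : G → ℂ) x + ∑ χ ∈ Xs, (s χ : ℂ) * (χ : G → ℂ) x = 0) ∧
      (∀ (σ : ℂ ≃+* ℂ) (ζ : ℂ),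
        IsPrimitiveRoot ζ (Nat.card G / p ^ (Nat.card G).factorization p) → σ ζ = ζ →
          (∀ χ ∈ Xs, ∀ g : G, σ ((χ : G → ℂ) g) = (χ : G → ℂ) g) ∧
          (∀ η ∈ Y, ∃ η' ∈ Y, ∀ g : G, σ ((η : G → ℂ) g) = (η' : G → ℂ) g)) ∧
      (∀ η ∈ Y, ∀ η' ∈ Y, ∃ σ : ℂ ≃+* ℂ,
        (∀ z : ℂ, z ^ (Nat.card G / p ^ (Nat.card G).factorization p) = 1 → σ z = z) ∧
        ∀ g : G, σ ((η : G → ℂ) g) = (η' : G → ℂ) g) := by
  classical
  have hpp : p.Prime := Fact.out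
  haveI : Fintype G := Fintype.ofFinite G
  haveI : Fintype (IrrCharacter G) := Cfsg.Agent.Helper24.irrFintype
  haveI : Fintype (P : Subgroup G) := Fintype.ofFinite _
  obtain ⟨hCT, hTN⟩ := cent_le_T_le_norm p P θ T hT
  have hfd : (Subgroup.centralizer ((P : Subgroup G) : Set G)).relIndex
      (Subgroup.normalizer ((P : Subgroup G) : Set G)) ∣ p - 1 :=
    Cfsg.Agent.Helper5.TL.relIndex_dvd p P hP
  have hmul : e * T.relIndex (Subgroup.normalizer ((P : Subgroup G) : Set G)) =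
      (Subgroup.centralizer ((P : Subgroup G) : Set G)).relIndex
        (Subgroup.normalizer ((P : Subgroup G) : Set G)) := by
    rw [← he]
    exact Subgroup.relIndex_mul_relIndex _ _ _ hCT hTN
  have hed : e ∣ p - 1 := Dvd.dvd.trans ⟨_, hmul.symm⟩ hfd
  have hp1 : 0 < p - 1 := by have := hpp.two_le; omega
  have he0 : 0 < e := Nat.pos_of_dvd_of_pos hed hp1
  refine ⟨hed, ?_⟩
  obtain ⟨ν, hνe, hfpf, hν3, hν4⟩ := exists_T_package p P hP T hCT hTN e he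
  set X : Finset (IrrCharacter G) := Finset.univ.filter (fun χ => χ ∈ B) with hXdef
  have hX : ∀ χ, χ ∈ X ↔ χ ∈ B := by
    intro χ
    rw [hXdef, Finset.mem_filter]
    exact ⟨fun h => h.2, fun h => ⟨Finset.mem_univ _, h⟩⟩
  set F : IrrCharacter G → ↥(P : Subgroup G) → ℂ := fun χ a =>
    FP p P (θ : Subgroup.centralizer ((P : Subgroup G) : Set G) → ℂ) (χ : G → ℂ) (a : G) with hF
  set d : IrrCharacter G → ℕ := fun χ => charDegree (χ : G → ℂ) with hd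
  obtain ⟨Xs, Y, s, ε, δ, dd, ζf, hunion, hdisj, hXs, hY, hXsval, hε, hδ, hYval, hζY, hζsurj,
      hζorb, hζval, hw⟩ :=
    abs_structure' (A := (P : Subgroup G)) p hP X F d ν e he0 hed hνe hfpf
      (fun χ _ => isCharacter_FP p P hP θ hθP χ)
      (fun χ _ a => FP_nu_invariant p P θ T hT ν hν4 χ a)
      (fun χ _ => Cfsg.Agent.Helper24.charDegree_pos χ.2)
      (fun a a' ha ha' => col_rel p M hM P hP B hB b hind θ hθ hθP T hT e ν hfpf hν3 hν4 X hX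
        a a' ha ha')
      (fun a ha => deg_rel p M hM P hP B hB b hind θ hθ hθP X hX a ha)
      (fun χ hχ => by
        obtain ⟨a, haP, ha1, hne⟩ :=
          exists_FP_ne_zero p M hM P hP B hB hBP b hind θ hθ hθP χ ((hX χ).1 hχ)
        exact ⟨⟨a, haP⟩, fun h => ha1 (congrArg Subtype.val h), hne⟩)
      (fun χ _ a ha => tl_rel p M hM P hP B hB b hind θ hθ hθP X hX χ a ha)
  have hmem : ∀ χ, χ ∈ B ↔ χ ∈ Xs ∨ χ ∈ Y := by
    intro χ
    rw [← hX, ← hunion, Finset.mem_union]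
  have hXsB : ∀ χ ∈ Xs, χ ∈ B := fun χ h => (hmem χ).2 (Or.inl h)
  have hYB : ∀ χ ∈ Y, χ ∈ B := fun χ h => (hmem χ).2 (Or.inr h)
  -- members of `Y` agree on `p`-regular elements
  have hYreg : ∀ η ∈ Y, ∀ η' ∈ Y, ∀ g : G, ¬ p ∣ orderOf g → (η' : G → ℂ) g = (η : G → ℂ) g := by
    intro η hη η' hη' g hg
    exact (hw (fun χ => (χ : G → ℂ) g)
      (fun a ha => w_rel p M hM P hP B hB _ X hX g hg a ha)).1 η' hη' η hη
  -- the key computation on the `θ`-parts of the members of `Y`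
  have hkey : ∀ (ψ₀ ψ₁ : IrrCharacter (P : Subgroup G)) (u : ℕ) (σ : ℂ ≃+* ℂ),
      ψ₀ ≠ Cfsg.Agent.Helper24.principalChar _ → ψ₁ ≠ Cfsg.Agent.Helper24.principalChar _ →
      (∀ a : (P : Subgroup G), (ψ₁ : ↥(P : Subgroup G) → ℂ) a =
        ((ψ₀ : ↥(P : Subgroup G) → ℂ) a) ^ u) →
      (∀ z : ℂ, z ^ p = 1 → σ z = z ^ u) →
      ∀ a : G, a ∈ (P : Subgroup G) → a ≠ 1 →
        σ (FP p P (θ : Subgroup.centralizer ((P : Subgroup G) : Set G) → ℂ)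
          (ζf ψ₀ : G → ℂ) a) =
        FP p P (θ : Subgroup.centralizer ((P : Subgroup G) : Set G) → ℂ) (ζf ψ₁ : G → ℂ) a := by
    intro ψ₀ ψ₁ u σ hψ₀ hψ₁ hpow hσp a haP ha1
    have ha' : (⟨a, haP⟩ : (P : Subgroup G)) ≠ 1 := fun h => ha1 (congrArg Subtype.val h)
    have e0 := hζval ψ₀ hψ₀ ⟨a, haP⟩ ha'
    have e1 := hζval ψ₁ hψ₁ ⟨a, haP⟩ ha'
    simp only [hF] at e0 e1
    rw [e0, e1, map_add, map_mul, map_intCast, map_intCast, map_sum]
    congr 2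
    refine Finset.sum_congr rfl fun k _ => ?_
    rw [hσp _ (irr_pow_card p hP ψ₀ _), hpow]
  refine ⟨Xs, Y, s, ε, hmem, hdisj, hXs, hY, fun χ hχ => (hXsval χ hχ).1, hε, ?_, ?_, ?_⟩
  · intro x hx η hη
    exact (hw (fun χ => (χ : G → ℂ) x)
      (fun a ha => w_rel p M hM P hP B hB _ X hX x hx a ha)).2 η hη
  · intro σ ζ hζ hσ
    constructor
    · intro χ hχ
      apply galois_values p M hM P hP B hB b hind θ hθ hθP χ χ (hXsB χ hχ) (hXsB χ hχ) σ ζ hζ hσ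
        (fun g _ => rfl)
      intro a haP ha1
      have ha' : (⟨a, haP⟩ : (P : Subgroup G)) ≠ 1 := fun h => ha1 (congrArg Subtype.val h)
      have e0 := (hXsval χ hχ).2.1 ⟨a, haP⟩ ha'
      simp only [hF] at e0
      rw [e0, map_intCast]
    · intro η hη
      obtain ⟨ψ₀, hψ₀, rfl⟩ := hζsurj η hη
      obtain ⟨u, hu1, hup, hσp⟩ := exists_pow_of_ringEquiv p σ
      obtain ⟨ψ₁, hψ₁, hpow⟩ := exists_powChar p hP ψ₀ hψ₀ u hu1 hup
      refine ⟨ζf ψ₁, hζY ψ₁ hψ₁, ?_⟩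
      exact galois_values p M hM P hP B hB b hind θ hθ hθP (ζf ψ₀) (ζf ψ₁) (hYB _ hη)
        (hYB _ (hζY ψ₁ hψ₁)) σ ζ hζ hσ (hYreg _ hη _ (hζY ψ₁ hψ₁))
        (hkey ψ₀ ψ₁ u σ hψ₀ hψ₁ hpow hσp)
  · intro η hη η' hη'
    obtain ⟨ψ₀, hψ₀, rfl⟩ := hζsurj η hη
    obtain ⟨ψ₁, hψ₁, rfl⟩ := hζsurj η' hη'
    obtain ⟨u, hu1, hup, hpow⟩ := exists_pow_eq_char p hP ψ₀ ψ₁ hψ₀ hψ₁
    have hG0 : Nat.card G ≠ 0 := Nat.card_pos.ne'
    have hm0 : 0 < Nat.card G / p ^ (Nat.card G).factorization p := Nat.ordCompl_pos p hG0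
    have hpm : ¬ p ∣ Nat.card G / p ^ (Nat.card G).factorization p :=
      Nat.not_dvd_ordCompl hpp hG0
    obtain ⟨σ, hσm, hσp⟩ := exists_ringEquiv_pow p _ hm0 hpm u hu1 hup
    refine ⟨σ, hσm, ?_⟩
    have hζ := Complex.isPrimitiveRoot_exp (Nat.card G / p ^ (Nat.card G).factorization p) hm0.ne'
    exact galois_values p M hM P hP B hB b hind θ hθ hθP (ζf ψ₀) (ζf ψ₁) (hYB _ hη)
      (hYB _ hη') σ _ hζ (hσm _ hζ.pow_eq_one) (hYreg _ hη _ hη')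
      (hkey ψ₀ ψ₁ u σ hψ₀ hψ₁ hpow hσp)

end Cfsg.Agent.Helper5.TLG
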