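import Mathlib
import Cfsg.Prelude.Def_OddOrderChar
import Cfsg.Agent.Lib.Helper5.Clifford
import Cfsg.Agent.Lib.Helper24.CharBrauerPerm
import Cfsg.Agent.Lib.Helper24.CharComplete
import Cfsg.Agent.Lib.Helper24.CharLinear
import Cfsg.Agent.Lib.Helper24.CharInduced
import Cfsg.Agent.Lib.Helper24.CharHom
import Cfsg.Agent.Lib.Helper24.CharAbelian

/-!
# Characters of a group with a normal subgroup `K` acted on fixed point freely (helper5)

`Rel K χ` : the subgroup `K` is not in the kernel of `χ`.
-/

set_option autoImplicit false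
set_option linter.unusedVariables false
set_option linter.unusedSectionVars false
set_option linter.style.haveILetI false

namespace Cfsg.Agent.Helper5.FrobKer

open Cfsg Cfsg.Agent.Helper24 Cfsg.Agent.Helper5
open scoped ComplexConjugate

universe u

variable {X : Type u} [Group X] [Fintype X]

/-- `K` is not contained in the kernel of `χ`. -/
def Rel (K : Subgroup X) (χ : X → ℂ) : Prop := ∃ k : X, k ∈ K ∧ χ k ≠ χ 1

theorem not_rel {K : Subgroup X} {χ : X → ℂ} (h : ¬ Rel K χ) {k : X} (hk : k ∈ K) :
    χ k = χ 1 := by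
  by_contra hne
  exact h ⟨k, hk, hne⟩

theorem sum_deg_mul [Fintype (IrrCharacter X)] {k : X} (hk : k ≠ 1) :
    ∑ η : IrrCharacter X, (η : X → ℂ) 1 * (η : X → ℂ) k = 0 := by
  classical
  have h := second_orthogonality' k (1 : X)
  rw [if_neg] at h
  · rw [← h]
    refine Finset.sum_congr rfl fun η _ => ?_
    obtain ⟨n, -, hn⟩ := irr_one_eq η.2
    rw [hn, Complex.conj_natCast, mul_comm]
  · intro hc
    exact hk (isConj_one_right.mp hc)

/-- A class function whose multiplicities on the relevant characters are proportional to the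
degrees is constant on the nonidentity elements of `K`. -/
theorem const_on [Fintype (IrrCharacter X)] (K : Subgroup X) {δ : X → ℂ}
    (hδ : IsClassFunction X δ) (c : ℂ)
    (h : ∀ η : X → ℂ, IsIrrCharacter X η → Rel K η → classInner δ η = c * η 1)
    {a b : X} (ha : a ∈ K) (hb : b ∈ K) (ha1 : a ≠ 1) (hb1 : b ≠ 1) : δ a = δ b := by
  classical
  have hexp := classFunction_expansion hδ
  have e1 : ∀ x : X, δ x = ∑ η : IrrCharacter X, classInner δ (η : X → ℂ) * (η : X → ℂ) x := by
    intro x
    conv_lhs => rw [hexp]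
    simp only [Finset.sum_apply, Pi.smul_apply, smul_eq_mul]
  have key : ∀ η : IrrCharacter X,
      classInner δ (η : X → ℂ) * (η : X → ℂ) a - classInner δ (η : X → ℂ) * (η : X → ℂ) b =
      c * ((η : X → ℂ) 1 * (η : X → ℂ) a) - c * ((η : X → ℂ) 1 * (η : X → ℂ) b) := by
    intro η
    by_cases hr : Rel K (η : X → ℂ)
    · rw [h _ η.2 hr]; ring
    · rw [not_rel hr ha, not_rel hr hb]; ring
  have : δ a - δ b = 0 := by
    rw [e1 a, e1 b, ← Finset.sum_sub_distrib]
    rw [Finset.sum_congr rfl (fun η _ => key η), Finset.sum_sub_distrib, ← Finset.mul_sum,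
      ← Finset.mul_sum, sum_deg_mul ha1, sum_deg_mul hb1]
    ring
  exact sub_eq_zero.mp this

theorem sum_ite_mem (K : Subgroup X) [Fintype K] [DecidablePred (fun x => x ∈ K)] (f : X → ℂ) :
    ∑ x : X, (if x ∈ K then f x else 0) = ∑ k : K, f k := by
  rw [← Finset.sum_filter]
  rw [Finset.sum_subtype (p := fun x => x ∈ K) (Finset.univ.filter (fun x => x ∈ K))
    (by intro x; simp) f]

section Normal

variable (K : Subgroup X) [hK : K.Normal]

/-- A relevant irreducible character has no principal constituent on `K`. -/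
theorem inner_principal [Fintype K] {χ : X → ℂ} (hχ : IsIrrCharacter X χ) (hr : Rel K χ) :
    classInner (fun n : K => χ n) (fun _ => (1 : ℂ)) = 0 := by
  by_contra hcon
  obtain ⟨e, he0, he1, he2⟩ := restrict_eq_smul_of_invariant K hχ
    (ϑ := fun _ => (1 : ℂ)) isIrrCharacter_one (fun g => rfl) hcon
  obtain ⟨k, hk, hne⟩ := hr
  apply hne
  have h1 := congrFun he2 ⟨k, hk⟩
  have h2 := congrFun he2 1
  simp only [Pi.smul_apply, smul_eq_mul, mul_one] at h1 h2
  rw [h1]
  exact h2.symm

theorem sum_K_eq_zero [Fintype K] {χ : X → ℂ} (hχ : IsIrrCharacter X χ) (hr : Rel K χ) :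
    ∑ k : K, χ k = 0 := by
  have h := inner_principal K hχ hr
  unfold classInner at h
  simp only [map_one, mul_one] at h
  rcases mul_eq_zero.mp h with h | h
  · exfalso
    rw [inv_eq_zero, Nat.cast_eq_zero] at h
    exact (Nat.card_pos (α := K)).ne' h
  · exact h

end Normal


section FPF

variable (K : Subgroup X) [hK : K.Normal]
  (hF : ∀ k ∈ K, k ≠ 1 → ∀ x : X, x * k = k * x → x ∈ K)

include hF in
/-- Only the principal character of `K` is fixed by an element outside `K`. -/
theorem eq_principal_of_fixed {g : X} (hg : g ∉ K) {φ : K → ℂ} (hφ : IsIrrCharacter K φ)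
    (hfix : conjFun K g φ = φ) : φ = fun _ => 1 := by
  classical
  letI : Fintype K := Fintype.ofFinite K
  letI : Fintype (IrrCharacter K) := irrFintype
  let σ : IrrCharacter K → IrrCharacter K :=
    fun ψ => ⟨conjFun K g ψ.1, isIrrCharacter_conjFun K g ψ.2⟩
  let τ : K ≃ K := (MulAut.conjNormal g⁻¹ : MulAut K).toEquiv
  have hτ : ∀ x : K, ((τ x : K) : X) = g⁻¹ * x * g := by
    intro x
    show ((MulAut.conjNormal g⁻¹ : MulAut K) x : X) = g⁻¹ * x * g
    rw [MulAut.conjNormal_apply, inv_inv]
  have hστ : ∀ (χ : IrrCharacter K) (x : K), (σ χ : K → ℂ) (τ x) = (χ : K → ℂ) x := by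
    intro χ x
    show conjFun K g χ.1 (τ x) = χ.1 x
    rw [conjFun_apply]
    have : (⟨g * ((τ x : K) : X) * g⁻¹, hK.conj_mem _ (τ x).2 g⟩ : K) = x := by
      apply Subtype.ext
      show g * ((τ x : K) : X) * g⁻¹ = x
      rw [hτ]; group
    rw [this]
  have hcount := brauer_permutation_count σ τ hστ
  have hR : Nat.card {p : K × K // p.2 * τ p.1 * p.2⁻¹ = p.1} = Nat.card K := by
    apply Nat.card_congr
    refine ⟨fun p => p.1.2, fun y => ⟨(1, y), ?_⟩, ?_, ?_⟩
    · have : τ 1 = 1 := by
        apply Subtype.ext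
        rw [hτ]; simp
      show y * τ 1 * y⁻¹ = 1
      rw [this]; group
    · rintro ⟨⟨x, y⟩, hp⟩
      have hp' : y * τ x * y⁻¹ = x := hp
      have hx : x = 1 := by
        by_contra hx1
        have h1 : ((y * τ x * y⁻¹ : K) : X) = x := congrArg Subtype.val hp'
        rw [Subgroup.coe_mul, Subgroup.coe_mul, hτ, Subgroup.coe_inv] at h1
        have h2 : ((y : X) * g⁻¹) * (x : X) = (x : X) * ((y : X) * g⁻¹) := by
          have : (y : X) * (g⁻¹ * x * g) * (y : X)⁻¹ * ((y : X) * g⁻¹) = x * ((y : X) * g⁻¹) := by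
            rw [h1]
          rw [← this]; group
        have h3 := hF x x.2 (fun h => hx1 (Subtype.ext h)) _ h2
        have h4 : g⁻¹ ∈ K := by
          have := K.mul_mem (K.inv_mem y.2) h3
          simpa using this
        exact hg (by simpa using K.inv_mem h4)
      subst hx
      rfl
    · intro y; rfl
  rw [hR] at hcount
  have hone : Nat.card {χ : IrrCharacter K // σ χ = χ} = 1 := by
    have hpos : 0 < Nat.card K := Nat.card_pos
    have : Nat.card {χ : IrrCharacter K // σ χ = χ} * Nat.card K = 1 * Nat.card K := by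
      rw [hcount, one_mul]
    exact Nat.eq_of_mul_eq_mul_right hpos this
  haveI : Subsingleton {χ : IrrCharacter K // σ χ = χ} :=
    (Nat.card_eq_one_iff_unique.mp hone).1
  have hp : σ (principalChar K) = principalChar K := by
    apply Subtype.ext
    rfl
  have hφ' : σ ⟨φ, hφ⟩ = ⟨φ, hφ⟩ := by
    apply Subtype.ext
    exact hfix
  have := Subsingleton.elim (⟨⟨φ, hφ⟩, hφ'⟩ : {χ : IrrCharacter K // σ χ = χ}) ⟨principalChar K, hp⟩
  have h5 := congrArg (fun z => (z.1 : K → ℂ)) this
  exact h5

theorem conjFun_of_mem {k : X} (hk : k ∈ K) {φ : K → ℂ} (hφ : IsClassFunction K φ) :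
    conjFun K k φ = φ := by
  funext m
  rw [conjFun_apply]
  have := hφ m ⟨k, hk⟩
  rw [← this]
  congr 1

include hF in
/-- The induced character of a nonprincipal irreducible character of `K` is irreducible. -/
theorem isIrr_indFun {φ : K → ℂ} (hφ : IsIrrCharacter K φ) (hne : φ ≠ fun _ => 1) :
    IsIrrCharacter X (indFun K φ) := by
  classical
  letI : Fintype K := Fintype.ofFinite K
  letI : Fintype (IrrCharacter X) := irrFintype
  apply isIrrCharacter_of_classInner_self_eq_one
    (isCharacter_indFun K (isCharacter_of_isIrrCharacter hφ))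
  rw [frobenius_reciprocity K φ (isClassFunction_indFun K φ), indFun_normal_restrict,
    classInner_smul_right, classInner_sum_right]
  have h1 : ∀ x : X, classInner φ (conjFun K x φ) = if x ∈ K then 1 else 0 := by
    intro x
    rw [irr_orthogonality hφ (isIrrCharacter_conjFun K x hφ)]
    by_cases hx : x ∈ K
    · rw [if_pos hx, if_pos (conjFun_of_mem K hx (isClassFunction_of_isIrrCharacter hφ)).symm]
    · rw [if_neg hx, if_neg]
      intro h
      exact hne (eq_principal_of_fixed K hF hx hφ h.symm)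
  rw [Finset.sum_congr rfl (fun x _ => h1 x), Finset.sum_ite, Finset.sum_const_zero, add_zero,
    Finset.sum_const, nsmul_eq_mul, mul_one]
  have h2 : (Finset.univ.filter (fun x : X => x ∈ K)).card = Nat.card K := by
    rw [Nat.card_eq_fintype_card, ← Fintype.card_subtype]
  rw [h2, map_inv₀, Complex.conj_natCast]
  have hpos : (Nat.card K : ℂ) ≠ 0 := by
    exact_mod_cast (Nat.card_pos (α := K)).ne'
  exact inv_mul_cancel₀ hpos

include hF in
/-- A relevant irreducible character is induced from a nonprincipal irreducible character of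
`K`. -/
theorem exists_eq_indFun {χ : X → ℂ} (hχ : IsIrrCharacter X χ) (hr : Rel K χ) :
    ∃ φ : K → ℂ, IsIrrCharacter K φ ∧ (φ ≠ fun _ => 1) ∧ χ = indFun K φ := by
  classical
  letI : Fintype K := Fintype.ofFinite K
  have hχK : IsCharacter K (fun n : K => χ n) :=
    isCharacter_restrict K (isCharacter_of_isIrrCharacter hχ)
  have h0 : (fun n : K => χ n) ≠ 0 := by
    intro h
    have h1 := congrFun h 1
    obtain ⟨n, hn, hn1⟩ := irr_one_eq hχ
    have : χ 1 = 0 := h1
    rw [hn1] at this
    have : n = 0 := by exact_mod_cast this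
    omega
  obtain ⟨φ, hφ, hcon⟩ := exists_constituent hχK h0
  have hne : φ ≠ fun _ => 1 := by
    intro h
    rw [h] at hcon
    exact hcon (inner_principal K hχ hr)
  refine ⟨φ, hφ, hne, ?_⟩
  have hirr := isIrr_indFun K hF hφ hne
  have h1 : classInner (indFun K φ) χ ≠ 0 := by
    rw [frobenius_reciprocity K φ (isClassFunction_of_isIrrCharacter hχ),
      ← classInner_conj_symm]
    intro h
    apply hcon
    have := congrArg conj h
    rwa [Complex.conj_conj, map_zero] at this
  rw [irr_orthogonality hirr hχ] at h1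
  by_contra hne'
  rw [if_neg (fun h => hne' h.symm)] at h1
  exact h1 rfl

include hF in
theorem vanish_off {χ : X → ℂ} (hχ : IsIrrCharacter X χ) (hr : Rel K χ) {x : X} (hx : x ∉ K) :
    χ x = 0 := by
  obtain ⟨φ, hφ, hne, rfl⟩ := exists_eq_indFun K hF hχ hr
  exact indFun_normal_of_not_mem K φ hx

include hF in
/-- The induced character of a nonprincipal irreducible character of `K` is relevant. -/
theorem rel_indFun {φ : K → ℂ} (hφ : IsIrrCharacter K φ) (hne : φ ≠ fun _ => 1) :
    Rel K (indFun K φ) := by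
  classical
  letI : Fintype K := Fintype.ofFinite K
  by_contra hr
  have hirr := isIrr_indFun K hF hφ hne
  have h1 : classInner (indFun K φ) (indFun K φ) = 1 := by
    rw [irr_orthogonality hirr hirr, if_pos rfl]
  rw [frobenius_reciprocity K φ (isClassFunction_indFun K φ)] at h1
  have h2 : (fun n : K => indFun K φ n) = (indFun K φ 1) • (fun _ => (1 : ℂ)) := by
    funext n
    simp only [Pi.smul_apply, smul_eq_mul, mul_one]
    exact not_rel hr n.2
  rw [h2, classInner_smul_right, irr_orthogonality hφ isIrrCharacter_one, if_neg hne,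
    mul_zero] at h1
  exact zero_ne_one h1

end FPF

section Count

variable (K : Subgroup X) [hK : K.Normal]

open Classical in
theorem sum_K [Fintype K] {η : X → ℂ} (hη : IsIrrCharacter X η) :
    ∑ k : K, η k = if Rel K η then 0 else (Nat.card K : ℂ) * η 1 := by
  split_ifs with hr
  · exact sum_K_eq_zero K hη hr
  · rw [Finset.sum_congr rfl (fun k _ => not_rel hr k.2), Finset.sum_const, Finset.card_univ,
      ← Nat.card_eq_fintype_card, nsmul_eq_mul]

theorem sum_deg_sq [Fintype (IrrCharacter X)] :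
    ∑ η : IrrCharacter X, (η : X → ℂ) 1 * (η : X → ℂ) 1 = (Nat.card X : ℂ) := by
  have h1 := sum_charDegree_sq (G := X)
  have h2 : ((∑ χ : IrrCharacter X, charDegree (χ : X → ℂ) ^ 2 : ℕ) : ℂ) = (Nat.card X : ℂ) := by
    rw [h1]
  rw [← h2]
  push_cast
  refine Finset.sum_congr rfl fun φ _ => ?_
  rw [irr_one_eq_charDegree φ.2]
  ring

open Classical in
/-- The irreducible characters with `K` in the kernel have squared degrees summing to the
index of `K`. -/
theorem sum_nonrel_sq [Fintype (IrrCharacter X)] :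
    ∑ η : IrrCharacter X,
      (if Rel K (η : X → ℂ) then 0 else (η : X → ℂ) 1 * (η : X → ℂ) 1) = (K.index : ℂ) := by
  letI : Fintype K := Fintype.ofFinite K
  have hreg : ∀ x : X, ∑ η : IrrCharacter X, (η : X → ℂ) 1 * (η : X → ℂ) x =
      if x = 1 then (Nat.card X : ℂ) else 0 := by
    intro x
    split_ifs with hx
    · subst hx
      exact sum_deg_sq
    · exact sum_deg_mul hx
  have hD : ∑ η : IrrCharacter X, (η : X → ℂ) 1 * ∑ k : K, (η : X → ℂ) k = (Nat.card X : ℂ) := by
    simp only [Finset.mul_sum]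
    rw [Finset.sum_comm]
    simp only [hreg]
    rw [Finset.sum_eq_single (1 : K)]
    · rw [if_pos (by rfl)]
    · intro k _ hk
      rw [if_neg]
      intro h
      exact hk (Subtype.ext h)
    · intro h
      exact absurd (Finset.mem_univ _) h
  have hD2 : ∑ η : IrrCharacter X, (η : X → ℂ) 1 * ∑ k : K, (η : X → ℂ) k =
      (Nat.card K : ℂ) * ∑ η : IrrCharacter X,
        (if Rel K (η : X → ℂ) then 0 else (η : X → ℂ) 1 * (η : X → ℂ) 1) := by
    rw [Finset.mul_sum]
    refine Finset.sum_congr rfl fun η _ => ?_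
    rw [sum_K K η.2]
    split_ifs <;> ring
  rw [hD2] at hD
  have hpos : (Nat.card K : ℂ) ≠ 0 := by
    exact_mod_cast (Nat.card_pos (α := K)).ne'
  have hidx : (Nat.card X : ℂ) = (Nat.card K : ℂ) * (K.index : ℂ) := by
    rw [← K.card_mul_index]
    push_cast
    ring
  rw [hidx] at hD
  exact mul_left_cancel₀ hpos hD

open Classical in
/-- If there is exactly one relevant character then all nonidentity elements of `K` are
conjugate. -/
theorem isConj_of_card_one [Fintype (IrrCharacter X)]
    (h1 : Nat.card {η : IrrCharacter X // Rel K (η : X → ℂ)} = 1)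
    {a b : X} (ha : a ∈ K) (hb : b ∈ K) (ha1 : a ≠ 1) (hb1 : b ≠ 1) : IsConj b a := by
  obtain ⟨χ, hχ⟩ := Nat.card_eq_one_iff_exists.mp h1
  have huniq : ∀ η : IrrCharacter X, Rel K (η : X → ℂ) → η = χ.1 := by
    intro η hη
    exact congrArg Subtype.val (hχ ⟨η, hη⟩)
  -- the relevant character is constant on `K ∖ 1`
  obtain ⟨n, hn, hn1⟩ := irr_one_eq χ.1.2
  have hn0 : (n : ℂ) ≠ 0 := by
    have : n ≠ 0 := by omega
    exact_mod_cast this
  have hc : (χ.1 : X → ℂ) a = (χ.1 : X → ℂ) b := by
    apply const_on K (isClassFunction_of_isIrrCharacter χ.1.2) (1 / (χ.1 : X → ℂ) 1) _ ha hb ha1 hb1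
    intro η hη hr
    have := huniq ⟨η, hη⟩ hr
    have h2 : η = (χ.1 : X → ℂ) := congrArg Subtype.val this
    rw [h2, irr_orthogonality χ.1.2 χ.1.2, if_pos rfl, hn1]
    field_simp
  by_contra hnc
  have h2 := second_orthogonality' a b
  rw [if_neg hnc] at h2
  have h3 : ∀ η : IrrCharacter X, (η : X → ℂ) a * conj ((η : X → ℂ) b) =
      (if Rel K (η : X → ℂ) then 0 else (η : X → ℂ) 1 * (η : X → ℂ) 1) +
      (if η = χ.1 then (χ.1 : X → ℂ) a * conj ((χ.1 : X → ℂ) a) else 0) := by
    intro η
    by_cases hr : Rel K (η : X → ℂ)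
    · rw [if_pos hr, if_pos (huniq η hr), huniq η hr, ← hc, zero_add]
    · rw [if_neg hr, if_neg, add_zero, not_rel hr ha, not_rel hr hb]
      · obtain ⟨m, -, hm⟩ := irr_one_eq η.2
        rw [hm, Complex.conj_natCast]
      · intro h
        exact hr (h ▸ χ.2)
  rw [Finset.sum_congr rfl (fun η _ => h3 η), Finset.sum_add_distrib, sum_nonrel_sq K,
    Finset.sum_ite_eq' Finset.univ χ.1, if_pos (Finset.mem_univ _), Complex.mul_conj] at h2
  have h4 := congrArg Complex.re h2
  rw [Complex.add_re, Complex.natCast_re, Complex.ofReal_re, Complex.zero_re] at h4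
  have h5 : 0 ≤ Complex.normSq ((χ.1 : X → ℂ) a) := Complex.normSq_nonneg _
  have h6 : (0 : ℝ) < K.index := by
    have : 0 < K.index := Nat.pos_of_ne_zero Subgroup.index_ne_zero_of_finite
    exact_mod_cast this
  linarith

end Count

section CountFPF

variable (K : Subgroup X) [hK : K.Normal]
  (hF : ∀ k ∈ K, k ≠ 1 → ∀ x : X, x * k = k * x → x ∈ K)
  (hab : ∀ a b : K, a * b = b * a)

include hF hab in
theorem degree_of_rel_of_comm {χ : X → ℂ} (hχ : IsIrrCharacter X χ) (hr : Rel K χ) :
    χ 1 = (K.index : ℂ) := by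
  classical
  letI : Fintype K := Fintype.ofFinite K
  letI : Fintype (IrrCharacter K) := irrFintype
  obtain ⟨φ, hφ, hne, rfl⟩ := exists_eq_indFun K hF hχ hr
  rw [indFun_one]
  have := charDegree_eq_one_of_comm hab hφ
  rw [charDegree_eq_one_iff hφ] at this
  rw [this, mul_one]

include hF hab in
theorem card_K_of_comm [Fintype (IrrCharacter X)] :
    Nat.card K = 1 + Nat.card {η : IrrCharacter X // Rel K (η : X → ℂ)} * K.index := by
  classical
  have h1 := sum_deg_sq (X := X)
  have h2 : ∀ η : IrrCharacter X, (η : X → ℂ) 1 * (η : X → ℂ) 1 =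
      (if Rel K (η : X → ℂ) then 0 else (η : X → ℂ) 1 * (η : X → ℂ) 1) +
      (if Rel K (η : X → ℂ) then (K.index : ℂ) * (K.index : ℂ) else 0) := by
    intro η
    by_cases hr : Rel K (η : X → ℂ)
    · rw [if_pos hr, if_pos hr, degree_of_rel_of_comm K hF hab η.2 hr, zero_add]
    · rw [if_neg hr, if_neg hr, add_zero]
  rw [Finset.sum_congr rfl (fun η _ => h2 η), Finset.sum_add_distrib, sum_nonrel_sq K,
    ← Finset.sum_filter, Finset.sum_const, ← Fintype.card_subtype, ← Nat.card_eq_fintype_card,
    nsmul_eq_mul, ← K.card_mul_index] at h1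
  have h3 : (K.index + Nat.card {η : IrrCharacter X // Rel K (η : X → ℂ)} * (K.index * K.index) : ℕ)
      = Nat.card K * K.index := by
    have : ((K.index + Nat.card {η : IrrCharacter X // Rel K (η : X → ℂ)} *
        (K.index * K.index) : ℕ) : ℂ) = ((Nat.card K * K.index : ℕ) : ℂ) := by
      rw [← h1]
      push_cast
      rfl
    exact_mod_cast this
  have hpos : 0 < K.index := Nat.pos_of_ne_zero Subgroup.index_ne_zero_of_finite
  have h4 : (1 + Nat.card {η : IrrCharacter X // Rel K (η : X → ℂ)} * K.index) * K.index =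
      Nat.card K * K.index := by
    rw [← h3]; ring
  exact (Nat.eq_of_mul_eq_mul_right hpos h4).symm

end CountFPF

end Cfsg.Agent.Helper5.FrobKer
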