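import Mathlib
import Cfsg.Prelude.Def_OddOrderChar
import Cfsg.Agent.Lib.Helper5.FrobKer
import Cfsg.Agent.Lib.Helper8.CharExtra
import Cfsg.Agent.Lib.Helper8.InnerExtra
import Cfsg.Agent.Lib.Helper18.GenChar
import Cfsg.Agent.Lib.Helper24.CharIntegral
import Cfsg.Agent.S0850

/-!
# T.I. subgroups with Frobenius normalizer and coherent character sets (helper5)
-/

set_option autoImplicit false
set_option linter.unusedVariables false
set_option linter.unusedSectionVars false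
set_option linter.style.haveILetI false

namespace Cfsg.Agent.Helper5.TIFN

open Cfsg Cfsg.Agent.Helper24 Cfsg.Agent.Helper5 Cfsg.Agent.Helper8 Cfsg.Agent.Helper18
open scoped ComplexConjugate

universe u

section Arith

/-- An algebraic integer with an integral nonzero natural multiple is an integer. -/
theorem int_of_isIntegral_of_mul_eq {d : ℂ} (hd : IsIntegral ℤ d) {n : ℕ} (hn : n ≠ 0) {z : ℤ}
    (h : (n : ℂ) * d = z) : ∃ w : ℤ, d = w := by
  have hn0 : (n : ℂ) ≠ 0 := by exact_mod_cast hn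
  have hnq : (n : ℚ) ≠ 0 := by exact_mod_cast hn
  have h2 : d = algebraMap ℚ ℂ ((z : ℚ) / (n : ℚ)) := by
    have : d = (z : ℂ) / (n : ℂ) := by
      rw [← h]; field_simp
    rw [this]; simp
  rw [h2, isIntegral_algebraMap_iff (algebraMap ℚ ℂ).injective] at hd
  obtain ⟨m, hm⟩ := IsIntegrallyClosed.isIntegral_iff.mp hd
  refine ⟨m, ?_⟩
  rw [h2, ← hm]
  simp

/-- If `t * φ 1` is an integer for every nonprincipal irreducible character of a nontrivial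
group, then `t` is an integer. -/
theorem int_of_mul_degree {K : Type u} [Group K] [Fintype K] (t : ℂ)
    (h : ∀ φ : K → ℂ, IsIrrCharacter K φ → (φ ≠ fun _ => 1) → ∃ w : ℤ, t * φ 1 = w)
    (hne : ∃ φ : K → ℂ, IsIrrCharacter K φ ∧ φ ≠ fun _ => 1) : ∃ w : ℤ, t = w := by
  classical
  letI : Fintype (IrrCharacter K) := irrFintype
  have hsq : ∑ φ : IrrCharacter K, ((φ : K → ℂ) 1) * ((φ : K → ℂ) 1) = (Nat.card K : ℂ) := by
    have h1 := sum_charDegree_sq (G := K)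
    have h2 : ((∑ χ : IrrCharacter K, charDegree (χ : K → ℂ) ^ 2 : ℕ) : ℂ) = (Nat.card K : ℂ) := by
      rw [h1]
    rw [← h2]
    push_cast
    refine Finset.sum_congr rfl fun φ _ => ?_
    rw [irr_one_eq_charDegree φ.2]
    ring
  obtain ⟨φ₀, hφ₀, hφ₀ne⟩ := hne
  -- `t * |K|` is an integer
  obtain ⟨w₀, hw₀⟩ := h φ₀ hφ₀ hφ₀ne
  obtain ⟨q, hq⟩ := charDegree_dvd_card hφ₀
  have hA : t * (Nat.card K : ℂ) = ((w₀ * (q : ℤ) : ℤ) : ℂ) := by
    rw [hq]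
    push_cast
    rw [← irr_one_eq_charDegree hφ₀, ← mul_assoc, hw₀]
  -- `t * (|K| - 1)` is an integer
  choose! w hw using h
  have hB : t * ((Nat.card K : ℂ) - 1) =
      ((∑ φ ∈ Finset.univ.erase (principalChar K),
        w (φ : K → ℂ) * (charDegree (φ : K → ℂ) : ℤ) : ℤ) : ℂ) := by
    rw [← hsq, ← Finset.add_sum_erase Finset.univ _ (Finset.mem_univ (principalChar K))]
    have : ((principalChar K : IrrCharacter K) : K → ℂ) 1 = 1 := rfl
    rw [this, mul_one, add_sub_cancel_left, Finset.mul_sum]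
    push_cast
    refine Finset.sum_congr rfl fun φ hφ => ?_
    have hne' : (φ : K → ℂ) ≠ fun _ => 1 := by
      intro h'
      exact (Finset.mem_erase.mp hφ).1 (Subtype.ext h')
    rw [← hw _ φ.2 hne', ← irr_one_eq_charDegree φ.2]
    ring
  refine ⟨w₀ * (q : ℤ) - ∑ φ ∈ Finset.univ.erase (principalChar K),
        w (φ : K → ℂ) * (charDegree (φ : K → ℂ) : ℤ), ?_⟩
  rw [Int.cast_sub, ← hA, ← hB]
  ring

end Arith


section Alpha

variable {X : Type u} [Group X] [Fintype X]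

/-- `ξ(1) χ - χ(1) ξ` -/
def alpha (χ ξ : X → ℂ) : X → ℂ := (ξ 1) • χ - (χ 1) • ξ

theorem alpha_apply (χ ξ : X → ℂ) (x : X) : alpha χ ξ x = ξ 1 * χ x - χ 1 * ξ x := rfl

theorem alpha_one (χ ξ : X → ℂ) : alpha χ ξ 1 = 0 := by
  rw [alpha_apply]; ring

theorem classInner_alpha_left (χ ξ β : X → ℂ) :
    classInner (alpha χ ξ) β = ξ 1 * classInner χ β - χ 1 * classInner ξ β := by
  unfold alpha
  rw [classInner_sub_left, classInner_smul_left, classInner_smul_left]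

theorem alpha_eq_zsmul {χ ξ : X → ℂ} {a b : ℕ} (ha : ξ 1 = a) (hb : χ 1 = b) :
    alpha χ ξ = (a : ℤ) • χ + (-(b : ℤ)) • ξ := by
  unfold alpha
  rw [ha, hb, neg_smul, ← sub_eq_add_neg, ← Int.cast_smul_eq_zsmul ℂ, ← Int.cast_smul_eq_zsmul ℂ]
  simp

theorem alpha_mem_zspan {S : Set (X → ℂ)} {χ ξ : X → ℂ} (hχ : χ ∈ S) (hξ : ξ ∈ S)
    (hχi : IsIrrCharacter X χ) (hξi : IsIrrCharacter X ξ) : alpha χ ξ ∈ zspan S := by
  obtain ⟨a, -, ha⟩ := irr_one_eq hξi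
  obtain ⟨b, -, hb⟩ := irr_one_eq hχi
  rw [alpha_eq_zsmul ha hb]
  exact Submodule.add_mem _ (Submodule.smul_mem _ _ (Submodule.subset_span hχ))
    (Submodule.smul_mem _ _ (Submodule.subset_span hξ))

theorem alpha_mem_zspanOn {S : Set (X → ℂ)} {χ ξ : X → ℂ} (hχ : χ ∈ S) (hξ : ξ ∈ S)
    (hχi : IsIrrCharacter X χ) (hξi : IsIrrCharacter X ξ) :
    alpha χ ξ ∈ zspanOn S ({1}ᶜ : Set X) := by
  refine ⟨alpha_mem_zspan hχ hξ hχi hξi, ?_⟩
  intro x hx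
  have : x = 1 := by
    by_contra h
    exact hx h
  rw [this, alpha_one]

theorem isClassFunction_alpha {χ ξ : X → ℂ} (hχi : IsIrrCharacter X χ)
    (hξi : IsIrrCharacter X ξ) : IsClassFunction X (alpha χ ξ) := by
  intro g h
  rw [alpha_apply, alpha_apply, isClassFunction_of_isIrrCharacter hχi g h,
    isClassFunction_of_isIrrCharacter hξi g h]

theorem star_alpha {Y : Type u} [Group Y] [Fintype Y] {S : Set (X → ℂ)}
    {star : (X → ℂ) → (Y → ℂ)} (hstar : IsLinearIsometryOn (zspan S) star)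
    {χ ξ : X → ℂ} (hχ : χ ∈ S) (hξ : ξ ∈ S)
    (hχi : IsIrrCharacter X χ) (hξi : IsIrrCharacter X ξ) :
    star (alpha χ ξ) = (ξ 1) • star χ - (χ 1) • star ξ := by
  obtain ⟨a, -, ha⟩ := irr_one_eq hξi
  obtain ⟨b, -, hb⟩ := irr_one_eq hχi
  have hχ' : χ ∈ zspan S := Submodule.subset_span hχ
  have hξ' : ξ ∈ zspan S := Submodule.subset_span hξ
  rw [alpha_eq_zsmul ha hb, hstar.1 _ (Submodule.smul_mem _ _ hχ') _ (Submodule.smul_mem _ _ hξ'),
    hstar.2.1 _ hχ', hstar.2.1 _ hξ', ha, hb, neg_smul, ← sub_eq_add_neg,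
    ← Int.cast_smul_eq_zsmul ℂ, ← Int.cast_smul_eq_zsmul ℂ]
  simp

end Alpha


section Setup

variable {G : Type u} [Group G] [Fintype G] (K : Subgroup G)

local notation "𝒩" => Subgroup.normalizer (K : Set G)

theorem fpf (hC : ∀ k ∈ K, k ≠ 1 → Subgroup.centralizer ({k} : Set G) ≤ K) :
    ∀ k ∈ K.subgroupOf 𝒩, k ≠ 1 → ∀ x : ↥𝒩, x * k = k * x → x ∈ K.subgroupOf 𝒩 := by
  intro k hk hk1 x hx
  rw [Subgroup.mem_subgroupOf] at hk ⊢
  apply hC (k : G) hk (fun h => hk1 (Subtype.ext h))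
  rw [Subgroup.mem_centralizer_iff]
  intro y hy
  rw [Set.mem_singleton_iff] at hy
  subst hy
  have := congrArg Subtype.val hx
  simpa using this.symm

theorem mem_S_iff (S : Set (↥𝒩 → ℂ))
    (hS : S = {χ : ↥𝒩 → ℂ | IsIrrCharacter ↥𝒩 χ ∧ ∃ k : ↥𝒩, (k : G) ∈ K ∧ χ k ≠ χ 1})
    {χ : ↥𝒩 → ℂ} : χ ∈ S ↔ IsIrrCharacter ↥𝒩 χ ∧ FrobKer.Rel (K.subgroupOf 𝒩) χ := by
  rw [hS]
  rfl

/-- Criterion for a class function of the normalizer to be constant on `K ∖ 1`. -/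
theorem const_of_orth [Fintype ↥𝒩] (S : Set (↥𝒩 → ℂ))
    (hS : S = {χ : ↥𝒩 → ℂ | IsIrrCharacter ↥𝒩 χ ∧ ∃ k : ↥𝒩, (k : G) ∈ K ∧ χ k ≠ χ 1})
    {δ : ↥𝒩 → ℂ} (hδ : IsClassFunction ↥𝒩 δ)
    (h : ∀ χ ∈ S, ∀ ξ ∈ S, classInner (alpha χ ξ) δ = 0)
    {a b : ↥𝒩} (ha : (a : G) ∈ K) (hb : (b : G) ∈ K) (ha1 : a ≠ 1) (hb1 : b ≠ 1) :
    δ a = δ b := by
  classical
  letI : Fintype (IrrCharacter ↥𝒩) := irrFintype
  have ha' : a ∈ K.subgroupOf 𝒩 := Subgroup.mem_subgroupOf.mpr ha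
  have hb' : b ∈ K.subgroupOf 𝒩 := Subgroup.mem_subgroupOf.mpr hb
  rcases S.eq_empty_or_nonempty with hemp | ⟨ξ₀, hξ₀⟩
  · apply FrobKer.const_on (K.subgroupOf 𝒩) hδ 0 _ ha' hb' ha1 hb1
    intro η hη hr
    have : η ∈ S := (mem_S_iff K S hS).mpr ⟨hη, hr⟩
    rw [hemp] at this
    exact absurd this (Set.notMem_empty _)
  · have hξ₀i := ((mem_S_iff K S hS).mp hξ₀).1
    obtain ⟨n₀, hn₀, hn₀1⟩ := irr_one_eq hξ₀i
    have hn0 : (n₀ : ℂ) ≠ 0 := by
      have : n₀ ≠ 0 := by omega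
      exact_mod_cast this
    apply FrobKer.const_on (K.subgroupOf 𝒩) hδ (classInner δ ξ₀ / ξ₀ 1) _ ha' hb' ha1 hb1
    intro η hη hr
    have hηS : η ∈ S := (mem_S_iff K S hS).mpr ⟨hη, hr⟩
    have h1 := h η hηS ξ₀ hξ₀
    rw [classInner_alpha_left] at h1
    obtain ⟨n, hn, hn1⟩ := irr_one_eq hη
    have h2 := congrArg conj h1
    rw [map_sub, map_mul, map_mul, classInner_conj_symm, classInner_conj_symm, map_zero, hn₀1,
      hn1, Complex.conj_natCast, Complex.conj_natCast] at h2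
    rw [hn₀1, hn1]
    field_simp
    linear_combination h2

/-- the star of `alpha χ ξ` agrees with `alpha χ ξ` on the normalizer -/
theorem star_alpha_apply [Fintype ↥𝒩]
    (hTI : ∀ g : G, g ∉ 𝒩 → ∀ k ∈ K, g * k * g⁻¹ ∈ K → k = 1) (hlt : K < 𝒩)
    (hC : ∀ k ∈ K, k ≠ 1 → Subgroup.centralizer ({k} : Set G) ≤ K)
    (S : Set (↥𝒩 → ℂ))
    (hS : S = {χ : ↥𝒩 → ℂ | IsIrrCharacter ↥𝒩 χ ∧ ∃ k : ↥𝒩, (k : G) ∈ K ∧ χ k ≠ χ 1})
    (star : (↥𝒩 → ℂ) → (G → ℂ))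
    (hext : ∀ α ∈ zspanOn S ({1}ᶜ : Set ↥𝒩), star α = indFun 𝒩 α)
    {χ ξ : ↥𝒩 → ℂ} (hχ : χ ∈ S) (hξ : ξ ∈ S) (x : ↥𝒩) :
    star (alpha χ ξ) x = alpha χ ξ x := by
  haveI : (K.subgroupOf 𝒩).Normal := Subgroup.normal_in_normalizer
  have hχi := (mem_S_iff K S hS).mp hχ
  have hξi := (mem_S_iff K S hS).mp hξ
  rw [hext _ (alpha_mem_zspanOn hχ hξ hχi.1 hξi.1)]
  apply (Cfsg.Agent.S0850.result K hTI hlt hC).2 _ (isClassFunction_alpha hχi.1 hξi.1) _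
    (alpha_one χ ξ)
  intro y hy
  have hy' : y ∉ K.subgroupOf 𝒩 := fun h => hy (Subgroup.mem_subgroupOf.mp h)
  rw [alpha_apply, FrobKer.vanish_off (K.subgroupOf 𝒩) (fpf K hC) hχi.1 hχi.2 hy',
    FrobKer.vanish_off (K.subgroupOf 𝒩) (fpf K hC) hξi.1 hξi.2 hy']
  ring

theorem inner_star_alpha [Fintype ↥𝒩] (S : Set (↥𝒩 → ℂ))
    (hS : S = {χ : ↥𝒩 → ℂ | IsIrrCharacter ↥𝒩 χ ∧ ∃ k : ↥𝒩, (k : G) ∈ K ∧ χ k ≠ χ 1})
    (star : (↥𝒩 → ℂ) → (G → ℂ))
    (hext : ∀ α ∈ zspanOn S ({1}ᶜ : Set ↥𝒩), star α = indFun 𝒩 α)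
    {χ ξ : ↥𝒩 → ℂ} (hχ : χ ∈ S) (hξ : ξ ∈ S) {θ : G → ℂ} (hθ : IsClassFunction G θ) :
    classInner (star (alpha χ ξ)) θ = classInner (alpha χ ξ) (fun x : ↥𝒩 => θ x) := by
  have hχi := (mem_S_iff K S hS).mp hχ
  have hξi := (mem_S_iff K S hS).mp hξ
  rw [hext _ (alpha_mem_zspanOn hχ hξ hχi.1 hξi.1)]
  exact frobenius_reciprocity 𝒩 (alpha χ ξ) hθ

/-- The common integer of a coherent set of a T.I. subgroup with Frobenius normalizer. -/
theorem exists_int [Fintype ↥𝒩]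
    (hTI : ∀ g : G, g ∉ 𝒩 → ∀ k ∈ K, g * k * g⁻¹ ∈ K → k = 1) (hlt : K < 𝒩)
    (hC : ∀ k ∈ K, k ≠ 1 → Subgroup.centralizer ({k} : Set G) ≤ K)
    (S : Set (↥𝒩 → ℂ))
    (hS : S = {χ : ↥𝒩 → ℂ | IsIrrCharacter ↥𝒩 χ ∧ ∃ k : ↥𝒩, (k : G) ∈ K ∧ χ k ≠ χ 1})
    (hne : S.Nonempty)
    (star : (↥𝒩 → ℂ) → (G → ℂ)) (hstar : IsLinearIsometryOn (zspan S) star)
    (hext : ∀ α ∈ zspanOn S ({1}ᶜ : Set ↥𝒩), star α = indFun 𝒩 α) :
    ∃ m : ℤ, ∀ χ ∈ S, ∀ k : ↥𝒩, (k : G) ∈ K → k ≠ 1 →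
      star χ k - χ k = (m : ℂ) * χ 1 / ((K.subgroupOf 𝒩).index : ℂ) := by
  classical
  haveI : (K.subgroupOf 𝒩).Normal := Subgroup.normal_in_normalizer
  letI : Fintype (K.subgroupOf 𝒩) := Fintype.ofFinite _
  set K' := K.subgroupOf 𝒩 with hK'
  have hF := fpf K hC
  obtain ⟨χ₀, hχ₀⟩ := hne
  have hχ₀i := (mem_S_iff K S hS).mp hχ₀
  obtain ⟨k₀, hk₀, hk₀ne⟩ := hχ₀i.2
  have hk₀1 : k₀ ≠ 1 := fun h => hk₀ne (by rw [h])
  have hk₀K : (k₀ : G) ∈ K := Subgroup.mem_subgroupOf.mp hk₀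
  -- the differences
  let δ : (↥𝒩 → ℂ) → ↥𝒩 → ℂ := fun χ x => star χ x - χ x
  have hgen : ∀ χ ∈ S, IsGeneralizedCharacter ↥𝒩 (δ χ) := by
    intro χ hχ
    have h1 := isGenChar_restrict 𝒩 (hstar.2.2.2 χ (Submodule.subset_span hχ))
    have h2 := isGenChar_of_isCharacter
      (isCharacter_of_isIrrCharacter ((mem_S_iff K S hS).mp hχ).1)
    exact isGenChar_sub h1 h2
  -- (i) constant
  have hconst : ∀ χ ∈ S, ∀ a b : ↥𝒩, (a : G) ∈ K → (b : G) ∈ K → a ≠ 1 → b ≠ 1 →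
      δ χ a = δ χ b := by
    intro χ hχ a b ha hb ha1 hb1
    apply const_of_orth K S hS (isClassFunction_of_isGeneralizedCharacter (hgen χ hχ)) _
      ha hb ha1 hb1
    intro η hη ξ hξ
    have hηi := (mem_S_iff K S hS).mp hη
    have hξi := (mem_S_iff K S hS).mp hξ
    have hcfθ : IsClassFunction G (star χ) :=
      isClassFunction_of_isGeneralizedCharacter (hstar.2.2.2 χ (Submodule.subset_span hχ))
    have h1 := inner_star_alpha K S hS star hext hη hξ hcfθ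
    have h2 := hstar.2.2.1 _ (alpha_mem_zspan hη hξ hηi.1 hξi.1) _ (Submodule.subset_span hχ)
    have : δ χ = (fun x : ↥𝒩 => star χ x) - χ := rfl
    rw [this, classInner_sub_right, ← h1, h2, sub_self]
  -- (ii) the relation
  have hrel : ∀ χ ∈ S, ∀ ξ ∈ S, ∀ x : ↥𝒩, ξ 1 * δ χ x = χ 1 * δ ξ x := by
    intro χ hχ ξ hξ x
    have hχi := (mem_S_iff K S hS).mp hχ
    have hξi := (mem_S_iff K S hS).mp hξ
    have h1 := star_alpha_apply K hTI hlt hC S hS star hext hχ hξ x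
    rw [star_alpha hstar hχ hξ hχi.1 hξi.1] at h1
    simp only [Pi.sub_apply, Pi.smul_apply, smul_eq_mul, alpha_apply] at h1
    show ξ 1 * (star χ x - χ x) = χ 1 * (star ξ x - ξ x)
    linear_combination h1
  -- (iii) integrality of the constant
  have hint : ∀ χ ∈ S, ∃ w : ℤ, δ χ k₀ = w := by
    intro χ hχ
    have hg := hgen χ hχ
    have hgK : IsGeneralizedCharacter K' (fun k : K' => δ χ k) := isGenChar_restrict K' hg
    letI : Fintype (IrrCharacter K') := irrFintype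
    obtain ⟨m, hm⟩ := genChar_inner_int hgK (principalChar K')
    obtain ⟨a, b, ha, hb, hab⟩ := hg
    obtain ⟨na, hna⟩ := char_one_eq ha
    obtain ⟨nb, hnb⟩ := char_one_eq hb
    have h1 : δ χ 1 = (((na : ℤ) - (nb : ℤ) : ℤ) : ℂ) := by
      rw [hab]; simp [hna, hnb]
    have hintg : IsIntegral ℤ (δ χ k₀) := by
      rw [hab]
      exact IsIntegral.sub (isIntegral_of_isCharacter ha k₀) (isIntegral_of_isCharacter hb k₀)
    have hcardpos : 1 < Nat.card K' := by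
      rw [Nat.card_eq_fintype_card, Fintype.one_lt_card_iff_nontrivial]
      exact ⟨⟨⟨k₀, hk₀⟩, 1, fun h => hk₀1 (congrArg Subtype.val h)⟩⟩
    have hsum : ∑ k : K', δ χ k = δ χ 1 + ((Nat.card K' - 1 : ℕ) : ℂ) * δ χ k₀ := by
      rw [← Finset.add_sum_erase Finset.univ _ (Finset.mem_univ (1 : K'))]
      congr 1
      have : ∀ k ∈ Finset.univ.erase (1 : K'), δ χ (k : ↥𝒩) = δ χ k₀ := by
        intro k hk
        apply hconst χ hχ _ _ (Subgroup.mem_subgroupOf.mp k.2) hk₀K _ hk₀1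
        intro h
        exact (Finset.mem_erase.mp hk).1 (Subtype.ext h)
      rw [Finset.sum_congr rfl this, Finset.sum_const, Finset.card_erase_of_mem (Finset.mem_univ _),
        Finset.card_univ, ← Nat.card_eq_fintype_card, nsmul_eq_mul]
    have hm' : ∑ k : K', δ χ k = (m : ℂ) * (Nat.card K' : ℂ) := by
      have h3 : classInner (fun k : K' => δ χ k) ((principalChar K' : IrrCharacter K') : K' → ℂ) =
          (Nat.card K' : ℂ)⁻¹ * ∑ k : K', δ χ k := by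
        unfold classInner
        congr 1
        refine Finset.sum_congr rfl fun k _ => ?_
        have : ((principalChar K' : IrrCharacter K') : K' → ℂ) k = 1 := rfl
        rw [this, map_one, mul_one]
      rw [h3] at hm
      have hpos : (Nat.card K' : ℂ) ≠ 0 := by
        exact_mod_cast (Nat.card_pos (α := K')).ne'
      rw [← hm]
      field_simp
    have hn : Nat.card K' - 1 ≠ 0 := by omega
    apply int_of_isIntegral_of_mul_eq hintg hn
      (z := m * (Nat.card K' : ℤ) - ((na : ℤ) - (nb : ℤ)))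
    have := hsum
    rw [hm', h1] at this
    push_cast at this ⊢
    linear_combination -this
  -- the common constant
  obtain ⟨n₀, hn₀, hn₀1⟩ := irr_one_eq hχ₀i.1
  have hn0 : χ₀ 1 ≠ 0 := by
    rw [hn₀1]
    have : n₀ ≠ 0 := by omega
    exact_mod_cast this
  have he0 : (K'.index : ℂ) ≠ 0 := by
    have : K'.index ≠ 0 := Subgroup.index_ne_zero_of_finite
    exact_mod_cast this
  set t : ℂ := (K'.index : ℂ) * δ χ₀ k₀ / χ₀ 1 with ht_def
  have ht : ∀ χ ∈ S, δ χ k₀ = t * χ 1 / (K'.index : ℂ) := by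
    intro χ hχ
    have h1 := hrel χ hχ χ₀ hχ₀ k₀
    rw [ht_def]
    field_simp
    linear_combination h1
  have htint : ∃ w : ℤ, t = w := by
    apply int_of_mul_degree (K := K') t
    · intro φ hφ hne
      have hirr := FrobKer.isIrr_indFun K' hF hφ hne
      have hr := FrobKer.rel_indFun K' hF hφ hne
      have hS' : indFun K' φ ∈ S := (mem_S_iff K S hS).mpr ⟨hirr, hr⟩
      obtain ⟨w, hw⟩ := hint _ hS'
      refine ⟨w, ?_⟩
      rw [← hw, ht _ hS', indFun_one]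
      field_simp
    · obtain ⟨φ, hφ, hne, -⟩ := FrobKer.exists_eq_indFun K' hF hχ₀i.1 hχ₀i.2
      exact ⟨φ, hφ, hne⟩
  obtain ⟨m, hm⟩ := htint
  refine ⟨m, ?_⟩
  intro χ hχ k hk hk1
  have h1 := hconst χ hχ k k₀ hk hk₀K hk1 hk₀1
  have h2 : star χ k - χ k = δ χ k := rfl
  rw [h2, h1, ht χ hχ, hm]

theorem inner_star_eq_zero [Fintype ↥𝒩] (S : Set (↥𝒩 → ℂ))
    (star : (↥𝒩 → ℂ) → (G → ℂ)) (hstar : IsLinearIsometryOn (zspan S) star)
    {χ : ↥𝒩 → ℂ} (hχ : χ ∈ S) (hχi : IsIrrCharacter ↥𝒩 χ) {ψ : G → ℂ}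
    (hψ : IsIrrCharacter G ψ) (h1 : ψ ≠ star χ) (h2 : ψ ≠ -star χ) :
    classInner (star χ) ψ = 0 := by
  have hχ' : χ ∈ zspan S := Submodule.subset_span hχ
  have hnorm : classInner (star χ) (star χ) = 1 := by
    rw [hstar.2.2.1 χ hχ' χ hχ', irr_orthogonality hχi hχi, if_pos rfl]
  rcases genChar_norm_one (hstar.2.2.2 χ hχ') hnorm with h | h
  · rw [irr_orthogonality h hψ, if_neg (fun e => h1 e.symm)]
  · have := irr_orthogonality h hψ
    rw [if_neg (fun e => h2 e.symm), classInner_neg_left] at this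
    exact neg_eq_zero.mp this

/-- The exceptional characters are the irreducible characters that are not constant on
`K ∖ 1`. -/
theorem iff_nonconst [Fintype ↥𝒩]
    (hTI : ∀ g : G, g ∉ 𝒩 → ∀ k ∈ K, g * k * g⁻¹ ∈ K → k = 1) (hlt : K < 𝒩)
    (hC : ∀ k ∈ K, k ≠ 1 → Subgroup.centralizer ({k} : Set G) ≤ K)
    (S : Set (↥𝒩 → ℂ))
    (hS : S = {χ : ↥𝒩 → ℂ | IsIrrCharacter ↥𝒩 χ ∧ ∃ k : ↥𝒩, (k : G) ∈ K ∧ χ k ≠ χ 1})
    (htwo : ∃ χ ∈ S, ∃ ξ ∈ S, χ ≠ ξ)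
    (star : (↥𝒩 → ℂ) → (G → ℂ)) (hstar : IsLinearIsometryOn (zspan S) star)
    (hext : ∀ α ∈ zspanOn S ({1}ᶜ : Set ↥𝒩), star α = indFun 𝒩 α)
    (ψ : G → ℂ) (hψ : IsIrrCharacter G ψ) :
    (∃ χ ∈ S, ψ = star χ ∨ ψ = -star χ) ↔
      ∃ a ∈ K, ∃ b ∈ K, a ≠ 1 ∧ b ≠ 1 ∧ ψ a ≠ ψ b := by
  classical
  haveI : (K.subgroupOf 𝒩).Normal := Subgroup.normal_in_normalizer
  letI : Fintype (K.subgroupOf 𝒩) := Fintype.ofFinite _
  have hKN : K ≤ 𝒩 := Subgroup.le_normalizer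
  constructor
  · rintro ⟨χ, hχ, hψχ⟩
    by_contra hcon
    push Not at hcon
    have hχi := (mem_S_iff K S hS).mp hχ
    obtain ⟨k₀, hk₀, hk₀ne⟩ := hχi.2
    have hk₀1 : k₀ ≠ 1 := fun h => hk₀ne (by rw [h])
    have hk₀K : (k₀ : G) ∈ K := Subgroup.mem_subgroupOf.mp hk₀
    obtain ⟨m, hm⟩ := exists_int K hTI hlt hC S hS ⟨χ, hχ⟩ star hstar hext
    have hsc : ∀ k : ↥𝒩, (k : G) ∈ K → k ≠ 1 → star χ k = star χ k₀ := by
      intro k hk hk1
      have hk1' : (k : G) ≠ 1 := fun h => hk1 (Subtype.ext h)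
      have hk₀1' : (k₀ : G) ≠ 1 := fun h => hk₀1 (Subtype.ext h)
      have := hcon k hk k₀ hk₀K hk1' hk₀1'
      rcases hψχ with h | h
      · rw [h] at this; exact this
      · rw [h] at this; simpa using this
    have hχc : ∀ k : ↥𝒩, (k : G) ∈ K → k ≠ 1 → χ k = χ k₀ := by
      intro k hk hk1
      have h1 := hm χ hχ k hk hk1
      have h2 := hm χ hχ k₀ hk₀K hk₀1
      rw [hsc k hk hk1] at h1
      have : star χ k₀ - χ k = star χ k₀ - χ k₀ := by rw [h1, h2]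
      linear_combination -this
    obtain ⟨ξ, hξ, hξne⟩ : ∃ ξ ∈ S, ξ ≠ χ := by
      obtain ⟨χ₁, hχ₁, ξ₁, hξ₁, hne⟩ := htwo
      by_cases h : χ₁ = χ
      · exact ⟨ξ₁, hξ₁, fun h' => hne (h.trans h'.symm)⟩
      · exact ⟨χ₁, hχ₁, h⟩
    have hξi := (mem_S_iff K S hS).mp hξ
    have horth : classInner χ ξ = 0 := by
      rw [irr_orthogonality hχi.1 hξi.1, if_neg (Ne.symm hξne)]
    have hsum0 : ∑ x : ↥𝒩, χ x * conj (ξ x) = 0 := by
      unfold classInner at horth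
      rcases mul_eq_zero.mp horth with h | h
      · exfalso
        rw [inv_eq_zero, Nat.cast_eq_zero] at h
        exact (Nat.card_pos (α := ↥𝒩)).ne' h
      · exact h
    have hξsum := FrobKer.sum_K_eq_zero (K.subgroupOf 𝒩) hξi.1 hξi.2
    rw [← FrobKer.sum_ite_mem (K.subgroupOf 𝒩) ξ] at hξsum
    have hpt : ∀ x : ↥𝒩, χ x * conj (ξ x) =
        χ k₀ * conj (if x ∈ K.subgroupOf 𝒩 then ξ x else 0) +
          (if x = 1 then (χ 1 - χ k₀) * ξ 1 else 0) := by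
      intro x
      by_cases hx : x ∈ K.subgroupOf 𝒩
      · rw [if_pos hx]
        by_cases hx1 : x = 1
        · rw [if_pos hx1, hx1]
          obtain ⟨n, -, hn⟩ := irr_one_eq hξi.1
          rw [hn, Complex.conj_natCast]; ring
        · rw [if_neg hx1, hχc x (Subgroup.mem_subgroupOf.mp hx) hx1, add_zero]
      · have hx1 : x ≠ 1 := by
          intro h
          exact hx (h ▸ (K.subgroupOf 𝒩).one_mem)
        rw [if_neg hx, FrobKer.vanish_off _ (fpf K hC) hχi.1 hχi.2 hx, if_neg hx1, map_zero]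
        ring
    rw [Finset.sum_congr rfl (fun x _ => hpt x), Finset.sum_add_distrib, ← Finset.mul_sum,
      ← map_sum, hξsum, map_zero, mul_zero, zero_add] at hsum0
    simp only [Finset.sum_ite_eq', Finset.mem_univ, if_true] at hsum0
    obtain ⟨n, hn, hn1⟩ := irr_one_eq hξi.1
    have hξ0 : ξ 1 ≠ 0 := by
      rw [hn1]
      have : n ≠ 0 := by omega
      exact_mod_cast this
    rcases mul_eq_zero.mp hsum0 with h | h
    · exact hk₀ne (sub_eq_zero.mp h).symm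
    · exact hξ0 h
  · rintro ⟨a, ha, b, hb, ha1, hb1, hne⟩
    by_contra hcon
    push Not at hcon
    apply hne
    have hcf : IsClassFunction ↥𝒩 (fun x : ↥𝒩 => ψ x) := by
      intro g h
      exact isClassFunction_of_isIrrCharacter hψ g h
    have key := const_of_orth K S hS hcf ?_ (a := ⟨a, hKN ha⟩) (b := ⟨b, hKN hb⟩) ha hb
      (fun h => ha1 (congrArg Subtype.val h)) (fun h => hb1 (congrArg Subtype.val h))
    · exact key
    · intro χ hχ ξ hξ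
      have hχi := (mem_S_iff K S hS).mp hχ
      have hξi := (mem_S_iff K S hS).mp hξ
      rw [← inner_star_alpha K S hS star hext hχ hξ (isClassFunction_of_isIrrCharacter hψ),
        star_alpha hstar hχ hξ hχi.1 hξi.1, classInner_sub_left, classInner_smul_left,
        classInner_smul_left,
        inner_star_eq_zero K S star hstar hχ hχi.1 hψ (hcon χ hχ).1 (hcon χ hχ).2,
        inner_star_eq_zero K S star hstar hξ hξi.1 hψ (hcon ξ hξ).1 (hcon ξ hξ).2]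
      ring

end Setup

end Cfsg.Agent.Helper5.TIFN
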