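import Mathlib
import Cfsg.Agent.Lib.Helper5.TIFN

/-!
# Subgroups of prime order equal to their centralizer (helper5)

Group-theoretic preliminaries: such a subgroup is a T.I. subgroup whose normalizer is a Frobenius
group with it as kernel.
-/

set_option autoImplicit false
set_option linter.unusedVariables false
set_option linter.unusedSectionVars false

namespace Cfsg.Agent.Helper5.PrimeTI

universe u

section Group

variable {G : Type u} [Group G] (P : Subgroup G) {p : ℕ}

/-- every element of a subgroup of prime order is a power of any nonidentity element -/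
theorem exists_pow (hp : p.Prime) (hcard : Nat.card P = p) {k : G} (hk : k ∈ P) (hk1 : k ≠ 1)
    {y : G} (hy : y ∈ P) : ∃ n : ℕ, y = k ^ n := by
  haveI : Fact p.Prime := ⟨hp⟩
  have h := mem_powers_of_prime_card (G := P) hcard (g := ⟨k, hk⟩) (g' := ⟨y, hy⟩)
    (fun h => hk1 (congrArg Subtype.val h))
  obtain ⟨n, hn⟩ := h
  refine ⟨n, ?_⟩
  have := congrArg Subtype.val hn
  simpa using this.symm

theorem comm_of_prime (hp : p.Prime) (hcard : Nat.card P = p) :
    ∀ a ∈ P, ∀ b ∈ P, a * b = b * a := by
  intro a ha b hb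
  by_cases ha1 : a = 1
  · subst ha1; simp
  obtain ⟨n, rfl⟩ := exists_pow P hp hcard ha ha1 hb
  exact (Commute.pow_right (Commute.refl a) n).eq

theorem centralizer_singleton_le (hp : p.Prime) (hcard : Nat.card P = p)
    (hcent : Subgroup.centralizer (P : Set G) ≤ P) :
    ∀ k ∈ P, k ≠ 1 → Subgroup.centralizer ({k} : Set G) ≤ P := by
  intro k hk hk1 x hx
  apply hcent
  rw [Subgroup.mem_centralizer_iff]
  intro y hy
  obtain ⟨n, rfl⟩ := exists_pow P hp hcard hk hk1 hy
  rw [Subgroup.mem_centralizer_iff] at hx
  have h1 : k * x = x * k := hx k (Set.mem_singleton k)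
  have : Commute k x := h1
  exact (this.pow_left n).eq

theorem ti_of_prime [Finite G] (hp : p.Prime) (hcard : Nat.card P = p) :
    ∀ g : G, g ∉ Subgroup.normalizer (P : Set G) → ∀ k ∈ P, g * k * g⁻¹ ∈ P → k = 1 := by
  intro g hg k hk hgk
  by_contra hk1
  apply hg
  have hfwd : ∀ y ∈ P, g * y * g⁻¹ ∈ P := by
    intro y hy
    obtain ⟨n, rfl⟩ := exists_pow P hp hcard hk hk1 hy
    rw [← conj_pow]
    exact Subgroup.pow_mem _ hgk n
  rw [Subgroup.mem_normalizer_iff]
  intro h
  refine ⟨hfwd h, fun hh => ?_⟩
  -- conjugation is an injective self-map of the finite set `P`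
  let φ : P → P := fun y => ⟨g * y.1 * g⁻¹, hfwd y.1 y.2⟩
  have hinj : Function.Injective φ := by
    intro y z hyz
    have := congrArg Subtype.val hyz
    simp only [φ] at this
    apply Subtype.ext
    have h2 := mul_right_cancel this
    exact mul_left_cancel h2
  haveI : Finite P := inferInstance
  have hsurj : Function.Surjective φ := Finite.surjective_of_injective hinj
  obtain ⟨y, hy⟩ := hsurj ⟨g * h * g⁻¹, hh⟩
  have := congrArg Subtype.val hy
  simp only [φ] at this
  have h2 := mul_right_cancel this
  have h3 : y.1 = h := mul_left_cancel h2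
  rw [← h3]
  exact y.2

theorem lt_normalizer {e : ℕ}
    (hidx : (P.subgroupOf (Subgroup.normalizer (P : Set G))).index = e) (he : 2 ≤ e) :
    P < Subgroup.normalizer (P : Set G) := by
  refine lt_of_le_of_ne Subgroup.le_normalizer fun h => ?_
  have : P.subgroupOf (Subgroup.normalizer (P : Set G)) = ⊤ := by
    rw [Subgroup.subgroupOf_eq_top]
    exact h.ge
  rw [this, Subgroup.index_top] at hidx
  omega

end Group

end Cfsg.Agent.Helper5.PrimeTI
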