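import Mathlib
import Cfsg.Agent.Lib.Helper5.PrimeTIa

/-!
# Subgroups of prime order equal to their centralizer: characters of the normalizer (helper5)
-/

set_option autoImplicit false
set_option linter.unusedVariables false
set_option linter.unusedSectionVars false
set_option linter.style.haveILetI false

namespace Cfsg.Agent.Helper5.PrimeTI

open Cfsg Cfsg.Agent.Helper24 Cfsg.Agent.Helper5 Cfsg.Agent.Helper8 Cfsg.Agent.Helper18
open scoped ComplexConjugate

universe u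

section Sub

variable {X : Type u} [Group X] [Fintype X] [Fintype (IrrCharacter X)]

/-- turning an `if`-sum over all irreducible characters into a sum over a subtype -/
theorem sum_ite_eq_sum_subtype (Q : IrrCharacter X → Prop) [DecidablePred Q]
    (F : Fintype {η : IrrCharacter X // Q η}) (g : IrrCharacter X → ℂ) :
    ∑ η : IrrCharacter X, (if Q η then g η else 0) = ∑ χ : {η : IrrCharacter X // Q η}, g χ.1 := by
  rw [← Finset.sum_filter]
  exact Finset.sum_subtype (Finset.univ.filter Q) (fun x => by simp) g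

end Sub

section Char

variable {G : Type u} [Group G] [Fintype G] (P : Subgroup G) {p e t : ℕ}

local notation "𝒩" => Subgroup.normalizer (P : Set G)

/-- the relevant characters of the normalizer -/
abbrev Rel' : Type u :=
  {χ : IrrCharacter ↥𝒩 // ∃ k : ↥𝒩, (k : G) ∈ P ∧ (χ : ↥𝒩 → ℂ) k ≠ (χ : ↥𝒩 → ℂ) 1}

theorem rel'_iff (χ : IrrCharacter ↥𝒩) :
    (∃ k : ↥𝒩, (k : G) ∈ P ∧ (χ : ↥𝒩 → ℂ) k ≠ (χ : ↥𝒩 → ℂ) 1) ↔
      FrobKer.Rel (P.subgroupOf 𝒩) (χ : ↥𝒩 → ℂ) := Iff.rfl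

variable [Fintype ↥(Subgroup.normalizer (P : Set G))]
  (hp : p.Prime) (hcard : Nat.card P = p)
  (hcent : Subgroup.centralizer (P : Set G) ≤ P)
  (hidx : (P.subgroupOf (Subgroup.normalizer (P : Set G))).index = e)

include hp hcard in
theorem hab' : ∀ a b : P.subgroupOf 𝒩, a * b = b * a := by
  intro a b
  apply Subtype.ext
  apply Subtype.ext
  exact comm_of_prime P hp hcard _ (Subgroup.mem_subgroupOf.mp a.2) _ (Subgroup.mem_subgroupOf.mp b.2)

include hp hcard hcent in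
theorem hF' : ∀ k ∈ P.subgroupOf 𝒩, k ≠ 1 → ∀ x : ↥𝒩, x * k = k * x → x ∈ P.subgroupOf 𝒩 :=
  TIFN.fpf P (centralizer_singleton_le P hp hcard hcent)

include hcard in
theorem card_subgroupOf : Nat.card (P.subgroupOf 𝒩) = p := by
  rw [← hcard]
  exact Nat.card_congr (Subgroup.subgroupOfEquivOfLe (Subgroup.le_normalizer (H := P))).toEquiv

include hp hcard hcent hidx in
/-- the relevant characters all have degree `e` -/
theorem rel_degree (χ : Rel' P) : (χ.1 : ↥𝒩 → ℂ) 1 = (e : ℂ) := by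
  haveI : (P.subgroupOf 𝒩).Normal := Subgroup.normal_in_normalizer
  rw [FrobKer.degree_of_rel_of_comm (P.subgroupOf 𝒩) (hF' P hp hcard hcent) (hab' P hp hcard)
    χ.1.2 χ.2, hidx]

include hp hcard hcent hidx in
/-- the number of relevant characters -/
theorem card_rel [Fintype (IrrCharacter ↥𝒩)] (he : 0 < e) (het : e * t + 1 = p) :
    Nat.card (Rel' P) = t := by
  haveI : (P.subgroupOf 𝒩).Normal := Subgroup.normal_in_normalizer
  have h := FrobKer.card_K_of_comm (P.subgroupOf 𝒩) (hF' P hp hcard hcent) (hab' P hp hcard)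
  rw [card_subgroupOf P hcard, hidx] at h
  have h2 : Nat.card (Rel' P) * e = t * e := by
    have : Nat.card (Rel' P) =
      Nat.card {η : IrrCharacter ↥𝒩 // FrobKer.Rel (P.subgroupOf 𝒩) (η : ↥𝒩 → ℂ)} := rfl
    rw [this]
    have h3 : e * t = t * e := mul_comm e t
    omega
  exact Nat.eq_of_mul_eq_mul_right he h2

open Classical in
include hp hcard hcent hidx in
/-- the relevant characters sum to `-1` at a nonidentity element of `P` -/
theorem sum_rel_apply [Fintype (IrrCharacter ↥𝒩)] [Fintype (Rel' P)] (he : 0 < e) {k : ↥𝒩} (hk : (k : G) ∈ P)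
    (hk1 : k ≠ 1) : ∑ χ : Rel' P, (χ.1 : ↥𝒩 → ℂ) k = -1 := by
  haveI : (P.subgroupOf 𝒩).Normal := Subgroup.normal_in_normalizer
  have h0 := FrobKer.sum_deg_mul (X := ↥𝒩) hk1
  have hk' : k ∈ P.subgroupOf 𝒩 := Subgroup.mem_subgroupOf.mpr hk
  have hsplit : ∀ η : IrrCharacter ↥𝒩, (η : ↥𝒩 → ℂ) 1 * (η : ↥𝒩 → ℂ) k =
      (if FrobKer.Rel (P.subgroupOf 𝒩) (η : ↥𝒩 → ℂ) then (e : ℂ) * (η : ↥𝒩 → ℂ) k else 0) +
      (if FrobKer.Rel (P.subgroupOf 𝒩) (η : ↥𝒩 → ℂ) then 0
        else (η : ↥𝒩 → ℂ) 1 * (η : ↥𝒩 → ℂ) 1) := by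
    intro η
    by_cases hr : FrobKer.Rel (P.subgroupOf 𝒩) (η : ↥𝒩 → ℂ)
    · rw [if_pos hr, if_pos hr, add_zero, rel_degree P hp hcard hcent hidx ⟨η, hr⟩]
    · rw [if_neg hr, if_neg hr, zero_add, FrobKer.not_rel hr hk']
  rw [Finset.sum_congr rfl (fun η _ => hsplit η), Finset.sum_add_distrib,
    FrobKer.sum_nonrel_sq (P.subgroupOf 𝒩), hidx,
    sum_ite_eq_sum_subtype (fun η : IrrCharacter ↥𝒩 => FrobKer.Rel (P.subgroupOf 𝒩) (η : ↥𝒩 → ℂ))
      ‹Fintype (Rel' P)› (fun η => (e : ℂ) * (η : ↥𝒩 → ℂ) k), ← Finset.mul_sum] at h0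
  have he0 : (e : ℂ) ≠ 0 := by exact_mod_cast he.ne'
  have h1 : (e : ℂ) * (∑ χ : Rel' P, (χ.1 : ↥𝒩 → ℂ) k + 1) = 0 := by
    rw [mul_add, mul_one]; exact h0
  rcases mul_eq_zero.mp h1 with h | h
  · exact absurd h he0
  · linear_combination h

include hp hcard hcent in
/-- the centralizer in the normalizer of a nonidentity element of `P` has order `p` -/
theorem card_centralizer_normalizer {k : ↥𝒩} (hk : (k : G) ∈ P) (hk1 : k ≠ 1) :
    Nat.card (Subgroup.centralizer ({k} : Set ↥𝒩)) = p := by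
  have hk' : k ∈ P.subgroupOf 𝒩 := Subgroup.mem_subgroupOf.mpr hk
  have : Subgroup.centralizer ({k} : Set ↥𝒩) = P.subgroupOf 𝒩 := by
    apply le_antisymm
    · intro x hx
      rw [Subgroup.mem_centralizer_iff] at hx
      exact hF' P hp hcard hcent k hk' hk1 x (hx k (Set.mem_singleton k)).symm
    · intro x hx
      rw [Subgroup.mem_centralizer_iff]
      intro y hy
      rw [Set.mem_singleton_iff] at hy
      subst hy
      have := hab' P hp hcard ⟨y, hk'⟩ ⟨x, hx⟩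
      exact congrArg Subtype.val this
  rw [this, card_subgroupOf P hcard]

include hp hcard hcent in
/-- the centralizer in `G` of a nonidentity element of `P` has order `p` -/
theorem card_centralizer {k : G} (hk : k ∈ P) (hk1 : k ≠ 1) :
    Nat.card (Subgroup.centralizer ({k} : Set G)) = p := by
  have : Subgroup.centralizer ({k} : Set G) = P := by
    apply le_antisymm
    · exact centralizer_singleton_le P hp hcard hcent k hk hk1
    · intro x hx
      rw [Subgroup.mem_centralizer_iff]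
      intro y hy
      rw [Set.mem_singleton_iff] at hy
      subst hy
      exact comm_of_prime P hp hcard _ hk _ hx
  rw [this, hcard]

open Classical in
include hp hcard hcent hidx in
/-- the squared absolute values of the relevant characters at a nonidentity element of `P`
sum to `p - e` -/
theorem sum_rel_normSq [Fintype (IrrCharacter ↥𝒩)] [Fintype (Rel' P)] {k : ↥𝒩} (hk : (k : G) ∈ P)
    (hk1 : k ≠ 1) :
    ∑ χ : Rel' P, (χ.1 : ↥𝒩 → ℂ) k * conj ((χ.1 : ↥𝒩 → ℂ) k) = (p : ℂ) - (e : ℂ) := by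
  haveI : (P.subgroupOf 𝒩).Normal := Subgroup.normal_in_normalizer
  have h0 := second_orthogonality' (G := ↥𝒩) k k
  rw [if_pos (IsConj.refl k), card_centralizer_normalizer P hp hcard hcent hk hk1] at h0
  have hk' : k ∈ P.subgroupOf 𝒩 := Subgroup.mem_subgroupOf.mpr hk
  have hsplit : ∀ η : IrrCharacter ↥𝒩, (η : ↥𝒩 → ℂ) k * conj ((η : ↥𝒩 → ℂ) k) =
      (if FrobKer.Rel (P.subgroupOf 𝒩) (η : ↥𝒩 → ℂ) then
        (η : ↥𝒩 → ℂ) k * conj ((η : ↥𝒩 → ℂ) k) else 0) +
      (if FrobKer.Rel (P.subgroupOf 𝒩) (η : ↥𝒩 → ℂ) then 0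
        else (η : ↥𝒩 → ℂ) 1 * (η : ↥𝒩 → ℂ) 1) := by
    intro η
    by_cases hr : FrobKer.Rel (P.subgroupOf 𝒩) (η : ↥𝒩 → ℂ)
    · rw [if_pos hr, if_pos hr, add_zero]
    · rw [if_neg hr, if_neg hr, zero_add, FrobKer.not_rel hr hk']
      obtain ⟨n, -, hn⟩ := irr_one_eq η.2
      rw [hn, Complex.conj_natCast]
  rw [Finset.sum_congr rfl (fun η _ => hsplit η), Finset.sum_add_distrib,
    FrobKer.sum_nonrel_sq (P.subgroupOf 𝒩), hidx,
    sum_ite_eq_sum_subtype (fun η : IrrCharacter ↥𝒩 => FrobKer.Rel (P.subgroupOf 𝒩) (η : ↥𝒩 → ℂ))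
      ‹Fintype (Rel' P)› (fun η => (η : ↥𝒩 → ℂ) k * conj ((η : ↥𝒩 → ℂ) k))] at h0
  have h1 : ∑ χ : Rel' P, (χ.1 : ↥𝒩 → ℂ) k * conj ((χ.1 : ↥𝒩 → ℂ) k) + (e : ℂ) = (p : ℂ) := h0
  linear_combination h1

end Char

end Cfsg.Agent.Helper5.PrimeTI
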