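import Mathlib
import Cfsg.Agent.Lib.Helper5.PrimeTIb
import Cfsg.Agent.S0850

/-!
# Subgroups of prime order equal to their centralizer: exceptional characters (helper5)
-/

set_option autoImplicit false
set_option linter.unusedVariables false
set_option linter.unusedSectionVars false
set_option linter.style.haveILetI false

namespace Cfsg.Agent.Helper5.PrimeTI

open Cfsg Cfsg.Agent.Helper24 Cfsg.Agent.Helper5 Cfsg.Agent.Helper8 Cfsg.Agent.Helper18
open scoped ComplexConjugate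

universe u

section Exc

variable {G : Type u} [Group G] [Fintype G] (P : Subgroup G) {p e t : ℕ}

local notation "𝒩" => Subgroup.normalizer (P : Set G)

variable [Fintype ↥(Subgroup.normalizer (P : Set G))]
  (hp : p.Prime) (hcard : Nat.card P = p)
  (hcent : Subgroup.centralizer (P : Set G) ≤ P)
  (hidx : (P.subgroupOf (Subgroup.normalizer (P : Set G))).index = e)
  (he : 2 ≤ e)
  (ε : ℂ) (f : Rel' P → IrrCharacter G) (hε : ε = 1 ∨ ε = -1) (hinj : Function.Injective f)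
  (hind : ∀ χ ξ : Rel' P,
    indFun (Subgroup.normalizer (P : Set G))
      ((χ.1 : ↥(Subgroup.normalizer (P : Set G)) → ℂ) -
        (ξ.1 : ↥(Subgroup.normalizer (P : Set G)) → ℂ)) =
      ε • ((f χ : G → ℂ) - (f ξ : G → ℂ)))

include hε in
theorem eps_sq : ε * ε = 1 := by
  rcases hε with h | h <;> rw [h] <;> norm_num

include hε in
theorem eps_conj : conj ε = ε := by
  rcases hε with h | h <;> rw [h] <;> simp

include hε in
theorem eps_ne_zero : ε ≠ 0 := by
  rcases hε with h | h <;> rw [h] <;> norm_num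

include hp hcard hcent hidx hε hind in
/-- the exceptional characters have a common degree -/
theorem deg_eq (χ ξ : Rel' P) : (f χ : G → ℂ) 1 = (f ξ : G → ℂ) 1 := by
  have h := congrFun (hind χ ξ) 1
  rw [indFun_one, Pi.sub_apply, rel_degree P hp hcard hcent hidx χ,
    rel_degree P hp hcard hcent hidx ξ, sub_self, mul_zero, Pi.smul_apply, Pi.sub_apply,
    smul_eq_mul] at h
  rcases mul_eq_zero.mp h.symm with h | h
  · exact absurd h (eps_ne_zero ε hε)
  · exact sub_eq_zero.mp h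

theorem isClassFunction_sub' {X : Type u} [Group X] {a b : X → ℂ} (ha : IsClassFunction X a)
    (hb : IsClassFunction X b) : IsClassFunction X (a - b) := by
  intro g h
  rw [Pi.sub_apply, Pi.sub_apply, ha, hb]

include hp hcard hcent hidx he hε hind in
/-- differences of exceptional characters on the normalizer -/
theorem diff_apply (χ ξ : Rel' P) (x : ↥𝒩) :
    (f χ : G → ℂ) x - (f ξ : G → ℂ) x =
      ε * ((χ.1 : ↥𝒩 → ℂ) x - (ξ.1 : ↥𝒩 → ℂ) x) := by
  haveI : (P.subgroupOf 𝒩).Normal := Subgroup.normal_in_normalizer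
  have hTI := ti_of_prime P hp hcard
  have hlt := lt_normalizer P hidx he
  have hC := centralizer_singleton_le P hp hcard hcent
  have hF := hF' P hp hcard hcent
  have h0 := (Cfsg.Agent.S0850.result P hTI hlt hC).2
    ((χ.1 : ↥𝒩 → ℂ) - (ξ.1 : ↥𝒩 → ℂ))
    (isClassFunction_sub' (isClassFunction_of_isIrrCharacter χ.1.2)
      (isClassFunction_of_isIrrCharacter ξ.1.2))
    (by
      intro y hy
      have hy' : y ∉ P.subgroupOf 𝒩 := fun h => hy (Subgroup.mem_subgroupOf.mp h)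
      rw [Pi.sub_apply, FrobKer.vanish_off (P.subgroupOf 𝒩) hF χ.1.2 χ.2 hy',
        FrobKer.vanish_off (P.subgroupOf 𝒩) hF ξ.1.2 ξ.2 hy', sub_zero])
    (by
      rw [Pi.sub_apply, rel_degree P hp hcard hcent hidx χ, rel_degree P hp hcard hcent hidx ξ,
        sub_self])
    x
  rw [hind χ ξ, Pi.smul_apply, Pi.sub_apply, smul_eq_mul, Pi.sub_apply] at h0
  have h2 := eps_sq ε hε
  calc (f χ : G → ℂ) x - (f ξ : G → ℂ) x
      = (ε * ε) * ((f χ : G → ℂ) x - (f ξ : G → ℂ) x) := by rw [h2, one_mul]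
    _ = ε * (ε * ((f χ : G → ℂ) x - (f ξ : G → ℂ) x)) := by ring
    _ = ε * ((χ.1 : ↥𝒩 → ℂ) x - (ξ.1 : ↥𝒩 → ℂ) x) := by rw [h0]

include hinj in
theorem orth_transfer (χ ξ : Rel' P) :
    classInner (f χ : G → ℂ) (f ξ : G → ℂ) =
      classInner (χ.1 : ↥𝒩 → ℂ) (ξ.1 : ↥𝒩 → ℂ) := by
  rw [irr_orthogonality (f χ).2 (f ξ).2, irr_orthogonality χ.1.2 ξ.1.2]
  by_cases h : χ = ξ
  · subst h
    rw [if_pos rfl, if_pos rfl]
  · rw [if_neg, if_neg]
    · intro h'
      exact h (Subtype.ext (Subtype.ext h'))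
    · intro h'
      exact h (hinj (Subtype.ext h'))

theorem alpha_eq {X : Type u} [Group X] [Fintype X] (a b : X → ℂ) (c : ℂ) (ha : a 1 = c) (hb : b 1 = c) :
    TIFN.alpha a b = c • (a - b) := by
  funext x
  rw [TIFN.alpha_apply, ha, hb, Pi.smul_apply, Pi.sub_apply, smul_eq_mul]
  ring

include hp hcard hcent hidx hε hinj hind in
/-- an exceptional character minus `ε` times its source is constant on `P ∖ 1` -/
theorem exc_const (χ₀ : Rel' P) {a b : ↥𝒩} (ha : (a : G) ∈ P) (hb : (b : G) ∈ P)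
    (ha1 : a ≠ 1) (hb1 : b ≠ 1) :
    (f χ₀ : G → ℂ) a - ε * (χ₀.1 : ↥𝒩 → ℂ) a = (f χ₀ : G → ℂ) b - ε * (χ₀.1 : ↥𝒩 → ℂ) b := by
  set S : Set (↥𝒩 → ℂ) :=
    {χ : ↥𝒩 → ℂ | IsIrrCharacter ↥𝒩 χ ∧ ∃ k : ↥𝒩, (k : G) ∈ P ∧ χ k ≠ χ 1} with hS
  have hcfG := isClassFunction_of_isIrrCharacter (f χ₀).2
  have hδ : IsClassFunction ↥𝒩
      ((fun x : ↥𝒩 => (f χ₀ : G → ℂ) x) - ε • (χ₀.1 : ↥𝒩 → ℂ)) := by
    intro g h
    have h1 := hcfG (g : G) (h : G)
    have h2 := isClassFunction_of_isIrrCharacter χ₀.1.2 g h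
    simp only [Pi.sub_apply, Pi.smul_apply, smul_eq_mul]
    rw [h2]
    have : ((h * g * h⁻¹ : ↥𝒩) : G) = (h : G) * (g : G) * (h : G)⁻¹ := by simp
    rw [this, h1]
  have key := TIFN.const_of_orth P S hS hδ ?_ ha hb ha1 hb1
  · simpa [Pi.sub_apply, Pi.smul_apply, smul_eq_mul] using key
  · intro χ' hχ' ξ' hξ'
    let χ'' : Rel' P := ⟨⟨χ', hχ'.1⟩, hχ'.2⟩
    let ξ'' : Rel' P := ⟨⟨ξ', hξ'.1⟩, hξ'.2⟩
    have hd1 : χ' 1 = (e : ℂ) := rel_degree P hp hcard hcent hidx χ''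
    have hd2 : ξ' 1 = (e : ℂ) := rel_degree P hp hcard hcent hidx ξ''
    rw [alpha_eq χ' ξ' (e : ℂ) hd1 hd2, classInner_smul_left, classInner_sub_right,
      classInner_smul_right, eps_conj ε hε]
    have h1 : classInner (χ' - ξ') (fun x : ↥𝒩 => (f χ₀ : G → ℂ) x) =
        ε * (classInner χ' (χ₀.1 : ↥𝒩 → ℂ) - classInner ξ' (χ₀.1 : ↥𝒩 → ℂ)) := by
      rw [← frobenius_reciprocity 𝒩 (χ' - ξ') hcfG]
      have := hind χ'' ξ''
      rw [show (χ''.1 : ↥𝒩 → ℂ) = χ' from rfl, show (ξ''.1 : ↥𝒩 → ℂ) = ξ' from rfl] at this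
      rw [this, classInner_smul_left, classInner_sub_left, orth_transfer P f hinj χ'' χ₀,
        orth_transfer P f hinj ξ'' χ₀]
    rw [h1, classInner_sub_left]
    ring

end Exc

end Cfsg.Agent.Helper5.PrimeTI
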