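import Mathlib
import Cfsg.Agent.Lib.Helper5.PrimeTIc

/-!
# Subgroups of prime order equal to their centralizer: integrality and non-exceptional
characters (helper5)
-/

set_option autoImplicit false
set_option linter.unusedVariables false
set_option linter.unusedSectionVars false
set_option linter.style.haveILetI false

namespace Cfsg.Agent.Helper5.PrimeTI

open Cfsg Cfsg.Agent.Helper24 Cfsg.Agent.Helper5 Cfsg.Agent.Helper8 Cfsg.Agent.Helper18
open scoped ComplexConjugate

universe u

section Int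

variable {G : Type u} [Group G] [Fintype G] (P : Subgroup G) {p e t : ℕ}

local notation "𝒩" => Subgroup.normalizer (P : Set G)

variable [Fintype ↥(Subgroup.normalizer (P : Set G))]
  [Fintype ↥(P.subgroupOf (Subgroup.normalizer (P : Set G)))]
  (hp : p.Prime) (hcard : Nat.card P = p)
  (hcent : Subgroup.centralizer (P : Set G) ≤ P)
  (hidx : (P.subgroupOf (Subgroup.normalizer (P : Set G))).index = e)

include hcard in
/-- a character of `G` sums over `P` to a multiple of `p` -/
theorem sum_char_subgroupOf {θ : G → ℂ} (hθ : IsCharacter G θ) :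
    ∃ m : ℕ, ∑ k : P.subgroupOf 𝒩, θ ((k : ↥𝒩) : G) = (p : ℂ) * m := by
  have h1 := isCharacter_restrict 𝒩 hθ
  have h2 := isCharacter_restrict (P.subgroupOf 𝒩) h1
  letI : Fintype (IrrCharacter ↥(P.subgroupOf 𝒩)) := irrFintype
  obtain ⟨m, hm⟩ := classInner_char_nat h2 (isCharacter_one (G := ↥(P.subgroupOf 𝒩)))
  refine ⟨m, ?_⟩
  unfold classInner at hm
  simp only [map_one, mul_one] at hm
  rw [card_subgroupOf P hcard] at hm
  have hp0 : (p : ℂ) ≠ 0 := by
    have : 0 < p := by rw [← hcard]; exact Nat.card_pos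
    exact_mod_cast this.ne'
  rw [← hm]
  field_simp

include hp hcard in
/-- a function on the normalizer, constant on `P ∖ 1` with an integral value, integral at `1` and
with sum over `P` divisible by `p`, has an integer constant congruent to its value at `1` -/
theorem const_int (δ : ↥𝒩 → ℂ) (v : ℂ) (hv : ∀ k : ↥𝒩, (k : G) ∈ P → k ≠ 1 → δ k = v)
    (m z1 : ℤ) (hsum : ∑ k : P.subgroupOf 𝒩, δ k = (p : ℂ) * m) (h1 : δ 1 = z1)
    (hint : IsIntegral ℤ v) : ∃ w : ℤ, v = w ∧ z1 ≡ w [ZMOD p] := by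
  classical
  have hsplit : ∑ k : P.subgroupOf 𝒩, δ k = δ 1 + ((p - 1 : ℕ) : ℂ) * v := by
    rw [← Finset.add_sum_erase Finset.univ _ (Finset.mem_univ (1 : P.subgroupOf 𝒩))]
    congr 1
    rw [Finset.sum_congr rfl (g := fun _ => v)]
    · rw [Finset.sum_const, Finset.card_erase_of_mem (Finset.mem_univ _), Finset.card_univ,
        ← Nat.card_eq_fintype_card, card_subgroupOf P hcard, nsmul_eq_mul]
    · intro k hk
      have hk1 : k ≠ 1 := Finset.ne_of_mem_erase hk
      exact hv k (Subgroup.mem_subgroupOf.mp k.2) (fun h => hk1 (Subtype.ext h))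
  have hp1 : p - 1 ≠ 0 := by have := hp.two_le; omega
  have hmul : ((p - 1 : ℕ) : ℂ) * v = ((p * m - z1 : ℤ) : ℂ) := by
    push_cast
    rw [← hsum, hsplit, h1]
    ring
  obtain ⟨w, hw⟩ := TIFN.int_of_isIntegral_of_mul_eq hint hp1 hmul
  refine ⟨w, hw, ?_⟩
  rw [hw] at hmul
  have hz : ((p - 1 : ℕ) : ℤ) * w = p * m - z1 := by exact_mod_cast hmul
  have hp1' : ((p - 1 : ℕ) : ℤ) = (p : ℤ) - 1 := by
    have := hp.one_le
    push_cast [Nat.cast_sub this]
    ring
  rw [hp1'] at hz
  rw [Int.modEq_iff_dvd]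
  refine ⟨w - m, ?_⟩
  linear_combination -hz

end Int

end Cfsg.Agent.Helper5.PrimeTI
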