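import Mathlib
import Cfsg.Agent.Lib.Helper5.PrimeTId
import Cfsg.Agent.S0851

/-!
# Subgroups of prime order equal to their centralizer: the main theorem (helper5)
-/

set_option autoImplicit false
set_option linter.unusedVariables false
set_option linter.unusedSectionVars false
set_option linter.style.haveILetI false

namespace Cfsg.Agent.Helper5.PrimeTI

open Cfsg Cfsg.Agent.Helper24 Cfsg.Agent.Helper5 Cfsg.Agent.Helper8 Cfsg.Agent.Helper18
open scoped ComplexConjugate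

universe u

section NonExc

variable {G : Type u} [Group G] [Fintype G] (P : Subgroup G) {p e t : ℕ}

local notation "𝒩" => Subgroup.normalizer (P : Set G)

variable [Fintype ↥(Subgroup.normalizer (P : Set G))]
  (hp : p.Prime) (hcard : Nat.card P = p)
  (hcent : Subgroup.centralizer (P : Set G) ≤ P)
  (hidx : (P.subgroupOf (Subgroup.normalizer (P : Set G))).index = e)
  (he : 2 ≤ e)
  (ε : ℂ) (f : Rel' P → IrrCharacter G) (hε : ε = 1 ∨ ε = -1) (hinj : Function.Injective f)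
  (hind : ∀ χ ξ : Rel' P,
    indFun (Subgroup.normalizer (P : Set G))
      ((χ.1 : ↥(Subgroup.normalizer (P : Set G)) → ℂ) -
        (ξ.1 : ↥(Subgroup.normalizer (P : Set G)) → ℂ)) =
      ε • ((f χ : G → ℂ) - (f ξ : G → ℂ)))

include hp hcard hcent hidx hind in
/-- a non-exceptional character is constant on `P ∖ 1` -/
theorem nonexc_const (ψ : IrrCharacter G) (hψ : ∀ χ : Rel' P, f χ ≠ ψ) {a b : ↥𝒩}
    (ha : (a : G) ∈ P) (hb : (b : G) ∈ P) (ha1 : a ≠ 1) (hb1 : b ≠ 1) :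
    (ψ : G → ℂ) a = (ψ : G → ℂ) b := by
  set S : Set (↥𝒩 → ℂ) :=
    {χ : ↥𝒩 → ℂ | IsIrrCharacter ↥𝒩 χ ∧ ∃ k : ↥𝒩, (k : G) ∈ P ∧ χ k ≠ χ 1} with hS
  have hcfG := isClassFunction_of_isIrrCharacter ψ.2
  have hδ : IsClassFunction ↥𝒩 (fun x : ↥𝒩 => (ψ : G → ℂ) x) := by
    intro g h
    have h1 := hcfG (g : G) (h : G)
    have : ((h * g * h⁻¹ : ↥𝒩) : G) = (h : G) * (g : G) * (h : G)⁻¹ := by simp
    simp only
    rw [this, h1]
  refine TIFN.const_of_orth P S hS hδ ?_ ha hb ha1 hb1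
  intro χ' hχ' ξ' hξ'
  let χ'' : Rel' P := ⟨⟨χ', hχ'.1⟩, hχ'.2⟩
  let ξ'' : Rel' P := ⟨⟨ξ', hξ'.1⟩, hξ'.2⟩
  have hd1 : χ' 1 = (e : ℂ) := rel_degree P hp hcard hcent hidx χ''
  have hd2 : ξ' 1 = (e : ℂ) := rel_degree P hp hcard hcent hidx ξ''
  rw [alpha_eq χ' ξ' (e : ℂ) hd1 hd2, classInner_smul_left,
    ← frobenius_reciprocity 𝒩 (χ' - ξ') hcfG]
  have := hind χ'' ξ''
  rw [show (χ''.1 : ↥𝒩 → ℂ) = χ' from rfl, show (ξ''.1 : ↥𝒩 → ℂ) = ξ' from rfl] at this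
  rw [this, classInner_smul_left, classInner_sub_left, irr_orthogonality' (f χ'') ψ,
    irr_orthogonality' (f ξ'') ψ, if_neg (hψ χ''), if_neg (hψ ξ'')]
  ring

include hp hcard hcent hidx hε hinj hind in
/-- the principal character is not exceptional (when there are at least two relevant
characters) -/
theorem one_not_exc (ht : ∃ χ₁ χ₂ : Rel' P, χ₁ ≠ χ₂) (χ : Rel' P) :
    (f χ : G → ℂ) ≠ fun _ => 1 := by
  intro h1
  obtain ⟨χ₁, χ₂, hne⟩ := ht
  obtain ⟨ξ, hξ⟩ : ∃ ξ : Rel' P, ξ ≠ χ := by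
    by_cases h : χ₁ = χ
    · exact ⟨χ₂, fun h' => hne (h.trans h'.symm)⟩
    · exact ⟨χ₁, h⟩
  have hcf1 : IsClassFunction G (fun _ : G => (1 : ℂ)) := fun _ _ => rfl
  have h0 : classInner (indFun 𝒩 ((χ.1 : ↥𝒩 → ℂ) - (ξ.1 : ↥𝒩 → ℂ))) (fun _ : G => (1 : ℂ)) =
      classInner (ε • ((f χ : G → ℂ) - (f ξ : G → ℂ))) (fun _ : G => (1 : ℂ)) := by
    rw [hind χ ξ]
  rw [frobenius_reciprocity 𝒩 _ hcf1, classInner_sub_left, classInner_smul_left,
    classInner_sub_left] at h0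
  have hone𝒩 : IsIrrCharacter ↥𝒩 (fun _ : ↥𝒩 => (1 : ℂ)) := isIrrCharacter_one
  have hnot : ∀ η : Rel' P, (η.1 : ↥𝒩 → ℂ) ≠ fun _ => 1 := by
    intro η h
    obtain ⟨k, -, hk⟩ := η.2
    rw [h] at hk
    exact hk rfl
  rw [irr_orthogonality χ.1.2 hone𝒩, irr_orthogonality ξ.1.2 hone𝒩, if_neg (hnot χ),
    if_neg (hnot ξ), irr_orthogonality (f χ).2 isIrrCharacter_one,
    irr_orthogonality (f ξ).2 isIrrCharacter_one, if_pos h1, if_neg] at h0
  · rw [sub_zero, sub_zero, mul_one] at h0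
    exact eps_ne_zero ε hε h0.symm
  · intro h2
    apply hξ
    apply hinj
    apply Subtype.ext
    rw [h2, h1]

end NonExc

end Cfsg.Agent.Helper5.PrimeTI
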