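import Mathlib
import Cfsg.Agent.Lib.Helper5.PrimeTIe

/-!
# Subgroups of prime order equal to their centralizer: the main theorem (helper5)

For a subgroup `P` of prime order `p` with `C_G(P) = P`, `e = |N_G(P) : P| ≥ 2` and
`t = (p - 1) / e ≥ 2`, the irreducible characters of `G` split into `t` exceptional characters of a
common degree `d` and the others, which are constant (with integer value `a ψ`) on `P ∖ 1`.
-/

set_option autoImplicit false
set_option linter.unusedVariables false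
set_option linter.unusedSectionVars false
set_option linter.style.haveILetI false

namespace Cfsg.Agent.Helper5.PrimeTI

open Cfsg Cfsg.Agent.Helper24 Cfsg.Agent.Helper5 Cfsg.Agent.Helper8 Cfsg.Agent.Helper18
open scoped ComplexConjugate

universe u

set_option maxHeartbeats 1600000 in
theorem main {G : Type u} [Group G] [Fintype G] [Fintype (IrrCharacter G)] (P : Subgroup G)
    {p e t : ℕ} (hp : p.Prime) (hcard : Nat.card P = p)
    (hcent : Subgroup.centralizer (P : Set G) ≤ P)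
    (hidx : (P.subgroupOf (Subgroup.normalizer (P : Set G))).index = e)
    (he : 2 ≤ e) (het : e * t + 1 = p) (ht : 2 ≤ t) :
    ∃ (E : Finset (IrrCharacter G)) (ε c : ℤ) (d : ℕ) (a : IrrCharacter G → ℤ),
      (ε = 1 ∨ ε = -1) ∧ E.card = t ∧
      (∀ ψ ∈ E, charDegree (ψ : G → ℂ) = d) ∧
      ((d : ℤ) ≡ ε * e + c [ZMOD p]) ∧
      (∀ ψ ∈ E, a ψ = 0) ∧
      (∀ ψ ∉ E, ∀ k ∈ P, k ≠ 1 → (ψ : G → ℂ) k = a ψ) ∧
      (∀ ψ ∉ E, (charDegree (ψ : G → ℂ) : ℤ) ≡ a ψ [ZMOD p]) ∧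
      (∑ ψ : IrrCharacter G, (a ψ) ^ 2 = e + 2 * ε * c - t * c ^ 2) ∧
      (∑ ψ : IrrCharacter G, (charDegree (ψ : G → ℂ) : ℤ) * a ψ = d * (ε - t * c)) ∧
      (∀ ψ ∈ E, (ψ : G → ℂ) ≠ fun _ => 1) := by
  classical
  letI : Fintype ↥(Subgroup.normalizer (P : Set G)) := Fintype.ofFinite _
  letI : Fintype (IrrCharacter ↥(Subgroup.normalizer (P : Set G))) := irrFintype
  letI : Fintype (Rel' P) := inferInstance
  letI : Fintype ↥(P.subgroupOf (Subgroup.normalizer (P : Set G))) := Fintype.ofFinite _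
  haveI : (P.subgroupOf (Subgroup.normalizer (P : Set G))).Normal := Subgroup.normal_in_normalizer
  have hTI := ti_of_prime P hp hcard
  have hlt := lt_normalizer P hidx he
  have hC := centralizer_singleton_le P hp hcard hcent
  have hab := comm_of_prime P hp hcard
  rcases Cfsg.Agent.S0851.result P hTI hlt hC hab with ⟨-, q, -, -, hK⟩ | ⟨ε, f, hε, hinj, hind⟩
  · exfalso
    rw [hcard, hidx] at hK
    have : e * 2 ≤ e * t := Nat.mul_le_mul_left e ht
    omega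
  -- the number of relevant characters
  have hcardR : Fintype.card (Rel' P) = t := by
    rw [← Nat.card_eq_fintype_card]
    exact card_rel P hp hcard hcent hidx (by omega) het
  -- a nonidentity element of `P`
  obtain ⟨k₀, hk₀, hk₀1⟩ : ∃ k₀ ∈ P, k₀ ≠ 1 := by
    have h1 : 1 < Nat.card P := by rw [hcard]; exact hp.one_lt
    haveI : Nontrivial P := Finite.one_lt_card_iff_nontrivial.mp h1
    obtain ⟨y, hy⟩ := exists_ne (1 : P)
    exact ⟨y.1, y.2, fun h => hy (Subtype.ext h)⟩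
  set K₀ : ↥(Subgroup.normalizer (P : Set G)) := ⟨k₀, Subgroup.le_normalizer hk₀⟩ with hK₀
  have hK₀1 : K₀ ≠ 1 := fun h => hk₀1 (congrArg Subtype.val h)
  have hK₀P : (K₀ : G) ∈ P := hk₀
  -- two relevant characters
  have htwo : ∃ χ₁ χ₂ : Rel' P, χ₁ ≠ χ₂ := by
    have : 1 < Fintype.card (Rel' P) := by rw [hcardR]; omega
    exact Fintype.one_lt_card_iff.mp this
  obtain ⟨χ₀, -, -⟩ := htwo
  -- the common degree
  obtain ⟨d, hdpos, hd⟩ := irr_one_eq (f χ₀).2
  have hdall : ∀ χ : Rel' P, (f χ : G → ℂ) 1 = d := fun χ =>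
    (deg_eq P hp hcard hcent hidx ε f hε hind χ χ₀).trans hd
  -- the common constant
  set cval : ℂ := (f χ₀ : G → ℂ) K₀ - ε * (χ₀.1 : ↥(Subgroup.normalizer (P : Set G)) → ℂ) K₀
    with hcval
  have hexc : ∀ χ : Rel' P, ∀ k : ↥(Subgroup.normalizer (P : Set G)), (k : G) ∈ P → k ≠ 1 →
      (f χ : G → ℂ) k = ε * (χ.1 : ↥(Subgroup.normalizer (P : Set G)) → ℂ) k + cval := by
    intro χ k hk hk1
    have h1 := exc_const P hp hcard hcent hidx ε f hε hinj hind χ hk hK₀P hk1 hK₀1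
    have h2 := diff_apply P hp hcard hcent hidx he ε f hε hind χ χ₀ K₀
    rw [hcval]
    linear_combination h1 + h2
  -- the integer sign
  obtain ⟨εz, hεz, hεz'⟩ : ∃ εz : ℤ, (εz : ℂ) = ε ∧ (εz = 1 ∨ εz = -1) := by
    rcases hε with h | h
    · exact ⟨1, by rw [h]; simp, Or.inl rfl⟩
    · exact ⟨-1, by rw [h]; simp, Or.inr rfl⟩
  have hεint : IsIntegral ℤ ε := by
    rw [← hεz]
    exact isIntegral_algebraMap (R := ℤ) (A := ℂ) (x := εz)
  -- integrality of the constant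
  obtain ⟨c, hc, hcmod⟩ : ∃ c : ℤ, cval = c ∧ ((d : ℤ) - εz * e) ≡ c [ZMOD p] := by
    obtain ⟨m, hm⟩ := sum_char_subgroupOf P hcard (isCharacter_of_isIrrCharacter (f χ₀).2)
    refine const_int P hp hcard
      (fun x : ↥(Subgroup.normalizer (P : Set G)) =>
        (f χ₀ : G → ℂ) x - ε * (χ₀.1 : ↥(Subgroup.normalizer (P : Set G)) → ℂ) x)
      cval ?_ (m : ℤ) ((d : ℤ) - εz * e) ?_ ?_ ?_
    · intro k hk hk1
      show (f χ₀ : G → ℂ) k - ε * (χ₀.1 : ↥(Subgroup.normalizer (P : Set G)) → ℂ) k = cval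
      rw [hexc χ₀ k hk hk1]
      ring
    · rw [Finset.sum_sub_distrib, ← Finset.mul_sum,
        FrobKer.sum_K_eq_zero (P.subgroupOf (Subgroup.normalizer (P : Set G))) χ₀.1.2 χ₀.2, hm]
      push_cast
      ring
    · show (f χ₀ : G → ℂ) ((1 : ↥(Subgroup.normalizer (P : Set G))) : G) -
          ε * (χ₀.1 : ↥(Subgroup.normalizer (P : Set G)) → ℂ) 1 = (((d : ℤ) - εz * e : ℤ) : ℂ)
      rw [show (((1 : ↥(Subgroup.normalizer (P : Set G))) : G)) = 1 from rfl, hd,
        rel_degree P hp hcard hcent hidx χ₀]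
      push_cast
      rw [hεz]
    · rw [hcval]
      exact IsIntegral.sub
        (isIntegral_of_isCharacter (isCharacter_of_isIrrCharacter (f χ₀).2) _)
        (IsIntegral.mul hεint
          (isIntegral_of_isCharacter (isCharacter_of_isIrrCharacter χ₀.1.2) _))
  have hdmod : (d : ℤ) ≡ εz * e + c [ZMOD p] := by
    have := hcmod.add_right (εz * e)
    have e1 : (d : ℤ) - εz * e + εz * e = d := by ring
    have e2 : c + εz * e = εz * e + c := by ring
    rw [e1, e2] at this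
    exact this
  -- the exceptional set
  set E : Finset (IrrCharacter G) := Finset.univ.image f with hE
  have hEmem : ∀ ψ, ψ ∈ E ↔ ∃ χ, f χ = ψ := by
    intro ψ
    rw [hE, Finset.mem_image]
    simp
  have hEcard : E.card = t := by
    rw [hE, Finset.card_image_of_injective _ hinj, Finset.card_univ, hcardR]
  -- the non-exceptional characters
  have hne : ∀ ψ : IrrCharacter G, ∃ w : ℤ, ψ ∉ E →
      (∀ k : ↥(Subgroup.normalizer (P : Set G)), (k : G) ∈ P → k ≠ 1 →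
        (ψ : G → ℂ) k = w) ∧ (charDegree (ψ : G → ℂ) : ℤ) ≡ w [ZMOD p] := by
    intro ψ
    by_cases hψ : ψ ∈ E
    · exact ⟨0, fun h => absurd hψ h⟩
    have hψ' : ∀ χ : Rel' P, f χ ≠ ψ := fun χ h => hψ ((hEmem ψ).mpr ⟨χ, h⟩)
    obtain ⟨m, hm⟩ := sum_char_subgroupOf P hcard (isCharacter_of_isIrrCharacter ψ.2)
    have hconst : ∀ k : ↥(Subgroup.normalizer (P : Set G)), (k : G) ∈ P → k ≠ 1 →
        (ψ : G → ℂ) k = (ψ : G → ℂ) K₀ := fun k hk hk1 =>
      nonexc_const P hp hcard hcent hidx ε f hind ψ hψ' hk hK₀P hk1 hK₀1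
    obtain ⟨w, hw, hmod⟩ := const_int P hp hcard
      (fun x : ↥(Subgroup.normalizer (P : Set G)) => (ψ : G → ℂ) x)
      ((ψ : G → ℂ) K₀) hconst (m : ℤ) (charDegree (ψ : G → ℂ) : ℤ)
      (by rw [hm]; push_cast; ring)
      (by
        show (ψ : G → ℂ) ((1 : ↥(Subgroup.normalizer (P : Set G))) : G) =
          (((charDegree (ψ : G → ℂ) : ℕ) : ℤ) : ℂ)
        rw [show (((1 : ↥(Subgroup.normalizer (P : Set G))) : G)) = 1 from rfl,
          irr_one_eq_charDegree ψ.2]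
        push_cast; ring)
      (isIntegral_of_isCharacter (isCharacter_of_isIrrCharacter ψ.2) _)
    exact ⟨w, fun _ => ⟨fun k hk hk1 => (hconst k hk hk1).trans hw, hmod⟩⟩
  choose a₀ ha₀ using hne
  set a : IrrCharacter G → ℤ := fun ψ => if ψ ∈ E then 0 else a₀ ψ with ha
  have haE : ∀ ψ ∈ E, a ψ = 0 := fun ψ hψ => by rw [ha]; simp only; rw [if_pos hψ]
  have haN : ∀ ψ ∉ E, a ψ = a₀ ψ := fun ψ hψ => by rw [ha]; simp only; rw [if_neg hψ]
  have hval : ∀ ψ ∉ E, (ψ : G → ℂ) k₀ = a ψ := by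
    intro ψ hψ
    rw [haN ψ hψ]
    exact (ha₀ ψ hψ).1 K₀ hK₀P hK₀1
  -- sums over the relevant characters
  have hs1 := sum_rel_apply P hp hcard hcent hidx (by omega) hK₀P hK₀1
  have hs2 := sum_rel_normSq P hp hcard hcent hidx hK₀P hK₀1
  have hs1c : ∑ χ : Rel' P, conj ((χ.1 : ↥(Subgroup.normalizer (P : Set G)) → ℂ) K₀) = -1 := by
    rw [← map_sum, hs1]; simp
  have hεsq := eps_sq ε hε
  have hεconj := eps_conj ε hε
  -- first column relation
  have hG1 := FrobKer.sum_deg_mul (X := G) hk₀1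
  rw [← Finset.sum_add_sum_compl E] at hG1
  have hE1 : ∑ ψ ∈ E, (ψ : G → ℂ) 1 * (ψ : G → ℂ) k₀ = (d : ℂ) * (-ε + t * c) := by
    rw [hE, Finset.sum_image (fun x _ y _ h => hinj h)]
    have : ∀ χ : Rel' P, (f χ : G → ℂ) 1 * (f χ : G → ℂ) k₀ =
        (d : ℂ) * ε * (χ.1 : ↥(Subgroup.normalizer (P : Set G)) → ℂ) K₀ + (d : ℂ) * c := by
      intro χ
      have := hexc χ K₀ hK₀P hK₀1
      rw [show ((K₀ : ↥(Subgroup.normalizer (P : Set G))) : G) = k₀ from rfl] at this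
      rw [hdall χ, this, hc]
      ring
    rw [Finset.sum_congr rfl (fun χ _ => this χ), Finset.sum_add_distrib, ← Finset.mul_sum, hs1,
      Finset.sum_const, Finset.card_univ, hcardR, nsmul_eq_mul]
    ring
  have hC1 : ∑ ψ ∈ Eᶜ, (ψ : G → ℂ) 1 * (ψ : G → ℂ) k₀ =
      ((∑ ψ : IrrCharacter G, (charDegree (ψ : G → ℂ) : ℤ) * a ψ : ℤ) : ℂ) := by
    rw [← Finset.sum_add_sum_compl E (fun ψ => (charDegree (ψ : G → ℂ) : ℤ) * a ψ),
      Finset.sum_eq_zero (s := E) (fun ψ hψ => by rw [haE ψ hψ, mul_zero]), zero_add]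
    push_cast
    refine Finset.sum_congr rfl fun ψ hψ => ?_
    rw [Finset.mem_compl] at hψ
    rw [hval ψ hψ, irr_one_eq_charDegree ψ.2]
  rw [hE1, hC1] at hG1
  have hsum1 : ∑ ψ : IrrCharacter G, (charDegree (ψ : G → ℂ) : ℤ) * a ψ = d * (εz - t * c) := by
    have : ((∑ ψ : IrrCharacter G, (charDegree (ψ : G → ℂ) : ℤ) * a ψ : ℤ) : ℂ) =
        ((d * (εz - t * c) : ℤ) : ℂ) := by
      push_cast
      rw [hεz]
      push_cast at hG1
      linear_combination hG1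
    exact_mod_cast this
  -- second column relation
  have hG2 := second_orthogonality' (G := G) k₀ k₀
  rw [if_pos (IsConj.refl k₀), card_centralizer P hp hcard hcent hk₀ hk₀1,
    ← Finset.sum_add_sum_compl E] at hG2
  have hE2 : ∑ ψ ∈ E, (ψ : G → ℂ) k₀ * conj ((ψ : G → ℂ) k₀) =
      (p : ℂ) - e - 2 * ε * c + t * c ^ 2 := by
    rw [hE, Finset.sum_image (fun x _ y _ h => hinj h)]
    have : ∀ χ : Rel' P, (f χ : G → ℂ) k₀ * conj ((f χ : G → ℂ) k₀) =
        (χ.1 : ↥(Subgroup.normalizer (P : Set G)) → ℂ) K₀ *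
          conj ((χ.1 : ↥(Subgroup.normalizer (P : Set G)) → ℂ) K₀) +
        (ε * c * (χ.1 : ↥(Subgroup.normalizer (P : Set G)) → ℂ) K₀ +
         ε * c * conj ((χ.1 : ↥(Subgroup.normalizer (P : Set G)) → ℂ) K₀) + (c : ℂ) ^ 2) := by
      intro χ
      have := hexc χ K₀ hK₀P hK₀1
      rw [show ((K₀ : ↥(Subgroup.normalizer (P : Set G))) : G) = k₀ from rfl] at this
      rw [this, hc, map_add, map_mul, hεconj, map_intCast]
      linear_combination ((χ.1 : ↥(Subgroup.normalizer (P : Set G)) → ℂ) K₀ *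
        conj ((χ.1 : ↥(Subgroup.normalizer (P : Set G)) → ℂ) K₀)) * hεsq
    rw [Finset.sum_congr rfl (fun χ _ => this χ), Finset.sum_add_distrib, hs2,
      Finset.sum_add_distrib, Finset.sum_add_distrib, ← Finset.mul_sum, ← Finset.mul_sum, hs1,
      hs1c, Finset.sum_const, Finset.card_univ, hcardR, nsmul_eq_mul]
    ring
  have hC2 : ∑ ψ ∈ Eᶜ, (ψ : G → ℂ) k₀ * conj ((ψ : G → ℂ) k₀) =
      ((∑ ψ : IrrCharacter G, (a ψ) ^ 2 : ℤ) : ℂ) := by
    rw [← Finset.sum_add_sum_compl E (fun ψ => (a ψ) ^ 2),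
      Finset.sum_eq_zero (s := E) (fun ψ hψ => by rw [haE ψ hψ]; ring), zero_add]
    push_cast
    refine Finset.sum_congr rfl fun ψ hψ => ?_
    rw [Finset.mem_compl] at hψ
    rw [hval ψ hψ, map_intCast]
    ring
  rw [hE2, hC2] at hG2
  have hsum2 : ∑ ψ : IrrCharacter G, (a ψ) ^ 2 = e + 2 * εz * c - t * c ^ 2 := by
    have : ((∑ ψ : IrrCharacter G, (a ψ) ^ 2 : ℤ) : ℂ) =
        ((e + 2 * εz * c - t * c ^ 2 : ℤ) : ℂ) := by
      push_cast
      rw [hεz]
      push_cast at hG2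
      linear_combination hG2
    exact_mod_cast this
  refine ⟨E, εz, c, d, a, hεz', hEcard, ?_, hdmod, haE, ?_, ?_, hsum2, hsum1, ?_⟩
  · intro ψ hψ
    obtain ⟨χ, rfl⟩ := (hEmem ψ).mp hψ
    have h1 := hdall χ
    rw [irr_one_eq_charDegree (f χ).2] at h1
    exact_mod_cast h1
  · intro ψ hψ k hk hk1
    rw [haN ψ hψ]
    exact (ha₀ ψ hψ).1 ⟨k, Subgroup.le_normalizer hk⟩ hk (fun h => hk1 (congrArg Subtype.val h))
  · intro ψ hψ
    rw [haN ψ hψ]
    exact (ha₀ ψ hψ).2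
  · intro ψ hψ
    obtain ⟨χ, rfl⟩ := (hEmem ψ).mp hψ
    exact one_not_exc P hp hcard hcent hidx ε f hε hinj hind
      (Fintype.one_lt_card_iff.mp (by rw [hcardR]; omega)) χ

end Cfsg.Agent.Helper5.PrimeTI
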