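import Mathlib
import Cfsg.Agent.Lib.Helper5.PrimeTIf
import Cfsg.Agent.Lib.Helper24.Cd2Nil

/-!
# Subgroups of prime order equal to their centralizer: digested forms for `e = 2, 3` (helper5)
-/

set_option autoImplicit false
set_option linter.unusedVariables false
set_option linter.unusedSectionVars false
set_option linter.style.haveILetI false

namespace Cfsg.Agent.Helper5.PrimeTI

open Cfsg Cfsg.Agent.Helper24 Cfsg.Agent.Helper5
open scoped commutatorElement

universe u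

section Arith

variable {ι : Type*} [DecidableEq ι]

theorem exists_of_sum_sq_eq_one (a : ι → ℤ) (s : Finset ι) (h : ∑ i ∈ s, a i ^ 2 = 1) :
    ∃ i₀ ∈ s, (a i₀ = 1 ∨ a i₀ = -1) ∧ ∀ i ∈ s, i ≠ i₀ → a i = 0 := by
  have hex : ∃ i₀ ∈ s, a i₀ ≠ 0 := by
    by_contra hcon
    push Not at hcon
    rw [Finset.sum_eq_zero (fun i hi => by rw [hcon i hi]; ring)] at h
    exact zero_ne_one h
  obtain ⟨i₀, hi₀, hne⟩ := hex
  rw [← Finset.add_sum_erase s _ hi₀] at h
  have hnn : 0 ≤ ∑ i ∈ s.erase i₀, a i ^ 2 := Finset.sum_nonneg fun i _ => sq_nonneg _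
  have h1 : 1 ≤ a i₀ ^ 2 := by
    have : 0 < a i₀ ^ 2 := by positivity
    omega
  have h2 : a i₀ ^ 2 = 1 := by omega
  have h3 : ∑ i ∈ s.erase i₀, a i ^ 2 = 0 := by omega
  refine ⟨i₀, hi₀, ?_, ?_⟩
  · have : (a i₀ - 1) * (a i₀ + 1) = 0 := by ring_nf; omega
    rcases mul_eq_zero.mp this with h | h
    · left; omega
    · right; omega
  · intro i hi hii
    have := (Finset.sum_eq_zero_iff_of_nonneg (fun i _ => sq_nonneg (a i))).mp h3 i
      (Finset.mem_erase.mpr ⟨hii, hi⟩)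
    exact pow_eq_zero_iff (two_ne_zero) |>.mp this

theorem exists_of_sum_sq_eq_two (a : ι → ℤ) (s : Finset ι) (h : ∑ i ∈ s, a i ^ 2 = 2) :
    ∃ i₁ ∈ s, ∃ i₂ ∈ s, i₁ ≠ i₂ ∧ (a i₁ = 1 ∨ a i₁ = -1) ∧ (a i₂ = 1 ∨ a i₂ = -1) ∧
      ∀ i ∈ s, i ≠ i₁ → i ≠ i₂ → a i = 0 := by
  have hex : ∃ i₁ ∈ s, a i₁ ≠ 0 := by
    by_contra hcon
    push Not at hcon
    rw [Finset.sum_eq_zero (fun i hi => by rw [hcon i hi]; ring)] at h
    omega
  obtain ⟨i₁, hi₁, hne⟩ := hex
  rw [← Finset.add_sum_erase s _ hi₁] at h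
  have hnn : 0 ≤ ∑ i ∈ s.erase i₁, a i ^ 2 := Finset.sum_nonneg fun i _ => sq_nonneg _
  have h1 : 1 ≤ a i₁ ^ 2 := by
    have : 0 < a i₁ ^ 2 := by positivity
    omega
  have h2 : a i₁ ^ 2 = 1 := by
    by_contra hc
    have h4 : a i₁ ^ 2 = 2 := by omega
    -- 2 is not a square
    have h5 : a i₁ * a i₁ = 2 := by rw [← h4]; ring
    have hb : -2 < a i₁ ∧ a i₁ < 2 := by constructor <;> nlinarith
    obtain ⟨hb1, hb2⟩ := hb
    interval_cases (a i₁) <;> omega
  have h3 : ∑ i ∈ s.erase i₁, a i ^ 2 = 1 := by omega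
  obtain ⟨i₂, hi₂, hs₂, hrest⟩ := exists_of_sum_sq_eq_one a (s.erase i₁) h3
  refine ⟨i₁, hi₁, i₂, Finset.mem_of_mem_erase hi₂, (Finset.ne_of_mem_erase hi₂).symm, ?_, hs₂, ?_⟩
  · have : (a i₁ - 1) * (a i₁ + 1) = 0 := by ring_nf; omega
    rcases mul_eq_zero.mp this with h | h
    · left; omega
    · right; omega
  · intro i hi hi1 hi2
    exact hrest i (Finset.mem_erase.mpr ⟨hi1, hi⟩) hi2

end Arith

section Linear

variable {G : Type u} [Group G]

theorem commutator_eq_top_of_simple [IsSimpleGroup G] (hG : ∃ x y : G, x * y ≠ y * x) :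
    commutator G = ⊤ := by
  rcases (Subgroup.Normal.eq_bot_or_eq_top (H := commutator G) inferInstance) with h | h
  · exfalso
    obtain ⟨x, y, hxy⟩ := hG
    apply hxy
    have : ⁅x, y⁆ ∈ commutator G := Subgroup.commutator_mem_commutator (Subgroup.mem_top x)
      (Subgroup.mem_top y)
    rw [h, Subgroup.mem_bot, commutatorElement_def] at this
    have h4 : x * y = (x * y * x⁻¹ * y⁻¹) * (y * x) := by group
    rw [h4, this, one_mul]
  · exact h

theorem linear_trivial (hperf : commutator G = ⊤) {χ : G → ℂ} (hχ : IsIrrCharacter G χ)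
    (h1 : charDegree χ = 1) : χ = fun _ => 1 := by
  funext x
  exact Cfsg.Agent.Helper24.Cd2.linear_eq_one_on_commutator hχ h1 (by rw [hperf]; trivial)

theorem charDegree_one : charDegree (fun _ : G => (1 : ℂ)) = 1 := by
  unfold charDegree
  simp

end Linear

end Cfsg.Agent.Helper5.PrimeTI
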