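import Mathlib
import Cfsg.Prelude.Def_Blocks
import Cfsg.Agent.Lib.Helper24.CharLinear
import Cfsg.Agent.Lib.Helper24.CharInduced
import Cfsg.Agent.Lib.Helper24.CharComplete
import Cfsg.Agent.Lib.Helper24.CharAlgebra
import Cfsg.Agent.Lib.Helper10.BR996Defs
import Cfsg.Agent.Lib.Helper5.FrobKer
import Cfsg.Agent.Lib.Helper5.PrimeTIa
import Cfsg.Agent.Lib.Helper8.InvTI

/-!
# S0996, piece VALS (helper5): values on `N ∖ P` via the character of `N` on the `P`-fixed points
-/

set_option autoImplicit false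
set_option linter.unusedSectionVars false
set_option linter.unusedVariables false
set_option linter.style.haveILetI false

namespace Cfsg.Agent.Helper10.BR996

open scoped ComplexConjugate
open Cfsg Cfsg.Agent.Helper24

universe u

namespace VALS

open Cfsg.Agent.Helper5.FrobKer

/-- The part of a character of `X` made of the irreducible constituents having the normal subgroup
`K` (acted on fixed point freely) in the kernel. -/
theorem fix_core {X : Type u} [Group X] [Fintype X] (K : Subgroup X) [hK : K.Normal]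
    (hF : ∀ k ∈ K, k ≠ 1 → ∀ x : X, x * k = k * x → x ∈ K) {φ : X → ℂ} (hφ : IsCharacter X φ) :
    ∃ f : X → ℂ, IsCharacter X f ∧ (∀ y ∈ K, f y = f 1) ∧
      (∀ [DecidablePred (fun x => x ∈ K)],
        f 1 = (Nat.card K : ℂ)⁻¹ * ∑ x : X, (if x ∈ K then φ x else 0)) ∧
      (∀ y, y ∉ K → f y = φ y) ∧
      classInner f (fun _ => (1 : ℂ)) = classInner φ (fun _ => (1 : ℂ)) := by
  classical
  letI : Fintype (IrrCharacter X) := irrFintype
  letI : Fintype K := Fintype.ofFinite K
  obtain ⟨hm, hdec⟩ := isCharacter_decomp hφ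
  choose m hm using hm
  set c : IrrCharacter X → ℕ := fun η => if Rel K (η : X → ℂ) then 0 else m η with hc
  have hφx : ∀ x : X, φ x = ∑ η : IrrCharacter X, (m η : ℂ) * (η : X → ℂ) x := by
    intro x
    conv_lhs => rw [hdec]
    simp only [Finset.sum_apply, Pi.smul_apply, smul_eq_mul]
    exact Finset.sum_congr rfl fun η _ => by rw [hm]
  refine ⟨∑ η : IrrCharacter X, (c η : ℂ) • (η : X → ℂ), ?_, ?_, ?_, ?_, ?_⟩
  · apply isCharacter_sum
    intro η _
    exact isCharacter_natCast_smul _ (isCharacter_of_isIrrCharacter η.2)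
  · intro y hy
    simp only [Finset.sum_apply, Pi.smul_apply, smul_eq_mul]
    refine Finset.sum_congr rfl fun η _ => ?_
    by_cases hr : Rel K (η : X → ℂ)
    · simp [hc, hr]
    · rw [not_rel hr hy]
  · intro _
    have h1 : ∑ x : X, (if x ∈ K then φ x else 0) = ∑ k : K, φ k := by
      rw [← Finset.sum_filter]
      rw [Finset.sum_subtype (p := fun x => x ∈ K) (Finset.univ.filter (fun x => x ∈ K))
        (by intro x; simp) φ]
    rw [h1]
    have h2 : ∑ k : K, φ k =
        ∑ η : IrrCharacter X, (m η : ℂ) * ∑ k : K, (η : X → ℂ) k := by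
      calc ∑ k : K, φ k = ∑ k : K, ∑ η : IrrCharacter X, (m η : ℂ) * (η : X → ℂ) k :=
            Finset.sum_congr rfl fun k _ => hφx k
        _ = ∑ η : IrrCharacter X, ∑ k : K, (m η : ℂ) * (η : X → ℂ) k := Finset.sum_comm
        _ = _ := Finset.sum_congr rfl fun η _ => by rw [Finset.mul_sum]
    rw [h2]
    have h3 : ∀ η : IrrCharacter X, (m η : ℂ) * ∑ k : K, (η : X → ℂ) k =
        (Nat.card K : ℂ) * ((c η : ℂ) * (η : X → ℂ) 1) := by
      intro η
      rw [sum_K K η.2]
      by_cases hr : Rel K (η : X → ℂ)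
      · simp [hc, hr]
      · simp only [hc, hr, if_false]; ring
    rw [Finset.sum_congr rfl (fun η _ => h3 η), ← Finset.mul_sum]
    have hK0 : (Nat.card K : ℂ) ≠ 0 := by exact_mod_cast (Nat.card_pos (α := K)).ne'
    rw [← mul_assoc, inv_mul_cancel₀ hK0, one_mul]
    simp only [Finset.sum_apply, Pi.smul_apply, smul_eq_mul]
  · intro y hy
    rw [hφx y]
    simp only [Finset.sum_apply, Pi.smul_apply, smul_eq_mul]
    refine Finset.sum_congr rfl fun η _ => ?_
    by_cases hr : Rel K (η : X → ℂ)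
    · rw [vanish_off K hF η.2 hr hy]; simp
    · simp [hc, hr]
  · rw [classInner_sum_left]
    have h4 : ∀ η : IrrCharacter X,
        classInner ((c η : ℂ) • (η : X → ℂ)) (fun _ => (1 : ℂ)) =
          if η = principalChar X then (m η : ℂ) else 0 := by
      intro η
      rw [classInner_smul_left]
      have := irr_orthogonality' η (principalChar X)
      have h5 : classInner (η : X → ℂ) (fun _ => (1 : ℂ)) =
          if η = principalChar X then 1 else 0 := this
      rw [h5]
      by_cases he : η = principalChar X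
      · subst he
        have hnr : ¬ Rel K ((principalChar X : IrrCharacter X) : X → ℂ) := by
          rintro ⟨k, -, hk⟩
          exact hk rfl
        simp [hc, hnr]
      · simp [he]
    rw [Finset.sum_congr rfl (fun η _ => h4 η), Finset.sum_ite_eq' Finset.univ (principalChar X)]
    simp only [Finset.mem_univ, if_true]
    rw [← hm]
    rfl

/-- A character whose multiplicity of the principal character equals its degree is constant. -/
theorem const_of_inner_eq {X : Type u} [Group X] [Fintype X] {f : X → ℂ} (hf : IsCharacter X f)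
    (h : classInner f (fun _ => (1 : ℂ)) = f 1) (y : X) : f y = f 1 := by
  classical
  letI : Fintype (IrrCharacter X) := irrFintype
  obtain ⟨hm, hdec⟩ := isCharacter_decomp hf
  choose m hm using hm
  have hfx : ∀ x : X, f x = ∑ η : IrrCharacter X, (m η : ℂ) * (η : X → ℂ) x := by
    intro x
    conv_lhs => rw [hdec]
    simp only [Finset.sum_apply, Pi.smul_apply, smul_eq_mul]
    exact Finset.sum_congr rfl fun η _ => by rw [hm]
  have hdeg : ∀ η : IrrCharacter X, (η : X → ℂ) 1 = (charDegree (η : X → ℂ) : ℂ) :=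
    fun η => irr_one_eq_charDegree η.2
  have h1 : (m (principalChar X) : ℂ) = f 1 := by
    rw [← h, ← hm]; rfl
  have h2 : ∑ η : IrrCharacter X, m η * charDegree (η : X → ℂ) = m (principalChar X) := by
    have : ((∑ η : IrrCharacter X, m η * charDegree (η : X → ℂ) : ℕ) : ℂ) =
        ((m (principalChar X) : ℕ) : ℂ) := by
      rw [h1, hfx 1]
      push_cast
      exact Finset.sum_congr rfl fun η _ => by rw [hdeg]
    exact_mod_cast this
  have hp1 : charDegree ((principalChar X : IrrCharacter X) : X → ℂ) = 1 := by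
    apply charDegree_natCast 1
    simp [principalChar]
  have h3 : ∀ η : IrrCharacter X, η ≠ principalChar X → m η = 0 := by
    intro η hη
    by_contra hne
    have hpos : 0 < m η * charDegree (η : X → ℂ) :=
      Nat.mul_pos (Nat.pos_of_ne_zero hne) (charDegree_pos η.2)
    have hle : m (principalChar X) * charDegree ((principalChar X : IrrCharacter X) : X → ℂ) +
        m η * charDegree (η : X → ℂ) ≤ ∑ η : IrrCharacter X, m η * charDegree (η : X → ℂ) := by
      rw [← Finset.sum_pair (f := fun η : IrrCharacter X => m η * charDegree (η : X → ℂ))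
        (Ne.symm hη)]
      exact Finset.sum_le_sum_of_subset (Finset.subset_univ _)
    rw [h2, hp1] at hle
    omega
  rw [hfx y, hfx 1]
  refine Finset.sum_congr rfl fun η _ => ?_
  by_cases he : η = principalChar X
  · rw [he]; simp [principalChar]
  · rw [h3 η he]; simp

end VALS

variable {G : Type u} [Group G] [Fintype G] [Fintype (IrrCharacter G)]
  (p : ℕ) [Fact p.Prime] (P : Subgroup G)

local notation "𝒩" => Subgroup.normalizer (P : Set G)

/-- PIECE VALS (on top of `Cfsg.Agent.Helper5.FrobKer`, with `X = ↥N`, `K = P.subgroupOf N`):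
the part `f` of `χ|_N` made of the irreducible constituents having `P` in the kernel. -/
theorem exists_fixChar [Fintype ↥𝒩] (hcard : Nat.card P = p)
    (hcent : Subgroup.centralizer (P : Set G) ≤ P) {χ : G → ℂ} (hχ : IsCharacter G χ) :
    ∃ f : ↥𝒩 → ℂ, IsCharacter ↥𝒩 f ∧ (∀ y : ↥𝒩, (y : G) ∈ P → f y = f 1) ∧ f 1 = Aw P χ ∧
      (∀ y : ↥𝒩, (y : G) ∉ P → f y = χ (y : G)) ∧
      classInner f (fun _ => (1 : ℂ)) = classInner χ (permN P) := by
  classical
  have hpp : p.Prime := Fact.out
  set K : Subgroup ↥𝒩 := P.subgroupOf 𝒩 with hKdef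
  haveI hKn : K.Normal := Subgroup.normal_in_normalizer
  have hmemK : ∀ x : ↥𝒩, x ∈ K ↔ (x : G) ∈ P := fun x => Subgroup.mem_subgroupOf
  have hF : ∀ k ∈ K, k ≠ 1 → ∀ x : ↥𝒩, x * k = k * x → x ∈ K := by
    intro k hk hk1 x hx
    rw [hmemK] at hk ⊢
    apply hcent
    rw [Subgroup.mem_centralizer_iff]
    intro y hy
    have hk1' : (k : G) ≠ 1 := fun h => hk1 (Subtype.ext h)
    obtain ⟨n, rfl⟩ := Cfsg.Agent.Helper5.PrimeTI.exists_pow P hpp hcard hk hk1' hy
    have h2 : (x : G) * (k : G) = (k : G) * (x : G) := congrArg Subtype.val hx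
    have h3 : Commute (x : G) (k : G) := h2
    exact ((h3.pow_right n).eq).symm
  obtain ⟨f, hf, hfK, hf1, hfo, hfi⟩ := VALS.fix_core K hF (isCharacter_restrict 𝒩 hχ)
  refine ⟨f, hf, fun y hy => hfK y ((hmemK y).2 hy), ?_, fun y hy => hfo y (fun h => hy ((hmemK y).1 h)),
    ?_⟩
  · rw [hf1]
    unfold Aw psum
    have hPN : P ≤ 𝒩 := Subgroup.le_normalizer
    have hcK : Nat.card K = Nat.card P :=
      Nat.card_congr (Subgroup.subgroupOfEquivOfLe hPN).toEquiv
    rw [hcK]
    congr 1
    rw [sum_eq_sum_subgroup 𝒩 (fun z => if z ∈ P then χ z else 0)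
      (fun x hx => if_neg (fun h => hx (hPN h)))]
    refine Finset.sum_congr rfl fun x _ => ?_
    by_cases hx : (x : G) ∈ P
    · rw [if_pos hx, if_pos ((hmemK x).2 hx)]
    · rw [if_neg hx, if_neg (fun h => hx ((hmemK x).1 h))]
  · rw [hfi]
    unfold permN
    have e1 := frobenius_reciprocity 𝒩 (fun _ => (1 : ℂ)) (isClassFunction_of_isCharacter hχ)
    rw [← classInner_conj_symm (indFun 𝒩 fun _ => (1 : ℂ)) χ, e1, classInner_conj_symm]

/-- PIECE VALS. -/
theorem val_of_Aw_zero (hcard : Nat.card P = p) (hcent : Subgroup.centralizer (P : Set G) ≤ P)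
    {χ : G → ℂ} (hχ : IsCharacter G χ) (h0 : Aw P χ = 0) {y : G} (hy : y ∈ 𝒩) (hyP : y ∉ P) :
    χ y = 0 := by
  classical
  letI : Fintype ↥𝒩 := Fintype.ofFinite _
  obtain ⟨f, hf, -, hf1, hfo, -⟩ := exists_fixChar p P hcard hcent hχ
  have h1 := hfo ⟨y, hy⟩ hyP
  rw [← h1]
  have h2 : charDegree f = 0 := charDegree_natCast 0 (by rw [hf1, h0]; simp)
  have h3 := norm_le_charDegree hf ⟨y, hy⟩
  rw [h2] at h3
  simpa using h3

/-- PIECE VALS. -/
theorem val_of_inner_eq (hcard : Nat.card P = p) (hcent : Subgroup.centralizer (P : Set G) ≤ P)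
    {χ : G → ℂ} (hχ : IsCharacter G χ) (h : classInner χ (permN P) = Aw P χ)
    {y : G} (hy : y ∈ 𝒩) (hyP : y ∉ P) : χ y = Aw P χ := by
  classical
  letI : Fintype ↥𝒩 := Fintype.ofFinite _
  obtain ⟨f, hf, -, hf1, hfo, hfi⟩ := exists_fixChar p P hcard hcent hχ
  have h1 := hfo ⟨y, hy⟩ hyP
  rw [← h1, ← hf1]
  apply VALS.const_of_inner_eq hf
  rw [hfi, h, hf1]

/-- PIECE VALS: at an involution of `N ∖ P` the value is an integer of absolute value `≤ A(χ)`. -/
theorem val_invol (hcard : Nat.card P = p) (hcent : Subgroup.centralizer (P : Set G) ≤ P)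
    {χ : G → ℂ} (hχ : IsCharacter G χ) (a : ℕ) (ha : Aw P χ = (a : ℂ))
    {y : G} (hy : y ∈ 𝒩) (hyP : y ∉ P) (hy2 : y * y = 1) :
    ∃ v : ℤ, χ y = (v : ℂ) ∧ |v| ≤ (a : ℤ) := by
  classical
  letI : Fintype ↥𝒩 := Fintype.ofFinite _
  obtain ⟨f, hf, -, hf1, hfo, -⟩ := exists_fixChar p P hcard hcent hχ
  have h1 := hfo ⟨y, hy⟩ hyP
  have h2 : charDegree f = a := charDegree_natCast a (by rw [hf1, ha])
  have hy2' : (⟨y, hy⟩ : ↥𝒩) * ⟨y, hy⟩ = 1 := Subtype.ext hy2
  obtain ⟨j, hj, hjv⟩ := Cfsg.Agent.Helper8.InvTI.char_involution hf hy2'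
  rw [h2] at hj hjv
  refine ⟨(a : ℤ) - 2 * (j : ℤ), ?_, ?_⟩
  · rw [← h1, hjv]; push_cast; ring
  · rw [abs_le]; constructor <;> omega

end Cfsg.Agent.Helper10.BR996
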