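import Mathlib
import Cfsg.Prelude.Def_Blocks
import Cfsg.Agent.Lib.Helper5.TLDRich

set_option autoImplicit false

/-!
# Blocks of defect one: the values of the `θ`-parts (export of the abstract structure theorem)

`block_values` packages, for a block `B` with defect group `P` of order `p` and root `θ`, the output
of `abs_structure'` applied to the `θ`-parts `a ↦ FP p P θ χ a` of the members of `B`, together with
the consequences of the weight relations.  (Used for Brauer's theorem on faithful characters of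
degree `< (p-1)/2`, S4503.)
-/

namespace Cfsg.Agent.Helper5.BP

open scoped ComplexConjugate
open Cfsg Cfsg.Agent.Helper5.TLD Cfsg.Agent.Helper5.TLG

set_option linter.unusedSectionVars false
set_option linter.unusedVariables false
set_option linter.style.haveILetI false

variable (p : ℕ) [Fact p.Prime] {G : Type*} [Group G] [Finite G]

set_option maxHeartbeats 1600000 in
/-- the values of the `θ`-parts of the members of a block of defect one. -/
theorem block_values (M : Ideal AlgInt) (hM : IsPModular p M) (P : Sylow p G)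
    (hP : Nat.card P = p) (B : Set (IrrCharacter G)) (hB : IsPBlock M B)
    (hBP : IsDefectGroup p M B P)
    (b : Set (IrrCharacter (Subgroup.centralizer ((P : Subgroup G) : Set G))))
    (hind : IsInducedBlock M (Subgroup.centralizer ((P : Subgroup G) : Set G)) b B)
    (θ : IrrCharacter (Subgroup.centralizer ((P : Subgroup G) : Set G))) (hθ : θ ∈ b)
    (hθP : ∀ x : Subgroup.centralizer ((P : Subgroup G) : Set G), (x : G) ∈ (P : Subgroup G) →
      (θ : Subgroup.centralizer ((P : Subgroup G) : Set G) → ℂ) x =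
        (θ : Subgroup.centralizer ((P : Subgroup G) : Set G) → ℂ) 1)
    (T : Subgroup G)
    (hT : ∀ g : G, g ∈ T ↔ (g ∈ Subgroup.normalizer ((P : Subgroup G) : Set G) ∧
      ∀ c c' : Subgroup.centralizer ((P : Subgroup G) : Set G), (c' : G) = g * c * g⁻¹ →
        (θ : Subgroup.centralizer ((P : Subgroup G) : Set G) → ℂ) c' =
          (θ : Subgroup.centralizer ((P : Subgroup G) : Set G) → ℂ) c))
    (e : ℕ) (he : (Subgroup.centralizer ((P : Subgroup G) : Set G)).relIndex T = e) :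
    e ∣ p - 1 ∧ 0 < e ∧
    ∃ (ν : MulAut (P : Subgroup G)) (Xs Y : Finset (IrrCharacter G)) (s : IrrCharacter G → ℤ)
      (ε δ dd : ℤ) (ζ : IrrCharacter (P : Subgroup G) → IrrCharacter G),
      ν ^ e = 1 ∧
      (∀ k : ℕ, 0 < k → k < e → ∀ a : (P : Subgroup G), (ν ^ k) a = a → a = 1) ∧
      (∀ t ∈ T, ∃ k < e, ∀ a : (P : Subgroup G),
        t * (a : G) * t⁻¹ = (((ν ^ k) a : (P : Subgroup G)) : G)) ∧
      (∀ k : ℕ, ∃ t ∈ T, ∀ a : (P : Subgroup G),
        t * (a : G) * t⁻¹ = (((ν ^ k) a : (P : Subgroup G)) : G)) ∧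
      (∀ χ, χ ∈ B ↔ χ ∈ Xs ∨ χ ∈ Y) ∧ Disjoint Xs Y ∧ Xs.card = e ∧ Y.card = (p - 1) / e ∧
      (∀ χ ∈ Xs, (s χ = 1 ∨ s χ = -1) ∧
        (∀ a : (P : Subgroup G), a ≠ 1 →
          FP p P (θ : Subgroup.centralizer ((P : Subgroup G) : Set G) → ℂ) (χ : G → ℂ) (a : G) =
            (s χ : ℂ)) ∧
        ∃ z : ℤ, FP p P (θ : Subgroup.centralizer ((P : Subgroup G) : Set G) → ℂ) (χ : G → ℂ)
          ((1 : (P : Subgroup G)) : G) = (z : ℂ) ∧ z ≡ s χ [ZMOD p]) ∧
      (ε = 1 ∨ ε = -1) ∧ (δ = 1 ∨ δ = -1) ∧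
      (∀ ψ : IrrCharacter (P : Subgroup G), ψ ≠ Cfsg.Agent.Helper24.principalChar _ → ζ ψ ∈ Y) ∧
      (∀ y ∈ Y, ∃ ψ : IrrCharacter (P : Subgroup G),
        ψ ≠ Cfsg.Agent.Helper24.principalChar _ ∧ ζ ψ = y) ∧
      (∀ ψ ψ' : IrrCharacter (P : Subgroup G), ψ ≠ Cfsg.Agent.Helper24.principalChar _ →
        ψ' ≠ Cfsg.Agent.Helper24.principalChar _ →
        (ζ ψ = ζ ψ' ↔ ∃ k < e, ∀ a : (P : Subgroup G),
          (ψ : ↥(P : Subgroup G) → ℂ) a = (ψ' : ↥(P : Subgroup G) → ℂ) ((ν ^ k) a))) ∧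
      (∀ ψ : IrrCharacter (P : Subgroup G), ψ ≠ Cfsg.Agent.Helper24.principalChar _ →
        ∀ a : (P : Subgroup G), a ≠ 1 →
        FP p P (θ : Subgroup.centralizer ((P : Subgroup G) : Set G) → ℂ) (ζ ψ : G → ℂ) (a : G) =
          (dd : ℂ) + (δ : ℂ) * ∑ k ∈ Finset.range e, (ψ : ↥(P : Subgroup G) → ℂ) ((ν ^ k) a)) ∧
      (∀ η ∈ Y, ∀ η' ∈ Y, ∀ g : G, ¬ p ∣ orderOf g → (η' : G → ℂ) g = (η : G → ℂ) g) ∧
      (∀ g : G, ¬ p ∣ orderOf g → ∀ η ∈ Y,
        (ε : ℂ) * (η : G → ℂ) g + ∑ χ ∈ Xs, (s χ : ℂ) * (χ : G → ℂ) g = 0) ∧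
      (∀ a : (P : Subgroup G), a ≠ 1 → ∑ y ∈ Y,
        FP p P (θ : Subgroup.centralizer ((P : Subgroup G) : Set G) → ℂ) (y : G → ℂ) (a : G) =
          (ε : ℂ)) ∧
      (∀ y ∈ Y, ∃ z : ℤ,
        FP p P (θ : Subgroup.centralizer ((P : Subgroup G) : Set G) → ℂ) (y : G → ℂ)
          ((1 : (P : Subgroup G)) : G) = (z : ℂ) ∧ z ≡ -ε * (e : ℤ) [ZMOD p]) := by
  classical
  have hpp : p.Prime := Fact.out
  haveI : Fintype G := Fintype.ofFinite G
  haveI : Fintype (IrrCharacter G) := Cfsg.Agent.Helper24.irrFintype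
  haveI : Fintype (P : Subgroup G) := Fintype.ofFinite _
  obtain ⟨hCT, hTN⟩ := cent_le_T_le_norm p P θ T hT
  have hfd : (Subgroup.centralizer ((P : Subgroup G) : Set G)).relIndex
      (Subgroup.normalizer ((P : Subgroup G) : Set G)) ∣ p - 1 :=
    Cfsg.Agent.Helper5.TL.relIndex_dvd p P hP
  have hmul : e * T.relIndex (Subgroup.normalizer ((P : Subgroup G) : Set G)) =
      (Subgroup.centralizer ((P : Subgroup G) : Set G)).relIndex
        (Subgroup.normalizer ((P : Subgroup G) : Set G)) := by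
    rw [← he]
    exact Subgroup.relIndex_mul_relIndex _ _ _ hCT hTN
  have hed : e ∣ p - 1 := Dvd.dvd.trans ⟨_, hmul.symm⟩ hfd
  have hp1 : 0 < p - 1 := by have := hpp.two_le; omega
  have he0 : 0 < e := Nat.pos_of_dvd_of_pos hed hp1
  refine ⟨hed, he0, ?_⟩
  obtain ⟨ν, hνe, hfpf, hν3, hν4⟩ := exists_T_package p P hP T hCT hTN e he
  set X : Finset (IrrCharacter G) := Finset.univ.filter (fun χ => χ ∈ B) with hXdef
  have hX : ∀ χ, χ ∈ X ↔ χ ∈ B := by
    intro χ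
    rw [hXdef, Finset.mem_filter]
    exact ⟨fun h => h.2, fun h => ⟨Finset.mem_univ _, h⟩⟩
  set F : IrrCharacter G → ↥(P : Subgroup G) → ℂ := fun χ a =>
    FP p P (θ : Subgroup.centralizer ((P : Subgroup G) : Set G) → ℂ) (χ : G → ℂ) (a : G) with hF
  set d : IrrCharacter G → ℕ := fun χ => charDegree (χ : G → ℂ) with hd
  have hdeg : ∀ a : (P : Subgroup G), a ≠ 1 → ∑ x ∈ X, (d x : ℂ) * F x a = 0 :=
    fun a ha => deg_rel p M hM P hP B hB b hind θ hθ hθP X hX a ha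
  obtain ⟨Xs, Y, s, ε, δ, dd, ζf, hunion, hdisj, hXs, hY, hXsval, hε, hδ, hYval, hζY, hζsurj,
      hζorb, hζval, hw⟩ :=
    abs_structure' (A := (P : Subgroup G)) p hP X F d ν e he0 hed hνe hfpf
      (fun χ _ => isCharacter_FP p P hP θ hθP χ)
      (fun χ _ a => FP_nu_invariant p P θ T hT ν hν4 χ a)
      (fun χ _ => Cfsg.Agent.Helper24.charDegree_pos χ.2)
      (fun a a' ha ha' => col_rel p M hM P hP B hB b hind θ hθ hθP T hT e ν hfpf hν3 hν4 X hX
        a a' ha ha')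
      hdeg
      (fun χ hχ => by
        obtain ⟨a, haP, ha1, hne⟩ :=
          exists_FP_ne_zero p M hM P hP B hB hBP b hind θ hθ hθP χ ((hX χ).1 hχ)
        exact ⟨⟨a, haP⟩, fun h => ha1 (congrArg Subtype.val h), hne⟩)
      (fun χ _ a ha => tl_rel p M hM P hP B hB b hind θ hθ hθP X hX χ a ha)
  have hmem : ∀ χ, χ ∈ B ↔ χ ∈ Xs ∨ χ ∈ Y := by
    intro χ
    rw [← hX, ← hunion, Finset.mem_union]
  have hYreg : ∀ η ∈ Y, ∀ η' ∈ Y, ∀ g : G, ¬ p ∣ orderOf g → (η' : G → ℂ) g = (η : G → ℂ) g := by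
    intro η hη η' hη' g hg
    exact (hw (fun χ => (χ : G → ℂ) g)
      (fun a ha => w_rel p M hM P hP B hB _ X hX g hg a ha)).1 η' hη' η hη
  have hrel : ∀ g : G, ¬ p ∣ orderOf g → ∀ η ∈ Y,
      (ε : ℂ) * (η : G → ℂ) g + ∑ χ ∈ Xs, (s χ : ℂ) * (χ : G → ℂ) g = 0 := by
    intro g hg η hη
    exact (hw (fun χ => (χ : G → ℂ) g)
      (fun a ha => w_rel p M hM P hP B hB _ X hX g hg a ha)).2 η hη
  -- the sum of the `θ`-parts over `Y`
  have hYne : Y.Nonempty := by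
    rw [← Finset.card_pos, hY]
    exact Nat.div_pos (Nat.le_of_dvd hp1 hed) he0
  have hdw := hw (fun χ => (d χ : ℂ)) hdeg
  have hsumY : ∀ a : (P : Subgroup G), a ≠ 1 → ∑ y ∈ Y, F y a = (ε : ℂ) := by
    intro a ha
    obtain ⟨y₀, hy₀⟩ := hYne
    have hconst : ∀ y ∈ Y, (d y : ℂ) = (d y₀ : ℂ) := fun y hy => hdw.1 y hy y₀ hy₀
    have h1 := hdeg a ha
    rw [← hunion, Finset.sum_union hdisj] at h1
    have h2 : ∑ x ∈ Xs, (d x : ℂ) * F x a = ∑ x ∈ Xs, (s x : ℂ) * (d x : ℂ) := by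
      refine Finset.sum_congr rfl fun x hx => ?_
      rw [(hXsval x hx).2.1 a ha]
      ring
    have h3 : ∑ y ∈ Y, (d y : ℂ) * F y a = (d y₀ : ℂ) * ∑ y ∈ Y, F y a := by
      rw [Finset.mul_sum]
      refine Finset.sum_congr rfl fun y hy => ?_
      rw [hconst y hy]
    rw [h2, h3] at h1
    have h4 := hdw.2 y₀ hy₀
    have hd0 : (d y₀ : ℂ) ≠ 0 := by
      have : 0 < d y₀ := Cfsg.Agent.Helper24.charDegree_pos y₀.2
      exact_mod_cast this.ne'
    have h5 : (d y₀ : ℂ) * (∑ y ∈ Y, F y a - (ε : ℂ)) = 0 := by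
      linear_combination h1 - h4
    rcases mul_eq_zero.1 h5 with h | h
    · exact absurd h hd0
    · exact sub_eq_zero.1 h
  refine ⟨ν, Xs, Y, s, ε, δ, dd, ζf, hνe, hfpf, hν3, hν4, hmem, hdisj, hXs, hY, ?_, hε, hδ,
    hζY, hζsurj, hζorb, hζval, hYreg, hrel, hsumY, hYval⟩
  intro χ hχ
  exact hXsval χ hχ

end Cfsg.Agent.Helper5.BP
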