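import Mathlib
import Cfsg.Prelude.Def_Blocks
import Cfsg.Agent.Lib.Helper5.BPValues
import Cfsg.Agent.Lib.Helper24.GlaubPGroup
import Cfsg.Agent.S4652
import Cfsg.Agent.S0973
import Cfsg.Agent.S0968

/-!
# S0996, piece P0 (helper5), part a: the root of the principal block for a given Sylow subgroup
of order `p`, and the `θ`-parts in the self-centralizing case.
-/

set_option autoImplicit false

namespace Cfsg.Agent.Helper5.BRP0

open scoped ComplexConjugate
open Cfsg Cfsg.Agent.Helper5.TLD

section RootAux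

variable {G : Type*} [Group G]

/-- transport of a root along an equality of subgroups -/
theorem root_transport' (M : Ideal AlgInt) (B : Set (IrrCharacter G)) (D : Subgroup G)
    {H H' : Subgroup G} (h : H = H') (b0 : Set (IrrCharacter H)) (θ0 : IrrCharacter H)
    (hθ0 : θ0 ∈ b0) (hind : IsInducedBlock M H b0 B)
    (hker : ∀ x : H, (x : G) ∈ D → (θ0 : H → ℂ) x = (θ0 : H → ℂ) 1) :
    ∃ (b : Set (IrrCharacter H')) (θ : IrrCharacter H'), IsInducedBlock M H' b B ∧ θ ∈ b ∧
      ∀ x : H', (x : G) ∈ D → (θ : H' → ℂ) x = (θ : H' → ℂ) 1 := by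
  subst h
  exact ⟨b0, θ0, hind, hθ0, hker⟩

end RootAux

section Root

variable (p : ℕ) [Fact p.Prime] {G : Type*} [Group G] [Finite G]

/-- a root of a block with a given defect group of order `p`. -/
theorem root_of_sylow (M : Ideal AlgInt) (hM : IsPModular p M) (P : Sylow p G)
    (hP : Nat.card P = p) (B : Set (IrrCharacter G)) (hB : IsPBlock M B)
    (hD : IsDefectGroup p M B (P : Subgroup G)) :
    ∃ (b : Set (IrrCharacter (Subgroup.centralizer ((P : Subgroup G) : Set G))))
        (θ : IrrCharacter (Subgroup.centralizer ((P : Subgroup G) : Set G))),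
        IsInducedBlock M (Subgroup.centralizer ((P : Subgroup G) : Set G)) b B ∧ θ ∈ b ∧
        ∀ x : Subgroup.centralizer ((P : Subgroup G) : Set G), (x : G) ∈ (P : Subgroup G) →
          (θ : Subgroup.centralizer ((P : Subgroup G) : Set G) → ℂ) x =
            (θ : Subgroup.centralizer ((P : Subgroup G) : Set G) → ℂ) 1 := by
  classical
  set D : Subgroup G := (P : Subgroup G) with hDdef
  have hDcard : Nat.card D = p := hP
  have hDcomm : ∀ a ∈ D, ∀ b ∈ D, a * b = b * a := by
    intro a ha b hb
    have : IsCyclic D := isCyclic_of_prime_card hDcard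
    have := (IsCyclic.commGroup (α := D)).mul_comm ⟨a, ha⟩ ⟨b, hb⟩
    exact congrArg Subtype.val this
  have hDle : D ≤ Subgroup.centralizer (D : Set G) := fun a ha =>
    Subgroup.mem_centralizer_iff.mpr fun b hb => hDcomm b hb a ha
  have hL : D ⊔ Subgroup.centralizer (D : Set G) = Subgroup.centralizer (D : Set G) :=
    sup_eq_right.mpr hDle
  set L : Subgroup G := D ⊔ Subgroup.centralizer (D : Set G) with hLdef
  obtain ⟨⟨b0, hb0D, hb0ind⟩, -⟩ := Cfsg.Agent.S0973.result p M hM B hB D hD
  have hP' : IsPGroup p (D.subgroupOf L) := by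
    have hcard : Nat.card (D.subgroupOf L) = p ^ 1 := by
      rw [pow_one, ← hDcard]
      exact Nat.card_congr (Subgroup.subgroupOfEquivOfLe (le_sup_left : D ≤ L)).toEquiv
    exact IsPGroup.of_card hcard
  have hcent : Subgroup.centralizer ((D.subgroupOf L : Subgroup L) : Set L) = ⊤ := by
    rw [eq_top_iff]
    intro x _
    rw [Subgroup.mem_centralizer_iff]
    intro y hy
    have hx : (x : G) ∈ Subgroup.centralizer (D : Set G) := hL ▸ x.2
    have hy' : (y : G) ∈ D := Subgroup.mem_subgroupOf.mp hy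
    apply Subtype.ext
    exact Subgroup.mem_centralizer_iff.mp hx (y : G) hy'
  have hG' : D.subgroupOf L ⊔ Subgroup.centralizer ((D.subgroupOf L : Subgroup L) : Set L) = ⊤ := by
    rw [hcent]; exact sup_top_eq _
  obtain ⟨⟨θ0, ⟨hθ0b, hθ0P⟩, -⟩, -, -⟩ := Cfsg.Agent.S0968.result p M hM (D.subgroupOf L) hP' hG'
    b0 hb0ind.1 hb0D
  exact root_transport' M B D hL b0 θ0 hθ0b hb0ind
    (fun x hx => hθ0P x (Subgroup.mem_subgroupOf.mpr hx))

end Root

section SelfCent

variable (p : ℕ) [Fact p.Prime] {G : Type*} [Group G] [Finite G]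

/-- in the self-centralizing case the only `p`-regular element of `C_G(P)` is `1`. -/
theorem regular_eq_one (P : Sylow p G) (hP : Nat.card P = p)
    (hC : Subgroup.centralizer ((P : Subgroup G) : Set G) = (P : Subgroup G))
    (c : Subgroup.centralizer ((P : Subgroup G) : Set G)) (hc : ¬ p ∣ orderOf c) : c = 1 := by
  have hcP : (c : G) ∈ (P : Subgroup G) := by
    have h0 : (c : G) ∈ Subgroup.centralizer ((P : Subgroup G) : Set G) := c.2
    exact (SetLike.ext_iff.1 hC (c : G)).1 h0
  have h1 : orderOf (⟨(c : G), hcP⟩ : (P : Subgroup G)) ∣ Nat.card (P : Subgroup G) :=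
    orderOf_dvd_natCard _
  have h2 : orderOf (⟨(c : G), hcP⟩ : (P : Subgroup G)) = orderOf (c : G) :=
    Subgroup.orderOf_mk _ _
  have h3 : orderOf c = orderOf (c : G) := (Subgroup.orderOf_coe c).symm
  rw [h2, hP] at h1
  rw [h3] at hc
  have hpp : p.Prime := Fact.out
  rcases (Nat.dvd_prime hpp).1 h1 with h | h
  · apply Subtype.ext
    exact orderOf_eq_one_iff.1 h
  · exact absurd (dvd_of_eq h.symm) hc

/-- in the self-centralizing case the `θ`-part of `χ` is `χ a * conj (θ 1)`. -/
theorem FP_self_cent (P : Sylow p G) (hP : Nat.card P = p)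
    (hC : Subgroup.centralizer ((P : Subgroup G) : Set G) = (P : Subgroup G))
    (θ : Subgroup.centralizer ((P : Subgroup G) : Set G) → ℂ) (χ : G → ℂ) (a : G) :
    FP p P θ χ a = χ a * conj (θ 1) := by
  have hset : {c : Subgroup.centralizer ((P : Subgroup G) : Set G) | ¬ p ∣ orderOf c} = {1} := by
    ext c
    simp only [Set.mem_ofPred_eq, Set.mem_singleton_iff]
    constructor
    · exact regular_eq_one p P hP hC c
    · rintro rfl
      rw [orderOf_one]
      have hpp : p.Prime := Fact.out
      exact fun h => hpp.one_lt.ne' (Nat.dvd_one.1 h)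
  unfold FP
  rw [hset]
  simp

end SelfCent

end Cfsg.Agent.Helper5.BRP0
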