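import Mathlib
import Cfsg.Prelude.Def_Blocks
import Cfsg.Agent.Lib.Helper24.CharAbelian
import Cfsg.Agent.Lib.Helper24.CharComplete
import Cfsg.Agent.Lib.Helper5.Clifford

/-!
# S0996, piece P0 (helper5), part b: irreducible characters of a group of prime order and the orbits
of a fixed-point-free automorphism on them.
-/

set_option autoImplicit false
set_option linter.unusedSectionVars false
set_option linter.style.haveILetI false

namespace Cfsg.Agent.Helper5.BRP0

open scoped ComplexConjugate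
open Cfsg Cfsg.Agent.Helper24

section PrimeOrder

variable {A : Type*} [Group A] [Fintype A] [Fintype (IrrCharacter A)] {p : ℕ}

theorem comm_of_card_prime (hp : p.Prime) (hA : Nat.card A = p) (a b : A) : a * b = b * a := by
  haveI : Fact p.Prime := ⟨hp⟩
  have : IsCyclic A := isCyclic_of_prime_card hA
  exact (IsCyclic.commGroup (α := A)).mul_comm a b

theorem irr_one (hp : p.Prime) (hA : Nat.card A = p) (ψ : IrrCharacter A) :
    (ψ : A → ℂ) 1 = 1 := by
  rw [irr_one_eq_charDegree ψ.2, charDegree_eq_one_of_comm (comm_of_card_prime hp hA) ψ.2]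
  simp

theorem irr_mul (hp : p.Prime) (hA : Nat.card A = p) (ψ : IrrCharacter A) (a b : A) :
    (ψ : A → ℂ) (a * b) = (ψ : A → ℂ) a * (ψ : A → ℂ) b :=
  char_mul_of_degree_one (isCharacter_of_isIrrCharacter ψ.2) (irr_one hp hA ψ) a b

/-- a nontrivial irreducible character of a group of prime order is injective. -/
theorem irr_injective (hp : p.Prime) (hA : Nat.card A = p) (ψ : IrrCharacter A)
    (hψ : ψ ≠ principalChar A) (a b : A) (hab : (ψ : A → ℂ) a = (ψ : A → ℂ) b) : a = b := by
  haveI : Fact p.Prime := ⟨hp⟩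
  set f : A →* ℂˣ := linHom (isCharacter_of_isIrrCharacter ψ.2) (irr_one hp hA ψ) with hf
  have hfv : ∀ x, ((f x : ℂˣ) : ℂ) = (ψ : A → ℂ) x := fun x => rfl
  have hker : f.ker = ⊥ := by
    haveI : Fact (Nat.card A).Prime := ⟨hA ▸ hp⟩
    rcases Subgroup.eq_bot_or_eq_top_of_prime_card (f.ker) with h | h
    · exact h
    · exfalso
      apply hψ
      apply Subtype.ext
      funext x
      have hx : x ∈ f.ker := by rw [h]; exact Subgroup.mem_top x
      rw [MonoidHom.mem_ker] at hx
      have := hfv x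
      rw [hx] at this
      simpa [principalChar] using this.symm
  have hinj : Function.Injective f := (MonoidHom.ker_eq_bot_iff f).1 hker
  apply hinj
  apply Units.ext
  rw [hfv, hfv, hab]

/-- column orthogonality against the identity. -/
theorem sum_irr_eq_zero (hp : p.Prime) (hA : Nat.card A = p) (a : A) (ha : a ≠ 1) :
    ∑ ψ : IrrCharacter A, (ψ : A → ℂ) a = 0 := by
  classical
  have h := second_orthogonality' (G := A) a 1
  have hnc : ¬ IsConj (1 : A) a := by
    intro hc
    rw [isConj_iff] at hc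
    obtain ⟨c, hc⟩ := hc
    apply ha
    rw [← hc]
    group
  rw [if_neg hnc] at h
  rw [← h]
  refine Finset.sum_congr rfl fun ψ _ => ?_
  rw [irr_one hp hA ψ]
  simp

theorem card_irr (hp : p.Prime) (hA : Nat.card A = p) :
    Fintype.card (IrrCharacter A) = p := by
  have hbij : Function.Bijective (ConjClasses.mk : A → ConjClasses A) := by
    refine ⟨?_, ConjClasses.mk_surjective⟩
    intro a b hab
    rw [ConjClasses.mk_eq_mk_iff_isConj, isConj_iff] at hab
    obtain ⟨c, hc⟩ := hab
    rw [← hc, comm_of_card_prime hp hA c a, mul_inv_cancel_right]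
  rw [← Nat.card_eq_fintype_card, card_irr_eq_card_conjClasses,
    ← Nat.card_congr (Equiv.ofBijective _ hbij), hA]

end PrimeOrder

section Orbit

variable {A : Type*} [Group A] [Fintype A] [Fintype (IrrCharacter A)] [DecidableEq (IrrCharacter A)]
  {p : ℕ}

/-- the twist of an irreducible character by an automorphism. -/
noncomputable def twist (ν : MulAut A) (ψ : IrrCharacter A) : IrrCharacter A :=
  ⟨(ψ : A → ℂ) ∘ (ν : A ≃* A), Cfsg.Agent.Helper5.isIrrCharacter_comp_equiv (ν : A ≃* A) ψ.2⟩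

theorem twist_apply (ν : MulAut A) (ψ : IrrCharacter A) (a : A) :
    (twist ν ψ : A → ℂ) a = (ψ : A → ℂ) (ν a) := rfl

theorem twist_ne_principal (ν : MulAut A) (ψ : IrrCharacter A) (hψ : ψ ≠ principalChar A) :
    twist ν ψ ≠ principalChar A := by
  intro h
  apply hψ
  apply Subtype.ext
  funext a
  have := congrArg (fun χ : IrrCharacter A => (χ : A → ℂ) (ν⁻¹ a)) h
  simp only [twist_apply] at this
  rw [show ν (ν⁻¹ a) = a from by simp] at this
  rw [this]
  rfl

/-- the orbit of `ψ₀` under the powers `ν ^ k`, `k < e`, has `e` elements when the `ν ^ k` are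
fixed-point-free, and sums over it are sums over `k < e`. -/
theorem orbit_sum (hp : p.Prime) (hA : Nat.card A = p) (ν : MulAut A) (e : ℕ)
    (hfpf : ∀ k : ℕ, 0 < k → k < e → ∀ a : A, (ν ^ k) a = a → a = 1)
    (ψ₀ : IrrCharacter A) (hψ₀ : ψ₀ ≠ principalChar A) (F : Finset (IrrCharacter A))
    (hF : ∀ ψ, ψ ∈ F ↔ ∃ k < e, ∀ a : A, (ψ : A → ℂ) a = (ψ₀ : A → ℂ) ((ν ^ k) a)) :
    F.card = e ∧ (∀ ψ ∈ F, ψ ≠ principalChar A) ∧
      ∀ h : IrrCharacter A → ℂ, ∑ ψ ∈ F, h ψ = ∑ k ∈ Finset.range e, h (twist (ν ^ k) ψ₀) := by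
  classical
  have himg : F = (Finset.range e).image (fun k => twist (ν ^ k) ψ₀) := by
    ext ψ
    rw [hF, Finset.mem_image]
    constructor
    · rintro ⟨k, hk, hψ⟩
      refine ⟨k, Finset.mem_range.2 hk, ?_⟩
      apply Subtype.ext
      funext a
      rw [twist_apply, hψ a]
    · rintro ⟨k, hk, rfl⟩
      exact ⟨k, Finset.mem_range.1 hk, fun a => rfl⟩
  obtain ⟨a₀, ha₀⟩ : ∃ a₀ : A, a₀ ≠ 1 := by
    have h1 : 1 < Nat.card A := by rw [hA]; exact hp.one_lt
    haveI : Nontrivial A := Finite.one_lt_card_iff_nontrivial.mp h1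
    exact exists_ne (1 : A)
  have hinj : Set.InjOn (fun k => twist (ν ^ k) ψ₀) (Finset.range e : Set ℕ) := by
    -- it suffices to treat `j < k`
    have key : ∀ j k : ℕ, j < k → k < e → twist (ν ^ j) ψ₀ ≠ twist (ν ^ k) ψ₀ := by
      intro j k hjk hk h
      have h1 : ∀ a : A, (ψ₀ : A → ℂ) ((ν ^ j) a) = (ψ₀ : A → ℂ) ((ν ^ k) a) := fun a => by
        have := congrArg (fun χ : IrrCharacter A => (χ : A → ℂ) a) h
        simpa [twist_apply] using this
      have h2 : ∀ a : A, (ν ^ j) a = (ν ^ k) a := fun a =>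
        irr_injective hp hA ψ₀ hψ₀ _ _ (h1 a)
      have h3 : (ν ^ (k - j)) ((ν ^ j) a₀) = (ν ^ j) a₀ := by
        have : ν ^ (k - j) * ν ^ j = ν ^ k := by rw [← pow_add]; congr 1; omega
        rw [← MulAut.mul_apply, this, h2 a₀]
      have h4 := hfpf (k - j) (by omega) (by omega) _ h3
      apply ha₀
      have : (ν ^ j) a₀ = (ν ^ j) 1 := by rw [h4, map_one]
      exact (ν ^ j).injective this
    intro j hj k hk hjk
    rcases Nat.lt_trichotomy j k with h | h | h
    · exact absurd hjk (key j k h (Finset.mem_range.1 (Finset.mem_coe.1 hk)))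
    · exact h
    · exact absurd hjk.symm (key k j h (Finset.mem_range.1 (Finset.mem_coe.1 hj)))
  refine ⟨?_, ?_, ?_⟩
  · rw [himg, Finset.card_image_of_injOn hinj, Finset.card_range]
  · intro ψ hψ
    rw [himg, Finset.mem_image] at hψ
    obtain ⟨k, -, rfl⟩ := hψ
    exact twist_ne_principal _ _ hψ₀
  · intro h
    rw [himg, Finset.sum_image hinj]

end Orbit

end Cfsg.Agent.Helper5.BRP0
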