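import Mathlib
import Cfsg.Prelude.Def_Blocks
import Cfsg.Agent.Lib.Helper5.BRP0b

/-!
# S0996, piece P0 (helper5), part c: normal form of the values of the exceptional characters.
-/

set_option autoImplicit false
set_option linter.unusedSectionVars false
set_option linter.unusedVariables false
set_option linter.style.haveILetI false

namespace Cfsg.Agent.Helper5.BRP0

open scoped ComplexConjugate
open Cfsg Cfsg.Agent.Helper24

section NormalForm

variable {A : Type*} [Group A] [Fintype A] [Fintype (IrrCharacter A)]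
  [DecidableEq (IrrCharacter A)] {p : ℕ} {ι : Type*} [DecidableEq ι]

/-- the nontrivial irreducible characters -/
noncomputable def nontriv (A : Type*) [Group A] [Fintype (IrrCharacter A)]
    [DecidableEq (IrrCharacter A)] : Finset (IrrCharacter A) :=
  Finset.univ.filter (fun ψ => ψ ≠ principalChar A)

theorem mem_nontriv (ψ : IrrCharacter A) : ψ ∈ nontriv A ↔ ψ ≠ principalChar A := by
  simp [nontriv]

theorem sum_nontriv (hp : p.Prime) (hA : Nat.card A = p) (b : A) (hb : b ≠ 1) :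
    ∑ ψ ∈ nontriv A, (ψ : A → ℂ) b = -1 := by
  have h := sum_irr_eq_zero hp hA b hb
  have h2 : ∑ ψ : IrrCharacter A, (ψ : A → ℂ) b =
      ∑ ψ ∈ nontriv A, (ψ : A → ℂ) b + (principalChar A : A → ℂ) b := by
    rw [nontriv, Finset.filter_ne', Finset.sum_erase_add _ _ (Finset.mem_univ _)]
  rw [h2] at h
  have h3 : (principalChar A : A → ℂ) b = 1 := rfl
  rw [h3] at h
  linear_combination h

theorem card_nontriv (hp : p.Prime) (hA : Nat.card A = p) : (nontriv A).card = p - 1 := by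
  rw [nontriv, Finset.filter_ne', Finset.card_erase_of_mem (Finset.mem_univ _), Finset.card_univ,
    card_irr hp hA]

/-- the orbit sum `S ψ a = Σ_{k<e} ψ (ν^k a)`. -/
noncomputable def orbSum (ν : MulAut A) (e : ℕ) (ψ : IrrCharacter A) (a : A) : ℂ :=
  ∑ k ∈ Finset.range e, (ψ : A → ℂ) ((ν ^ k) a)

theorem fibre_card (hp : p.Prime) (hA : Nat.card A = p) (ν : MulAut A) (e : ℕ)
    (hfpf : ∀ k : ℕ, 0 < k → k < e → ∀ a : A, (ν ^ k) a = a → a = 1)
    (ζ : IrrCharacter A → ι)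
    (hζorb : ∀ ψ ψ' : IrrCharacter A, ψ ≠ principalChar A → ψ' ≠ principalChar A →
      (ζ ψ = ζ ψ' ↔ ∃ k < e, ∀ a : A, (ψ : A → ℂ) a = (ψ' : A → ℂ) ((ν ^ k) a)))
    (ψ₀ : IrrCharacter A) (hψ₀ : ψ₀ ≠ principalChar A) :
    ((nontriv A).filter (fun ψ => ζ ψ = ζ ψ₀)).card = e ∧
      ∀ a : A, ∑ ψ ∈ (nontriv A).filter (fun ψ => ζ ψ = ζ ψ₀), (ψ : A → ℂ) a = orbSum ν e ψ₀ a := by
  have hF : ∀ ψ, ψ ∈ (nontriv A).filter (fun ψ => ζ ψ = ζ ψ₀) ↔
      ∃ k < e, ∀ a : A, (ψ : A → ℂ) a = (ψ₀ : A → ℂ) ((ν ^ k) a) := by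
    intro ψ
    rw [Finset.mem_filter, mem_nontriv]
    constructor
    · rintro ⟨h1, h2⟩
      exact (hζorb ψ ψ₀ h1 hψ₀).1 h2
    · rintro ⟨k, hk, hψ⟩
      have h1 : ψ ≠ principalChar A := by
        have : ψ = twist (ν ^ k) ψ₀ := by
          apply Subtype.ext
          funext a
          rw [twist_apply, hψ a]
        rw [this]
        exact twist_ne_principal _ _ hψ₀
      exact ⟨h1, (hζorb ψ ψ₀ h1 hψ₀).2 ⟨k, hk, hψ⟩⟩
  obtain ⟨hc, -, hs⟩ := orbit_sum hp hA ν e hfpf ψ₀ hψ₀ _ hF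
  refine ⟨hc, fun a => ?_⟩
  rw [hs (fun ψ => (ψ : A → ℂ) a)]
  rfl

set_option maxHeartbeats 800000 in
/-- **Normal form**: after relabelling, the exceptional character attached to the orbit of `ψ` takes
the value `-ε S_ψ` off the identity. -/
theorem normal_form (hp : p.Prime) (hA : Nat.card A = p) (ν : MulAut A) (e : ℕ) (he0 : 0 < e)
    (hed : e ∣ p - 1)
    (hfpf : ∀ k : ℕ, 0 < k → k < e → ∀ a : A, (ν ^ k) a = a → a = 1)
    (Y : Finset ι) (f : ι → A → ℂ) (ε δ dd : ℤ) (ζ : IrrCharacter A → ι)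
    (hY : Y.card = (p - 1) / e) (hε : ε = 1 ∨ ε = -1) (hδ : δ = 1 ∨ δ = -1)
    (hζY : ∀ ψ : IrrCharacter A, ψ ≠ principalChar A → ζ ψ ∈ Y)
    (hζsurj : ∀ y ∈ Y, ∃ ψ : IrrCharacter A, ψ ≠ principalChar A ∧ ζ ψ = y)
    (hζorb : ∀ ψ ψ' : IrrCharacter A, ψ ≠ principalChar A → ψ' ≠ principalChar A →
      (ζ ψ = ζ ψ' ↔ ∃ k < e, ∀ a : A, (ψ : A → ℂ) a = (ψ' : A → ℂ) ((ν ^ k) a)))
    (hζval : ∀ ψ : IrrCharacter A, ψ ≠ principalChar A → ∀ a : A, a ≠ 1 →
      f (ζ ψ) a = (dd : ℂ) + (δ : ℂ) * orbSum ν e ψ a)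
    (hYsum : ∀ a : A, a ≠ 1 → ∑ y ∈ Y, f y a = (ε : ℂ)) :
    ∃ ζ' : IrrCharacter A → ι,
      (∀ ψ : IrrCharacter A, ψ ≠ principalChar A → ζ' ψ ∈ Y) ∧
      (∀ y ∈ Y, ∃ ψ : IrrCharacter A, ψ ≠ principalChar A ∧ ζ' ψ = y) ∧
      (∀ ψ ψ' : IrrCharacter A, ψ ≠ principalChar A → ψ' ≠ principalChar A →
        (ζ' ψ = ζ' ψ' ↔ ∃ k < e, ∀ a : A, (ψ : A → ℂ) a = (ψ' : A → ℂ) ((ν ^ k) a))) ∧
      (∀ ψ : IrrCharacter A, ψ ≠ principalChar A → ∀ a : A, a ≠ 1 →
        f (ζ' ψ) a = -(ε : ℂ) * orbSum ν e ψ a) := by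
  classical
  obtain ⟨t, ht⟩ := hed
  have ht' : (p - 1) / e = t := by rw [ht]; exact Nat.mul_div_cancel_left t he0
  rw [ht'] at hY
  have hp2 := hp.two_le
  have ht0 : 0 < t := by
    rcases Nat.eq_zero_or_pos t with h | h
    · rw [h, mul_zero] at ht; omega
    · exact h
  obtain ⟨a₀, ha₀⟩ : ∃ a₀ : A, a₀ ≠ 1 := by
    have h1 : 1 < Nat.card A := by rw [hA]; exact hp.one_lt
    haveI : Nontrivial A := Finite.one_lt_card_iff_nontrivial.mp h1
    exact exists_ne (1 : A)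
  -- the relation `t * dd - δ = ε`
  have hR : (t : ℤ) * dd - δ = ε := by
    -- first way
    have h1 : ∑ ψ ∈ nontriv A, f (ζ ψ) a₀ =
        ((p - 1 : ℕ) : ℂ) * (dd : ℂ) - (δ : ℂ) * (e : ℂ) := by
      have : ∑ ψ ∈ nontriv A, f (ζ ψ) a₀ =
          ∑ ψ ∈ nontriv A, ((dd : ℂ) + (δ : ℂ) * orbSum ν e ψ a₀) :=
        Finset.sum_congr rfl fun ψ hψ => hζval ψ ((mem_nontriv ψ).1 hψ) a₀ ha₀
      rw [this, Finset.sum_add_distrib, Finset.sum_const, card_nontriv hp hA, ← Finset.mul_sum]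
      have h2 : ∑ ψ ∈ nontriv A, orbSum ν e ψ a₀ = -(e : ℂ) := by
        unfold orbSum
        rw [Finset.sum_comm]
        have : ∀ k ∈ Finset.range e, ∑ ψ ∈ nontriv A, (ψ : A → ℂ) ((ν ^ k) a₀) = -1 := by
          intro k _
          apply sum_nontriv hp hA
          intro h
          apply ha₀
          have : (ν ^ k) a₀ = (ν ^ k) 1 := by rw [h, map_one]
          exact (ν ^ k).injective this
        rw [Finset.sum_congr rfl this]
        simp
      rw [h2]
      simp only [nsmul_eq_mul]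
      ring
    -- second way
    have h3 : ∑ ψ ∈ nontriv A, f (ζ ψ) a₀ = (e : ℂ) * (ε : ℂ) := by
      rw [← Finset.sum_fiberwise_of_maps_to (s := nontriv A) (t := Y) (g := ζ)
        (fun ψ hψ => hζY ψ ((mem_nontriv ψ).1 hψ))]
      have : ∀ y ∈ Y, ∑ ψ ∈ (nontriv A).filter (fun ψ => ζ ψ = y), f (ζ ψ) a₀ =
          (e : ℂ) * f y a₀ := by
        intro y hy
        obtain ⟨ψ₀, hψ₀, rfl⟩ := hζsurj y hy
        have hc := (fibre_card hp hA ν e hfpf ζ hζorb ψ₀ hψ₀).1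
        have : ∑ ψ ∈ (nontriv A).filter (fun ψ => ζ ψ = ζ ψ₀), f (ζ ψ) a₀ =
            ∑ ψ ∈ (nontriv A).filter (fun ψ => ζ ψ = ζ ψ₀), f (ζ ψ₀) a₀ :=
          Finset.sum_congr rfl fun ψ hψ => by rw [(Finset.mem_filter.1 hψ).2]
        rw [this, Finset.sum_const, hc]
        simp
      rw [Finset.sum_congr rfl this, ← Finset.mul_sum, hYsum a₀ ha₀]
    rw [h1] at h3
    have h4 : ((p - 1 : ℕ) : ℂ) = (e : ℂ) * (t : ℂ) := by rw [ht]; push_cast; ring
    rw [h4] at h3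
    have he' : (e : ℂ) ≠ 0 := by exact_mod_cast he0.ne'
    have h5 : (t : ℂ) * (dd : ℂ) - (δ : ℂ) = (ε : ℂ) := by
      apply mul_left_cancel₀ he'
      linear_combination h3
    exact_mod_cast h5
  by_cases ht1 : t = 1
  · -- `t = 1`: `Y` is a singleton
    subst ht1
    refine ⟨ζ, hζY, hζsurj, hζorb, ?_⟩
    intro ψ hψ a ha
    obtain ⟨y, hy⟩ := Finset.card_eq_one.1 hY
    have hval : f (ζ ψ) a = (ε : ℂ) := by
      have h1 := hYsum a ha
      rw [hy, Finset.sum_singleton] at h1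
      have h2 : ζ ψ = y := by
        have := hζY ψ hψ
        rw [hy, Finset.mem_singleton] at this
        exact this
      rw [h2, h1]
    have h3 := hζval ψ hψ a ha
    rw [hval] at h3
    have hR' : dd - δ = ε := by simpa using hR
    have hδ0 : (δ : ℂ) ≠ 0 := by
      rcases hδ with h | h <;> rw [h] <;> norm_num
    have h4 : orbSum ν e ψ a = -1 := by
      have h5 : (dd : ℂ) - (δ : ℂ) = (ε : ℂ) := by exact_mod_cast hR'
      apply mul_left_cancel₀ hδ0
      linear_combination -h3 - h5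
    rw [hval, h4]
    ring
  by_cases hdd : dd = 0
  · -- `dd = 0`: then `δ = -ε`
    refine ⟨ζ, hζY, hζsurj, hζorb, ?_⟩
    intro ψ hψ a ha
    rw [hζval ψ hψ a ha, hdd]
    have : δ = -ε := by rw [hdd] at hR; linarith
    rw [this]
    push_cast
    ring
  · -- `dd ≠ 0`: then `t = 2` and `dd = ε = δ`
    have ht2 : t = 2 ∧ dd = ε ∧ δ = ε := by
      have h1 : (t : ℤ) * dd = ε + δ := by linarith
      have h2 : (2 : ℤ) ≤ t := by omega
      have habs : |(t : ℤ) * dd| ≤ 2 := by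
        rw [h1]
        rcases hε with h | h <;> rcases hδ with h' | h' <;> rw [h, h'] <;> norm_num
      have hdd1 : 1 ≤ |dd| := Int.one_le_abs hdd
      rw [abs_mul, abs_of_nonneg (by omega : (0 : ℤ) ≤ t)] at habs
      have ht2' : (t : ℤ) = 2 := by nlinarith
      have hdd2 : |dd| = 1 := by nlinarith
      have ht2'' : t = 2 := by exact_mod_cast ht2'
      rw [ht2'] at h1
      rcases abs_eq (by norm_num : (0 : ℤ) ≤ 1) |>.1 hdd2 with h | h
      · rcases hε with h' | h' <;> rcases hδ with h'' | h'' <;> rw [h, h', h''] at h1 <;>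
          first | omega | exact ⟨ht2'', by omega, by omega⟩
      · rcases hε with h' | h' <;> rcases hδ with h'' | h'' <;> rw [h, h', h''] at h1 <;>
          first | omega | exact ⟨ht2'', by omega, by omega⟩
    obtain ⟨ht2, hddε, hδε⟩ := ht2
    subst ht2
    obtain ⟨y₁, y₂, hne, hy⟩ := Finset.card_eq_two.1 hY
    have hsum2 : ∀ a : A, a ≠ 1 → f y₁ a + f y₂ a = (ε : ℂ) := by
      intro a ha
      have := hYsum a ha
      rw [hy, Finset.sum_pair hne] at this
      exact this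
    -- the swap
    set sw : ι → ι := fun y => if y = y₁ then y₂ else y₁ with hsw
    have hswY : ∀ y ∈ Y, sw y ∈ Y := by
      intro y _
      rw [hy]
      simp only [hsw]
      split_ifs <;> simp
    have hswsw : ∀ y ∈ Y, sw (sw y) = y := by
      intro y hyY
      rw [hy, Finset.mem_insert, Finset.mem_singleton] at hyY
      rcases hyY with rfl | rfl
      · simp [hsw, hne.symm]
      · simp [hsw, hne.symm]
    have hswval : ∀ y ∈ Y, ∀ a : A, a ≠ 1 → f (sw y) a = (ε : ℂ) - f y a := by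
      intro y hyY a ha
      rw [hy, Finset.mem_insert, Finset.mem_singleton] at hyY
      rcases hyY with rfl | rfl
      · simp only [hsw, if_true]
        linear_combination hsum2 a ha
      · simp only [hsw, if_neg hne.symm]
        linear_combination hsum2 a ha
    refine ⟨fun ψ => sw (ζ ψ), fun ψ hψ => hswY _ (hζY ψ hψ), ?_, ?_, ?_⟩
    · intro y hyY
      obtain ⟨ψ, hψ, hψy⟩ := hζsurj (sw y) (hswY y hyY)
      exact ⟨ψ, hψ, by simp only [hψy]; exact hswsw y hyY⟩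
    · intro ψ ψ' hψ hψ'
      rw [← hζorb ψ ψ' hψ hψ']
      constructor
      · intro h
        have := congrArg sw h
        rwa [hswsw _ (hζY ψ hψ), hswsw _ (hζY ψ' hψ')] at this
      · intro h
        simp only [h]
    · intro ψ hψ a ha
      simp only []
      rw [hswval _ (hζY ψ hψ) a ha, hζval ψ hψ a ha, hddε, hδε]
      ring

end NormalForm

end Cfsg.Agent.Helper5.BRP0
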