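import Mathlib
import Cfsg.Prelude.Def_Blocks
import Cfsg.Agent.Lib.Helper5.BRP0a
import Cfsg.Agent.Lib.Helper5.BRP0c

/-!
# S0996, piece P0 (helper5): Brauer's theorem for `|P| = p`, `C_G(P) = P` -- the interface

`w = |N_G(P) : C_G(P)| = |N_G(P) : P|`, `t = (p - 1) / w`.
`X` : the `w` nonexceptional characters, `Y` : the `t` exceptional ones, everything else vanishes on
`P ∖ 1`.  `δ₀` is helper10's `delta_0` (`θ 1 ≡ -δ₀ w`, `θ = -δ₀ (orbit sum)` on `P ∖ 1`).
For `t = 1` the set `Y` is a singleton whose member is constant `δ₀` on `P ∖ 1` (clause `hYsum`), and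
the principal character may be the member of `Y`.
-/

set_option autoImplicit false
set_option linter.unusedSectionVars false
set_option linter.unusedVariables false
set_option linter.style.haveILetI false

namespace Cfsg.Agent.Helper5.BRP0

open scoped ComplexConjugate
open Cfsg Cfsg.Agent.Helper5.TLD

set_option maxHeartbeats 1600000 in
theorem brauer_interface {G : Type*} [Group G] [Finite G] (p : ℕ) [Fact p.Prime]
    (P : Sylow p G) (hP : Nat.card P = p)
    (hC : Subgroup.centralizer ((P : Subgroup G) : Set G) = (P : Subgroup G))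
    (w : ℕ) (hw : (Subgroup.centralizer ((P : Subgroup G) : Set G)).relIndex
      (Subgroup.normalizer ((P : Subgroup G) : Set G)) = w) :
    w ∣ p - 1 ∧ 0 < w ∧
    ∃ (X Y : Finset (IrrCharacter G)) (δ : IrrCharacter G → ℤ) (δ₀ : ℤ)
      (O : IrrCharacter G → Finset (IrrCharacter ↥(P : Subgroup G))),
      Disjoint X Y ∧ X.card = w ∧ Y.card = (p - 1) / w ∧
      -- the nonexceptional characters
      (∀ χ ∈ X, (δ χ = 1 ∨ δ χ = -1) ∧
        (∀ a : G, a ∈ (P : Subgroup G) → a ≠ 1 → (χ : G → ℂ) a = (δ χ : ℂ)) ∧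
        ((charDegree (χ : G → ℂ) : ℤ) ≡ δ χ [ZMOD p])) ∧
      -- the principal character
      (2 * w ≤ p - 1 → Cfsg.Agent.Helper24.principalChar G ∈ X) ∧
      -- everything outside `X ∪ Y` vanishes on `P ∖ 1`
      (∀ χ : IrrCharacter G, χ ∉ X → χ ∉ Y →
        ∀ a : G, a ∈ (P : Subgroup G) → a ≠ 1 → (χ : G → ℂ) a = 0) ∧
      -- the exceptional characters
      (δ₀ = 1 ∨ δ₀ = -1) ∧
      (∀ θ ∈ Y, (O θ).card = w ∧
        (∀ ψ ∈ O θ, ψ ≠ Cfsg.Agent.Helper24.principalChar ↥(P : Subgroup G)) ∧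
        (∀ a : ↥(P : Subgroup G), a ≠ 1 → (θ : G → ℂ) (a : G) =
          -(δ₀ : ℂ) * ∑ ψ ∈ O θ, (ψ : ↥(P : Subgroup G) → ℂ) a) ∧
        ((charDegree (θ : G → ℂ) : ℤ) ≡ -δ₀ * (w : ℤ) [ZMOD p])) ∧
      (∀ θ ∈ Y, ∀ θ' ∈ Y, θ ≠ θ' → Disjoint (O θ) (O θ')) ∧
      (∀ ψ : IrrCharacter ↥(P : Subgroup G),
        ψ ≠ Cfsg.Agent.Helper24.principalChar ↥(P : Subgroup G) → ∃ θ ∈ Y, ψ ∈ O θ) ∧
      -- sum of the exceptional characters on `P ∖ 1`
      (∀ a : G, a ∈ (P : Subgroup G) → a ≠ 1 → ∑ θ ∈ Y, (θ : G → ℂ) a = (δ₀ : ℂ)) ∧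
      -- `p`-regular elements
      (∀ θ ∈ Y, ∀ θ' ∈ Y, ∀ g : G, ¬ p ∣ orderOf g → (θ : G → ℂ) g = (θ' : G → ℂ) g) ∧
      (∀ g : G, ¬ p ∣ orderOf g → ∀ θ ∈ Y,
        (δ₀ : ℂ) * (θ : G → ℂ) g + ∑ χ ∈ X, (δ χ : ℂ) * (χ : G → ℂ) g = 0) := by
  classical
  have hpp : p.Prime := Fact.out
  haveI : Fintype G := Fintype.ofFinite G
  obtain ⟨M, hM⟩ := Cfsg.Agent.Helper24.Glaub.exists_isPModular hpp
  haveI hMp : M.IsPrime := hM.2.1.isPrime
  set B : Set (IrrCharacter G) := principalBlock M G with hBdef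
  have hB : IsPBlock M B := Cfsg.Agent.Helper23.Blk.isPBlock_principalBlock
  have hBP : IsDefectGroup p M B (P : Subgroup G) :=
    (Cfsg.Agent.S4652.result p M hM (P : Subgroup G)).2 ⟨P, rfl⟩
  obtain ⟨b, θ, hind, hθ, hθP⟩ := root_of_sylow p M hM P hP B hB hBP
  obtain ⟨T, hT⟩ := Cfsg.Agent.Helper5.TLG.exists_stab p P θ
  have hmemP : ∀ x : Subgroup.centralizer ((P : Subgroup G) : Set G), (x : G) ∈ (P : Subgroup G) :=
    fun x => (SetLike.ext_iff.1 hC (x : G)).1 x.2
  have hθconst : ∀ x : Subgroup.centralizer ((P : Subgroup G) : Set G),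
      (θ : Subgroup.centralizer ((P : Subgroup G) : Set G) → ℂ) x =
        (θ : Subgroup.centralizer ((P : Subgroup G) : Set G) → ℂ) 1 := fun x => hθP x (hmemP x)
  have hTN : T = Subgroup.normalizer ((P : Subgroup G) : Set G) := by
    ext g
    rw [hT]
    constructor
    · exact And.left
    · intro h
      exact ⟨h, fun c c' _ => by rw [hθconst c', hθconst c]⟩
  have he : (Subgroup.centralizer ((P : Subgroup G) : Set G)).relIndex T = w := by
    rw [hTN]; exact hw
  obtain ⟨hed, he0, ν, Xs, Y, s, ε, δ, dd, ζ, hνe, hfpf, hν3, hν4, hmem, hdisj, hXs, hY, hXsval,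
      hε, hδ, hζY, hζsurj, hζorb, hζval, hYreg, hrel, hYsum, hYdeg⟩ :=
    Cfsg.Agent.Helper5.BP.block_values p M hM P hP B hB hBP b hind θ hθ hθP T hT w he
  -- `θ 1 = 1`
  have hθ1 : (θ : Subgroup.centralizer ((P : Subgroup G) : Set G) → ℂ) 1 = 1 := by
    haveI : Fintype (Subgroup.centralizer ((P : Subgroup G) : Set G)) := Fintype.ofFinite _
    letI : Fintype (IrrCharacter (Subgroup.centralizer ((P : Subgroup G) : Set G))) :=
      Cfsg.Agent.Helper24.irrFintype
    have hcomm : ∀ x y : Subgroup.centralizer ((P : Subgroup G) : Set G), x * y = y * x := by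
      intro x y
      apply Subtype.ext
      have hx := x.2
      rw [Subgroup.mem_centralizer_iff] at hx
      have := hx (y : G) (hmemP y)
      simp only [Subgroup.coe_mul]
      exact this.symm
    rw [Cfsg.Agent.Helper24.irr_one_eq_charDegree θ.2,
      Cfsg.Agent.Helper24.charDegree_eq_one_of_comm hcomm θ.2]
    simp
  have hFP : ∀ (χ : G → ℂ) (a : G),
      FP p P (θ : Subgroup.centralizer ((P : Subgroup G) : Set G) → ℂ) χ a = χ a := by
    intro χ a
    rw [FP_self_cent p P hP hC, hθ1]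
    simp
  simp only [hFP] at hXsval hζval hYsum hYdeg
  -- instances for `P`
  haveI : Fintype ↥(P : Subgroup G) := Fintype.ofFinite _
  letI : Fintype (IrrCharacter ↥(P : Subgroup G)) := Cfsg.Agent.Helper24.irrFintype
  -- normal form
  obtain ⟨ζ', hζ'Y, hζ'surj, hζ'orb, hζ'val⟩ :=
    normal_form (A := ↥(P : Subgroup G)) (ι := IrrCharacter G) hpp hP ν w he0 hed hfpf Y
      (fun χ a => (χ : G → ℂ) (a : G)) ε δ dd ζ hY hε hδ hζY hζsurj hζorb
      (fun ψ hψ a ha => hζval ψ hψ a ha) (fun a ha => hYsum a ha)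
  -- value at one
  have hone : (((1 : ↥(P : Subgroup G)) : G)) = 1 := rfl
  have hdegX : ∀ χ ∈ Xs, ((charDegree (χ : G → ℂ) : ℤ) ≡ s χ [ZMOD p]) := by
    intro χ hχ
    obtain ⟨z, hz, hzmod⟩ := (hXsval χ hχ).2.2
    rw [hone, Cfsg.Agent.Helper24.irr_one_eq_charDegree χ.2] at hz
    have : (charDegree (χ : G → ℂ) : ℤ) = z := by exact_mod_cast hz
    rw [this]
    exact hzmod
  have hdegY : ∀ y ∈ Y, ((charDegree (y : G → ℂ) : ℤ) ≡ -ε * (w : ℤ) [ZMOD p]) := by
    intro y hy
    obtain ⟨z, hz, hzmod⟩ := hYdeg y hy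
    rw [hone, Cfsg.Agent.Helper24.irr_one_eq_charDegree y.2] at hz
    have : (charDegree (y : G → ℂ) : ℤ) = z := by exact_mod_cast hz
    rw [this]
    exact hzmod
  have hwle : w ≤ p - 1 := Nat.le_of_dvd (by have := hpp.two_le; omega) hed
  refine ⟨hed, he0, Xs, Y, s, ε,
    fun y => (nontriv ↥(P : Subgroup G)).filter (fun ψ => ζ' ψ = y), hdisj, hXs, hY, ?_, ?_, ?_, hε,
    ?_, ?_, ?_, ?_, ?_, ?_⟩
  · -- nonexceptional
    intro χ hχ
    refine ⟨(hXsval χ hχ).1, ?_, hdegX χ hχ⟩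
    intro a ha ha1
    exact (hXsval χ hχ).2.1 ⟨a, ha⟩ (fun h => ha1 (congrArg Subtype.val h))
  · -- the principal character
    intro h2w
    have hpB : Cfsg.Agent.Helper24.principalChar G ∈ B :=
      Cfsg.Agent.Helper23.Blk.principalChar_mem_principalBlock
    rcases (hmem _).1 hpB with h | h
    · exact h
    · exfalso
      have hdeg := hdegY _ h
      have hd1 : charDegree ((Cfsg.Agent.Helper24.principalChar G : IrrCharacter G) : G → ℂ) = 1 := by
        apply Cfsg.Agent.Helper24.charDegree_natCast 1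
        simp [Cfsg.Agent.Helper24.principalChar]
      rw [hd1] at hdeg
      have hp2 := hpp.two_le
      rcases hε with hε1 | hε1
      · -- `ε = 1`: `w = p - 1`
        rw [hε1] at hdeg
        have h1 : (p : ℤ) ∣ (1 : ℤ) + (w : ℤ) := by
          have := hdeg.symm.dvd
          simpa [sub_eq_add_neg, add_comm] using this
        have h2 : p ∣ 1 + w := by exact_mod_cast h1
        have h3 : p ≤ 1 + w := Nat.le_of_dvd (by omega) h2
        omega
      · -- `ε = -1`: `w = 1`
        rw [hε1] at hdeg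
        have h1 : (p : ℤ) ∣ (w : ℤ) - 1 := by
          have := hdeg.dvd
          simpa using this
        have hw1 : w = 1 := by
          have h2 : ((w - 1 : ℕ) : ℤ) = (w : ℤ) - 1 := by
            rw [Nat.cast_sub he0]; simp
          rw [← h2] at h1
          have h3 : p ∣ w - 1 := by exact_mod_cast h1
          rcases Nat.eq_zero_or_pos (w - 1) with h0 | h0
          · omega
          · have := Nat.le_of_dvd h0 h3
            omega
        obtain ⟨ψ₀, hψ₀, hζψ₀⟩ := hζ'surj _ h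
        apply hψ₀
        apply Subtype.ext
        funext a
        by_cases ha : a = 1
        · rw [ha, irr_one hpp hP ψ₀]
          rfl
        · have := hζ'val ψ₀ hψ₀ a ha
          rw [hζψ₀, hε1, hw1] at this
          simp only [orbSum, Finset.range_one, Finset.sum_singleton, pow_zero, MulAut.one_apply,
            Cfsg.Agent.Helper24.principalChar] at this
          have h5 : (ψ₀ : ↥(P : Subgroup G) → ℂ) a = 1 := by
            push_cast at this
            linear_combination -this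
          rw [h5]
          rfl
  · -- vanishing
    intro χ hχX hχY a ha ha1
    have hχB : χ ∉ B := fun h => by
      rcases (hmem χ).1 h with h' | h'
      · exact hχX h'
      · exact hχY h'
    have := FP_eq_zero_of_not_mem p M hM P hP B hB b hind θ hθ hθP χ hχB a ha ha1
    rwa [hFP] at this
  · -- exceptional
    intro y hy
    obtain ⟨ψ₀, hψ₀, hζψ₀⟩ := hζ'surj y hy
    obtain ⟨hc, hs⟩ := fibre_card hpp hP ν w hfpf ζ' hζ'orb ψ₀ hψ₀
    rw [hζψ₀] at hc hs
    refine ⟨hc, ?_, ?_, hdegY y hy⟩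
    · intro ψ hψ
      exact (mem_nontriv ψ).1 (Finset.mem_filter.1 hψ).1
    · intro a ha
      rw [hs a]
      have := hζ'val ψ₀ hψ₀ a ha
      rw [hζψ₀] at this
      exact this
  · -- disjoint
    intro y hy y' hy' hne
    rw [Finset.disjoint_left]
    intro ψ h1 h2
    exact hne ((Finset.mem_filter.1 h1).2.symm.trans (Finset.mem_filter.1 h2).2)
  · -- cover
    intro ψ hψ
    exact ⟨ζ' ψ, hζ'Y ψ hψ, Finset.mem_filter.2 ⟨(mem_nontriv ψ).2 hψ, rfl⟩⟩
  · -- sum
    intro a ha ha1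
    exact hYsum ⟨a, ha⟩ (fun h => ha1 (congrArg Subtype.val h))
  · -- regular
    intro y hy y' hy' g hg
    exact hYreg y' hy' y hy g hg
  · exact hrel

end Cfsg.Agent.Helper5.BRP0
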