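import Mathlib
import Cfsg.Agent.Lib.Helper5.PrimeTIa
import Cfsg.Agent.Lib.Helper20.Basic

/-!
# A subgroup of prime order equal to its centralizer: group theoretic facts (helper5)

The subgroup is a Sylow subgroup, every element of order `p` is conjugate into it, and the number
of classes of elements of order `p` times the index of `P` in its normalizer is `p - 1`.
-/

set_option autoImplicit false
set_option linter.unusedVariables false
set_option linter.unusedSectionVars false
set_option linter.style.haveILetI false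

namespace Cfsg.Agent.Helper5.Pm1

open Cfsg Cfsg.Agent.Helper5

universe u

section Basic

variable {G : Type u} [Group G] [Finite G] (P : Subgroup G) {p : ℕ}
  (hp : p.Prime) (hcard : Nat.card P = p) (hcent : Subgroup.centralizer (P : Set G) ≤ P)

include hp hcard in
theorem orderOf_eq_of_mem {k : G} (hk : k ∈ P) (hk1 : k ≠ 1) : orderOf k = p := by
  haveI : Fact p.Prime := ⟨hp⟩
  have h0 := pow_card_eq_one' (G := ↥P) (x := ⟨k, hk⟩)
  rw [hcard] at h0
  have h1 : k ^ p = 1 := by
    have := congrArg Subtype.val h0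
    simpa using this
  exact orderOf_eq_prime h1 hk1

include hp hcard in
theorem exists_ne_one : ∃ k ∈ P, k ≠ 1 := by
  have h1 : 1 < Nat.card P := by rw [hcard]; exact hp.one_lt
  haveI : Nontrivial P := Finite.one_lt_card_iff_nontrivial.mp h1
  obtain ⟨y, hy⟩ := exists_ne (1 : P)
  exact ⟨y.1, y.2, fun h => hy (Subtype.ext h)⟩

include hp hcard hcent in
/-- `P` contains every `p`-subgroup containing it. -/
theorem le_of_isPGroup (Q : Subgroup G) (hQ : IsPGroup p Q) (hPQ : P ≤ Q) : Q ≤ P := by
  haveI : Fact p.Prime := ⟨hp⟩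
  obtain ⟨k₀, hk₀, hk₀1⟩ := exists_ne_one P hp hcard
  haveI : Nontrivial Q :=
    ⟨⟨⟨k₀, hPQ hk₀⟩, 1, fun h => hk₀1 (congrArg Subtype.val h)⟩⟩
  haveI := hQ.center_nontrivial
  obtain ⟨z, hz⟩ := exists_ne (1 : Subgroup.center Q)
  have hzc : ∀ q : Q, q * z.1 = z.1 * q := fun q => (Subgroup.mem_center_iff.mp z.2 q)
  have hzP : ((z : Q) : G) ∈ P := by
    apply hcent
    rw [Subgroup.mem_centralizer_iff]
    intro y hy
    have := hzc ⟨y, hPQ hy⟩
    exact congrArg Subtype.val this
  have hz1 : ((z : Q) : G) ≠ 1 := fun h => hz (Subtype.ext (Subtype.ext h))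
  intro q hq
  apply hcent
  rw [Subgroup.mem_centralizer_iff]
  intro y hy
  obtain ⟨n, rfl⟩ := PrimeTI.exists_pow P hp hcard hzP hz1 hy
  have h1 := hzc ⟨q, hq⟩
  have h2 : q * ((z : Q) : G) = ((z : Q) : G) * q := congrArg Subtype.val h1
  have h3 : Commute q ((z : Q) : G) := h2
  exact ((h3.pow_right n).eq).symm

/-- `P` as a Sylow subgroup. -/
noncomputable def toSylow : Sylow p G where
  toSubgroup := P
  isPGroup' := IsPGroup.of_card (n := 1) (by rw [hcard, pow_one])
  is_maximal' := fun {Q} hQ hPQ => le_antisymm (le_of_isPGroup P hp hcard hcent Q hQ hPQ) hPQ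

theorem toSylow_coe : ((toSylow P hp hcard hcent : Sylow p G) : Subgroup G) = P := rfl

include hp hcard hcent in
/-- Every element of order `p` is conjugate into `P`. -/
theorem exists_conj_mem {g : G} (hg : orderOf g = p) : ∃ h : G, h * g * h⁻¹ ∈ P := by
  haveI : Fact p.Prime := ⟨hp⟩
  have hpg : IsPGroup p (Subgroup.zpowers g) :=
    IsPGroup.of_card (n := 1) (by rw [Nat.card_zpowers, hg, pow_one])
  obtain ⟨Q, hQ⟩ := hpg.exists_le_sylow
  obtain ⟨h, hh⟩ := MulAction.exists_smul_eq G Q (toSylow P hp hcard hcent)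
  refine ⟨h, ?_⟩
  have h1 : g ∈ (Q : Subgroup G) := hQ (Subgroup.mem_zpowers g)
  have h3 : h * g * h⁻¹ ∈ ((h • Q : Sylow p G) : Subgroup G) := by
    rw [Sylow.coe_subgroup_smul]
    have := Subgroup.smul_mem_pointwise_smul g (MulAut.conj h) (Q : Subgroup G) h1
    simpa [MulAut.smul_def] using this
  rw [hh] at h3
  exact h3

include hp hcard in
theorem mem_normalizer_of_conj_mem {c k : G} (hk : k ∈ P) (hk1 : k ≠ 1) (hc : c * k * c⁻¹ ∈ P) :
    c ∈ Subgroup.normalizer (P : Set G) := by
  by_contra hcn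
  exact hk1 (PrimeTI.ti_of_prime P hp hcard c hcn k hk hc)

include hp hcard hcent in
/-- the centralizer in the normalizer of a nonidentity element of `P` -/
theorem centralizer_normalizer_eq {k : ↥(Subgroup.normalizer (P : Set G))} (hk : (k : G) ∈ P)
    (hk1 : k ≠ 1) :
    Subgroup.centralizer ({k} : Set ↥(Subgroup.normalizer (P : Set G))) =
      P.subgroupOf (Subgroup.normalizer (P : Set G)) := by
  have hk1' : (k : G) ≠ 1 := fun h => hk1 (Subtype.ext h)
  apply le_antisymm
  · intro x hx
    rw [Subgroup.mem_centralizer_iff] at hx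
    have h1 := hx k (Set.mem_singleton k)
    rw [Subgroup.mem_subgroupOf]
    apply PrimeTI.centralizer_singleton_le P hp hcard hcent (k : G) hk hk1'
    rw [Subgroup.mem_centralizer_iff]
    intro y hy
    rw [Set.mem_singleton_iff] at hy
    subst hy
    exact congrArg Subtype.val h1
  · intro x hx
    rw [Subgroup.mem_subgroupOf] at hx
    rw [Subgroup.mem_centralizer_iff]
    intro y hy
    rw [Set.mem_singleton_iff] at hy
    subst hy
    apply Subtype.ext
    exact PrimeTI.comm_of_prime P hp hcard _ hk _ hx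

include hp hcard hcent in
/-- the number of elements of `P ∖ 1` in a class of elements of order `p` -/
theorem card_fiber {e : ℕ}
    (hidx : (P.subgroupOf (Subgroup.normalizer (P : Set G))).index = e)
    (C : ConjClasses G) (hC : ∃ g ∈ C.carrier, orderOf g = p) :
    Nat.card {k : {k : G // k ∈ P ∧ k ≠ 1} // ConjClasses.mk k.1 = C} = e := by
  obtain ⟨g, hgC, hgo⟩ := hC
  obtain ⟨h, hh⟩ := exists_conj_mem P hp hcard hcent hgo
  set k₀ := h * g * h⁻¹ with hk₀
  have hg1 : g ≠ 1 := by
    rintro rfl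
    rw [orderOf_one] at hgo
    exact hp.one_lt.ne hgo
  have hk₀1 : k₀ ≠ 1 := by
    intro h1
    apply hg1
    have : g = h⁻¹ * k₀ * h := by rw [hk₀]; group
    rw [this, h1]; group
  have hmk : ConjClasses.mk k₀ = C := by
    rw [← ConjClasses.mem_carrier_iff_mk_eq.mp hgC, ConjClasses.mk_eq_mk_iff_isConj, isConj_comm,
      isConj_iff]
    exact ⟨h, rfl⟩
  set n₀ : ↥(Subgroup.normalizer (P : Set G)) := ⟨k₀, Subgroup.le_normalizer hh⟩ with hn₀
  have hn₀1 : n₀ ≠ 1 := fun h => hk₀1 (congrArg Subtype.val h)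
  have key : Nat.card {k : {k : G // k ∈ P ∧ k ≠ 1} // ConjClasses.mk k.1 = C} =
      Nat.card {m : ↥(Subgroup.normalizer (P : Set G)) // IsConj n₀ m} := by
    apply Nat.card_congr
    refine
      { toFun := fun x => ⟨⟨x.1.1, Subgroup.le_normalizer x.1.2.1⟩, ?_⟩
        invFun := fun m => ⟨⟨(m.1 : G), ?_, ?_⟩, ?_⟩
        left_inv := fun x => by rfl
        right_inv := fun m => by rfl }
    · -- conjugate in the normalizer
      have h1 : ConjClasses.mk x.1.1 = ConjClasses.mk k₀ := by rw [x.2, hmk]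
      rw [ConjClasses.mk_eq_mk_iff_isConj, isConj_comm, isConj_iff] at h1
      obtain ⟨c, hc⟩ := h1
      have hcN : c ∈ Subgroup.normalizer (P : Set G) :=
        mem_normalizer_of_conj_mem P hp hcard hh hk₀1 (by rw [hc]; exact x.1.2.1)
      rw [isConj_iff]
      exact ⟨⟨c, hcN⟩, Subtype.ext hc⟩
    · obtain ⟨c, hc⟩ := isConj_iff.mp m.2
      have h1 : (m.1 : G) = (c : G) * k₀ * (c : G)⁻¹ := by
        rw [← hc]; rfl
      rw [h1]
      exact (Subgroup.mem_normalizer_iff.mp c.2 k₀).mp hh
    · obtain ⟨c, hc⟩ := isConj_iff.mp m.2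
      intro h1
      apply hn₀1
      have h2 : m.1 = 1 := Subtype.ext h1
      rw [h2] at hc
      have : n₀ = c⁻¹ * (c * n₀ * c⁻¹) * c := by group
      rw [this, hc]; group
    · show ConjClasses.mk (m.1 : G) = C
      obtain ⟨c, hc⟩ := isConj_iff.mp m.2
      rw [← hmk, ConjClasses.mk_eq_mk_iff_isConj, isConj_comm, isConj_iff]
      refine ⟨(c : G), ?_⟩
      rw [← hc]; rfl
  rw [key, Cfsg.Agent.Helper20.card_isConj_eq_index,
    centralizer_normalizer_eq P hp hcard hcent hh hn₀1, hidx]

include hp hcard hcent in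
/-- `e` times the number of classes of elements of order `p` is `p - 1`. -/
theorem card_classes {e : ℕ}
    (hidx : (P.subgroupOf (Subgroup.normalizer (P : Set G))).index = e) :
    Nat.card {C : ConjClasses G // ∃ g ∈ C.carrier, orderOf g = p} * e = p - 1 := by
  classical
  haveI : Fintype {C : ConjClasses G // ∃ g ∈ C.carrier, orderOf g = p} := Fintype.ofFinite _
  let Φ : {k : G // k ∈ P ∧ k ≠ 1} → {C : ConjClasses G // ∃ g ∈ C.carrier, orderOf g = p} :=
    fun k => ⟨ConjClasses.mk k.1, k.1, ConjClasses.mem_carrier_mk,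
      orderOf_eq_of_mem P hp hcard k.2.1 k.2.2⟩
  have h1 : Nat.card {k : G // k ∈ P ∧ k ≠ 1} = p - 1 := by
    have h2 : {k : G | k ∈ P ∧ k ≠ 1} = (P : Set G) \ {1} := by
      ext k
      simp
    have h3 : Nat.card {k : G // k ∈ P ∧ k ≠ 1} = ((P : Set G) \ {1}).ncard := by
      rw [← h2]
      exact Nat.card_coe_set_eq _
    rw [h3, Set.ncard_diff_singleton_of_mem (P.one_mem), ← Nat.card_coe_set_eq]
    show Nat.card P - 1 = p - 1
    rw [hcard]
  rw [← h1, Nat.card_congr (Equiv.sigmaFiberEquiv Φ).symm, Nat.card_sigma]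
  have h4 : ∀ C : {C : ConjClasses G // ∃ g ∈ C.carrier, orderOf g = p},
      Nat.card {x : {k : G // k ∈ P ∧ k ≠ 1} // Φ x = C} = e := by
    intro C
    rw [← card_fiber P hp hcard hcent hidx C.1 C.2]
    apply Nat.card_congr
    exact Equiv.subtypeEquivRight (fun x => by
      constructor
      · intro h; exact congrArg Subtype.val h
      · intro h; exact Subtype.ext h)
  rw [Finset.sum_congr rfl (fun C _ => h4 C), Finset.sum_const, Finset.card_univ,
    Nat.card_eq_fintype_card, smul_eq_mul]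

end Basic

end Cfsg.Agent.Helper5.Pm1
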