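import Mathlib
import Cfsg.Prelude.Def_Blocks
import Cfsg.Agent.Lib.Helper24.CharLinear
import Cfsg.Agent.Lib.Helper24.CharInduced
import Cfsg.Agent.Lib.Helper24.CharComplete
import Cfsg.Agent.Lib.Helper10.BR996Defs
import Cfsg.Agent.Lib.Helper5.BRP0
import Cfsg.Agent.Lib.Helper5.Pm1A

/-!
# S0996, piece ADAPT (helper5): `BrauerData` from `Helper5.BRP0.brauer_interface`
-/

set_option autoImplicit false
set_option linter.unusedSectionVars false
set_option linter.unusedVariables false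
set_option linter.style.haveILetI false

namespace Cfsg.Agent.Helper10.BR996

open scoped ComplexConjugate
open Cfsg Cfsg.Agent.Helper24

universe u

namespace ADAPT

/-- the sum of a nontrivial irreducible character of a group over the group is `0`. -/
theorem sum_irr_of_ne {A : Type u} [Group A] [Fintype A] (ψ : IrrCharacter A)
    (hψ : ψ ≠ principalChar A) : ∑ a : A, (ψ : A → ℂ) a = 0 := by
  have h := irr_orthogonality' ψ (principalChar A)
  rw [if_neg hψ] at h
  unfold classInner at h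
  have hne : (Nat.card A : ℂ)⁻¹ ≠ 0 := by
    apply inv_ne_zero
    exact_mod_cast (Nat.card_pos (α := A)).ne'
  have h2 := (mul_eq_zero.1 h).resolve_left hne
  rw [← h2]
  refine Finset.sum_congr rfl fun a _ => ?_
  simp [principalChar]

open Classical in
/-- `dsum` as a sum over the subgroup. -/
theorem dsum_eq_sum_subtype {G : Type u} [Group G] [Fintype G] (P : Subgroup G) (f : G → ℂ) :
    dsum P f = ∑ a : P, if a ≠ 1 then f (a : G) else 0 := by
  unfold dsum
  have h : ∀ z : G, (if z ∈ P ∧ z ≠ 1 then f z else 0) =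
      if z ∈ P then (if z ≠ 1 then f z else 0) else 0 := by
    intro z
    by_cases h : z ∈ P <;> simp [h]
  simp_rw [h]
  rw [← Finset.sum_filter]
  rw [Finset.sum_subtype (Finset.univ.filter (· ∈ P)) (p := fun z => z ∈ P) (by simp)
    (fun z => if z ≠ 1 then f z else 0)]
  refine Finset.sum_congr rfl fun a _ => ?_
  by_cases ha : a = 1
  · subst ha; simp
  · have : (a : G) ≠ 1 := fun h => ha (Subtype.ext h)
    simp [ha, this]

/-- the sum over `P ∖ 1` of a function which is `-δ₀` times a sum of `w` nontrivial linear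
characters of `P`. -/
theorem dsum_of_orbit {G : Type u} [Group G] [Fintype G] {p : ℕ} (hpp : p.Prime) (P : Subgroup G)
    (hcard : Nat.card P = p) (θ : G → ℂ) (O : Finset (IrrCharacter ↥P)) (d : ℂ) (w : ℕ)
    (hOc : O.card = w) (hOn : ∀ ψ ∈ O, ψ ≠ principalChar ↥P)
    (hOv : ∀ a : ↥P, a ≠ 1 → θ (a : G) = -d * ∑ ψ ∈ O, (ψ : ↥P → ℂ) a) :
    dsum P θ = d * (w : ℂ) := by
  classical
  haveI : Fintype (IrrCharacter ↥P) := Cfsg.Agent.Helper24.irrFintype
  rw [dsum_eq_sum_subtype]
  have h2 : ∀ a : P, (if a ≠ 1 then θ (a : G) else 0) =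
      -d * ∑ ψ ∈ O, (if a ≠ 1 then (ψ : ↥P → ℂ) a else 0) := by
    intro a
    by_cases ha : a = 1
    · simp [ha]
    · simp only [ha, ne_eq, not_false_eq_true, if_true]
      exact hOv a ha
  simp_rw [h2]
  rw [← Finset.mul_sum, Finset.sum_comm]
  have h3 : ∀ ψ ∈ O, ∑ a : P, (if a ≠ 1 then (ψ : ↥P → ℂ) a else 0) = -1 := by
    intro ψ hψ
    have hs := sum_irr_of_ne ψ (hOn ψ hψ)
    have h1 : (ψ : ↥P → ℂ) 1 = 1 := Cfsg.Agent.Helper5.BRP0.irr_one hpp hcard ψ
    have h4 : ∑ a : P, (if a ≠ 1 then (ψ : ↥P → ℂ) a else 0) =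
        ∑ a : P, (ψ : ↥P → ℂ) a - (ψ : ↥P → ℂ) 1 := by
      rw [← Finset.add_sum_erase Finset.univ (fun a => (ψ : ↥P → ℂ) a) (Finset.mem_univ (1 : P))]
      rw [add_sub_cancel_left]
      rw [← Finset.add_sum_erase Finset.univ _ (Finset.mem_univ (1 : P))]
      simp only [ne_eq, not_true_eq_false, if_false, zero_add]
      refine Finset.sum_congr rfl fun a ha => ?_
      rw [if_pos (Finset.ne_of_mem_erase ha)]
    rw [h4, hs, h1]; ring
  rw [Finset.sum_congr rfl h3, Finset.sum_const, hOc]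
  simp

end ADAPT

variable {G : Type u} [Group G] [Fintype G] [Fintype (IrrCharacter G)]
  (p : ℕ) [Fact p.Prime] (P : Subgroup G)

local notation "𝒩" => Subgroup.normalizer (P : Set G)

/-- PIECE P0 / ADAPT. -/
theorem exists_brauerData (hp2 : p ≠ 2) (hcard : Nat.card P = p)
    (hcent : Subgroup.centralizer (P : Set G) ≤ P) :
    Nonempty (BrauerData p P (P.relIndex 𝒩) ((p - 1) / P.relIndex 𝒩)) := by
  classical
  have hpp : p.Prime := Fact.out
  have hcomm : ∀ a b : P, a * b = b * a := by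
    haveI : Fact p.Prime := ⟨hpp⟩
    have : IsCyclic P := isCyclic_of_prime_card hcard
    exact fun a b => (IsCyclic.commGroup (α := P)).mul_comm a b
  have hC : Subgroup.centralizer (P : Set G) = P := by
    apply le_antisymm hcent
    intro x hx
    rw [Subgroup.mem_centralizer_iff]
    intro y hy
    have := hcomm ⟨y, hy⟩ ⟨x, hx⟩
    exact congrArg Subtype.val this
  have hw : (Subgroup.centralizer
      (((Cfsg.Agent.Helper5.Pm1.toSylow P hpp hcard hcent : Sylow p G) : Subgroup G) : Set G)).relIndex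
      (Subgroup.normalizer
        (((Cfsg.Agent.Helper5.Pm1.toSylow P hpp hcard hcent : Sylow p G) : Subgroup G) : Set G)) =
        P.relIndex 𝒩 := by
    rw [Cfsg.Agent.Helper5.Pm1.toSylow_coe, hC]
  obtain ⟨hwd, hw0, X, Y, δ, δ₀, O, hdisj, hX, hY, hXv, -, hD, hδ₀, hYO, -, -, -, hreg, -⟩ :=
    Cfsg.Agent.Helper5.BRP0.brauer_interface p
      (Cfsg.Agent.Helper5.Pm1.toSylow P hpp hcard hcent) hcard
      (by rw [Cfsg.Agent.Helper5.Pm1.toSylow_coe]; exact hC) (P.relIndex 𝒩) hw
  refine ⟨{ X := X, Y := Y, sg := δ, d0 := δ₀, disj := hdisj, cardX := hX, cardY := hY,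
            sg_pm := fun χ hχ => (hXv χ hχ).1, d0_pm := hδ₀,
            valX := fun χ hχ z hz hz1 => (hXv χ hχ).2.1 z hz hz1,
            valD := fun χ h1 h2 z hz hz1 => hD χ h1 h2 z hz hz1,
            regY := hreg, sumY := ?_ }⟩
  intro θ hθ
  obtain ⟨hOc, hOn, hOv, -⟩ := hYO θ hθ
  exact ADAPT.dsum_of_orbit hpp P hcard (θ : G → ℂ) (O θ) (δ₀ : ℂ) (P.relIndex 𝒩) hOc hOn hOv

end Cfsg.Agent.Helper10.BR996
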