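import Mathlib
import Cfsg.Prelude.Def_OddOrderChar
import Cfsg.Agent.Lib.Helper5.FrobKer
import Cfsg.Agent.Lib.Helper5.TIFN
import Cfsg.Agent.Lib.Helper24.CharAbelian

/-!
# Feit's theorem on Zassenhaus groups: characters of the Frobenius normalizer (helper5)
-/

set_option autoImplicit false
set_option linter.unusedVariables false
set_option linter.unusedSectionVars false
set_option linter.style.haveILetI false

namespace Cfsg.Agent.Helper5.FeitZ

open Cfsg Cfsg.Agent.Helper24 Cfsg.Agent.Helper5 Cfsg.Agent.Helper8 Cfsg.Agent.Helper18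
open scoped ComplexConjugate

universe u

section Lin

variable {L : Type u} [Group L] [Fintype L] (K : Subgroup L) [hK : K.Normal]
  (hab : ∀ x y : L, x * y * x⁻¹ * y⁻¹ ∈ K)

include hab in
/-- with an abelian quotient, the irreducible characters with `K` in the kernel are linear -/
theorem degree_one_of_not_rel {η : L → ℂ} (hη : IsIrrCharacter L η) (hr : ¬ FrobKer.Rel K η) :
    η 1 = 1 := by
  classical
  letI : Fintype (IrrCharacter (L ⧸ K)) := irrFintype
  obtain ⟨η', hη', hηη'⟩ := exists_deflate K hη (fun n hn => FrobKer.not_rel hr hn)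
  have hcomm : ∀ a b : L ⧸ K, a * b = b * a := by
    intro a b
    induction a using QuotientGroup.induction_on with
    | H x =>
      induction b using QuotientGroup.induction_on with
      | H y =>
        rw [← QuotientGroup.mk_mul, ← QuotientGroup.mk_mul, QuotientGroup.eq]
        have := hab y⁻¹ x⁻¹
        have e : (x * y)⁻¹ * (y * x) = y⁻¹ * x⁻¹ * y⁻¹⁻¹ * x⁻¹⁻¹ := by group
        rw [e]
        exact this
  have h1 := (charDegree_eq_one_iff hη').mp (charDegree_eq_one_of_comm hcomm hη')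
  rw [hηη']
  show η' ((1 : L) : L ⧸ K) = 1
  rw [QuotientGroup.mk_one]
  exact h1

include hab in
/-- the number of irreducible characters with `K` in the kernel is the index of `K` -/
theorem card_not_rel [Fintype (IrrCharacter L)] :
    Nat.card {η : IrrCharacter L // ¬ FrobKer.Rel K (η : L → ℂ)} = K.index := by
  classical
  have h1 := FrobKer.sum_nonrel_sq K (X := L)
  have h2 : ∀ η : IrrCharacter L,
      (if FrobKer.Rel K (η : L → ℂ) then (0 : ℂ) else (η : L → ℂ) 1 * (η : L → ℂ) 1) =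
      (if ¬ FrobKer.Rel K (η : L → ℂ) then (1 : ℂ) else 0) := by
    intro η
    by_cases hr : FrobKer.Rel K (η : L → ℂ)
    · rw [if_pos hr, if_neg (not_not.mpr hr)]
    · rw [if_neg hr, if_pos hr, degree_one_of_not_rel K hab η.2 hr, mul_one]
  rw [Finset.sum_congr rfl (fun η _ => h2 η), Finset.sum_boole] at h1
  rw [Nat.card_eq_fintype_card, Fintype.card_subtype]
  exact_mod_cast h1

end Lin

section Restrict

variable {G : Type u} [Group G] [Fintype G] (K : Subgroup G)

local notation "𝒩" => Subgroup.normalizer (K : Set G)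

/-- the hypotheses on a T.I. subgroup `K` with Frobenius normalizer whose quotient by `K` is
abelian, together with the description of the characters induced from the characters of the
normalizer with `K` in the kernel -/
structure Hyp [Fintype ↥(Subgroup.normalizer (K : Set G))] (θ : G → ℂ) : Prop where
  hTI : ∀ g : G, g ∉ 𝒩 → ∀ k ∈ K, g * k * g⁻¹ ∈ K → k = 1
  hlt : K < 𝒩
  hC : ∀ k ∈ K, k ≠ 1 → Subgroup.centralizer ({k} : Set G) ≤ K
  hab : ∀ x y : ↥𝒩, x * y * x⁻¹ * y⁻¹ ∈ K.subgroupOf 𝒩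
  hidx : (Subgroup.normalizer (K : Set G)).index = Nat.card K + 1
  hθ : IsIrrCharacter G θ
  hθ1 : indFun 𝒩 (fun _ => (1 : ℂ)) = (fun _ => (1 : ℂ)) + θ
  hθ0 : ∀ u ∈ K, u ≠ 1 → θ u = 0
  hP2 : ∀ μ : ↥𝒩 → ℂ, IsCharacter ↥𝒩 μ → μ 1 = 1 → (∀ u : ↥𝒩, (u : G) ∈ K → μ u = 1) →
    μ ≠ (fun _ => (1 : ℂ)) → IsIrrCharacter G (indFun 𝒩 μ) ∧
      ∀ u ∈ K, u ≠ 1 → indFun 𝒩 μ u = 1

/-- the characters of `G` that are constituents of the characters induced from the characters of
the normalizer with `K` in the kernel -/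
def IsLin [Fintype ↥(Subgroup.normalizer (K : Set G))] (θ : G → ℂ) (ψ : G → ℂ) : Prop :=
  ψ = (fun _ => (1 : ℂ)) ∨ ψ = θ ∨ ∃ μ : ↥𝒩 → ℂ, IsIrrCharacter ↥𝒩 μ ∧
    ¬ FrobKer.Rel (K.subgroupOf 𝒩) μ ∧ μ ≠ (fun _ => (1 : ℂ)) ∧ ψ = indFun 𝒩 μ

/-- a character outside the list has no constituent with `K` in the kernel on the normalizer -/
theorem inner_eq_zero_of_not_isLin [Fintype ↥𝒩] {θ : G → ℂ} (hyp : Hyp K θ)
    {ψ : G → ℂ} (hψ : IsIrrCharacter G ψ)
    (hnl : ¬ IsLin K θ ψ) {η : ↥𝒩 → ℂ} (hη : IsIrrCharacter ↥𝒩 η)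
    (hr : ¬ FrobKer.Rel (K.subgroupOf 𝒩) η) :
    classInner η (fun n : ↥𝒩 => ψ n) = 0 := by
  classical
  haveI : (K.subgroupOf 𝒩).Normal := Subgroup.normal_in_normalizer
  have hcf := isClassFunction_of_isIrrCharacter hψ
  rw [← frobenius_reciprocity 𝒩 η hcf]
  by_cases h1 : η = fun _ => (1 : ℂ)
  · rw [h1, hyp.hθ1, classInner_add_left, irr_orthogonality isIrrCharacter_one hψ,
      irr_orthogonality hyp.hθ hψ, if_neg, if_neg, add_zero]
    · intro h
      exact hnl (Or.inr (Or.inl h.symm))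
    · intro h
      exact hnl (Or.inl h.symm)
  · have hdeg := degree_one_of_not_rel (K.subgroupOf 𝒩) hyp.hab hη hr
    have hK : ∀ u : ↥𝒩, (u : G) ∈ K → η u = 1 := by
      intro u hu
      rw [FrobKer.not_rel hr (Subgroup.mem_subgroupOf.mpr hu), hdeg]
    have hirr := (hyp.hP2 η (isCharacter_of_isIrrCharacter hη) hdeg hK h1).1
    rw [irr_orthogonality hirr hψ, if_neg]
    intro h
    exact hnl (Or.inr (Or.inr ⟨η, hη, hr, h1, h.symm⟩))

/-- the inner product of two characters is symmetric -/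
theorem classInner_char_comm {X : Type u} [Group X] [Fintype X] {a b : X → ℂ}
    (ha : IsCharacter X a) (hb : IsCharacter X b) : classInner a b = classInner b a := by
  classical
  letI : Fintype (IrrCharacter X) := irrFintype
  obtain ⟨n, hn⟩ := classInner_char_nat ha hb
  rw [← classInner_conj_symm a b, hn, Complex.conj_natCast]

open Classical in
/-- a character outside the list restricts to the normalizer as a combination of the relevant
characters -/
theorem restrict_eq_sum_rel [Fintype ↥𝒩] [Fintype (IrrCharacter ↥𝒩)] {θ : G → ℂ}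
    (hyp : Hyp K θ) {ψ : G → ℂ} (hψ : IsIrrCharacter G ψ) (hnl : ¬ IsLin K θ ψ) (y : ↥𝒩) :
    ψ y = ∑ η : IrrCharacter ↥𝒩,
      (if FrobKer.Rel (K.subgroupOf 𝒩) (η : ↥𝒩 → ℂ) then
        classInner (η : ↥𝒩 → ℂ) (fun n : ↥𝒩 => ψ n) * (η : ↥𝒩 → ℂ) y else 0) := by
  classical
  have hψc : IsCharacter ↥𝒩 (fun n : ↥𝒩 => ψ n) :=
    isCharacter_restrict 𝒩 (isCharacter_of_isIrrCharacter hψ)
  have hdec := (isCharacter_decomp hψc).2
  have h1 := congrFun hdec y
  rw [Finset.sum_apply] at h1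
  have h1' : ψ y = ∑ c : IrrCharacter ↥𝒩,
      (classInner (fun n : ↥𝒩 => ψ n) (c : ↥𝒩 → ℂ) • (c : ↥𝒩 → ℂ)) y := h1
  rw [h1']
  apply Finset.sum_congr rfl
  intro η _
  rw [Pi.smul_apply, smul_eq_mul,
    classInner_char_comm hψc (isCharacter_of_isIrrCharacter η.2)]
  by_cases hr : FrobKer.Rel (K.subgroupOf 𝒩) (η : ↥𝒩 → ℂ)
  · rw [if_pos hr]
  · rw [if_neg hr, inner_eq_zero_of_not_isLin K hyp hψ hnl η.2 hr, zero_mul]

/-- a character outside the list vanishes on the normalizer off `K` -/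
theorem vanish_off_of_not_isLin [Fintype ↥𝒩] {θ : G → ℂ}
    (hyp : Hyp K θ) {ψ : G → ℂ} (hψ : IsIrrCharacter G ψ) (hnl : ¬ IsLin K θ ψ) {y : G}
    (hy : y ∈ 𝒩) (hyK : y ∉ K) : ψ y = 0 := by
  classical
  letI : Fintype (IrrCharacter ↥𝒩) := irrFintype
  haveI : (K.subgroupOf 𝒩).Normal := Subgroup.normal_in_normalizer
  have h1 := restrict_eq_sum_rel K hyp hψ hnl ⟨y, hy⟩
  rw [show ψ y = ψ ((⟨y, hy⟩ : ↥𝒩) : G) from rfl, h1]
  apply Finset.sum_eq_zero
  intro η _
  by_cases hr : FrobKer.Rel (K.subgroupOf 𝒩) (η : ↥𝒩 → ℂ)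
  · rw [if_pos hr, FrobKer.vanish_off (K.subgroupOf 𝒩) (TIFN.fpf K hyp.hC) η.2 hr
      (x := ⟨y, hy⟩) (fun h => hyK (Subgroup.mem_subgroupOf.mp h)), mul_zero]
  · rw [if_neg hr]

end Restrict

end Cfsg.Agent.Helper5.FeitZ
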