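import Mathlib
import Cfsg.Agent.Lib.Helper5.FeitZ1

/-!
# Feit's theorem on Zassenhaus groups: coherence and degrees (helper5)
-/

set_option autoImplicit false
set_option linter.unusedVariables false
set_option linter.unusedSectionVars false
set_option linter.style.haveILetI false

namespace Cfsg.Agent.Helper5.FeitZ

open Cfsg Cfsg.Agent.Helper24 Cfsg.Agent.Helper5 Cfsg.Agent.Helper8 Cfsg.Agent.Helper18
open scoped ComplexConjugate

universe u

section Sums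

variable {L : Type u} [Group L] [Fintype L] (K : Subgroup L) [hK : K.Normal]

open Classical in
/-- the relevant characters have squared degrees summing to `|L| - |L : K|` -/
theorem sum_rel_deg_sq [Fintype (IrrCharacter L)] :
    ∑ η : IrrCharacter L,
      (if FrobKer.Rel K (η : L → ℂ) then (η : L → ℂ) 1 * (η : L → ℂ) 1 else 0) =
      (Nat.card L : ℂ) - (K.index : ℂ) := by
  have h1 := FrobKer.sum_deg_sq (X := L)
  have h2 := FrobKer.sum_nonrel_sq K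
  rw [← h1, ← h2, ← Finset.sum_sub_distrib]
  refine Finset.sum_congr rfl fun η _ => ?_
  split_ifs <;> ring

end Sums

section Coh

variable {G : Type u} [Group G] [Fintype G] (K : Subgroup G)

local notation "𝒩" => Subgroup.normalizer (K : Set G)

/-- proportionality of the corrected multiplicities of the relevant characters -/
theorem proportional [Fintype ↥𝒩] (S : Set (↥𝒩 → ℂ))
    (hS : S = {χ : ↥𝒩 → ℂ | IsIrrCharacter ↥𝒩 χ ∧ ∃ k : ↥𝒩, (k : G) ∈ K ∧ χ k ≠ χ 1})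
    (star : (↥𝒩 → ℂ) → (G → ℂ)) (hstar : IsLinearIsometryOn (zspan S) star)
    (hext : ∀ α ∈ zspanOn S ({1}ᶜ : Set ↥𝒩), star α = indFun 𝒩 α)
    {χ ξ : ↥𝒩 → ℂ} (hχ : χ ∈ S) (hξ : ξ ∈ S) {ψ : G → ℂ} (hψ : IsClassFunction G ψ) :
    ξ 1 * (classInner χ (fun n : ↥𝒩 => ψ n) - classInner (star χ) ψ) =
      χ 1 * (classInner ξ (fun n : ↥𝒩 => ψ n) - classInner (star ξ) ψ) := by
  have hχi := (TIFN.mem_S_iff K S hS).mp hχ
  have hξi := (TIFN.mem_S_iff K S hS).mp hξ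
  have h1 := TIFN.inner_star_alpha K S hS star hext hχ hξ hψ
  rw [TIFN.star_alpha hstar hχ hξ hχi.1 hξi.1, TIFN.classInner_alpha_left, classInner_sub_left,
    classInner_smul_left, classInner_smul_left] at h1
  linear_combination -h1

/-- the order of the normalizer -/
theorem card_normalizer_eq : Nat.card ↥𝒩 = Nat.card K * (K.subgroupOf 𝒩).index := by
  rw [← (K.subgroupOf 𝒩).card_mul_index]
  congr 1
  exact Nat.card_congr
    (Subgroup.subgroupOfEquivOfLe (Subgroup.le_normalizer (H := K))).toEquiv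

open Classical in
/-- the degree of a character outside the list in terms of its multiplicities -/
theorem degree_formula [Fintype ↥𝒩] [Fintype (IrrCharacter ↥𝒩)] {θ : G → ℂ} (hyp : Hyp K θ)
    (S : Set (↥𝒩 → ℂ))
    (hS : S = {χ : ↥𝒩 → ℂ | IsIrrCharacter ↥𝒩 χ ∧ ∃ k : ↥𝒩, (k : G) ∈ K ∧ χ k ≠ χ 1})
    (star : (↥𝒩 → ℂ) → (G → ℂ)) (hstar : IsLinearIsometryOn (zspan S) star)
    (hext : ∀ α ∈ zspanOn S ({1}ᶜ : Set ↥𝒩), star α = indFun 𝒩 α)
    {χ₁ : ↥𝒩 → ℂ} (hχ₁ : χ₁ ∈ S) (hdeg₁ : χ₁ 1 = ((K.subgroupOf 𝒩).index : ℂ))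
    {ψ : G → ℂ} (hψ : IsIrrCharacter G ψ) (hnl : ¬ IsLin K θ ψ) :
    ψ 1 = ∑ η : IrrCharacter ↥𝒩,
        (if FrobKer.Rel (K.subgroupOf 𝒩) (η : ↥𝒩 → ℂ) then
          classInner (star (η : ↥𝒩 → ℂ)) ψ * (η : ↥𝒩 → ℂ) 1 else 0) +
      (classInner χ₁ (fun n : ↥𝒩 => ψ n) - classInner (star χ₁) ψ) *
        ((Nat.card K : ℂ) - 1) := by
  haveI : (K.subgroupOf 𝒩).Normal := Subgroup.normal_in_normalizer
  have he0 : ((K.subgroupOf 𝒩).index : ℂ) ≠ 0 := by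
    exact_mod_cast Subgroup.index_ne_zero_of_finite
  have hcf := isClassFunction_of_isIrrCharacter hψ
  have h0 := restrict_eq_sum_rel K hyp hψ hnl 1
  have h1 : ψ ((1 : ↥𝒩) : G) = ψ 1 := rfl
  rw [h1] at h0
  have hterm : ∀ η : IrrCharacter ↥𝒩,
      (if FrobKer.Rel (K.subgroupOf 𝒩) (η : ↥𝒩 → ℂ) then
        classInner (η : ↥𝒩 → ℂ) (fun n : ↥𝒩 => ψ n) * (η : ↥𝒩 → ℂ) 1 else 0) =
      (if FrobKer.Rel (K.subgroupOf 𝒩) (η : ↥𝒩 → ℂ) then
        classInner (star (η : ↥𝒩 → ℂ)) ψ * (η : ↥𝒩 → ℂ) 1 else 0) +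
      (classInner χ₁ (fun n : ↥𝒩 => ψ n) - classInner (star χ₁) ψ) /
        ((K.subgroupOf 𝒩).index : ℂ) *
      (if FrobKer.Rel (K.subgroupOf 𝒩) (η : ↥𝒩 → ℂ) then
        (η : ↥𝒩 → ℂ) 1 * (η : ↥𝒩 → ℂ) 1 else 0) := by
    intro η
    by_cases hr : FrobKer.Rel (K.subgroupOf 𝒩) (η : ↥𝒩 → ℂ)
    · rw [if_pos hr, if_pos hr, if_pos hr]
      have hηS : (η : ↥𝒩 → ℂ) ∈ S := (TIFN.mem_S_iff K S hS).mpr ⟨η.2, hr⟩
      have h2 := proportional K S hS star hstar hext hηS hχ₁ hcf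
      rw [hdeg₁] at h2
      field_simp
      linear_combination (η : ↥𝒩 → ℂ) 1 * h2
    · rw [if_neg hr, if_neg hr, if_neg hr]
      ring
  rw [h0, Finset.sum_congr rfl (fun η _ => hterm η), Finset.sum_add_distrib, ← Finset.mul_sum,
    sum_rel_deg_sq (K.subgroupOf 𝒩), card_normalizer_eq K]
  congr 1
  push_cast
  field_simp

end Coh

end Cfsg.Agent.Helper5.FeitZ
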