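import Mathlib
import Cfsg.Prelude.Def_Characters
import Cfsg.Agent.Lib.Helper5.CharBasic

set_option autoImplicit false
set_option linter.unusedSectionVars false
set_option linter.unusedSimpArgs false
set_option linter.unusedVariables false
set_option linter.style.haveILetI false

namespace Cfsg.Agent.Helper5

open Cfsg
open scoped ComplexConjugate

section
variable {G : Type*} [Group G] [Fintype G]

/-- number of `z` conjugating `h` to `g`, for conjugate elements -/
theorem card_conj_eq_card_centralizer {g h : G} (hc : IsConj h g) :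
    Nat.card {y : G // y * h * y⁻¹ = g} = Nat.card (Subgroup.centralizer ({h} : Set G)) := by
  obtain ⟨c, hc⟩ := isConj_iff.mp hc
  apply Nat.card_congr
  refine ⟨fun y => ⟨c⁻¹ * y.1, ?_⟩, fun z => ⟨c * z.1, ?_⟩, ?_, ?_⟩
  · rw [Subgroup.mem_centralizer_iff]
    intro x hx
    rw [Set.mem_singleton_iff] at hx
    subst hx
    have hy : y.1 * x * y.1⁻¹ = c * x * c⁻¹ := y.2.trans hc.symm
    have : c⁻¹ * (y.1 * x * y.1⁻¹) * c = x := by rw [hy]; group
    calc x * (c⁻¹ * y.1) = (c⁻¹ * (y.1 * x * y.1⁻¹) * c) * (c⁻¹ * y.1) := by rw [this]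
      _ = c⁻¹ * y.1 * x := by group
  · have hz := z.2
    rw [Subgroup.mem_centralizer_iff] at hz
    have := hz h (Set.mem_singleton h)
    calc c * z.1 * h * (c * z.1)⁻¹ = c * (z.1 * h) * z.1⁻¹ * c⁻¹ := by group
      _ = c * (h * z.1) * z.1⁻¹ * c⁻¹ := by rw [this]
      _ = c * h * c⁻¹ := by group
      _ = g := hc
  · intro y
    ext
    simp
  · intro z
    ext
    simp

open scoped Classical in
/-- Summing a function over all conjugates `z a z⁻¹`, `z ∈ G`, counts every element of the class
`|C_G(a)|` times. -/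
theorem sum_conj_eq {M : Type*} [AddCommMonoid M] (a : G) (F : G → M) :
    ∑ z : G, F (z * a * z⁻¹)
      = Nat.card (Subgroup.centralizer ({a} : Set G)) • ∑ x : G, (if IsConj a x then F x else 0) := by
  classical
  have h1 : ∀ z : G, F (z * a * z⁻¹) = ∑ x : G, if z * a * z⁻¹ = x then F x else 0 := by
    intro z
    rw [Finset.sum_ite_eq]
    simp
  simp_rw [h1]
  rw [Finset.sum_comm, Finset.smul_sum]
  apply Finset.sum_congr rfl
  intro x _
  rw [← Finset.sum_filter, Finset.sum_const]
  have hcard : (Finset.univ.filter (fun z : G => z * a * z⁻¹ = x)).card = Nat.card {z : G // z * a * z⁻¹ = x} := by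
    rw [Nat.card_eq_fintype_card, Fintype.card_subtype]
  rw [hcard]
  by_cases hc : IsConj a x
  · rw [if_pos hc, card_conj_eq_card_centralizer hc]
  · rw [if_neg hc]
    have : IsEmpty {z : G // z * a * z⁻¹ = x} := ⟨fun z => hc (isConj_iff.mpr ⟨z.1, z.2⟩)⟩
    rw [Nat.card_of_isEmpty, zero_smul, smul_zero]

/-- the variant with `z⁻¹ a z` -/
theorem sum_conj_eq' {M : Type*} [AddCommMonoid M] (a : G) (F : G → M) :
    ∑ z : G, F (z⁻¹ * a * z)
      = Nat.card (Subgroup.centralizer ({a} : Set G)) • ∑ x : G, (open scoped Classical in if IsConj a x then F x else 0) := by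
  rw [← sum_conj_eq a F, ← Equiv.sum_comp (Equiv.inv G)]
  apply Finset.sum_congr rfl
  intro z _
  simp

theorem card_class_mul_card_centralizer (a : G) :
    Nat.card {x : G // IsConj a x} * Nat.card (Subgroup.centralizer ({a} : Set G)) = Nat.card G := by
  classical
  have h := sum_conj_eq a (fun _ => (1 : ℕ))
  simp only [Finset.sum_const, Finset.card_univ, smul_eq_mul, mul_one] at h
  rw [Finset.sum_boole] at h
  have hcard : (Finset.univ.filter (fun x : G => IsConj a x)).card = Nat.card {x : G // IsConj a x} := by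
    rw [Nat.card_eq_fintype_card, Fintype.card_subtype]
  rw [hcard] at h
  rw [Nat.card_eq_fintype_card (α := G), h, mul_comm]
  simp

theorem index_centralizer_eq_card_class (a : G) :
    (Subgroup.centralizer ({a} : Set G)).index = Nat.card {x : G // IsConj a x} := by
  have h1 := card_class_mul_card_centralizer a
  have h2 := Subgroup.card_mul_index (Subgroup.centralizer ({a} : Set G))
  have hpos : 0 < Nat.card (Subgroup.centralizer ({a} : Set G)) := Nat.card_pos
  rw [mul_comm] at h1
  exact Nat.eq_of_mul_eq_mul_left hpos (h2.trans h1.symm)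

/-- a sum over `G` against an extension by zero is a sum over `H` -/
theorem sum_extendByZero_mul (H : Subgroup G) [Fintype H] (φ : H → ℂ) (F : G → ℂ) :
    ∑ y : G, Cfsg.extendByZero H φ y * F y = ∑ h : H, φ h * F h := by
  classical
  have h1 : ∑ y : G, Cfsg.extendByZero H φ y * F y
      = ∑ y ∈ Finset.univ.filter (fun y : G => y ∈ H), Cfsg.extendByZero H φ y * F y := by
    symm
    apply Finset.sum_subset (Finset.filter_subset _ _)
    intro y _ hy
    simp only [Finset.mem_filter, Finset.mem_univ, true_and] at hy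
    rw [extendByZero_of_not_mem H φ y hy, zero_mul]
  rw [h1]
  rw [Finset.sum_subtype (Finset.univ.filter (fun y : G => y ∈ H)) (p := fun y => y ∈ H) (by simp)]
  apply Finset.sum_congr rfl
  intro h _
  rw [extendByZero_coe]

open scoped Classical in
/-- the induced function evaluated through the conjugates lying in `H` -/
theorem indFun_apply_eq (H : Subgroup G) [Fintype H] (φ : H → ℂ) (g : G) :
    Cfsg.indFun H φ g = (Nat.card H : ℂ)⁻¹ * (Nat.card (Subgroup.centralizer ({g} : Set G)) : ℂ)
      * ∑ h : H, (if IsConj g (h : G) then φ h else 0) := by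
  classical
  show (Nat.card H : ℂ)⁻¹ * ∑ x : G, Cfsg.extendByZero H φ (x⁻¹ * g * x) = _
  rw [sum_conj_eq' g (Cfsg.extendByZero H φ), mul_assoc]
  congr 1
  rw [nsmul_eq_mul]
  congr 1
  have : ∀ x : G, (if IsConj g x then Cfsg.extendByZero H φ x else 0)
      = Cfsg.extendByZero H φ x * (if IsConj g x then 1 else 0) := by
    intro x; split_ifs <;> simp
  simp_rw [this]
  rw [sum_extendByZero_mul]
  apply Finset.sum_congr rfl
  intro h _
  split_ifs <;> simp

theorem indFun_one (H : Subgroup G) (φ : H → ℂ) :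
    Cfsg.indFun H φ 1 = (H.index : ℂ) * φ 1 := by
  classical
  show (Nat.card H : ℂ)⁻¹ * ∑ x : G, Cfsg.extendByZero H φ (x⁻¹ * 1 * x) = _
  have : ∀ x : G, Cfsg.extendByZero H φ (x⁻¹ * 1 * x) = φ 1 := by
    intro x
    rw [mul_one, inv_mul_cancel]
    exact extendByZero_coe H φ 1
  simp only [this, Finset.sum_const, Finset.card_univ, nsmul_eq_mul]
  have hH : (Nat.card H : ℂ) ≠ 0 := by
    have : 0 < Nat.card H := Nat.card_pos
    exact_mod_cast this.ne'
  have hcard : (Nat.card H : ℂ) * (H.index : ℂ) = (Fintype.card G : ℂ) := by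
    rw [← Nat.cast_mul, Subgroup.card_mul_index, Nat.card_eq_fintype_card]
  rw [← hcard]
  field_simp

end

end Cfsg.Agent.Helper5
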