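import Mathlib
import Cfsg.Agent.Lib.Helper5.FeitZ2
import Cfsg.Agent.Lib.Helper5.IndFun

/-!
# Feit's theorem on Zassenhaus groups: the exceptional characters (helper5)
-/

set_option autoImplicit false
set_option linter.unusedVariables false
set_option linter.unusedSectionVars false
set_option linter.style.haveILetI false

namespace Cfsg.Agent.Helper5.FeitZ

open Cfsg Cfsg.Agent.Helper24 Cfsg.Agent.Helper5 Cfsg.Agent.Helper8 Cfsg.Agent.Helper18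
open scoped ComplexConjugate

universe u

section Exc

variable {G : Type u} [Group G] [Fintype G] (K : Subgroup G)

local notation "𝒩" => Subgroup.normalizer (K : Set G)

/-- coherence data for the relevant characters of the normalizer -/
structure Coh [Fintype ↥(Subgroup.normalizer (K : Set G))] (S : Set (↥𝒩 → ℂ))
    (star : (↥𝒩 → ℂ) → (G → ℂ)) (ε : ℂ) : Prop where
  hS : S = {χ : ↥𝒩 → ℂ | IsIrrCharacter ↥𝒩 χ ∧ ∃ k : ↥𝒩, (k : G) ∈ K ∧ χ k ≠ χ 1}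
  htwo : ∃ χ ∈ S, ∃ ξ ∈ S, χ ≠ ξ
  hstar : IsLinearIsometryOn (zspan S) star
  hext : ∀ α ∈ zspanOn S ({1}ᶜ : Set ↥𝒩), star α = indFun 𝒩 α
  hε : ε = 1 ∨ ε = -1
  hX : ∀ χ ∈ S, IsIrrCharacter G (ε • star χ)
  hinj : ∀ χ ∈ S, ∀ ξ ∈ S, star χ = star ξ → χ = ξ

variable [Fintype ↥(Subgroup.normalizer (K : Set G))]
  {S : Set (↥(Subgroup.normalizer (K : Set G)) → ℂ)}
  {star : (↥(Subgroup.normalizer (K : Set G)) → ℂ) → (G → ℂ)} {ε : ℂ}

theorem Coh.conj_eps (coh : Coh K S star ε) : conj ε = ε := by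
  rcases coh.hε with h | h <;> rw [h] <;> simp

theorem Coh.eps_mul_eps (coh : Coh K S star ε) : ε * ε = 1 := by
  rcases coh.hε with h | h <;> rw [h] <;> ring

theorem Coh.mem_iff (coh : Coh K S star ε) {χ : ↥𝒩 → ℂ} :
    χ ∈ S ↔ IsIrrCharacter ↥𝒩 χ ∧ FrobKer.Rel (K.subgroupOf 𝒩) χ :=
  TIFN.mem_S_iff K S coh.hS

open Classical in
/-- inner products of the exceptional characters with the images of the relevant characters -/
theorem Coh.inner_star_exc (coh : Coh K S star ε) {χ ξ : ↥𝒩 → ℂ} (hχ : χ ∈ S) (hξ : ξ ∈ S) :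
    classInner (star χ) (ε • star ξ) = if χ = ξ then ε else 0 := by
  have hχi := (coh.mem_iff K).mp hχ
  have hξi := (coh.mem_iff K).mp hξ
  rw [classInner_smul_right, coh.conj_eps K,
    coh.hstar.2.2.1 χ (Submodule.subset_span hχ) ξ (Submodule.subset_span hξ),
    irr_orthogonality hχi.1 hξi.1]
  split_ifs <;> ring

/-- the exceptional characters are not in the list -/
theorem Coh.not_isLin (coh : Coh K S star ε) {θ : G → ℂ} (hyp : Hyp K θ) {χ : ↥𝒩 → ℂ}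
    (hχ : χ ∈ S) : ¬ IsLin K θ (ε • star χ) := by
  intro hlin
  have hex : ∃ χ' ∈ S, ε • star χ = star χ' ∨ ε • star χ = -star χ' := by
    refine ⟨χ, hχ, ?_⟩
    rcases coh.hε with h | h
    · left; rw [h, one_smul]
    · right; rw [h, neg_smul, one_smul]
  obtain ⟨a, ha, b, hb, ha1, hb1, hne⟩ :=
    (TIFN.iff_nonconst K hyp.hTI hyp.hlt hyp.hC S coh.hS coh.htwo star coh.hstar coh.hext
      (ε • star χ) (coh.hX χ hχ)).mp hex
  apply hne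
  rcases hlin with h | h | ⟨μ, hμ, hr, hμ1, h⟩
  · rw [h]
  · rw [h, hyp.hθ0 a ha ha1, hyp.hθ0 b hb hb1]
  · haveI : (K.subgroupOf 𝒩).Normal := Subgroup.normal_in_normalizer
    have hdeg := degree_one_of_not_rel (K.subgroupOf 𝒩) hyp.hab hμ hr
    have hK : ∀ u : ↥𝒩, (u : G) ∈ K → μ u = 1 := by
      intro u hu
      rw [FrobKer.not_rel hr (Subgroup.mem_subgroupOf.mpr hu), hdeg]
    have h2 := (hyp.hP2 μ (isCharacter_of_isIrrCharacter hμ) hdeg hK hμ1).2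
    rw [h, h2 a ha ha1, h2 b hb hb1]

/-- the degrees of the images of the relevant characters are proportional to the degrees -/
theorem Coh.deg_rel (coh : Coh K S star ε) {χ χ₁ : ↥𝒩 → ℂ} (hχ : χ ∈ S) (hχ₁ : χ₁ ∈ S) :
    χ₁ 1 * star χ 1 = χ 1 * star χ₁ 1 := by
  have hχi := (coh.mem_iff K).mp hχ
  have hχ₁i := (coh.mem_iff K).mp hχ₁
  have h1 := TIFN.star_alpha coh.hstar hχ hχ₁ hχi.1 hχ₁i.1
  rw [coh.hext _ (TIFN.alpha_mem_zspanOn hχ hχ₁ hχi.1 hχ₁i.1)] at h1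
  have h2 := congrFun h1 1
  rw [Cfsg.Agent.Helper24.indFun_one, TIFN.alpha_one, mul_zero] at h2
  simp only [Pi.sub_apply, Pi.smul_apply, smul_eq_mul] at h2
  linear_combination -h2

open Classical in
/-- the degree of an exceptional character in terms of its multiplicity -/
theorem Coh.exc_degree (coh : Coh K S star ε) [Fintype (IrrCharacter ↥𝒩)] {θ : G → ℂ}
    (hyp : Hyp K θ) (χ₁ : IrrCharacter ↥𝒩)
    (hr₁ : FrobKer.Rel (K.subgroupOf 𝒩) (χ₁ : ↥𝒩 → ℂ))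
    (hdeg₁ : (χ₁ : ↥𝒩 → ℂ) 1 = ((K.subgroupOf 𝒩).index : ℂ)) (η : IrrCharacter ↥𝒩)
    (hr : FrobKer.Rel (K.subgroupOf 𝒩) (η : ↥𝒩 → ℂ)) :
    (ε • star (η : ↥𝒩 → ℂ)) 1 = ε * (η : ↥𝒩 → ℂ) 1 +
      (classInner (χ₁ : ↥𝒩 → ℂ) (fun n : ↥𝒩 => (ε • star (η : ↥𝒩 → ℂ)) n) -
        (if η = χ₁ then ε else 0)) * ((Nat.card K : ℂ) - 1) := by
  have hηS : (η : ↥𝒩 → ℂ) ∈ S := (coh.mem_iff K).mpr ⟨η.2, hr⟩
  have hχ₁S : (χ₁ : ↥𝒩 → ℂ) ∈ S := (coh.mem_iff K).mpr ⟨χ₁.2, hr₁⟩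
  have h1 := degree_formula K hyp S coh.hS star coh.hstar coh.hext hχ₁S hdeg₁
    (coh.hX _ hηS) (coh.not_isLin K hyp hηS)
  have hsum : ∑ η' : IrrCharacter ↥𝒩,
      (if FrobKer.Rel (K.subgroupOf 𝒩) (η' : ↥𝒩 → ℂ) then
        classInner (star (η' : ↥𝒩 → ℂ)) (ε • star (η : ↥𝒩 → ℂ)) * (η' : ↥𝒩 → ℂ) 1 else 0) =
      ε * (η : ↥𝒩 → ℂ) 1 := by
    rw [Finset.sum_eq_single η]
    · rw [if_pos hr, coh.inner_star_exc K hηS hηS, if_pos rfl]
    · intro η' _ hne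
      by_cases hr' : FrobKer.Rel (K.subgroupOf 𝒩) (η' : ↥𝒩 → ℂ)
      · rw [if_pos hr', coh.inner_star_exc K ((coh.mem_iff K).mpr ⟨η'.2, hr'⟩) hηS, if_neg,
          zero_mul]
        intro h
        exact hne (Subtype.ext h)
      · rw [if_neg hr']
    · intro h
      exact absurd (Finset.mem_univ η) h
  rw [hsum, coh.inner_star_exc K hχ₁S hηS] at h1
  rw [h1]
  congr 2
  by_cases h : η = χ₁
  · rw [if_pos h, if_pos (by rw [h])]
  · rw [if_neg h, if_neg]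
    intro h'
    exact h (Subtype.ext h'.symm)

open Classical in
/-- the total contribution of the exceptional characters to the degree of the character induced
from a relevant character of least degree -/
theorem Coh.exc_sum (coh : Coh K S star ε) [Fintype (IrrCharacter ↥𝒩)] {θ : G → ℂ}
    (hyp : Hyp K θ) (χ₁ : IrrCharacter ↥𝒩)
    (hr₁ : FrobKer.Rel (K.subgroupOf 𝒩) (χ₁ : ↥𝒩 → ℂ))
    (hdeg₁ : (χ₁ : ↥𝒩 → ℂ) 1 = ((K.subgroupOf 𝒩).index : ℂ))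
    (hh : (Nat.card K : ℂ) - 1 ≠ 0) :
    ∑ η : IrrCharacter ↥𝒩,
      (if FrobKer.Rel (K.subgroupOf 𝒩) (η : ↥𝒩 → ℂ) then
        (ε • star (η : ↥𝒩 → ℂ)) 1 *
          classInner (χ₁ : ↥𝒩 → ℂ) (fun n : ↥𝒩 => (ε • star (η : ↥𝒩 → ℂ)) n) else 0) =
      ((ε • star (χ₁ : ↥𝒩 → ℂ)) 1) ^ 2 / ((K.subgroupOf 𝒩).index : ℂ) := by
  haveI : (K.subgroupOf 𝒩).Normal := Subgroup.normal_in_normalizer
  have he0 : ((K.subgroupOf 𝒩).index : ℂ) ≠ 0 := by
    exact_mod_cast Subgroup.index_ne_zero_of_finite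
  have hχ₁S : (χ₁ : ↥𝒩 → ℂ) ∈ S := (coh.mem_iff K).mpr ⟨χ₁.2, hr₁⟩
  obtain ⟨x, hx⟩ : ∃ x : ℂ, x = (ε • star (χ₁ : ↥𝒩 → ℂ)) 1 := ⟨_, rfl⟩
  obtain ⟨e, hedef⟩ : ∃ e : ℂ, e = ((K.subgroupOf 𝒩).index : ℂ) := ⟨_, rfl⟩
  obtain ⟨h, hhdef⟩ : ∃ h : ℂ, h = (Nat.card K : ℂ) := ⟨_, rfl⟩
  rw [← hx, ← hedef]
  rw [← hedef] at he0 hdeg₁
  rw [← hhdef] at hh
  have hdegη : ∀ η : IrrCharacter ↥𝒩, FrobKer.Rel (K.subgroupOf 𝒩) (η : ↥𝒩 → ℂ) →
      e * (ε • star (η : ↥𝒩 → ℂ)) 1 = (η : ↥𝒩 → ℂ) 1 * x := by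
    intro η hr
    have hηS : (η : ↥𝒩 → ℂ) ∈ S := (coh.mem_iff K).mpr ⟨η.2, hr⟩
    have h1 := coh.deg_rel K hηS hχ₁S
    rw [hdeg₁] at h1
    rw [hx]
    simp only [Pi.smul_apply, smul_eq_mul]
    linear_combination ε * h1
  have hterm : ∀ η : IrrCharacter ↥𝒩,
      (h - 1) * (if FrobKer.Rel (K.subgroupOf 𝒩) (η : ↥𝒩 → ℂ) then
        (ε • star (η : ↥𝒩 → ℂ)) 1 *
          classInner (χ₁ : ↥𝒩 → ℂ) (fun n : ↥𝒩 => (ε • star (η : ↥𝒩 → ℂ)) n) else 0) =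
      (x / e) * (x / e - ε) *
        (if FrobKer.Rel (K.subgroupOf 𝒩) (η : ↥𝒩 → ℂ) then
          (η : ↥𝒩 → ℂ) 1 * (η : ↥𝒩 → ℂ) 1 else 0) +
      (if η = χ₁ then ε * (h - 1) * x else 0) := by
    intro η
    by_cases hr : FrobKer.Rel (K.subgroupOf 𝒩) (η : ↥𝒩 → ℂ)
    · rw [if_pos hr, if_pos hr]
      have h1 := coh.exc_degree K hyp χ₁ hr₁ (by rw [hdeg₁, hedef]) η hr
      rw [← hhdef] at h1
      have h2 := hdegη η hr
      by_cases hη : η = χ₁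
      · rw [if_pos hη] at h1 ⊢
        have h3 : (η : ↥𝒩 → ℂ) 1 = e := by rw [hη, hdeg₁]
        rw [h3] at h1 h2 ⊢
        have h4 : (ε • star (η : ↥𝒩 → ℂ)) 1 = x := by
          have := mul_left_cancel₀ he0 h2
          exact this
        rw [h4] at h1 ⊢
        have hre : (x / e) * (x / e - ε) * (e * e) = x * (x - ε * e) := by
          field_simp
        rw [hre]
        linear_combination (-x) * h1
      · rw [if_neg hη] at h1 ⊢
        have h4 : (ε • star (η : ↥𝒩 → ℂ)) 1 = (η : ↥𝒩 → ℂ) 1 * x / e := by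
          field_simp
          linear_combination h2
        rw [h4] at h1 ⊢
        linear_combination (-((η : ↥𝒩 → ℂ) 1 * x / e)) * h1
    · rw [if_neg hr, if_neg hr, if_neg, mul_zero, mul_zero, add_zero]
      intro hη
      exact hr (hη ▸ hr₁)
  have hsumsq := sum_rel_deg_sq (K.subgroupOf 𝒩)
  rw [card_normalizer_eq K] at hsumsq
  push_cast at hsumsq
  rw [← hedef, ← hhdef] at hsumsq
  have htot : (h - 1) * ∑ η : IrrCharacter ↥𝒩,
      (if FrobKer.Rel (K.subgroupOf 𝒩) (η : ↥𝒩 → ℂ) then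
        (ε • star (η : ↥𝒩 → ℂ)) 1 *
          classInner (χ₁ : ↥𝒩 → ℂ) (fun n : ↥𝒩 => (ε • star (η : ↥𝒩 → ℂ)) n) else 0) =
      (h - 1) * (x ^ 2 / e) := by
    rw [Finset.mul_sum, Finset.sum_congr rfl (fun η _ => hterm η), Finset.sum_add_distrib,
      ← Finset.mul_sum, hsumsq, Finset.sum_ite_eq' Finset.univ χ₁, if_pos (Finset.mem_univ _)]
    field_simp
    ring
  exact mul_left_cancel₀ hh htot

/-- an irreducible character is not the negative of an irreducible character -/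
theorem ne_neg_of_irr {X : Type u} [Group X] {A B : X → ℂ} (hA : IsIrrCharacter X A)
    (hB : IsIrrCharacter X B) : A ≠ -B := by
  intro h
  obtain ⟨a, ha0, ha⟩ := irr_one_eq hA
  obtain ⟨b, hb0, hb⟩ := irr_one_eq hB
  have h1 := congrFun h 1
  rw [Pi.neg_apply, ha, hb] at h1
  have h2 : ((a + b : ℕ) : ℂ) = 0 := by
    push_cast
    linear_combination h1
  have h3 : a + b = 0 := by exact_mod_cast h2
  omega

open Classical in
/-- the degree of a non-exceptional character outside the list -/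
theorem Coh.nonexc_degree (coh : Coh K S star ε) [Fintype (IrrCharacter ↥𝒩)] {θ : G → ℂ}
    (hyp : Hyp K θ) (χ₁ : IrrCharacter ↥𝒩)
    (hr₁ : FrobKer.Rel (K.subgroupOf 𝒩) (χ₁ : ↥𝒩 → ℂ))
    (hdeg₁ : (χ₁ : ↥𝒩 → ℂ) 1 = ((K.subgroupOf 𝒩).index : ℂ))
    {Γ : G → ℂ} (hΓ : IsIrrCharacter G Γ) (hnl : ¬ IsLin K θ Γ)
    (hne : ∀ η : IrrCharacter ↥𝒩, FrobKer.Rel (K.subgroupOf 𝒩) (η : ↥𝒩 → ℂ) →
      Γ ≠ ε • star (η : ↥𝒩 → ℂ)) :
    Γ 1 = classInner (χ₁ : ↥𝒩 → ℂ) (fun n : ↥𝒩 => Γ n) * ((Nat.card K : ℂ) - 1) := by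
  have hχ₁S : (χ₁ : ↥𝒩 → ℂ) ∈ S := (coh.mem_iff K).mpr ⟨χ₁.2, hr₁⟩
  have hzero : ∀ η : IrrCharacter ↥𝒩, FrobKer.Rel (K.subgroupOf 𝒩) (η : ↥𝒩 → ℂ) →
      classInner (star (η : ↥𝒩 → ℂ)) Γ = 0 := by
    intro η hr
    have hηS : (η : ↥𝒩 → ℂ) ∈ S := (coh.mem_iff K).mpr ⟨η.2, hr⟩
    have hirr := coh.hX _ hηS
    have h1 := hne η hr
    have h2 := ne_neg_of_irr hΓ hirr
    apply TIFN.inner_star_eq_zero K S star coh.hstar hηS η.2 hΓ
    · rcases coh.hε with h | h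
      · rw [h, one_smul] at h1
        exact h1
      · rw [h, neg_smul, one_smul, neg_neg] at h2
        exact h2
    · rcases coh.hε with h | h
      · rw [h, one_smul] at h2
        exact h2
      · rw [h, neg_smul, one_smul] at h1
        exact h1
  have h1 := degree_formula K hyp S coh.hS star coh.hstar coh.hext hχ₁S hdeg₁ hΓ hnl
  rw [Finset.sum_eq_zero, zero_add, hzero χ₁ hr₁, sub_zero] at h1
  · exact h1
  · intro η _
    by_cases hr : FrobKer.Rel (K.subgroupOf 𝒩) (η : ↥𝒩 → ℂ)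
    · rw [if_pos hr, hzero η hr, zero_mul]
    · rw [if_neg hr]

end Exc

end Cfsg.Agent.Helper5.FeitZ
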