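import Mathlib
import Cfsg.Agent.Lib.Helper5.FeitZ3

/-!
# Feit's theorem on Zassenhaus groups: multiplicities of the characters in the list (helper5)
-/

set_option autoImplicit false
set_option linter.unusedVariables false
set_option linter.unusedSectionVars false
set_option linter.style.haveILetI false

namespace Cfsg.Agent.Helper5.FeitZ

open Cfsg Cfsg.Agent.Helper24 Cfsg.Agent.Helper5 Cfsg.Agent.Helper8 Cfsg.Agent.Helper18
open scoped ComplexConjugate

universe u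

section Mult

variable {G : Type u} [Group G] [Fintype G] (K : Subgroup G)

local notation "𝒩" => Subgroup.normalizer (K : Set G)

/-- the sum of the values of a relevant character vanishes -/
theorem sum_rel_eq_zero [Fintype ↥𝒩] {χ : ↥𝒩 → ℂ} (hχ : IsIrrCharacter ↥𝒩 χ)
    (hr : FrobKer.Rel (K.subgroupOf 𝒩) χ) : ∑ y : ↥𝒩, χ y = 0 := by
  have hne : χ ≠ fun _ => (1 : ℂ) := by
    intro h
    obtain ⟨k, -, hk⟩ := hr
    rw [h] at hk
    exact hk rfl
  have h1 := irr_orthogonality hχ (isIrrCharacter_one (G := ↥𝒩))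
  rw [if_neg hne] at h1
  unfold classInner at h1
  simp only [map_one, mul_one] at h1
  rcases mul_eq_zero.mp h1 with h | h
  · exfalso
    rw [inv_eq_zero, Nat.cast_eq_zero] at h
    exact (Nat.card_pos (α := ↥𝒩)).ne' h
  · exact h

/-- the multiplicity of a relevant character in a class function of `G` that is constant on the
nonidentity elements of `K` -/
theorem inner_rel_of_const [Fintype ↥𝒩]
    (hC : ∀ k ∈ K, k ≠ 1 → Subgroup.centralizer ({k} : Set G) ≤ K)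
    {χ : ↥𝒩 → ℂ} (hχ : IsIrrCharacter ↥𝒩 χ) (hr : FrobKer.Rel (K.subgroupOf 𝒩) χ)
    {Ψ : G → ℂ} {c : ℂ} (hΨ : ∀ u ∈ K, u ≠ 1 → Ψ u = c) :
    classInner χ (fun n : ↥𝒩 => Ψ n) =
      (Nat.card ↥𝒩 : ℂ)⁻¹ * (χ 1 * (conj (Ψ 1) - conj c)) := by
  classical
  haveI : (K.subgroupOf 𝒩).Normal := Subgroup.normal_in_normalizer
  unfold classInner
  congr 1
  have hpt : ∀ y : ↥𝒩, χ y * conj (Ψ y) =
      χ y * conj c + (if y = 1 then χ 1 * (conj (Ψ 1) - conj c) else 0) := by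
    intro y
    by_cases hy1 : y = 1
    · rw [if_pos hy1, hy1]
      show χ 1 * conj (Ψ 1) = _
      ring
    · rw [if_neg hy1, add_zero]
      by_cases hyK : (y : G) ∈ K
      · rw [hΨ y hyK (fun h => hy1 (Subtype.ext h))]
      · rw [FrobKer.vanish_off (K.subgroupOf 𝒩) (TIFN.fpf K hC) hχ hr
          (x := y) (fun h => hyK (Subgroup.mem_subgroupOf.mp h)), zero_mul, zero_mul]
  rw [Finset.sum_congr rfl (fun y _ => hpt y), Finset.sum_add_distrib, ← Finset.sum_mul,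
    sum_rel_eq_zero K hχ hr, zero_mul, zero_add, Finset.sum_ite_eq' Finset.univ (1 : ↥𝒩),
    if_pos (Finset.mem_univ _)]

/-- the degree of `θ` -/
theorem Hyp.theta_one [Fintype ↥𝒩] {θ : G → ℂ} (hyp : Hyp K θ) : θ 1 = (Nat.card K : ℂ) := by
  have h1 := congrFun hyp.hθ1 1
  rw [Cfsg.Agent.Helper24.indFun_one, hyp.hidx, Pi.add_apply] at h1
  push_cast at h1
  linear_combination -h1

/-- a relevant character of degree `|𝒩 : K|` has multiplicity one in `θ` -/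
theorem Hyp.mult_theta [Fintype ↥𝒩] {θ : G → ℂ} (hyp : Hyp K θ) {χ₁ : ↥𝒩 → ℂ}
    (hχ₁ : IsIrrCharacter ↥𝒩 χ₁) (hr₁ : FrobKer.Rel (K.subgroupOf 𝒩) χ₁)
    (hdeg₁ : χ₁ 1 = ((K.subgroupOf 𝒩).index : ℂ)) :
    classInner χ₁ (fun n : ↥𝒩 => θ n) = 1 := by
  have he0 : ((K.subgroupOf 𝒩).index : ℂ) ≠ 0 := by
    exact_mod_cast Subgroup.index_ne_zero_of_finite
  have hh0 : (Nat.card K : ℂ) ≠ 0 := by
    exact_mod_cast (Nat.card_pos (α := K)).ne'
  rw [inner_rel_of_const K hyp.hC hχ₁ hr₁ (c := 0) hyp.hθ0, hyp.theta_one K, hdeg₁,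
    card_normalizer_eq K]
  push_cast
  rw [map_zero, sub_zero, Complex.conj_natCast]
  field_simp

/-- a relevant character of degree `|𝒩 : K|` has multiplicity one in the characters induced from
the nonprincipal linear characters with `K` in the kernel -/
theorem Hyp.mult_lin [Fintype ↥𝒩] {θ : G → ℂ} (hyp : Hyp K θ) {χ₁ : ↥𝒩 → ℂ}
    (hχ₁ : IsIrrCharacter ↥𝒩 χ₁) (hr₁ : FrobKer.Rel (K.subgroupOf 𝒩) χ₁)
    (hdeg₁ : χ₁ 1 = ((K.subgroupOf 𝒩).index : ℂ)) {μ : ↥𝒩 → ℂ}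
    (hμ : IsIrrCharacter ↥𝒩 μ) (hr : ¬ FrobKer.Rel (K.subgroupOf 𝒩) μ)
    (hμ1 : μ ≠ fun _ => (1 : ℂ)) :
    classInner χ₁ (fun n : ↥𝒩 => indFun 𝒩 μ n) = 1 := by
  haveI : (K.subgroupOf 𝒩).Normal := Subgroup.normal_in_normalizer
  have he0 : ((K.subgroupOf 𝒩).index : ℂ) ≠ 0 := by
    exact_mod_cast Subgroup.index_ne_zero_of_finite
  have hh0 : (Nat.card K : ℂ) ≠ 0 := by
    exact_mod_cast (Nat.card_pos (α := K)).ne'
  have hdeg := degree_one_of_not_rel (K.subgroupOf 𝒩) hyp.hab hμ hr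
  have hK : ∀ u : ↥𝒩, (u : G) ∈ K → μ u = 1 := by
    intro u hu
    rw [FrobKer.not_rel hr (Subgroup.mem_subgroupOf.mpr hu), hdeg]
  have h2 := (hyp.hP2 μ (isCharacter_of_isIrrCharacter hμ) hdeg hK hμ1).2
  rw [inner_rel_of_const K hyp.hC hχ₁ hr₁ (c := 1) h2, Cfsg.Agent.Helper24.indFun_one,
    hyp.hidx, hdeg, hdeg₁, card_normalizer_eq K]
  push_cast
  rw [map_one, mul_one, map_add, map_one, Complex.conj_natCast]
  field_simp
  ring

end Mult

end Cfsg.Agent.Helper5.FeitZ
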