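import Mathlib
import Cfsg.Agent.Lib.Helper5.FeitZ4

/-!
# Feit's theorem on Zassenhaus groups: counting the induced linear characters (helper5)
-/

set_option autoImplicit false
set_option linter.unusedVariables false
set_option linter.unusedSectionVars false
set_option linter.style.haveILetI false

namespace Cfsg.Agent.Helper5.FeitZ

open Cfsg Cfsg.Agent.Helper24 Cfsg.Agent.Helper5 Cfsg.Agent.Helper8 Cfsg.Agent.Helper18
open scoped ComplexConjugate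

universe u

section LinCount

variable {G : Type u} [Group G] [Fintype G] (K : Subgroup G)

local notation "𝒩" => Subgroup.normalizer (K : Set G)

open Classical in
/-- the linear constituents of the restriction of an induced linear character have total
multiplicity two -/
theorem Hyp.sum_lin_mult [Fintype ↥𝒩] [Fintype (IrrCharacter ↥𝒩)] {θ : G → ℂ} (hyp : Hyp K θ)
    {μ : ↥𝒩 → ℂ} (hμ : IsIrrCharacter ↥𝒩 μ) (hr : ¬ FrobKer.Rel (K.subgroupOf 𝒩) μ)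
    (hμ1 : μ ≠ fun _ => (1 : ℂ)) :
    ∑ η : IrrCharacter ↥𝒩,
      (if FrobKer.Rel (K.subgroupOf 𝒩) (η : ↥𝒩 → ℂ) then 0 else
        classInner (η : ↥𝒩 → ℂ) (fun n : ↥𝒩 => indFun 𝒩 μ n) * (η : ↥𝒩 → ℂ) 1) = 2 := by
  haveI : (K.subgroupOf 𝒩).Normal := Subgroup.normal_in_normalizer
  letI : Fintype (K.subgroupOf 𝒩) := Fintype.ofFinite _
  have hh0 : (Nat.card K : ℂ) ≠ 0 := by
    exact_mod_cast (Nat.card_pos (α := K)).ne'
  have hcardK : Nat.card (K.subgroupOf 𝒩) = Nat.card K :=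
    Nat.card_congr (Subgroup.subgroupOfEquivOfLe (Subgroup.le_normalizer (H := K))).toEquiv
  have hdeg := degree_one_of_not_rel (K.subgroupOf 𝒩) hyp.hab hμ hr
  have hK : ∀ u : ↥𝒩, (u : G) ∈ K → μ u = 1 := by
    intro u hu
    rw [FrobKer.not_rel hr (Subgroup.mem_subgroupOf.mpr hu), hdeg]
  obtain ⟨hΛirr, hΛK⟩ := hyp.hP2 μ (isCharacter_of_isIrrCharacter hμ) hdeg hK hμ1
  have hΛc : IsCharacter ↥𝒩 (fun n : ↥𝒩 => indFun 𝒩 μ n) :=
    isCharacter_restrict 𝒩 (isCharacter_of_isIrrCharacter hΛirr)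
  have hdec := (isCharacter_decomp hΛc).2
  -- the sum over `K`, computed directly
  have hsum1 : ∑ k : K.subgroupOf 𝒩, (fun n : ↥𝒩 => indFun 𝒩 μ n) (k : ↥𝒩) =
      2 * (Nat.card K : ℂ) := by
    have hpt : ∀ k : K.subgroupOf 𝒩, (fun n : ↥𝒩 => indFun 𝒩 μ n) (k : ↥𝒩) =
        1 + (if k = 1 then (Nat.card K : ℂ) else 0) := by
      intro k
      by_cases hk : k = 1
      · rw [if_pos hk, hk]
        show indFun 𝒩 μ ((1 : ↥𝒩) : G) = _
        rw [Subgroup.coe_one, Cfsg.Agent.Helper24.indFun_one, hyp.hidx, hdeg]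
        push_cast
        ring
      · rw [if_neg hk, add_zero]
        apply hΛK _ (Subgroup.mem_subgroupOf.mp k.2)
        intro h
        apply hk
        apply Subtype.ext
        apply Subtype.ext
        exact h
    rw [Finset.sum_congr rfl (fun k _ => hpt k), Finset.sum_add_distrib, Finset.sum_const,
      Finset.card_univ, ← Nat.card_eq_fintype_card, hcardK,
      Finset.sum_ite_eq' Finset.univ (1 : K.subgroupOf 𝒩), if_pos (Finset.mem_univ _)]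
    simp only [nsmul_eq_mul, mul_one]
    ring
  -- the sum over `K`, computed through the decomposition
  have hsum2 : ∑ k : K.subgroupOf 𝒩, (fun n : ↥𝒩 => indFun 𝒩 μ n) (k : ↥𝒩) =
      (Nat.card K : ℂ) * ∑ η : IrrCharacter ↥𝒩,
        (if FrobKer.Rel (K.subgroupOf 𝒩) (η : ↥𝒩 → ℂ) then 0 else
          classInner (η : ↥𝒩 → ℂ) (fun n : ↥𝒩 => indFun 𝒩 μ n) * (η : ↥𝒩 → ℂ) 1) := by
    have hpt : ∀ k : K.subgroupOf 𝒩, (fun n : ↥𝒩 => indFun 𝒩 μ n) (k : ↥𝒩) =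
        ∑ η : IrrCharacter ↥𝒩, classInner (fun n : ↥𝒩 => indFun 𝒩 μ n) (η : ↥𝒩 → ℂ) *
          (η : ↥𝒩 → ℂ) (k : ↥𝒩) := by
      intro k
      have h1 := congrFun hdec (k : ↥𝒩)
      rw [Finset.sum_apply] at h1
      exact h1
    rw [Finset.sum_congr rfl (fun k _ => hpt k), Finset.sum_comm, Finset.mul_sum]
    apply Finset.sum_congr rfl
    intro η _
    rw [← Finset.mul_sum, FrobKer.sum_K (K.subgroupOf 𝒩) η.2,
      classInner_char_comm hΛc (isCharacter_of_isIrrCharacter η.2), hcardK]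
    split_ifs <;> ring
  rw [hsum1] at hsum2
  have h3 := mul_left_cancel₀ hh0 (show (Nat.card K : ℂ) * 2 = _ by rw [← hsum2]; ring)
  exact h3.symm

open Classical in
/-- the irreducible characters of `G` induced from the nonprincipal linear characters of the
normalizer with `K` in the kernel -/
noncomputable def Lset [Fintype ↥(Subgroup.normalizer (K : Set G))]
    [Fintype (IrrCharacter ↥(Subgroup.normalizer (K : Set G)))] [Fintype (IrrCharacter G)] :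
    Finset (IrrCharacter G) :=
  Finset.univ.filter (fun ψ : IrrCharacter G => ∃ μ : IrrCharacter ↥𝒩,
    ¬ FrobKer.Rel (K.subgroupOf 𝒩) (μ : ↥𝒩 → ℂ) ∧ (μ : ↥𝒩 → ℂ) ≠ (fun _ => (1 : ℂ)) ∧
      (ψ : G → ℂ) = indFun 𝒩 (μ : ↥𝒩 → ℂ))

open Classical in
/-- at most two linear characters induce the same character -/
theorem Hyp.index_le [Fintype ↥𝒩] [Fintype (IrrCharacter ↥𝒩)] [Fintype (IrrCharacter G)]
    {θ : G → ℂ} (hyp : Hyp K θ) :
    (K.subgroupOf 𝒩).index ≤ 2 * (Lset K).card + 1 := by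
  haveI : (K.subgroupOf 𝒩).Normal := Subgroup.normal_in_normalizer
  -- the set of nonprincipal linear characters
  obtain ⟨A, hA⟩ : ∃ A : Finset (IrrCharacter ↥𝒩), A = Finset.univ.filter
      (fun μ : IrrCharacter ↥𝒩 => ¬ FrobKer.Rel (K.subgroupOf 𝒩) (μ : ↥𝒩 → ℂ) ∧
        (μ : ↥𝒩 → ℂ) ≠ (fun _ => (1 : ℂ))) := ⟨_, rfl⟩
  have hmemA : ∀ μ : IrrCharacter ↥𝒩, μ ∈ A ↔
      (¬ FrobKer.Rel (K.subgroupOf 𝒩) (μ : ↥𝒩 → ℂ) ∧ (μ : ↥𝒩 → ℂ) ≠ (fun _ => (1 : ℂ))) := by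
    intro μ
    rw [hA, Finset.mem_filter]
    exact ⟨fun h => h.2, fun h => ⟨Finset.mem_univ _, h⟩⟩
  have hcardA : (K.subgroupOf 𝒩).index = A.card + 1 := by
    rw [← card_not_rel (K.subgroupOf 𝒩) hyp.hab, Nat.card_eq_fintype_card, Fintype.card_subtype]
    have hprin : principalChar ↥𝒩 ∈ Finset.univ.filter
        (fun μ : IrrCharacter ↥𝒩 => ¬ FrobKer.Rel (K.subgroupOf 𝒩) (μ : ↥𝒩 → ℂ)) := by
      rw [Finset.mem_filter]
      refine ⟨Finset.mem_univ _, ?_⟩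
      rintro ⟨k, -, hk⟩
      exact hk rfl
    have hAe : A = (Finset.univ.filter
        (fun μ : IrrCharacter ↥𝒩 => ¬ FrobKer.Rel (K.subgroupOf 𝒩) (μ : ↥𝒩 → ℂ))).erase
          (principalChar ↥𝒩) := by
      ext μ
      rw [hmemA, Finset.mem_erase, Finset.mem_filter]
      constructor
      · rintro ⟨h1, h2⟩
        refine ⟨fun h => h2 ?_, Finset.mem_univ _, h1⟩
        rw [h]
        rfl
      · rintro ⟨h1, -, h2⟩
        refine ⟨h2, fun h => h1 ?_⟩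
        exact Subtype.ext h
    rw [hAe, Finset.card_erase_of_mem hprin]
    have hpos : 0 < (Finset.univ.filter
        (fun μ : IrrCharacter ↥𝒩 => ¬ FrobKer.Rel (K.subgroupOf 𝒩) (μ : ↥𝒩 → ℂ))).card :=
      Finset.card_pos.mpr ⟨_, hprin⟩
    omega
  have hirrA : ∀ μ : IrrCharacter ↥𝒩, μ ∈ A → IsIrrCharacter G (indFun 𝒩 (μ : ↥𝒩 → ℂ)) := by
    intro μ hμ
    obtain ⟨hr, hμ1⟩ := (hmemA μ).mp hμ
    have hdeg := degree_one_of_not_rel (K.subgroupOf 𝒩) hyp.hab μ.2 hr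
    have hK : ∀ u : ↥𝒩, (u : G) ∈ K → (μ : ↥𝒩 → ℂ) u = 1 := by
      intro u hu
      rw [FrobKer.not_rel hr (Subgroup.mem_subgroupOf.mpr hu), hdeg]
    exact (hyp.hP2 μ (isCharacter_of_isIrrCharacter μ.2) hdeg hK hμ1).1
  obtain ⟨f, hf⟩ : ∃ f : IrrCharacter ↥𝒩 → IrrCharacter G, ∀ μ : IrrCharacter ↥𝒩, μ ∈ A →
      (f μ : G → ℂ) = indFun 𝒩 (μ : ↥𝒩 → ℂ) := by
    refine ⟨fun μ => if h : μ ∈ A then ⟨_, hirrA μ h⟩ else principalChar G, ?_⟩
    intro μ hμ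
    simp only [dif_pos hμ]
  have hmaps : ∀ μ ∈ A, f μ ∈ Lset K := by
    intro μ hμ
    unfold Lset
    rw [Finset.mem_filter]
    obtain ⟨hr, hμ1⟩ := (hmemA μ).mp hμ
    exact ⟨Finset.mem_univ _, μ, hr, hμ1, hf μ hμ⟩
  have hfiber : ∀ Λ ∈ Lset K, (A.filter (fun μ => f μ = Λ)).card ≤ 2 := by
    intro Λ hΛ
    unfold Lset at hΛ
    rw [Finset.mem_filter] at hΛ
    obtain ⟨-, μ₀, hr₀, hμ₀1, hΛμ₀⟩ := hΛ
    have hΛc : IsCharacter ↥𝒩 (fun n : ↥𝒩 => indFun 𝒩 (μ₀ : ↥𝒩 → ℂ) n) := by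
      rw [← hΛμ₀]
      exact isCharacter_restrict 𝒩 (isCharacter_of_isIrrCharacter Λ.2)
    have hnat : ∀ η : IrrCharacter ↥𝒩, ∃ n : ℕ,
        classInner (η : ↥𝒩 → ℂ) (fun n : ↥𝒩 => indFun 𝒩 (μ₀ : ↥𝒩 → ℂ) n) = n :=
      fun η => classInner_char_nat (isCharacter_of_isIrrCharacter η.2) hΛc
    choose n hn using hnat
    have hJ1 := hyp.sum_lin_mult K μ₀.2 hr₀ hμ₀1
    have hJ1' : ∑ η ∈ Finset.univ.filter (fun η : IrrCharacter ↥𝒩 =>
        ¬ FrobKer.Rel (K.subgroupOf 𝒩) (η : ↥𝒩 → ℂ)), n η * charDegree (η : ↥𝒩 → ℂ) = 2 := by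
      have : ((∑ η ∈ Finset.univ.filter (fun η : IrrCharacter ↥𝒩 =>
          ¬ FrobKer.Rel (K.subgroupOf 𝒩) (η : ↥𝒩 → ℂ)),
            n η * charDegree (η : ↥𝒩 → ℂ) : ℕ) : ℂ) = 2 := by
        rw [← hJ1, Finset.sum_filter]
        push_cast
        apply Finset.sum_congr rfl
        intro η _
        by_cases hr : FrobKer.Rel (K.subgroupOf 𝒩) (η : ↥𝒩 → ℂ)
        · rw [if_neg (not_not.mpr hr), if_pos hr]
        · rw [if_pos hr, if_neg hr, hn η, irr_one_eq_charDegree η.2]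
      exact_mod_cast this
    have hsub : A.filter (fun μ => f μ = Λ) ⊆ Finset.univ.filter (fun η : IrrCharacter ↥𝒩 =>
        ¬ FrobKer.Rel (K.subgroupOf 𝒩) (η : ↥𝒩 → ℂ)) := by
      intro μ hμ
      rw [Finset.mem_filter] at hμ ⊢
      exact ⟨Finset.mem_univ _, ((hmemA μ).mp hμ.1).1⟩
    have hone : ∀ μ ∈ A.filter (fun μ => f μ = Λ), n μ * charDegree (μ : ↥𝒩 → ℂ) = 1 := by
      intro μ hμ
      rw [Finset.mem_filter] at hμ
      obtain ⟨hμA, hfμ⟩ := hμ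
      obtain ⟨hr, hμ1⟩ := (hmemA μ).mp hμA
      have hdeg := degree_one_of_not_rel (K.subgroupOf 𝒩) hyp.hab μ.2 hr
      have h1 : classInner (μ : ↥𝒩 → ℂ) (fun n : ↥𝒩 => indFun 𝒩 (μ₀ : ↥𝒩 → ℂ) n) = 1 := by
        rw [← frobenius_reciprocity 𝒩 _ (isClassFunction_of_isIrrCharacter
          (hΛμ₀ ▸ Λ.2 : IsIrrCharacter G (indFun 𝒩 (μ₀ : ↥𝒩 → ℂ)))), ← hΛμ₀, ← hfμ, hf μ hμA,
          irr_orthogonality (hirrA μ hμA) (hirrA μ hμA), if_pos rfl]
      have h2 : ((n μ * charDegree (μ : ↥𝒩 → ℂ) : ℕ) : ℂ) = 1 := by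
        push_cast
        rw [← hn μ, h1, ← irr_one_eq_charDegree μ.2, hdeg, mul_one]
      exact_mod_cast h2
    calc (A.filter (fun μ => f μ = Λ)).card
        = ∑ μ ∈ A.filter (fun μ => f μ = Λ), n μ * charDegree (μ : ↥𝒩 → ℂ) := by
          rw [Finset.sum_congr rfl hone, Finset.sum_const, smul_eq_mul, mul_one]
      _ ≤ ∑ η ∈ Finset.univ.filter (fun η : IrrCharacter ↥𝒩 =>
          ¬ FrobKer.Rel (K.subgroupOf 𝒩) (η : ↥𝒩 → ℂ)), n η * charDegree (η : ↥𝒩 → ℂ) :=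
          Finset.sum_le_sum_of_subset hsub
      _ = 2 := hJ1'
  have hle := Finset.card_le_mul_card_image_of_maps_to hmaps 2 hfiber
  omega

end LinCount

end Cfsg.Agent.Helper5.FeitZ
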