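import Mathlib
import Cfsg.Agent.Lib.Helper5.FeitZ5

/-!
# Feit's theorem on Zassenhaus groups: the product of an exceptional character with its
conjugate (helper5)
-/

set_option autoImplicit false
set_option linter.unusedVariables false
set_option linter.unusedSectionVars false
set_option linter.style.haveILetI false

namespace Cfsg.Agent.Helper5.FeitZ

open Cfsg Cfsg.Agent.Helper24 Cfsg.Agent.Helper5 Cfsg.Agent.Helper8 Cfsg.Agent.Helper18
open scoped ComplexConjugate

universe u

section Square

variable {G : Type u} [Group G] [Fintype G] (K : Subgroup G)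

local notation "𝒩" => Subgroup.normalizer (K : Set G)

/-- a character that vanishes on the normalizer off `K`, multiplied by its conjugate, contains every
character induced from a linear character of the normalizer with `K` in the kernel -/
theorem inner_mul_conj_ne_zero [Fintype ↥𝒩] {X : G → ℂ} (hX : IsIrrCharacter G X)
    (hvan : ∀ y : G, y ∈ 𝒩 → y ∉ K → X y = 0) {μ : ↥𝒩 → ℂ}
    (hK : ∀ u : ↥𝒩, (u : G) ∈ K → μ u = 1) :
    classInner (indFun 𝒩 μ) (X * fun g => conj (X g)) ≠ 0 := by
  classical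
  have hXc := isCharacter_of_isIrrCharacter hX
  have hZc : IsCharacter G (X * fun g => conj (X g)) := isCharacter_mul hXc (isCharacter_conj hXc)
  rw [frobenius_reciprocity 𝒩 μ (isClassFunction_of_isCharacter hZc)]
  unfold classInner
  have hpt : ∀ y : ↥𝒩, μ y * conj ((fun h : ↥𝒩 => (X * fun g => conj (X g)) (h : G)) y) =
      ((Complex.normSq (X (y : G)) : ℝ) : ℂ) := by
    intro y
    show μ y * conj (X (y : G) * conj (X (y : G))) = _
    rw [map_mul, Complex.conj_conj, mul_comm (conj (X (y : G))), Complex.mul_conj]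
    by_cases hy : (y : G) ∈ K
    · rw [hK y hy, one_mul]
    · rw [hvan y y.2 hy]
      simp
  rw [Finset.sum_congr rfl (fun y _ => hpt y), ← Complex.ofReal_sum]
  apply mul_ne_zero
  · rw [ne_eq, inv_eq_zero, Nat.cast_eq_zero]
    exact (Nat.card_pos (α := ↥𝒩)).ne'
  · rw [ne_eq, Complex.ofReal_eq_zero]
    apply ne_of_gt
    have h1 : 0 < Complex.normSq (X ((1 : ↥𝒩) : G)) := by
      rw [Complex.normSq_pos]
      obtain ⟨n, hn0, hn⟩ := irr_one_eq hX
      rw [Subgroup.coe_one, hn]
      exact_mod_cast hn0.ne'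
    calc (0 : ℝ) < Complex.normSq (X ((1 : ↥𝒩) : G)) := h1
      _ ≤ ∑ y : ↥𝒩, Complex.normSq (X (y : G)) :=
        Finset.single_le_sum (f := fun y : ↥𝒩 => Complex.normSq (X (y : G)))
          (fun y _ => Complex.normSq_nonneg _) (Finset.mem_univ _)

open Classical in
/-- the degree of the members of `Lset` -/
theorem Hyp.charDegree_of_mem_Lset [Fintype ↥𝒩] [Fintype (IrrCharacter ↥𝒩)]
    [Fintype (IrrCharacter G)] {θ : G → ℂ} (hyp : Hyp K θ) {Λ : IrrCharacter G}
    (hΛ : Λ ∈ Lset K) : charDegree (Λ : G → ℂ) = Nat.card K + 1 := by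
  haveI : (K.subgroupOf 𝒩).Normal := Subgroup.normal_in_normalizer
  unfold Lset at hΛ
  rw [Finset.mem_filter] at hΛ
  obtain ⟨-, μ, hr, hμ1, hΛμ⟩ := hΛ
  have hdeg := degree_one_of_not_rel (K.subgroupOf 𝒩) hyp.hab μ.2 hr
  have h1 : (Λ : G → ℂ) 1 = ((Nat.card K + 1 : ℕ) : ℂ) := by
    rw [hΛμ, Cfsg.Agent.Helper24.indFun_one, hyp.hidx, hdeg, mul_one]
  have h2 := irr_one_eq_charDegree Λ.2
  rw [h1] at h2
  exact_mod_cast h2.symm

open Classical in
/-- the square of the degree of an irreducible character vanishing on the normalizer off `K` -/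
theorem Hyp.sq_ge [Fintype ↥𝒩] [Fintype (IrrCharacter ↥𝒩)] [Fintype (IrrCharacter G)]
    {θ : G → ℂ} (hyp : Hyp K θ) {X : G → ℂ} (hX : IsIrrCharacter G X)
    (hvan : ∀ y : G, y ∈ 𝒩 → y ∉ K → X y = 0) :
    1 + (Lset K).card * (Nat.card K + 1) ≤ (charDegree X) ^ 2 := by
  haveI : (K.subgroupOf 𝒩).Normal := Subgroup.normal_in_normalizer
  have hXc := isCharacter_of_isIrrCharacter hX
  have hZc : IsCharacter G (X * fun g => conj (X g)) := isCharacter_mul hXc (isCharacter_conj hXc)
  obtain ⟨hnat, hdec⟩ := isCharacter_decomp hZc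
  choose n hn using hnat
  have hZ1 : ((charDegree X ^ 2 : ℕ) : ℂ) =
      ((∑ ψ : IrrCharacter G, n ψ * charDegree (ψ : G → ℂ) : ℕ) : ℂ) := by
    have h1 := congrFun hdec 1
    rw [Finset.sum_apply] at h1
    have h2 : (X * fun g => conj (X g)) 1 = ((charDegree X ^ 2 : ℕ) : ℂ) := by
      show X 1 * conj (X 1) = _
      rw [irr_one_eq_charDegree hX, Complex.conj_natCast]
      push_cast
      ring
    rw [← h2, h1]
    push_cast
    apply Finset.sum_congr rfl
    intro ψ _
    rw [Pi.smul_apply, smul_eq_mul, hn ψ, irr_one_eq_charDegree ψ.2]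
  have hZ1' : charDegree X ^ 2 = ∑ ψ : IrrCharacter G, n ψ * charDegree (ψ : G → ℂ) := by
    exact_mod_cast hZ1
  have hprin : principalChar G ∉ Lset K := by
    intro h
    have h1 := hyp.charDegree_of_mem_Lset K h
    have h2 : charDegree ((principalChar G : IrrCharacter G) : G → ℂ) = 1 := by
      have h3 := irr_one_eq_charDegree (principalChar G).2
      have h4 : ((principalChar G : IrrCharacter G) : G → ℂ) 1 = 1 := rfl
      rw [h4] at h3
      exact_mod_cast h3.symm
    have hpos : 0 < Nat.card K := Nat.card_pos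
    omega
  have hn1 : n (principalChar G) = 1 := by
    have h1 : classInner (X * fun g => conj (X g)) ((principalChar G : IrrCharacter G) : G → ℂ)
        = 1 := by
      have h2 := irr_orthogonality hX hX
      rw [if_pos rfl] at h2
      rw [← h2]
      unfold classInner
      congr 1
      apply Finset.sum_congr rfl
      intro g _
      show X g * conj (X g) * conj (1 : ℂ) = X g * conj (X g)
      rw [map_one, mul_one]
    rw [hn] at h1
    exact_mod_cast h1
  have hnΛ : ∀ Λ ∈ Lset K, 1 ≤ n Λ := by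
    intro Λ hΛ
    have hΛ' := hΛ
    unfold Lset at hΛ'
    rw [Finset.mem_filter] at hΛ'
    obtain ⟨-, μ, hr, hμ1, hΛμ⟩ := hΛ'
    have hdeg := degree_one_of_not_rel (K.subgroupOf 𝒩) hyp.hab μ.2 hr
    have hK : ∀ u : ↥𝒩, (u : G) ∈ K → (μ : ↥𝒩 → ℂ) u = 1 := by
      intro u hu
      rw [FrobKer.not_rel hr (Subgroup.mem_subgroupOf.mpr hu), hdeg]
    have h1 := inner_mul_conj_ne_zero K hX hvan hK
    rw [← hΛμ, ← classInner_conj_symm, hn Λ, Complex.conj_natCast] at h1
    have h2 : n Λ ≠ 0 := by
      intro h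
      apply h1
      rw [h]
      simp
    omega
  calc 1 + (Lset K).card * (Nat.card K + 1)
      = n (principalChar G) * 1 + ∑ Λ ∈ Lset K, 1 * (Nat.card K + 1) := by
        rw [hn1, Finset.sum_const, smul_eq_mul]
        ring
    _ ≤ n (principalChar G) * charDegree ((principalChar G : IrrCharacter G) : G → ℂ) +
          ∑ Λ ∈ Lset K, n Λ * charDegree (Λ : G → ℂ) := by
        apply add_le_add
        · apply Nat.mul_le_mul_left
          exact charDegree_pos (principalChar G).2
        · apply Finset.sum_le_sum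
          intro Λ hΛ
          rw [hyp.charDegree_of_mem_Lset K hΛ]
          exact Nat.mul_le_mul_right _ (hnΛ Λ hΛ)
    _ = ∑ ψ ∈ insert (principalChar G) (Lset K), n ψ * charDegree (ψ : G → ℂ) := by
        rw [Finset.sum_insert hprin]
    _ ≤ ∑ ψ : IrrCharacter G, n ψ * charDegree (ψ : G → ℂ) :=
        Finset.sum_le_sum_of_subset (Finset.subset_univ _)
    _ = charDegree X ^ 2 := hZ1'.symm

end Square

end Cfsg.Agent.Helper5.FeitZ
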