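import Mathlib
import Cfsg.Agent.Lib.Helper5.FeitZ6

/-!
# Feit's theorem on Zassenhaus groups: counting the classes meeting `K` (helper5)
-/

set_option autoImplicit false
set_option linter.unusedVariables false
set_option linter.unusedSectionVars false
set_option linter.style.haveILetI false

namespace Cfsg.Agent.Helper5.FeitZ

open Cfsg Cfsg.Agent.Helper24 Cfsg.Agent.Helper5 Cfsg.Agent.Helper8 Cfsg.Agent.Helper18
open scoped ComplexConjugate

universe u

section Classes

variable {G : Type u} [Group G] [Fintype G] (K : Subgroup G)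

local notation "𝒩" => Subgroup.normalizer (K : Set G)

open Classical in
/-- there are at least as many classes of `G` meeting `K` as relevant characters, plus one -/
theorem card_classes_meeting_ge [Fintype ↥𝒩] [Fintype (IrrCharacter ↥𝒩)]
    (hTI : ∀ g : G, g ∉ 𝒩 → ∀ k ∈ K, g * k * g⁻¹ ∈ K → k = 1)
    (hC : ∀ k ∈ K, k ≠ 1 → Subgroup.centralizer ({k} : Set G) ≤ K) :
    Nat.card {η : IrrCharacter ↥𝒩 // FrobKer.Rel (K.subgroupOf 𝒩) (η : ↥𝒩 → ℂ)} + 1 ≤
      Nat.card {C : ConjClasses G // ∃ u ∈ K, ConjClasses.mk u = C} := by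
  haveI : (K.subgroupOf 𝒩).Normal := Subgroup.normal_in_normalizer
  have hrep : ∀ C : {C : ConjClasses G // ∃ u ∈ K, ConjClasses.mk u = C},
      ∃ u : ↥𝒩, (u : G) ∈ K ∧ ConjClasses.mk (u : G) = C.1 := by
    intro C
    obtain ⟨u, hu, h⟩ := C.2
    exact ⟨⟨u, Subgroup.le_normalizer hu⟩, hu, h⟩
  choose rep hrepK hrepC using hrep
  obtain ⟨w, hw0, hw1⟩ : ∃ w : Option {η : IrrCharacter ↥𝒩 //
      FrobKer.Rel (K.subgroupOf 𝒩) (η : ↥𝒩 → ℂ)} → (↥𝒩 → ℂ),
      w none = (fun _ => (1 : ℂ)) ∧ ∀ η, w (some η) = (η.1 : ↥𝒩 → ℂ) :=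
    ⟨fun i => match i with
      | none => fun _ => 1
      | some η => (η.1 : ↥𝒩 → ℂ), rfl, fun _ => rfl⟩
  have hwirr : ∀ i, IsIrrCharacter ↥𝒩 (w i) := by
    intro i
    cases i with
    | none => rw [hw0]; exact isIrrCharacter_one
    | some η => rw [hw1]; exact η.1.2
  have hwinj : Function.Injective w := by
    intro i j hij
    cases i with
    | none =>
      cases j with
      | none => rfl
      | some η =>
        exfalso
        rw [hw0, hw1] at hij
        obtain ⟨k, -, hk⟩ := η.2
        rw [← hij] at hk
        exact hk rfl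
    | some η =>
      cases j with
      | none =>
        exfalso
        rw [hw0, hw1] at hij
        obtain ⟨k, -, hk⟩ := η.2
        rw [hij] at hk
        exact hk rfl
      | some η' =>
        rw [hw1, hw1] at hij
        exact congrArg some (Subtype.ext (Subtype.ext hij))
  have hli : LinearIndependent ℂ (fun i => (fun C => w i (rep C) :
      {C : ConjClasses G // ∃ u ∈ K, ConjClasses.mk u = C} → ℂ)) := by
    rw [Fintype.linearIndependent_iff]
    intro g hg
    -- step 1: the combination vanishes on `K`
    have hstep1 : ∀ u : ↥𝒩, (u : G) ∈ K → ∑ i, g i * w i u = 0 := by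
      intro u hu
      have h1 := congrFun hg ⟨ConjClasses.mk (u : G), u, hu, rfl⟩
      rw [Finset.sum_apply] at h1
      simp only [Pi.smul_apply, smul_eq_mul, Pi.zero_apply] at h1
      rw [← h1]
      apply Finset.sum_congr rfl
      intro i _
      congr 1
      have hconj := hrepC ⟨ConjClasses.mk (u : G), u, hu, rfl⟩
      have hrK := hrepK ⟨ConjClasses.mk (u : G), u, hu, rfl⟩
      obtain ⟨r, hr⟩ : ∃ r : ↥𝒩, r = rep ⟨ConjClasses.mk (u : G), u, hu, rfl⟩ := ⟨_, rfl⟩
      rw [← hr] at hconj hrK ⊢
      simp only at hconj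
      rw [ConjClasses.mk_eq_mk_iff_isConj, isConj_iff] at hconj
      obtain ⟨c, hc⟩ := hconj
      by_cases hr1 : (r : G) = 1
      · have hu1 : (u : G) = 1 := by rw [← hc, hr1]; group
        have : u = r := Subtype.ext (hu1.trans hr1.symm)
        rw [this]
      · have hcN : c ∈ 𝒩 := by
          by_contra hcN
          exact hr1 (hTI c hcN r hrK (hc ▸ hu))
        have hcf := isClassFunction_of_isIrrCharacter (hwirr i)
        have h2 := hcf r ⟨c, hcN⟩
        rw [← h2]
        congr 1
        apply Subtype.ext
        simp only [Subgroup.coe_mul, Subgroup.coe_inv]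
        exact hc.symm
    -- step 2: orthogonality
    have hinner : ∀ j, classInner (fun y : ↥𝒩 => ∑ i, g i * w i y) (w j) = g j := by
      intro j
      have hF : (fun y : ↥𝒩 => ∑ i, g i * w i y) = ∑ i, g i • w i := by
        funext y
        rw [Finset.sum_apply]
        rfl
      rw [hF, classInner_sum_left, Finset.sum_eq_single j]
      · rw [classInner_smul_left, irr_orthogonality (hwirr j) (hwirr j), if_pos rfl, mul_one]
      · intro i _ hij
        rw [classInner_smul_left, irr_orthogonality (hwirr i) (hwirr j),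
          if_neg (fun h => hij (hwinj h)), mul_zero]
      · intro h
        exact absurd (Finset.mem_univ j) h
    have hsome : ∀ η, g (some η) = 0 := by
      intro η
      rw [← hinner (some η)]
      unfold classInner
      rw [Finset.sum_eq_zero, mul_zero]
      intro y _
      by_cases hy : (y : G) ∈ K
      · show (∑ i, g i * w i y) * _ = 0
        rw [hstep1 y hy, zero_mul]
      · show (∑ i, g i * w i y) * _ = 0
        rw [hw1, FrobKer.vanish_off (K.subgroupOf 𝒩) (TIFN.fpf K hC) η.1.2 η.2
          (x := y) (fun h => hy (Subgroup.mem_subgroupOf.mp h)), map_zero, mul_zero]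
    intro i
    cases i with
    | some η => exact hsome η
    | none =>
      have h1 := hstep1 1 (by rw [Subgroup.coe_one]; exact K.one_mem)
      rw [Fintype.sum_option, hw0] at h1
      simp only [mul_one] at h1
      rw [Finset.sum_eq_zero (fun η _ => by rw [hsome η, zero_mul]), add_zero] at h1
      exact h1
  have h1 := hli.fintype_card_le_finrank
  rw [Module.finrank_fintype_fun_eq_card, Fintype.card_option] at h1
  rw [Nat.card_eq_fintype_card, Nat.card_eq_fintype_card]
  exact h1

end Classes

end Cfsg.Agent.Helper5.FeitZ
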