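import Mathlib
import Cfsg.Agent.Lib.Helper5.FeitZ7

/-!
# Feit's theorem on Zassenhaus groups: the counting argument (helper5)
-/

set_option autoImplicit false
set_option linter.unusedVariables false
set_option linter.unusedSectionVars false
set_option linter.style.haveILetI false

namespace Cfsg.Agent.Helper5.FeitZ

open Cfsg Cfsg.Agent.Helper24 Cfsg.Agent.Helper5 Cfsg.Agent.Helper8 Cfsg.Agent.Helper18
open scoped ComplexConjugate

universe u

/-- the final arithmetic -/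
theorem final_arith {h e q r x AL AX AR : ℕ} (h1 : (h + 1) * e = AL + AX + AR)
    (hL : h + q * (h + 1) ≤ AL) (hX : e * AX = x ^ 2) (hx : 1 + q * (h + 1) ≤ x ^ 2)
    (hR : r * (h - 1) ≤ AR) (hr : e ≤ r + 1 + q) (hq : e ≤ 2 * q + 1) (he : 2 ≤ e)
    (hh : 1 ≤ h) : h ≤ 2 * e + 1 := by
  obtain ⟨h', rfl⟩ : ∃ h', h = h' + 1 := ⟨h - 1, by omega⟩
  rw [Nat.add_sub_cancel] at hR
  by_contra hcon
  have hcon' : 2 * e + 1 ≤ h' := by omega
  zify at h1 hL hX hx hR hr hq he hcon'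
  have e0 : (0 : ℤ) ≤ e := by positivity
  have h0 : (0 : ℤ) ≤ h' := by positivity
  have q0 : (0 : ℤ) ≤ q := by positivity
  -- multiply the identity by `e`
  have hm : (e : ℤ) * ((h' + 1 + 1) * e) = e * AL + x ^ 2 + e * AR := by
    rw [h1, ← hX]; ring
  have hL' : (e : ℤ) * (h' + 1 + q * (h' + 1 + 1)) ≤ e * AL := mul_le_mul_of_nonneg_left hL e0
  have hR' : (e : ℤ) * (r * h') ≤ e * AR := mul_le_mul_of_nonneg_left hR e0
  have hr' : ((e : ℤ) - 1 - q) * (e * h') ≤ r * (e * h') :=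
    mul_le_mul_of_nonneg_right (by linarith) (mul_nonneg e0 h0)
  have hq' : (q : ℤ) * (2 * e + 1) ≤ q * h' := mul_le_mul_of_nonneg_left hcon' q0
  have hq'' : ((e : ℤ) - 1) * (4 * e + 3) ≤ 2 * q * (4 * e + 3) :=
    mul_le_mul_of_nonneg_right (by linarith) (by linarith)
  nlinarith

section Core

variable {G : Type u} [Group G] [Fintype G] (K : Subgroup G)

local notation "𝒩" => Subgroup.normalizer (K : Set G)

/-- the index of `K` in its normalizer is at least two -/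
theorem Hyp.two_le_index [Fintype ↥𝒩] {θ : G → ℂ} (hyp : Hyp K θ) :
    2 ≤ (K.subgroupOf 𝒩).index := by
  have h0 : (K.subgroupOf 𝒩).index ≠ 0 := Subgroup.index_ne_zero_of_finite
  have h1 : (K.subgroupOf 𝒩).index ≠ 1 := by
    intro h
    rw [Subgroup.index_eq_one, Subgroup.subgroupOf_eq_top] at h
    exact hyp.hlt.2 h
  omega

open Classical in
/-- the counting argument: coherence forces `|K| ≤ 2|𝒩 : K| + 1` -/
theorem core_bound [Fintype ↥𝒩] [Fintype (IrrCharacter ↥𝒩)] [Fintype (IrrCharacter G)]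
    {θ : G → ℂ} (hyp : Hyp K θ) {S : Set (↥𝒩 → ℂ)} {star : (↥𝒩 → ℂ) → (G → ℂ)} {ε : ℂ}
    (coh : Coh K S star ε) (χ₁ : IrrCharacter ↥𝒩)
    (hr₁ : FrobKer.Rel (K.subgroupOf 𝒩) (χ₁ : ↥𝒩 → ℂ))
    (hdeg₁ : (χ₁ : ↥𝒩 → ℂ) 1 = ((K.subgroupOf 𝒩).index : ℂ))
    (hcls : (K.subgroupOf 𝒩).index ≤
      Nat.card {C : ConjClasses G // ∀ g : G, ConjClasses.mk g = C → g ∉ K}) :
    Nat.card K ≤ 2 * (K.subgroupOf 𝒩).index + 1 := by
  haveI : (K.subgroupOf 𝒩).Normal := Subgroup.normal_in_normalizer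
  obtain ⟨e, hedef⟩ : ∃ e : ℕ, e = (K.subgroupOf 𝒩).index := ⟨_, rfl⟩
  obtain ⟨h, hhdef⟩ : ∃ h : ℕ, h = Nat.card K := ⟨_, rfl⟩
  rw [← hedef, ← hhdef]
  rw [← hedef] at hcls hdeg₁
  have he2 : 2 ≤ e := hedef ▸ hyp.two_le_index K
  have he0 : (e : ℂ) ≠ 0 := by
    have : e ≠ 0 := by omega
    exact_mod_cast this
  -- `K` is not trivial
  have hh2 : 2 ≤ h := by
    obtain ⟨k, hkK, hk⟩ := hr₁
    have hk1 : k ≠ 1 := fun h => hk (by rw [h])
    have : 1 < Nat.card K := by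
      rw [Finite.one_lt_card_iff_nontrivial]
      refine ⟨⟨⟨(k : G), Subgroup.mem_subgroupOf.mp hkK⟩, 1, ?_⟩⟩
      intro h'
      apply hk1
      apply Subtype.ext
      have h'' := congrArg Subtype.val h'
      exact h''
    omega
  have hh1 : ((Nat.card K : ℂ)) - 1 ≠ 0 := by
    rw [← hhdef]
    have : (h : ℂ) ≠ 1 := by
      have : h ≠ 1 := by omega
      exact_mod_cast this
    exact sub_ne_zero.mpr this
  have hχ₁S : (χ₁ : ↥𝒩 → ℂ) ∈ S := (coh.mem_iff K).mpr ⟨χ₁.2, hr₁⟩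
  have hχ₁c := isCharacter_of_isIrrCharacter χ₁.2
  -- multiplicities
  have hnat : ∀ ψ : IrrCharacter G, ∃ n : ℕ,
      classInner (χ₁ : ↥𝒩 → ℂ) (fun n : ↥𝒩 => (ψ : G → ℂ) n) = n :=
    fun ψ => classInner_char_nat hχ₁c
      (isCharacter_restrict 𝒩 (isCharacter_of_isIrrCharacter ψ.2))
  choose m hm using hnat
  -- the degree of the induced character
  have hY : IsCharacter G (indFun 𝒩 (χ₁ : ↥𝒩 → ℂ)) := isCharacter_indFun 𝒩 hχ₁c
  have hdec := (isCharacter_decomp hY).2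
  have hA : ∑ ψ : IrrCharacter G, m ψ * charDegree (ψ : G → ℂ) = (h + 1) * e := by
    have h1 := congrFun hdec 1
    rw [Finset.sum_apply, Cfsg.Agent.Helper24.indFun_one, hyp.hidx, hdeg₁, ← hhdef] at h1
    have : ((∑ ψ : IrrCharacter G, m ψ * charDegree (ψ : G → ℂ) : ℕ) : ℂ) =
        (((h + 1) * e : ℕ) : ℂ) := by
      push_cast
      push_cast at h1
      rw [h1]
      apply Finset.sum_congr rfl
      intro ψ _
      rw [Pi.smul_apply, smul_eq_mul,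
        frobenius_reciprocity 𝒩 _ (isClassFunction_of_isIrrCharacter ψ.2), hm ψ,
        irr_one_eq_charDegree ψ.2]
    exact_mod_cast this
  -- the three kinds of characters
  obtain ⟨PL, hPL⟩ : ∃ PL : IrrCharacter G → Prop, PL = fun ψ : IrrCharacter G => IsLin K θ (ψ : G → ℂ) :=
    ⟨_, rfl⟩
  obtain ⟨PX, hPX⟩ : ∃ PX : IrrCharacter G → Prop, PX = fun ψ : IrrCharacter G => ∃ η : IrrCharacter ↥𝒩,
      FrobKer.Rel (K.subgroupOf 𝒩) (η : ↥𝒩 → ℂ) ∧ (ψ : G → ℂ) = ε • star (η : ↥𝒩 → ℂ) :=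
    ⟨_, rfl⟩
  have hdisj : ∀ ψ, PX ψ → ¬ PL ψ := by
    intro ψ hx hl
    rw [hPX] at hx
    rw [hPL] at hl
    obtain ⟨η, hr, hψ⟩ := hx
    rw [hψ] at hl
    exact coh.not_isLin K hyp ((coh.mem_iff K).mpr ⟨η.2, hr⟩) hl
  obtain ⟨FL, hFL⟩ : ∃ FL : Finset (IrrCharacter G), FL = Finset.univ.filter PL := ⟨_, rfl⟩
  obtain ⟨FX, hFX⟩ : ∃ FX : Finset (IrrCharacter G), FX = Finset.univ.filter PX := ⟨_, rfl⟩
  obtain ⟨FR, hFR⟩ : ∃ FR : Finset (IrrCharacter G),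
      FR = Finset.univ.filter (fun ψ => ¬ PL ψ ∧ ¬ PX ψ) := ⟨_, rfl⟩
  have hsplit : ∀ f : IrrCharacter G → ℕ, ∑ ψ, f ψ = ∑ ψ ∈ FL, f ψ + ∑ ψ ∈ FX, f ψ +
      ∑ ψ ∈ FR, f ψ := by
    intro f
    rw [hFL, hFX, hFR, ← Finset.sum_filter_add_sum_filter_not Finset.univ PL f, add_assoc]
    congr 1
    rw [← Finset.sum_filter_add_sum_filter_not (Finset.univ.filter (fun ψ => ¬ PL ψ)) PX f,
      Finset.filter_filter, Finset.filter_filter]
    congr 1
    apply Finset.sum_congr _ (fun _ _ => rfl)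
    ext ψ
    rw [Finset.mem_filter, Finset.mem_filter]
    exact ⟨fun hx => ⟨hx.1, hx.2.2⟩, fun hx => ⟨hx.1, hdisj ψ hx.2, hx.2⟩⟩
  have hmemFL : ∀ ψ, ψ ∈ FL ↔ IsLin K θ (ψ : G → ℂ) := by
    intro ψ
    rw [hFL, Finset.mem_filter, hPL]
    exact ⟨fun hx => hx.2, fun hx => ⟨Finset.mem_univ _, hx⟩⟩
  have hmemFX : ∀ ψ, ψ ∈ FX ↔ ∃ η : IrrCharacter ↥𝒩,
      FrobKer.Rel (K.subgroupOf 𝒩) (η : ↥𝒩 → ℂ) ∧ (ψ : G → ℂ) = ε • star (η : ↥𝒩 → ℂ) := by
    intro ψ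
    rw [hFX, Finset.mem_filter, hPX]
    exact ⟨fun hx => hx.2, fun hx => ⟨Finset.mem_univ _, hx⟩⟩
  have hmemFR : ∀ ψ, ψ ∈ FR ↔ (¬ IsLin K θ (ψ : G → ℂ) ∧ ¬ ∃ η : IrrCharacter ↥𝒩,
      FrobKer.Rel (K.subgroupOf 𝒩) (η : ↥𝒩 → ℂ) ∧ (ψ : G → ℂ) = ε • star (η : ↥𝒩 → ℂ)) := by
    intro ψ
    rw [hFR, Finset.mem_filter, hPL, hPX]
    exact ⟨fun hx => hx.2, fun hx => ⟨Finset.mem_univ _, hx⟩⟩
  -- (1) the characters in the list
  obtain ⟨θ', hθ'⟩ : ∃ θ' : IrrCharacter G, (θ' : G → ℂ) = θ := ⟨⟨θ, hyp.hθ⟩, rfl⟩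
  have hdθ : charDegree (θ' : G → ℂ) = h := by
    have h1 := irr_one_eq_charDegree θ'.2
    have h2 : (θ' : G → ℂ) 1 = (h : ℂ) := by rw [hθ', hyp.theta_one K, ← hhdef]
    rw [h2] at h1
    exact_mod_cast h1.symm
  have hmθ : m θ' = 1 := by
    have h1 := hm θ'
    rw [hθ', hyp.mult_theta K χ₁.2 hr₁ (by rw [hdeg₁, hedef])] at h1
    exact_mod_cast h1.symm
  have hθL : θ' ∉ Lset K := by
    intro hmem
    have h1 := hyp.charDegree_of_mem_Lset K hmem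
    rw [hdθ, ← hhdef] at h1
    omega
  have hmΛ : ∀ Λ ∈ Lset K, m Λ = 1 := by
    intro Λ hΛ
    unfold Lset at hΛ
    rw [Finset.mem_filter] at hΛ
    obtain ⟨-, μ, hr, hμ1, hΛμ⟩ := hΛ
    have h1 := hm Λ
    rw [hΛμ, hyp.mult_lin K χ₁.2 hr₁ (by rw [hdeg₁, hedef]) μ.2 hr hμ1] at h1
    exact_mod_cast h1.symm
  have hdΛ : ∀ Λ ∈ Lset K, charDegree (Λ : G → ℂ) = h + 1 := by
    intro Λ hΛ
    rw [hyp.charDegree_of_mem_Lset K hΛ, ← hhdef]
  have hLsub : insert θ' (Lset K) ⊆ FL := by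
    intro ψ hψ
    rw [hmemFL]
    rw [Finset.mem_insert] at hψ
    rcases hψ with h1 | h1
    · right; left; rw [h1, hθ']
    · unfold Lset at h1
      rw [Finset.mem_filter] at h1
      obtain ⟨-, μ, hr, hμ1, hΛμ⟩ := h1
      right; right
      exact ⟨μ, μ.2, hr, hμ1, hΛμ⟩
  have hAL : h + (Lset K).card * (h + 1) ≤ ∑ ψ ∈ FL, m ψ * charDegree (ψ : G → ℂ) := by
    refine le_trans (le_of_eq ?_) (Finset.sum_le_sum_of_subset hLsub)
    rw [Finset.sum_insert hθL, hmθ, hdθ, one_mul]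
    congr 1
    rw [Finset.sum_congr rfl (fun Λ hΛ => by rw [hmΛ Λ hΛ, hdΛ Λ hΛ, one_mul]),
      Finset.sum_const, smul_eq_mul]
  have hFLcard : FL.card ≤ 2 + (Lset K).card := by
    have hsub : FL ⊆ insert (principalChar G) (insert θ' (Lset K)) := by
      intro ψ hψ
      rw [hmemFL] at hψ
      rw [Finset.mem_insert, Finset.mem_insert]
      rcases hψ with h1 | h1 | ⟨μ, hμ, hr, hμ1, h1⟩
      · left; exact Subtype.ext h1
      · right; left; exact Subtype.ext (h1.trans hθ'.symm)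
      · right; right
        unfold Lset
        rw [Finset.mem_filter]
        exact ⟨Finset.mem_univ _, ⟨μ, hμ⟩, hr, hμ1, h1⟩
    refine le_trans (Finset.card_le_card hsub) ?_
    refine le_trans (Finset.card_insert_le _ _) ?_
    have := Finset.card_insert_le θ' (Lset K)
    omega
  -- (3) the exceptional characters
  obtain ⟨f, hf⟩ : ∃ f : IrrCharacter ↥𝒩 → IrrCharacter G, ∀ η : IrrCharacter ↥𝒩,
      FrobKer.Rel (K.subgroupOf 𝒩) (η : ↥𝒩 → ℂ) → (f η : G → ℂ) = ε • star (η : ↥𝒩 → ℂ) := by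
    refine ⟨fun η => if hr : FrobKer.Rel (K.subgroupOf 𝒩) (η : ↥𝒩 → ℂ) then
      ⟨_, coh.hX _ ((coh.mem_iff K).mpr ⟨η.2, hr⟩)⟩ else principalChar G, ?_⟩
    intro η hr
    simp only [dif_pos hr]
  obtain ⟨R, hR⟩ : ∃ R : Finset (IrrCharacter ↥𝒩), R = Finset.univ.filter
      (fun η : IrrCharacter ↥𝒩 => FrobKer.Rel (K.subgroupOf 𝒩) (η : ↥𝒩 → ℂ)) := ⟨_, rfl⟩
  have hmemR : ∀ η, η ∈ R ↔ FrobKer.Rel (K.subgroupOf 𝒩) (η : ↥𝒩 → ℂ) := by
    intro η
    rw [hR, Finset.mem_filter]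
    exact ⟨fun hx => hx.2, fun hx => ⟨Finset.mem_univ _, hx⟩⟩
  have hfinj : Set.InjOn f (R : Set (IrrCharacter ↥𝒩)) := by
    intro η hη η' hη' hff
    rw [Finset.mem_coe, hmemR] at hη hη'
    have h1 : ε • star (η : ↥𝒩 → ℂ) = ε • star (η' : ↥𝒩 → ℂ) := by
      rw [← hf η hη, ← hf η' hη', hff]
    have h2 : star (η : ↥𝒩 → ℂ) = star (η' : ↥𝒩 → ℂ) := by
      have := congrArg (fun F => ε • F) h1
      simp only [smul_smul, coh.eps_mul_eps K, one_smul] at this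
      exact this
    exact Subtype.ext (coh.hinj _ ((coh.mem_iff K).mpr ⟨η.2, hη⟩) _
      ((coh.mem_iff K).mpr ⟨η'.2, hη'⟩) h2)
  have hFXimage : FX = R.image f := by
    ext ψ
    rw [hmemFX, Finset.mem_image]
    constructor
    · rintro ⟨η, hr, hψ⟩
      exact ⟨η, (hmemR η).mpr hr, Subtype.ext ((hf η hr).trans hψ.symm)⟩
    · rintro ⟨η, hη, hψ⟩
      rw [hmemR] at hη
      exact ⟨η, hη, by rw [← hψ, hf η hη]⟩
  obtain ⟨X, hXdef⟩ : ∃ X : IrrCharacter G, (X : G → ℂ) = ε • star (χ₁ : ↥𝒩 → ℂ) :=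
    ⟨⟨_, coh.hX _ hχ₁S⟩, rfl⟩
  have hAX : e * ∑ ψ ∈ FX, m ψ * charDegree (ψ : G → ℂ) = (charDegree (X : G → ℂ)) ^ 2 := by
    have h1 := coh.exc_sum K hyp χ₁ hr₁ (by rw [hdeg₁, hedef]) hh1
    rw [← hedef, ← hXdef, irr_one_eq_charDegree X.2] at h1
    have h2 : ((∑ ψ ∈ FX, m ψ * charDegree (ψ : G → ℂ) : ℕ) : ℂ) =
        ((charDegree (X : G → ℂ) : ℂ)) ^ 2 / (e : ℂ) := by
      rw [← h1, hFXimage, Finset.sum_image hfinj, hR, Finset.sum_filter]
      push_cast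
      apply Finset.sum_congr rfl
      intro η _
      by_cases hr : FrobKer.Rel (K.subgroupOf 𝒩) (η : ↥𝒩 → ℂ)
      · rw [if_pos hr, if_pos hr, ← hf η hr, hm (f η), irr_one_eq_charDegree (f η).2, mul_comm]
      · rw [if_neg hr, if_neg hr]
    have h3 : ((e * ∑ ψ ∈ FX, m ψ * charDegree (ψ : G → ℂ) : ℕ) : ℂ) =
        ((charDegree (X : G → ℂ) ^ 2 : ℕ) : ℂ) := by
      rw [Nat.cast_mul, h2]
      push_cast
      field_simp
    exact_mod_cast h3
  have hFXcard : FX.card = R.card := by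
    rw [hFXimage, Finset.card_image_of_injOn hfinj]
  -- the bound on the degree of the exceptional character
  have hxsq : 1 + (Lset K).card * (h + 1) ≤ (charDegree (X : G → ℂ)) ^ 2 := by
    have h1 := hyp.sq_ge K X.2 (fun y hy hyK => by
      rw [hXdef]
      exact vanish_off_of_not_isLin K hyp (coh.hX _ hχ₁S) (coh.not_isLin K hyp hχ₁S) hy hyK)
    rw [← hhdef] at h1
    exact h1
  -- (4) the remaining characters
  have hAR : FR.card * (h - 1) ≤ ∑ ψ ∈ FR, m ψ * charDegree (ψ : G → ℂ) := by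
    rw [← smul_eq_mul, ← Finset.sum_const]
    apply Finset.sum_le_sum
    intro ψ hψ
    rw [hmemFR] at hψ
    obtain ⟨hnl, hnx⟩ := hψ
    have h1 := coh.nonexc_degree K hyp χ₁ hr₁ (by rw [hdeg₁, hedef]) ψ.2 hnl
      (fun η hr hψη => hnx ⟨η, hr, hψη⟩)
    rw [hm ψ, irr_one_eq_charDegree ψ.2, ← hhdef] at h1
    have h2 : charDegree (ψ : G → ℂ) = m ψ * (h - 1) := by
      have : ((charDegree (ψ : G → ℂ) : ℕ) : ℂ) = ((m ψ * (h - 1) : ℕ) : ℂ) := by
        rw [h1, Nat.cast_mul, Nat.cast_sub (by omega)]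
        push_cast
        ring
      exact_mod_cast this
    have hpos := charDegree_pos ψ.2
    have hm1 : 1 ≤ m ψ := by
      rcases Nat.eq_zero_or_pos (m ψ) with h0 | h0
      · rw [h0, zero_mul] at h2
        omega
      · exact h0
    rw [h2]
    calc h - 1 = 1 * (1 * (h - 1)) := by ring
      _ ≤ m ψ * (m ψ * (h - 1)) :=
        Nat.mul_le_mul hm1 (Nat.mul_le_mul hm1 le_rfl)
  -- (5) the number of classes
  have hcount : e ≤ FR.card + 1 + (Lset K).card := by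
    have h1 := hsplit (fun _ => 1)
    simp only [Finset.sum_const, smul_eq_mul, mul_one] at h1
    have h2 : (Finset.univ : Finset (IrrCharacter G)).card = Nat.card (ConjClasses G) := by
      rw [Finset.card_univ, ← Nat.card_eq_fintype_card, card_irr_eq_card_conjClasses]
    have h3 := card_classes_meeting_ge K hyp.hTI hyp.hC
    have h4 : Nat.card {η : IrrCharacter ↥𝒩 // FrobKer.Rel (K.subgroupOf 𝒩) (η : ↥𝒩 → ℂ)} =
        R.card := by
      rw [Nat.card_eq_fintype_card, Fintype.card_subtype, hR]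
    have h5 : Nat.card {C : ConjClasses G // ∃ u ∈ K, ConjClasses.mk u = C} +
        Nat.card {C : ConjClasses G // ∀ g : G, ConjClasses.mk g = C → g ∉ K} ≤
        Nat.card (ConjClasses G) := by
      rw [← Nat.card_sum]
      apply Nat.card_le_card_of_injective
        (Sum.elim (fun C : {C : ConjClasses G // ∃ u ∈ K, ConjClasses.mk u = C} => C.1)
          (fun C : {C : ConjClasses G // ∀ g : G, ConjClasses.mk g = C → g ∉ K} => C.1))
      rintro (C | C) (C' | C') hCC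
      · simp only [Sum.elim_inl] at hCC
        exact congrArg Sum.inl (Subtype.ext hCC)
      · exfalso
        simp only [Sum.elim_inl, Sum.elim_inr] at hCC
        obtain ⟨u, hu, huC⟩ := C.2
        exact C'.2 u (huC.trans hCC) hu
      · exfalso
        simp only [Sum.elim_inl, Sum.elim_inr] at hCC
        obtain ⟨u, hu, huC⟩ := C'.2
        exact C.2 u (huC.trans hCC.symm) hu
      · simp only [Sum.elim_inr] at hCC
        exact congrArg Sum.inr (Subtype.ext hCC)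
    rw [h4] at h3
    omega
  have hq := hyp.index_le K
  rw [← hedef] at hq
  have hA' := hA
  rw [hsplit] at hA'
  exact final_arith hA'.symm hAL hAX hxsq hAR hcount hq he2 (by omega)

end Core

end Cfsg.Agent.Helper5.FeitZ
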