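import Mathlib
import Cfsg.Agent.Lib.Helper5.FeitZ8
import Cfsg.Agent.Lib.Helper8.FeitSibley2
import Cfsg.Agent.S1529

/-!
# Feit's theorem on Zassenhaus groups: the abstract form (helper5)
-/

set_option autoImplicit false
set_option linter.unusedVariables false
set_option linter.unusedSectionVars false
set_option linter.style.haveILetI false

namespace Cfsg.Agent.Helper5.FeitZ

open Cfsg Cfsg.Agent.Helper24 Cfsg.Agent.Helper5 Cfsg.Agent.Helper8 Cfsg.Agent.Helper18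
open scoped ComplexConjugate

universe u

/-- a finite group that is not perfect has a nonprincipal linear character -/
theorem exists_linear_ne_one {K : Type u} [Group K] [Finite K] (hnp : commutator K ≠ ⊤) :
    ∃ φ : K → ℂ, IsIrrCharacter K φ ∧ φ 1 = 1 ∧ φ ≠ fun _ => 1 := by
  obtain ⟨g, hg⟩ : ∃ g : K, g ∉ commutator K := by
    by_contra h
    rw [not_exists] at h
    exact hnp (eq_top_iff.mpr fun x _ => not_not.mp (h x))
  have ha : Abelianization.of g ≠ 1 := by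
    intro h
    apply hg
    exact (QuotientGroup.eq_one_iff g).mp h
  obtain ⟨φ, hφ⟩ :=
    CommGroup.exists_apply_ne_one_of_hasEnoughRootsOfUnity (Abelianization K) ℂ ha
  refine ⟨fun x => ((φ.comp Abelianization.of x : ℂˣ) : ℂ),
    isIrrCharacter_of_monoidHom (φ.comp Abelianization.of), ?_, ?_⟩
  · simp
  · intro h
    apply hφ
    have h1 := congrFun h g
    simp only [MonoidHom.comp_apply] at h1
    exact Units.ext h1

section Abstract

variable {G : Type u} [Group G] [Fintype G] (K : Subgroup G)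

local notation "𝒩" => Subgroup.normalizer (K : Set G)

/-- the form of the coherence theorem that keeps the noncommutativity of `K` -/
theorem feit_sibley_two [Fintype ↥𝒩] (hK1 : K ≠ ⊥) (hnil : Group.IsNilpotent K)
    (hTI : Cfsg.IsTISubset (K : Set G)) (hlt : K < Subgroup.normalizer (K : Set G))
    (hC : ∀ k ∈ K, k ≠ 1 → Subgroup.centralizer ({k} : Set G) ≤ K)
    (hcard : Nat.card K ≠ (K.subgroupOf 𝒩).index + 1) :
    ((∃ m : ℕ, Nat.card K = 2 ^ m) ∧ ¬ IsMulCommutative K ∧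
      (⁅K, K⁆.subgroupOf K).index ≤ 4 * (K.subgroupOf 𝒩).index ^ 2 + 1) ∨
    Cfsg.IsCoherent {χ : ↥𝒩 → ℂ | Cfsg.IsIrrCharacter ↥𝒩 χ ∧ ∃ k : ↥𝒩, (k : G) ∈ K ∧ χ k ≠ χ 1}
      {1}ᶜ (fun α => Cfsg.indFun 𝒩 α) := by
  classical
  haveI hKn : (K.subgroupOf 𝒩).Normal := Subgroup.normal_in_normalizer
  haveI : Finite ↥𝒩 := Finite.of_fintype _
  have hF := TIFN.fpf K hC
  have hSeq : {χ : ↥𝒩 → ℂ | Cfsg.IsIrrCharacter ↥𝒩 χ ∧ ∃ h ∈ K.subgroupOf 𝒩, χ h ≠ χ 1} =
      Cfsg.inducedIrrAbove (K.subgroupOf 𝒩) ⊥ := by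
    rw [FrobCoh.inducedIrrAbove_bot_eq _ hF]
    rfl
  have hcardK : Nat.card ↥(K.subgroupOf 𝒩) = Nat.card ↥K :=
    Nat.card_congr (Subgroup.subgroupOfEquivOfLe hlt.le).toEquiv
  have hK1' : K.subgroupOf 𝒩 ≠ ⊥ := by
    intro h
    apply hK1
    rw [Subgroup.subgroupOf_eq_bot] at h
    rw [eq_bot_iff]
    intro x hx
    have : x ∈ K ⊓ 𝒩 := Subgroup.mem_inf.2 ⟨hx, hlt.le hx⟩
    rw [disjoint_iff.1 h] at this
    exact this
  have hK2' : K.subgroupOf 𝒩 ≠ ⊤ := by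
    intro h
    rw [Subgroup.subgroupOf_eq_top] at h
    exact (not_le_of_gt hlt) h
  have hC' : ∀ h ∈ K.subgroupOf 𝒩, h ≠ 1 →
      Subgroup.centralizer ({h} : Set ↥𝒩) ≤ K.subgroupOf 𝒩 := by
    intro h hh h1 x hx
    exact hF h hh h1 x (Subgroup.mem_centralizer_singleton_iff.1 hx)
  have he' : Nat.card ↥(K.subgroupOf 𝒩) ≠ (K.subgroupOf 𝒩).index + 1 := by
    rw [hcardK]; exact hcard
  have h35 := Cfsg.Agent.S1535.result (N := ↥𝒩) (G := G) (K.subgroupOf 𝒩) hK1' hK2' hC' he'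
    (fun α => Cfsg.indFun 𝒩 α) (by rw [hSeq]; exact FrobCoh.lio_ind K hTI hlt hC)
    (by rw [hSeq]; exact fun α hα => FrobCoh.ind_one K hα)
  rcases h35 with hcoh | ⟨p, hp, ⟨m, hm⟩, hna, hidx⟩
  · right
    exact hcoh
  · haveI : Fact p.Prime := ⟨hp⟩
    have hKp : IsPGroup p ↥K := IsPGroup.of_card (n := m) (by rw [← hcardK]; exact hm)
    obtain ⟨P, hP⟩ := FrobCoh.exists_sylow_eq K hC hKp hK1
    by_cases hp2 : p = 2
    · subst hp2
      left
      refine ⟨⟨m, by rw [← hcardK]; exact hm⟩, ?_, ?_⟩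
      · intro hcomm
        apply hna
        refine ⟨⟨fun a b => ?_⟩⟩
        have h1 := hcomm.is_comm.comm ⟨(a : G), Subgroup.mem_subgroupOf.mp a.2⟩
          ⟨(b : G), Subgroup.mem_subgroupOf.mp b.2⟩
        apply Subtype.ext
        apply Subtype.ext
        have h2 := congrArg Subtype.val h1
        exact h2
      · rw [← FeitCoh.index_commutator_subgroupOf K 𝒩 hlt.le]
        exact hidx
    · subst hP
      have h33 := Cfsg.Agent.S1533.result p hp2 P hK1 hTI hlt hC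
      rcases h33 with ⟨-, -, hc⟩ | hcoh
      · exact absurd hc hcard
      · right
        exact hcoh

/-- coherence data from a coherent set of at least two relevant characters -/
theorem exists_coh [Fintype ↥𝒩] (S : Set (↥𝒩 → ℂ))
    (hS : S = {χ : ↥𝒩 → ℂ | IsIrrCharacter ↥𝒩 χ ∧ ∃ k : ↥𝒩, (k : G) ∈ K ∧ χ k ≠ χ 1})
    (htwo : ∃ χ ∈ S, ∃ ξ ∈ S, χ ≠ ξ)
    (hcoh : IsCoherent S {1}ᶜ (fun α => indFun 𝒩 α)) :
    ∃ (star : (↥𝒩 → ℂ) → (G → ℂ)) (ε : ℂ), Coh K S star ε := by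
  obtain ⟨-, star, hstar, hext⟩ := hcoh
  have hirr : ∀ χ ∈ S, IsIrrCharacter ↥𝒩 χ := by
    intro χ hχ
    rw [hS] at hχ
    exact hχ.1
  have h0 : ∀ α ∈ zspan S, α 1 = 0 → star α 1 = 0 := by
    intro α hα hα1
    have hmem : α ∈ zspanOn S ({1}ᶜ : Set ↥𝒩) := by
      refine ⟨hα, ?_⟩
      intro x hx
      have hx1 : x = 1 := by
        by_contra hne
        exact hx hne
      rw [hx1, hα1]
    rw [hext α hmem]
    show indFun 𝒩 α 1 = 0
    rw [Cfsg.Agent.Helper24.indFun_one, hα1, mul_zero]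
  obtain ⟨ε, hε, hX, hinj⟩ := Cfsg.Agent.S1529.result 𝒩 S hirr htwo star hstar h0
  exact ⟨star, ε, ⟨hS, htwo, hstar, fun α hα => hext α hα, hε, hX, hinj⟩⟩

open Classical in
/-- the abstract form of Feit's theorem -/
theorem abstract_main [Fintype ↥𝒩] {θ : G → ℂ} (hyp : Hyp K θ) (hnil : Group.IsNilpotent K)
    (hK1 : K ≠ ⊥)
    (hcls : (K.subgroupOf 𝒩).index ≤
      Nat.card {C : ConjClasses G // ∀ g : G, ConjClasses.mk g = C → g ∉ K})
    (hbig : 2 * (K.subgroupOf 𝒩).index + 1 < Nat.card K) :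
    (∃ m : ℕ, Nat.card K = 2 ^ m) ∧ ¬ IsMulCommutative K ∧
      (⁅K, K⁆.subgroupOf K).index ≤ 4 * (K.subgroupOf 𝒩).index ^ 2 + 1 := by
  haveI hKn : (K.subgroupOf 𝒩).Normal := Subgroup.normal_in_normalizer
  letI : Fintype (IrrCharacter ↥𝒩) := irrFintype
  letI : Fintype (IrrCharacter G) := irrFintype
  have hF := TIFN.fpf K hyp.hC
  have he2 := hyp.two_le_index K
  have hcard : Nat.card K ≠ (K.subgroupOf 𝒩).index + 1 := by omega
  rcases feit_sibley_two K hK1 hnil hyp.hTI hyp.hlt hyp.hC hcard with h | hcoh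
  · exact h
  · exfalso
    -- a relevant character of least degree
    have hnil' : Group.IsNilpotent ↥(K.subgroupOf 𝒩) :=
      (Group.isNilpotent_congr (Subgroup.subgroupOfEquivOfLe hyp.hlt.le)).2 hnil
    have hcardK : Nat.card ↥(K.subgroupOf 𝒩) = Nat.card ↥K :=
      Nat.card_congr (Subgroup.subgroupOfEquivOfLe hyp.hlt.le).toEquiv
    haveI : Nontrivial ↥(K.subgroupOf 𝒩) := by
      rw [← Finite.one_lt_card_iff_nontrivial, hcardK]
      omega
    have hnp : commutator ↥(K.subgroupOf 𝒩) ≠ ⊤ := by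
      haveI : IsSolvable ↥(K.subgroupOf 𝒩) := IsNilpotent.to_isSolvable
      exact (IsSolvable.commutator_lt_top_of_nontrivial _).ne
    obtain ⟨φ, hφ, hφ1, hφne⟩ := exists_linear_ne_one hnp
    obtain ⟨χ₁, hχ₁⟩ : ∃ χ₁ : IrrCharacter ↥𝒩,
        (χ₁ : ↥𝒩 → ℂ) = indFun (K.subgroupOf 𝒩) φ :=
      ⟨⟨_, FrobKer.isIrr_indFun (K.subgroupOf 𝒩) hF hφ hφne⟩, rfl⟩
    have hr₁ : FrobKer.Rel (K.subgroupOf 𝒩) (χ₁ : ↥𝒩 → ℂ) := by
      rw [hχ₁]
      exact FrobKer.rel_indFun (K.subgroupOf 𝒩) hF hφ hφne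
    have hdeg₁ : (χ₁ : ↥𝒩 → ℂ) 1 = ((K.subgroupOf 𝒩).index : ℂ) := by
      rw [hχ₁, Cfsg.Agent.Helper24.indFun_one, hφ1, mul_one]
    obtain ⟨S, hS⟩ : ∃ S : Set (↥𝒩 → ℂ),
        S = {χ : ↥𝒩 → ℂ | IsIrrCharacter ↥𝒩 χ ∧ ∃ k : ↥𝒩, (k : G) ∈ K ∧ χ k ≠ χ 1} := ⟨_, rfl⟩
    rw [← hS] at hcoh
    have hχ₁S : (χ₁ : ↥𝒩 → ℂ) ∈ S := (TIFN.mem_S_iff K S hS).mpr ⟨χ₁.2, hr₁⟩
    -- there is a second relevant character
    have htwo : ∃ χ ∈ S, ∃ ξ ∈ S, χ ≠ ξ := by
      by_contra hcon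
      push Not at hcon
      have huniq : ∀ η : IrrCharacter ↥𝒩, FrobKer.Rel (K.subgroupOf 𝒩) (η : ↥𝒩 → ℂ) →
          η = χ₁ := by
        intro η hr
        exact Subtype.ext (hcon _ ((TIFN.mem_S_iff K S hS).mpr ⟨η.2, hr⟩) _ hχ₁S)
      have hsum := sum_rel_deg_sq (K.subgroupOf 𝒩)
      rw [Finset.sum_eq_single χ₁, if_pos hr₁, hdeg₁, card_normalizer_eq K] at hsum
      · have h1 : (K.subgroupOf 𝒩).index * (K.subgroupOf 𝒩).index + (K.subgroupOf 𝒩).index =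
            Nat.card K * (K.subgroupOf 𝒩).index := by
          have : (((K.subgroupOf 𝒩).index * (K.subgroupOf 𝒩).index + (K.subgroupOf 𝒩).index : ℕ) :
              ℂ) = ((Nat.card K * (K.subgroupOf 𝒩).index : ℕ) : ℂ) := by
            push_cast
            push_cast at hsum
            linear_combination hsum
          exact_mod_cast this
        nlinarith
      · intro η _ hne
        rw [if_neg]
        intro hr
        exact hne (huniq η hr)
      · intro h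
        exact absurd (Finset.mem_univ _) h
    obtain ⟨star, ε, coh⟩ := exists_coh K S hS htwo hcoh
    have := core_bound K hyp coh χ₁ hr₁ hdeg₁ hcls
    omega

end Abstract

end Cfsg.Agent.Helper5.FeitZ
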