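import Mathlib
import Cfsg.Prelude.Def_Characters
import Cfsg.Agent.Lib.Helper5.CharBasic

/-!
# Permutation characters as induced trivial characters (helper5)
-/

set_option autoImplicit false
set_option linter.unusedSectionVars false
set_option linter.unusedVariables false
set_option linter.style.haveILetI false

namespace Cfsg.Agent.Helper5

open Cfsg

section
variable {G : Type*} [Group G] [Fintype G]

/-- The function induced from the constant function `1` on `U` counts conjugating elements. -/
theorem indFun_const_one_apply (U : Subgroup G) (g : G) :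
    Cfsg.indFun U (fun _ => 1) g =
      (Nat.card U : ℂ)⁻¹ * (Nat.card {x : G // x⁻¹ * g * x ∈ U} : ℂ) := by
  classical
  show (Nat.card U : ℂ)⁻¹ * ∑ x : G, Cfsg.extendByZero U (fun _ => 1) (x⁻¹ * g * x) = _
  congr 1
  have h1 : ∀ x : G, Cfsg.extendByZero U (fun _ => (1 : ℂ)) (x⁻¹ * g * x) =
      if x⁻¹ * g * x ∈ U then 1 else 0 := by
    intro x
    split_ifs with h
    · rw [extendByZero_of_mem U _ _ h]
    · rw [extendByZero_of_not_mem U _ _ h]
  simp_rw [h1]
  rw [Finset.sum_boole, Nat.card_eq_fintype_card, Fintype.card_subtype]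

variable {X : Type*} [MulAction G X]

/-- The permutation character of an orbit is induced from the trivial character of a point
stabilizer. -/
theorem indFun_stabilizer_apply (x₀ : X) (g : G) :
    Cfsg.indFun (MulAction.stabilizer G x₀) (fun _ => 1) g =
      (Nat.card {y : MulAction.orbit G x₀ // g • (y : X) = (y : X)} : ℂ) := by
  classical
  rw [indFun_const_one_apply]
  have hUpos : (Nat.card (MulAction.stabilizer G x₀) : ℂ) ≠ 0 := by
    have : 0 < Nat.card (MulAction.stabilizer G x₀) := Nat.card_pos
    exact_mod_cast this.ne'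
  have key : Nat.card {x : G // x⁻¹ * g * x ∈ MulAction.stabilizer G x₀} =
      Nat.card {y : MulAction.orbit G x₀ // g • (y : X) = (y : X)} *
        Nat.card (MulAction.stabilizer G x₀) := by
    rw [← Nat.card_prod]
    apply Nat.card_congr
    have hout : ∀ y : MulAction.orbit G x₀, ∃ a : G, a • x₀ = (y : X) := fun y => y.2
    refine
      { toFun := fun x => (⟨⟨x.1 • x₀, MulAction.mem_orbit x₀ x.1⟩, ?_⟩,
          ⟨(Classical.choose (hout ⟨x.1 • x₀, MulAction.mem_orbit x₀ x.1⟩))⁻¹ * x.1, ?_⟩)
        invFun := fun ys => ⟨Classical.choose (hout ys.1.1) * ys.2.1, ?_⟩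
        left_inv := ?_
        right_inv := ?_ }
    · have hx := x.2
      rw [MulAction.mem_stabilizer_iff] at hx
      show g • (x.1 • x₀) = x.1 • x₀
      rw [mul_smul, mul_smul, inv_smul_eq_iff] at hx
      exact hx
    · rw [MulAction.mem_stabilizer_iff, mul_smul]
      have := Classical.choose_spec (hout ⟨x.1 • x₀, MulAction.mem_orbit x₀ x.1⟩)
      rw [inv_smul_eq_iff]
      exact this.symm
    · have h1 := Classical.choose_spec (hout ys.1.1)
      have h2 : ys.2.1 • x₀ = x₀ := ys.2.2
      have h3 : (Classical.choose (hout ys.1.1) * ys.2.1) • x₀ = (ys.1.1 : X) := by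
        rw [mul_smul, h2, h1]
      rw [MulAction.mem_stabilizer_iff]
      have h4 : g • (ys.1.1 : X) = (ys.1.1 : X) := ys.1.2
      rw [mul_smul, mul_smul, inv_smul_eq_iff, h3]
      exact h4
    · intro x
      apply Subtype.ext
      show Classical.choose _ * ((Classical.choose _)⁻¹ * x.1) = x.1
      rw [mul_inv_cancel_left]
    · rintro ⟨⟨y, hy⟩, ⟨s, hs⟩⟩
      have h1 := Classical.choose_spec (hout y)
      have h2 : s • x₀ = x₀ := hs
      have h3 : (Classical.choose (hout y) * s) • x₀ = (y : X) := by
        rw [mul_smul, h2, h1]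
      have h4 : (⟨(Classical.choose (hout y) * s) • x₀, MulAction.mem_orbit x₀ _⟩ :
          MulAction.orbit G x₀) = y := Subtype.ext h3
      apply Prod.ext
      · apply Subtype.ext
        exact h4
      · apply Subtype.ext
        show (Classical.choose (hout ⟨(Classical.choose (hout y) * s) • x₀, _⟩))⁻¹ *
          (Classical.choose (hout y) * s) = s
        have : ∀ z : MulAction.orbit G x₀, z = y →
            (Classical.choose (hout z))⁻¹ * (Classical.choose (hout y) * s) = s := by
          rintro z rfl
          rw [inv_mul_cancel_left]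
        exact this _ h4
  rw [key, Nat.cast_mul]
  field_simp

/-- The number of fixed points of `g` on a finite `G`-set is the sum over orbits of the functions
induced from the trivial character of point stabilizers, for any choice of orbit
representatives. -/
theorem card_fixed_eq_sum_indFun [Fintype (MulAction.orbitRel.Quotient G X)] (r : MulAction.orbitRel.Quotient G X → X)
    (hr : ∀ ω, (Quotient.mk'' (r ω) : MulAction.orbitRel.Quotient G X) = ω) (g : G) :
    (Nat.card {y : X // g • y = y} : ℂ) =
      ∑ ω : MulAction.orbitRel.Quotient G X,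
        Cfsg.indFun (MulAction.stabilizer G (r ω)) (fun _ => 1) g := by
  classical
  simp_rw [indFun_stabilizer_apply]
  rw [← Nat.cast_sum]
  congr 1
  haveI : ∀ ω, Finite {y : MulAction.orbit G (r ω) // g • (y : X) = (y : X)} := fun ω => by
    haveI : Finite (MulAction.orbit G (r ω)) := Set.finite_range _
    infer_instance
  rw [← Nat.card_sigma]
  apply Nat.card_congr
  refine
    { toFun := fun y => ⟨Quotient.mk'' y.1, ⟨⟨y.1, ?_⟩, y.2⟩⟩
      invFun := fun z => ⟨z.2.1.1, z.2.2⟩
      left_inv := fun y => rfl
      right_inv := ?_ }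
  · rw [← MulAction.orbitRel_apply]
    have := hr (Quotient.mk'' y.1)
    exact Quotient.eq''.mp this.symm
  · rintro ⟨ω, ⟨⟨y, hy⟩, hgy⟩⟩
    have h1 : (Quotient.mk'' y : MulAction.orbitRel.Quotient G X) = ω := by
      rw [← hr ω]
      exact Quotient.eq''.mpr hy
    subst h1
    rfl

/-- The permutation character on `G ⧸ H`. -/
theorem indFun_const_one_eq_card_fixed (H : Subgroup G) (g : G) :
    Cfsg.indFun H (fun _ => 1) g = (Nat.card {a : G ⧸ H // g • a = a} : ℂ) := by
  have h1 := indFun_stabilizer_apply (G := G) (X := G ⧸ H) ((1 : G) : G ⧸ H) g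
  rw [MulAction.stabilizer_quotient] at h1
  rw [h1]
  congr 1
  apply Nat.card_congr
  refine
    { toFun := fun y => ⟨y.1.1, y.2⟩
      invFun := fun a => ⟨⟨a.1, ?_⟩, a.2⟩
      left_inv := fun y => rfl
      right_inv := fun a => rfl }
  rw [MulAction.orbit_eq_univ]
  trivial

end

section
variable {G : Type*} [Group G]

/-- Counting elements of `G` through the cosets of `H` they lie in. -/
theorem card_subtype_quotient_pred (H : Subgroup G) (Pred : G ⧸ H → Prop) :
    Nat.card {y : G // Pred (y : G ⧸ H)} = Nat.card {q : G ⧸ H // Pred q} * Nat.card H := by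
  rw [← Nat.card_prod]
  apply Nat.card_congr
  refine
    { toFun := fun y => (⟨(y.1 : G ⧸ H), y.2⟩,
        ⟨((y.1 : G ⧸ H).out)⁻¹ * y.1, ?_⟩)
      invFun := fun qh => ⟨qh.1.1.out * qh.2.1, ?_⟩
      left_inv := ?_
      right_inv := ?_ }
  · rw [← QuotientGroup.eq]
    exact QuotientGroup.out_eq' _
  · have : ((qh.1.1.out * qh.2.1 : G) : G ⧸ H) = qh.1.1 := by
      have h1 : ((qh.1.1.out * qh.2.1 : G) : G ⧸ H) = ((qh.1.1.out : G) : G ⧸ H) := by
        rw [eq_comm, QuotientGroup.eq]
        simp
      rw [h1]
      exact QuotientGroup.out_eq' _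
    rw [this]
    exact qh.1.2
  · intro y
    apply Subtype.ext
    show (y.1 : G ⧸ H).out * (((y.1 : G ⧸ H).out)⁻¹ * y.1) = y.1
    rw [mul_inv_cancel_left]
  · rintro ⟨⟨q, hq⟩, ⟨h, hh⟩⟩
    have h2 : ((q.out * h : G) : G ⧸ H) = q := by
      have h1 : ((q.out * h : G) : G ⧸ H) = ((q.out : G) : G ⧸ H) := by
        rw [eq_comm, QuotientGroup.eq]
        simpa using hh
      rw [h1]
      exact QuotientGroup.out_eq' _
    apply Prod.ext
    · apply Subtype.ext
      exact h2
    · apply Subtype.ext
      show (((q.out * h : G) : G ⧸ H).out)⁻¹ * (q.out * h) = h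
      rw [h2, inv_mul_cancel_left]

end

end Cfsg.Agent.Helper5
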