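import Mathlib
import Cfsg.Prelude.Def_LieExceptional

/-!
# Counting in Zassenhaus groups (helper5)
-/

set_option autoImplicit false
set_option linter.unusedVariables false
set_option linter.unusedSectionVars false
set_option linter.style.haveILetI false

namespace Cfsg.Agent.Helper5.Zass

open MulAction

section Count

variable {G : Type*} {Ω : Type*} [Group G] [MulAction G Ω]

/-- All transporters of ordered pairs of distinct points have the order of a two point
stabilizer. -/
theorem card_transporter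
    (h2 : ∀ {a b c d : Ω}, a ≠ b → c ≠ d → ∃ g : G, g • a = c ∧ g • b = d)
    {a b c d c' d' : Ω} (hab : a ≠ b) (hcd : c ≠ d) (hcd' : c' ≠ d') :
    Nat.card {g : G // g • c = c' ∧ g • d = d'} =
      Nat.card ↥(stabilizer G a ⊓ stabilizer G b : Subgroup G) := by
  obtain ⟨g₁, h1a, h1b⟩ := h2 hab hcd
  obtain ⟨g₂, h2a, h2b⟩ := h2 hab hcd'
  apply Nat.card_congr
  refine ⟨fun g => ⟨g₂⁻¹ * g.1 * g₁, ?_⟩, fun x => ⟨g₂ * x.1 * g₁⁻¹, ?_⟩, ?_, ?_⟩
  · rw [Subgroup.mem_inf, mem_stabilizer_iff, mem_stabilizer_iff]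
    obtain ⟨g, hg1, hg2⟩ := g
    constructor
    · rw [mul_smul, mul_smul, h1a, hg1, ← h2a, inv_smul_smul]
    · rw [mul_smul, mul_smul, h1b, hg2, ← h2b, inv_smul_smul]
  · obtain ⟨x, hx⟩ := x
    rw [Subgroup.mem_inf, mem_stabilizer_iff, mem_stabilizer_iff] at hx
    constructor
    · rw [mul_smul, mul_smul, ← h1a, inv_smul_smul, hx.1, h2a]
    · rw [mul_smul, mul_smul, ← h1b, inv_smul_smul, hx.2, h2b]
  · intro g
    apply Subtype.ext
    show g₂ * (g₂⁻¹ * g.1 * g₁) * g₁⁻¹ = g.1
    group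
  · intro x
    apply Subtype.ext
    show g₂⁻¹ * (g₂ * x.1 * g₁⁻¹) * g₁ = x.1
    group

variable [Fintype G] [Fintype Ω] [DecidableEq Ω]

/-- number of fixed points -/
def fix (g : G) : ℕ := (Finset.univ.filter (fun c : Ω => g • c = c)).card

theorem fix_one : fix (Ω := Ω) (1 : G) = Fintype.card Ω := by
  unfold fix
  simp

theorem cnt2_eq
    (h2 : ∀ {a b c d : Ω}, a ≠ b → c ≠ d → ∃ g : G, g • a = c ∧ g • b = d)
    {a b c d c' d' : Ω} (hab : a ≠ b) (hcd : c ≠ d) (hcd' : c' ≠ d') :
    (Finset.univ.filter (fun g : G => g • c = c' ∧ g • d = d')).card =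
      Nat.card ↥(stabilizer G a ⊓ stabilizer G b : Subgroup G) := by
  rw [← card_transporter h2 hab hcd hcd', Nat.card_eq_fintype_card, Fintype.card_subtype]

theorem cnt2_diag {c d c' : Ω} (hcd : c ≠ d) :
    (Finset.univ.filter (fun g : G => g • c = c' ∧ g • d = c')).card = 0 := by
  rw [Finset.card_eq_zero, Finset.filter_eq_empty_iff]
  rintro g - ⟨h1, h2⟩
  apply hcd
  have : g • c = g • d := by rw [h1, h2]
  exact MulAction.injective g this

/-- `#{g | g c = c'} = (n - 1) e` -/
theorem cnt1_eq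
    (h2 : ∀ {a b c d : Ω}, a ≠ b → c ≠ d → ∃ g : G, g • a = c ∧ g • b = d)
    {a b : Ω} (hab : a ≠ b) (c c' : Ω) :
    (Finset.univ.filter (fun g : G => g • c = c')).card =
      (Fintype.card Ω - 1) * Nat.card ↥(stabilizer G a ⊓ stabilizer G b : Subgroup G) := by
  obtain ⟨d, hd⟩ : ∃ d : Ω, c ≠ d := by
    by_cases h : c = a
    · exact ⟨b, h ▸ hab⟩
    · exact ⟨a, h⟩
  rw [Finset.card_eq_sum_card_fiberwise (f := fun g : G => g • d) (t := Finset.univ)
    (fun _ _ => Finset.mem_coe.2 (Finset.mem_univ _))]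
  have : ∀ d' : Ω, ((Finset.univ.filter (fun g : G => g • c = c')).filter
      (fun g => g • d = d')).card = if d' = c' then 0
        else Nat.card ↥(stabilizer G a ⊓ stabilizer G b : Subgroup G) := by
    intro d'
    rw [Finset.filter_filter]
    split_ifs with h
    · rw [h]
      exact cnt2_diag hd
    · exact cnt2_eq h2 hab hd (Ne.symm h)
  rw [Finset.sum_congr rfl (fun d' _ => this d'), Finset.sum_ite, Finset.sum_const_zero, zero_add,
    Finset.sum_const, smul_eq_mul, Finset.filter_ne' , Finset.card_erase_of_mem (Finset.mem_univ _),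
    Finset.card_univ]

/-- `|G| = n (n - 1) e` -/
theorem card_eq
    (h2 : ∀ {a b c d : Ω}, a ≠ b → c ≠ d → ∃ g : G, g • a = c ∧ g • b = d)
    {a b : Ω} (hab : a ≠ b) :
    Fintype.card G = Fintype.card Ω * ((Fintype.card Ω - 1) *
      Nat.card ↥(stabilizer G a ⊓ stabilizer G b : Subgroup G)) := by
  rw [← Finset.card_univ, Finset.card_eq_sum_card_fiberwise (f := fun g : G => g • a)
    (t := Finset.univ) (fun _ _ => Finset.mem_coe.2 (Finset.mem_univ _))]
  rw [Finset.sum_congr rfl (fun c' _ => cnt1_eq h2 hab a c'), Finset.sum_const, smul_eq_mul,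
    Finset.card_univ]

/-- `∑ fix g = |G|` -/
theorem sum_fix
    (h2 : ∀ {a b c d : Ω}, a ≠ b → c ≠ d → ∃ g : G, g • a = c ∧ g • b = d)
    {a b : Ω} (hab : a ≠ b) :
    ∑ g : G, fix (Ω := Ω) g = Fintype.card G := by
  unfold fix
  simp only [Finset.card_filter]
  rw [Finset.sum_comm]
  simp only [← Finset.card_filter]
  rw [Finset.sum_congr rfl (fun c _ => cnt1_eq h2 hab c c), Finset.sum_const, smul_eq_mul,
    Finset.card_univ, card_eq h2 hab]

/-- `∑ fix g (fix g - 1) = |G|` -/
theorem sum_fix2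
    (h2 : ∀ {a b c d : Ω}, a ≠ b → c ≠ d → ∃ g : G, g • a = c ∧ g • b = d)
    {a b : Ω} (hab : a ≠ b) :
    ∑ g : G, (fix (Ω := Ω) g * fix (Ω := Ω) g - fix (Ω := Ω) g) = Fintype.card G := by
  have h1 : ∀ g : G, fix (Ω := Ω) g * fix (Ω := Ω) g - fix (Ω := Ω) g =
      (Finset.univ.filter (fun p : Ω × Ω => p.1 ≠ p.2 ∧ g • p.1 = p.1 ∧ g • p.2 = p.2)).card := by
    intro g
    unfold fix
    rw [← Finset.offDiag_card]
    congr 1
    ext p
    simp only [Finset.mem_offDiag, Finset.mem_filter, Finset.mem_univ, true_and]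
    tauto
  rw [Finset.sum_congr rfl (fun g _ => h1 g)]
  simp only [Finset.card_filter]
  rw [Finset.sum_comm]
  simp only [← Finset.card_filter]
  have h3 : ∀ p : Ω × Ω, (Finset.univ.filter
      (fun g : G => p.1 ≠ p.2 ∧ g • p.1 = p.1 ∧ g • p.2 = p.2)).card =
      if p.1 = p.2 then 0 else Nat.card ↥(stabilizer G a ⊓ stabilizer G b : Subgroup G) := by
    intro p
    split_ifs with h
    · rw [Finset.card_eq_zero, Finset.filter_eq_empty_iff]
      intro g _ hg
      exact hg.1 h
    · rw [← cnt2_eq h2 hab h h]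
      congr 1
      ext g
      simp only [Finset.mem_filter, Finset.mem_univ, true_and]
      tauto
  rw [Finset.sum_congr rfl (fun p _ => h3 p), Finset.sum_ite, Finset.sum_const_zero, zero_add,
    Finset.sum_const, smul_eq_mul]
  have h4 : (Finset.univ.filter (fun p : Ω × Ω => ¬ p.1 = p.2)).card =
      Fintype.card Ω * Fintype.card Ω - Fintype.card Ω := by
    rw [← Finset.card_univ (α := Ω), ← Finset.offDiag_card]
    congr 1
    ext p
    simp
  rw [h4, card_eq h2 hab]
  rcases Nat.eq_zero_or_pos (Fintype.card Ω) with h0 | hpos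
  · rw [h0]; simp
  · have : Fintype.card Ω * Fintype.card Ω - Fintype.card Ω =
        Fintype.card Ω * (Fintype.card Ω - 1) := by
      rw [Nat.mul_sub, mul_one]
    rw [this, mul_assoc]

/-- for `g ≠ 1`, at most two fixed points -/
theorem fix_le_two
    (h3 : ∀ g : G, ∀ a b c : Ω, a ≠ b → b ≠ c → a ≠ c → g • a = a → g • b = b → g • c = c → g = 1)
    {g : G} (hg : g ≠ 1) : fix (Ω := Ω) g ≤ 2 := by
  by_contra hlt
  push Not at hlt
  unfold fix at hlt
  obtain ⟨x, y, z, hx, hy, hz, hxy, hxz, hyz⟩ := Finset.two_lt_card_iff.mp hlt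
  simp only [Finset.mem_filter, Finset.mem_univ, true_and] at hx hy hz
  exact hg (h3 g x y z hxy hyz hxz hx hy hz)

theorem fix_eq_zero_iff {g : G} : fix (Ω := Ω) g = 0 ↔ ∀ c : Ω, g • c ≠ c := by
  unfold fix
  rw [Finset.card_eq_zero, Finset.filter_eq_empty_iff]
  simp

/-- twice the number of fixed point free elements -/
theorem two_mul_card_fpf [DecidableEq G]
    (h2 : ∀ {a b c d : Ω}, a ≠ b → c ≠ d → ∃ g : G, g • a = c ∧ g • b = d)
    (h3 : ∀ g : G, ∀ a b c : Ω, a ≠ b → b ≠ c → a ≠ c → g • a = a → g • b = b → g • c = c → g = 1)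
    {a b : Ω} (hab : a ≠ b) :
    (2 * ((Finset.univ.filter (fun g : G => fix (Ω := Ω) g = 0)).card : ℤ)) =
      (Fintype.card G : ℤ) - ((Fintype.card Ω : ℤ) - 1) * ((Fintype.card Ω : ℤ) - 2) := by
  have hn : 1 ≤ Fintype.card Ω := Fintype.card_pos_iff.mpr ⟨a⟩
  have hpt : ∀ g : G, (if fix (Ω := Ω) g = 0 then (2 : ℤ) else 0) =
      2 - 2 * (fix (Ω := Ω) g : ℤ) + ((fix (Ω := Ω) g * fix (Ω := Ω) g - fix (Ω := Ω) g : ℕ) : ℤ) -
      (if g = 1 then ((Fintype.card Ω : ℤ) - 1) * ((Fintype.card Ω : ℤ) - 2) else 0) := by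
    intro g
    by_cases hg : g = 1
    · rw [if_pos hg, hg, fix_one, if_neg (by omega)]
      have : Fintype.card Ω ≤ Fintype.card Ω * Fintype.card Ω := Nat.le_mul_self _
      rw [Nat.cast_sub this]
      push_cast
      ring
    · rw [if_neg hg]
      have hle := fix_le_two h3 hg
      generalize fix (Ω := Ω) g = f at hle
      interval_cases f <;> simp
  have hF : (2 * ((Finset.univ.filter (fun g : G => fix (Ω := Ω) g = 0)).card : ℤ)) =
      ∑ g : G, (if fix (Ω := Ω) g = 0 then (2 : ℤ) else 0) := by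
    rw [Finset.card_filter]
    push_cast
    rw [Finset.mul_sum]
    refine Finset.sum_congr rfl fun g _ => ?_
    split_ifs <;> simp
  rw [hF, Finset.sum_congr rfl (fun g _ => hpt g), Finset.sum_sub_distrib, Finset.sum_add_distrib,
    Finset.sum_sub_distrib, ← Finset.mul_sum, ← Nat.cast_sum, ← Nat.cast_sum, sum_fix h2 hab,
    sum_fix2 h2 hab, Finset.sum_ite_eq' Finset.univ (1 : G), if_pos (Finset.mem_univ _),
    Finset.sum_const, Finset.card_univ]
  simp only [nsmul_eq_mul]
  ring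

end Count

section Class

theorem card_class_dvd {G : Type*} [Group G] [Fintype G] [DecidableEq G] (x : G) :
    (Finset.univ.filter (fun g : G => IsConj x g)).card ∣ Fintype.card G := by
  classical
  have h := MulAction.card_orbit_mul_card_stabilizer_eq_card_group (ConjAct G) x
  rw [ConjAct.card] at h
  have h1 : Fintype.card (orbit (ConjAct G) x) =
      (Finset.univ.filter (fun g : G => IsConj x g)).card := by
    rw [← Fintype.card_subtype]
    apply Fintype.card_congr
    exact Equiv.subtypeEquivRight (fun g => by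
      rw [ConjAct.mem_orbit_conjAct]; exact isConj_comm)
  rw [h1] at h
  exact ⟨_, h.symm⟩

end Class

end Cfsg.Agent.Helper5.Zass
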