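import Mathlib
import Cfsg.Prelude.Def_LieExceptional
import Cfsg.Agent.Lib.Helper5.Zass
import Cfsg.Agent.S0080
import Cfsg.Agent.S0879

/-!
# The two point stabilizer of a simple Zassenhaus group (helper5)
-/

set_option autoImplicit false
set_option linter.unusedVariables false
set_option linter.unusedSectionVars false
set_option linter.style.haveILetI false

namespace Cfsg.Agent.Helper5.Zass

open MulAction
open scoped commutatorElement

section Focal

variable {G : Type*} {Ω : Type*} [Group G] [Finite G] [MulAction G Ω] [Fintype Ω]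

/-- the two point stabilizer of odd order is a Hall subgroup -/
theorem coprime_index_card (hZ : IsZassenhausGroup G Ω) {a c : Ω} (hac : a ≠ c)
    (hodd : Odd (Nat.card ↥(stabilizer G a ⊓ stabilizer G c : Subgroup G))) :
    Nat.Coprime (stabilizer G a ⊓ stabilizer G c : Subgroup G).index
      (Nat.card ↥(stabilizer G a ⊓ stabilizer G c : Subgroup G)) := by
  classical
  obtain ⟨hfaith, h2, h3, _, _⟩ := hZ
  haveI : Fintype G := Fintype.ofFinite G
  rw [is_two_pretransitive_iff] at h2
  set E := (stabilizer G a ⊓ stabilizer G c : Subgroup G) with hE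
  have hidx : E.index = Fintype.card Ω * (Fintype.card Ω - 1) := by
    have h1 := E.card_mul_index
    rw [Nat.card_eq_fintype_card (α := G), card_eq h2 hac] at h1
    have hpos : 0 < Nat.card E := Nat.card_pos
    apply Nat.eq_of_mul_eq_mul_left hpos
    rw [h1]; ring
  rw [Nat.coprime_comm]
  apply Nat.coprime_of_dvd
  intro p hp hpE hpidx
  haveI : Fact p.Prime := ⟨hp⟩
  obtain ⟨g, hg⟩ := exists_prime_orderOf_dvd_card' p hpE
  have hg1 : (g : G) ≠ 1 := by
    intro h
    have : g = 1 := Subtype.ext h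
    rw [this, orderOf_one] at hg
    exact hp.one_lt.ne hg
  have hga : (g : G) • a = a := (Subgroup.mem_inf.mp g.2).1
  have hgc : (g : G) • c = c := (Subgroup.mem_inf.mp g.2).2
  -- the cyclic group generated by g is a p-group acting on Ω
  let P : Subgroup G := Subgroup.zpowers (g : G)
  have hP : IsPGroup p P := by
    apply IsPGroup.of_card (n := 1)
    rw [pow_one, Nat.card_zpowers, Subgroup.orderOf_coe, hg]
  have hmod := hP.card_modEq_card_fixedPoints Ω
  have hfix : fixedPoints P Ω = {a, c} := by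
    ext ω
    simp only [mem_fixedPoints, Set.mem_insert_iff, Set.mem_singleton_iff]
    constructor
    · intro h
      have hω : (g : G) • ω = ω := h ⟨g, Subgroup.mem_zpowers _⟩
      by_contra hne
      push Not at hne
      exact hg1 (h3 g a c ω hac (Ne.symm hne.2) (Ne.symm hne.1) hga hgc hω)
    · have hPE : P ≤ E := by
        rw [Subgroup.zpowers_le]; exact g.2
      rintro (rfl | rfl)
      · rintro ⟨y, hy⟩
        exact (Subgroup.mem_inf.mp (hPE hy)).1
      · rintro ⟨y, hy⟩
        exact (Subgroup.mem_inf.mp (hPE hy)).2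
  have hcard2 : Nat.card (fixedPoints P Ω) = 2 := by
    rw [hfix, Nat.card_coe_set_eq, Set.ncard_pair hac]
  rw [hcard2, Nat.card_eq_fintype_card] at hmod
  -- p ∣ n (n - 1) and n ≡ 2 mod p
  rw [hidx] at hpidx
  have hn2 : 2 ≤ Fintype.card Ω := by
    have : ({a, c} : Finset Ω).card ≤ Fintype.card Ω := Finset.card_le_univ _
    rwa [Finset.card_pair hac] at this
  rcases (Nat.Prime.dvd_mul hp).mp hpidx with h | h
  · -- p ∣ n, so p ∣ 2
    have h0 : Fintype.card Ω ≡ 0 [MOD p] := (Nat.modEq_zero_iff_dvd).mpr h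
    have h20 : 2 ≡ 0 [MOD p] := hmod.symm.trans h0
    have hp2 : p ∣ 2 := (Nat.modEq_zero_iff_dvd).mp h20
    have : p = 2 := (Nat.prime_dvd_prime_iff_eq hp Nat.prime_two).mp hp2
    rw [this] at hpE
    exact (Nat.not_even_iff_odd.mpr hodd) (even_iff_two_dvd.mpr hpE)
  · -- p ∣ n - 1
    have h1 : Fintype.card Ω - 1 ≡ 0 [MOD p] := (Nat.modEq_zero_iff_dvd).mpr h
    have h2' : Fintype.card Ω - 1 + 1 ≡ 0 + 1 [MOD p] := Nat.ModEq.add_right 1 h1
    have h3' : Fintype.card Ω - 1 + 1 = Fintype.card Ω := by omega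
    rw [h3'] at h2'
    have h21 : 2 ≡ 1 [MOD p] := hmod.symm.trans h2'
    have : p ∣ 2 - 1 := (Nat.modEq_iff_dvd' (by norm_num)).mp h21.symm
    have hp1 : p ∣ 1 := by simpa using this
    exact hp.one_lt.ne' (Nat.dvd_one.mp hp1)

theorem commutator_eq_top (hZ : IsZassenhausGroup G Ω) [IsSimpleGroup G] : commutator G = ⊤ := by
  obtain ⟨hfaith, h2, h3, ⟨g₀, hg₀, a₀, b₀, hab₀, hga₀, hgb₀⟩, _⟩ := hZ
  rcases (Subgroup.Normal.eq_bot_or_eq_top (H := commutator G) inferInstance) with h | h
  · exfalso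
    have hcomm : ∀ x y : G, x * y = y * x := by
      intro x y
      have : ⁅x, y⁆ ∈ commutator G := Subgroup.commutator_mem_commutator (Subgroup.mem_top x)
        (Subgroup.mem_top y)
      rw [h, Subgroup.mem_bot, commutatorElement_def] at this
      have h4 : x * y = (x * y * x⁻¹ * y⁻¹) * (y * x) := by group
      rw [h4, this, one_mul]
    haveI := isPretransitive_of_is_two_pretransitive (G := G) (α := Ω)
    apply hg₀
    apply hfaith.eq_of_smul_eq_smul
    intro ω
    obtain ⟨k, hk⟩ := MulAction.exists_smul_eq G a₀ ω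
    rw [one_smul, ← hk, ← mul_smul, hcomm, mul_smul, hga₀]
  · exact h

theorem focal_eq (hZ : IsZassenhausGroup G Ω) [IsSimpleGroup G] {a c : Ω} (hac : a ≠ c)
    (hodd : Odd (Nat.card ↥(stabilizer G a ⊓ stabilizer G c : Subgroup G))) :
    Subgroup.focalSubgroup (stabilizer G a ⊓ stabilizer G c : Subgroup G) =
      (stabilizer G a ⊓ stabilizer G c : Subgroup G) := by
  have hcop := coprime_index_card hZ hac hodd
  have hdvd : (⁅(stabilizer G a ⊓ stabilizer G c : Subgroup G),
      (stabilizer G a ⊓ stabilizer G c : Subgroup G)⁆).relIndex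
      (stabilizer G a ⊓ stabilizer G c : Subgroup G) ∣
      Nat.card ↥(stabilizer G a ⊓ stabilizer G c : Subgroup G) := by
    rw [Subgroup.relIndex]
    exact Subgroup.index_dvd_card _
  have h1 := (Cfsg.Agent.S0080.result (stabilizer G a ⊓ stabilizer G c : Subgroup G)
    (Nat.Coprime.coprime_dvd_right hdvd hcop)).1
  rw [h1, commutator_eq_top hZ, top_inf_eq]

/-- A homomorphism from the two point stabilizer to a commutative group that is invariant under
the normalizer is trivial. -/
theorem hom_eq_one_of_invariant (hZ : IsZassenhausGroup G Ω) [IsSimpleGroup G] {a c : Ω}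
    (hac : a ≠ c) (E : Subgroup G) (hE : E = stabilizer G a ⊓ stabilizer G c)
    (hodd : Odd (Nat.card ↥E))
    {A : Type*} [CommGroup A] (f : ↥E →* A)
    (hinv : ∀ u ∈ Subgroup.normalizer (E : Set G), ∀ y : ↥E, ∀ h : u * (y : G) * u⁻¹ ∈ E,
        f ⟨u * (y : G) * u⁻¹, h⟩ = f y)
    (y : ↥E) : f y = 1 := by
  have hTI : ∀ g : G, g ∉ Subgroup.normalizer (E : Set G) → ∀ x ∈ E, g * x * g⁻¹ ∈ E → x = 1 := by
    rw [hE]
    exact (Cfsg.Agent.S0879.result hZ hac).1
  have hfoc : Subgroup.focalSubgroup E = E := by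
    rw [hE]
    rw [hE] at hodd
    exact focal_eq hZ hac hodd
  let K : Subgroup G := f.ker.map E.subtype
  have hle : Subgroup.focalSubgroup E ≤ K := by
    rw [Subgroup.focalSubgroup_def, Subgroup.closure_le]
    rintro g ⟨hgE, x, hx, u, hgu⟩
    have hker : f ⟨g, hgE⟩ = 1 := by
      by_cases hx1 : x = 1
      · have : g = 1 := by
          rw [hgu, hx1, commutatorElement_def]; group
        have h2 : (⟨g, hgE⟩ : E) = 1 := Subtype.ext this
        rw [h2, map_one]
      · have h2 : u * x⁻¹ * u⁻¹ = x⁻¹ * g := by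
          rw [hgu, commutatorElement_def]; group
        have h3 : u * x⁻¹ * u⁻¹ ∈ E := by
          rw [h2]; exact E.mul_mem (E.inv_mem hx) hgE
        have hu : u ∈ Subgroup.normalizer (E : Set G) := by
          by_contra hu
          have := hTI u hu x⁻¹ (E.inv_mem hx) h3
          exact hx1 (inv_eq_one.mp this)
        have h4 := hinv u hu ⟨x⁻¹, E.inv_mem hx⟩ h3
        have h5 : (⟨g, hgE⟩ : E) = ⟨x, hx⟩ * ⟨u * x⁻¹ * u⁻¹, h3⟩ := by
          apply Subtype.ext
          show g = x * (u * x⁻¹ * u⁻¹)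
          rw [hgu, commutatorElement_def]; group
        rw [h5, map_mul, h4]
        have h6 : (⟨x⁻¹, E.inv_mem hx⟩ : E) = (⟨x, hx⟩ : E)⁻¹ := rfl
        rw [h6, map_inv, mul_inv_cancel]
    exact ⟨⟨g, hgE⟩, hker, rfl⟩
  have hy : (y : G) ∈ K := by
    apply hle
    rw [hfoc]
    exact y.2
  obtain ⟨y', hy', hyy⟩ := hy
  have : y' = y := Subtype.ext hyy
  rw [← this]
  exact hy'

end Focal

end Cfsg.Agent.Helper5.Zass
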