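import Mathlib
import Cfsg.Prelude.Def_LieExceptional
import Cfsg.Prelude.Def_Characters
import Cfsg.Agent.Lib.Helper5.ZassFocal
import Cfsg.Agent.Lib.Helper5.FrobKer
import Cfsg.Agent.Lib.Helper24.CharAlgebra
import Cfsg.Agent.Lib.Helper24.CharInduced

/-!
# Induced linear characters of a point stabilizer of a Zassenhaus group (helper5)
-/

set_option autoImplicit false
set_option linter.unusedVariables false
set_option linter.unusedSectionVars false
set_option linter.style.haveILetI false

namespace Cfsg.Agent.Helper5.Zass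

open MulAction Cfsg Cfsg.Agent.Helper24 Cfsg.Agent.Helper5
open scoped ComplexConjugate

universe u

section Norm

variable {G : Type u} [Group G] [Fintype G]

/-- The norm of an induced function as a double sum. -/
theorem norm_indFun_eq (N : Subgroup G) [Fintype N] (μ : N → ℂ) :
    classInner (indFun N μ) (indFun N μ) =
      (Nat.card N : ℂ)⁻¹ * ((Nat.card N : ℂ)⁻¹ * ∑ x : G, ∑ y : G,
        extendByZero N μ y * conj (extendByZero N μ (x⁻¹ * y * x))) := by
  classical
  rw [frobenius_reciprocity N μ (isClassFunction_indFun N μ)]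
  unfold classInner
  congr 1
  have h2 : ∀ k : N, μ k * conj (indFun N μ k) =
      extendByZero N μ (k : G) * conj (indFun N μ (k : G)) := by
    intro k
    rw [extendByZero_coe]
  have h1 : ∑ h : N, μ h * conj (indFun N μ h) =
      ∑ y : G, extendByZero N μ y * conj (indFun N μ y) := by
    rw [Finset.sum_congr rfl (fun k _ => h2 k),
      ← FrobKer.sum_ite_mem N (fun y => extendByZero N μ y * conj (indFun N μ y))]
    refine Finset.sum_congr rfl fun y _ => ?_
    split_ifs with hy
    · rfl
    · rw [extendByZero_of_not_mem N μ hy, zero_mul]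
  rw [h1]
  simp only [indFun_apply, map_mul, map_inv₀, Complex.conj_natCast, map_sum]
  rw [Finset.sum_comm, Finset.mul_sum]
  refine Finset.sum_congr rfl fun y _ => ?_
  rw [Finset.mul_sum, Finset.mul_sum, Finset.mul_sum]
  refine Finset.sum_congr rfl fun x _ => ?_
  ring

end Norm

section Linear

variable {N : Type u} [Group N] [Finite N]

theorem linear_norm {μ : N → ℂ} (hμ : IsCharacter N μ) (h1 : μ 1 = 1) (y : N) :
    μ y * conj (μ y) = 1 := by
  have hpow : (μ y) ^ (orderOf y) = 1 := by
    have := congrArg (fun z : ℂˣ => (z : ℂ)) (map_pow (linHom hμ h1) y (orderOf y))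
    simp only [pow_orderOf_eq_one, map_one, Units.val_one, Units.val_pow_eq_pow_val,
      linHom_apply] at this
    exact this.symm
  have hnorm : ‖μ y‖ = 1 :=
    Complex.norm_eq_one_of_pow_eq_one hpow (orderOf_pos y).ne'
  rw [Complex.mul_conj', hnorm]
  simp

end Linear

section Main

variable {G : Type u} {Ω : Type*} [Group G] [Fintype G] [MulAction G Ω] [Fintype Ω]

/-- the point stabilizer is the product of the kernel and a two point stabilizer -/
theorem exists_mul_eq (hZ : IsZassenhausGroup G Ω) {a c : Ω} (hac : a ≠ c)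
    (H : Subgroup G) (hHa : H ≤ stabilizer G a) (hHcard : Nat.card H + 1 = Fintype.card Ω)
    (hHfix : ∀ u ∈ H, u ≠ 1 → ∀ c : Ω, u • c = c → c = a) (z : G) (hz : z ∈ stabilizer G a) :
    ∃ h ∈ H, ∃ y ∈ (stabilizer G a ⊓ stabilizer G c : Subgroup G), z = h * y := by
  classical
  obtain ⟨hfaith, h2, h3, _, _⟩ := hZ
  rw [is_two_pretransitive_iff] at h2
  let φ : H × ↥(stabilizer G a ⊓ stabilizer G c : Subgroup G) → stabilizer G a :=
    fun p => ⟨(p.1 : G) * (p.2 : G),
      (stabilizer G a).mul_mem (hHa p.1.2) (Subgroup.mem_inf.mp p.2.2).1⟩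
  have hinj : Function.Injective φ := by
    rintro ⟨h, y⟩ ⟨h', y'⟩ heq
    have h1 : (h : G) * (y : G) = (h' : G) * (y' : G) := congrArg Subtype.val heq
    have h4 : (h' : G)⁻¹ * (h : G) = (y' : G) * (y : G)⁻¹ := by
      have : (h : G) = (h' : G) * (y' : G) * (y : G)⁻¹ := by rw [← h1]; group
      rw [this]; group
    have h5 : (h' : G)⁻¹ * (h : G) ∈ H := H.mul_mem (H.inv_mem h'.2) h.2
    have h6 : ((h' : G)⁻¹ * (h : G)) • c = c := by
      rw [h4]
      exact (Subgroup.mem_inf.mp (Subgroup.mul_mem _ y'.2 (Subgroup.inv_mem _ y.2))).2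
    have h7 : (h' : G)⁻¹ * (h : G) = 1 := by
      by_contra hne
      exact hac (hHfix _ h5 hne c h6).symm
    have h8 : (h : G) = h' := by
      have : (h : G) = (h' : G) * ((h' : G)⁻¹ * (h : G)) := by group
      rw [this, h7, mul_one]
    have h9 : (y : G) = y' := by
      rw [h7] at h4
      have : (y' : G) = ((y' : G) * (y : G)⁻¹) * y := by group
      rw [this, ← h4, one_mul]
    exact Prod.ext (Subtype.ext h8) (Subtype.ext h9)
  have hcard : Nat.card (stabilizer G a) ≤
      Nat.card (H × ↥(stabilizer G a ⊓ stabilizer G c : Subgroup G)) := by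
    rw [Nat.card_prod]
    have h1 := cnt1_eq (G := G) h2 hac a a
    have h4 : Nat.card (stabilizer G a) =
        (Finset.univ.filter (fun g : G => g • a = a)).card := by
      rw [Nat.card_eq_fintype_card, ← Fintype.card_subtype]
      rfl
    rw [h4, h1]
    have : Nat.card H = Fintype.card Ω - 1 := by omega
    rw [this]
  have hbij := hinj.bijective_of_nat_card_le hcard
  obtain ⟨⟨h, y⟩, hp⟩ := hbij.2 ⟨z, hz⟩
  exact ⟨h, h.2, y, y.2, (congrArg Subtype.val hp).symm⟩

/-- the function induced from a nontrivial linear character of the point stabilizer that is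
trivial on the kernel is irreducible -/
theorem irr_indFun_linear (hZ : IsZassenhausGroup G Ω) [IsSimpleGroup G] {a b : Ω} (hab : a ≠ b)
    (hodd : Odd (Nat.card ↥(stabilizer G a ⊓ stabilizer G b : Subgroup G)))
    (H : Subgroup G) (hHa : H ≤ stabilizer G a) (hHcard : Nat.card H + 1 = Fintype.card Ω)
    (hHfix : ∀ u ∈ H, u ≠ 1 → ∀ c : Ω, u • c = c → c = a)
    (μ : stabilizer G a → ℂ) (hμ : IsCharacter (stabilizer G a) μ) (hμ1 : μ 1 = 1)
    (hμH : ∀ u : stabilizer G a, (u : G) ∈ H → μ u = 1) (hμne : μ ≠ fun _ => 1) :
    IsIrrCharacter G (indFun (stabilizer G a) μ) := by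
  classical
  obtain ⟨hfaith, h2, h3, hex, hreg⟩ := id hZ
  rw [is_two_pretransitive_iff] at h2
  letI : Fintype (stabilizer G a) := Fintype.ofFinite _
  letI : Fintype (IrrCharacter G) := irrFintype
  apply isIrrCharacter_of_classInner_self_eq_one (isCharacter_indFun (stabilizer G a) hμ)
  rw [norm_indFun_eq]
  have hcf : IsClassFunction (stabilizer G a) μ := isClassFunction_of_isCharacter hμ
  have hmul := char_mul_of_degree_one hμ hμ1
  have hext_mul : ∀ y y' : G, y ∈ stabilizer G a → y' ∈ stabilizer G a →
      extendByZero (stabilizer G a) μ (y * y') =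
        extendByZero (stabilizer G a) μ y * extendByZero (stabilizer G a) μ y' := by
    intro y y' hy hy'
    rw [extendByZero_of_mem _ μ hy, extendByZero_of_mem _ μ hy',
      extendByZero_of_mem _ μ (Subgroup.mul_mem _ hy hy'), ← hmul]
    rfl
  have hext_conj : ∀ x y : G, x ∈ stabilizer G a → y ∈ stabilizer G a →
      extendByZero (stabilizer G a) μ (x⁻¹ * y * x) = extendByZero (stabilizer G a) μ y := by
    intro x y hx hy
    rw [extendByZero_of_mem _ μ hy, extendByZero_of_mem _ μ
      (Subgroup.mul_mem _ (Subgroup.mul_mem _ (Subgroup.inv_mem _ hx) hy) hx)]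
    have := hcf ⟨y, hy⟩ (⟨x, hx⟩ : stabilizer G a)⁻¹
    rw [← this]
    congr 1
    apply Subtype.ext
    simp
  have hext_norm : ∀ y : G, y ∈ stabilizer G a →
      extendByZero (stabilizer G a) μ y * conj (extendByZero (stabilizer G a) μ y) = 1 := by
    intro y hy
    rw [extendByZero_of_mem _ μ hy]
    exact linear_norm hμ hμ1 _
  have hJ1 : ∀ x : G, x ∈ stabilizer G a → ∑ y : G, extendByZero (stabilizer G a) μ y *
      conj (extendByZero (stabilizer G a) μ (x⁻¹ * y * x)) = (Nat.card (stabilizer G a) : ℂ) := by
    intro x hx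
    have : ∀ y : G, extendByZero (stabilizer G a) μ y *
        conj (extendByZero (stabilizer G a) μ (x⁻¹ * y * x)) =
        if y ∈ stabilizer G a then (fun _ => (1 : ℂ)) y else 0 := by
      intro y
      split_ifs with hy
      · rw [hext_conj x y hx hy, hext_norm y hy]
      · rw [extendByZero_of_not_mem _ μ hy, zero_mul]
    rw [Finset.sum_congr rfl (fun y _ => this y), FrobKer.sum_ite_mem, Finset.sum_const,
      Finset.card_univ, ← Nat.card_eq_fintype_card, nsmul_eq_mul, mul_one]
  have hJ0 : ∀ x : G, x ∉ stabilizer G a → ∑ y : G, extendByZero (stabilizer G a) μ y *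
      conj (extendByZero (stabilizer G a) μ (x⁻¹ * y * x)) = 0 := by
    intro x hx
    have hac : a ≠ x • a := fun h => hx (mem_stabilizer_iff.mpr h.symm)
    letI : Fintype ↥(stabilizer G a ⊓ stabilizer G (x • a) : Subgroup G) := Fintype.ofFinite _
    have hE₁N : (stabilizer G a ⊓ stabilizer G (x • a) : Subgroup G) ≤ stabilizer G a :=
      inf_le_left
    have hconjN : ∀ y : G, y ∈ (stabilizer G a ⊓ stabilizer G (x • a) : Subgroup G) →
        x⁻¹ * y * x ∈ stabilizer G a := by
      intro y hy
      rw [mem_stabilizer_iff, mul_smul, mul_smul, (Subgroup.mem_inf.mp hy).2, inv_smul_smul]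
    have hzero : ∀ y : G, y ∉ (stabilizer G a ⊓ stabilizer G (x • a) : Subgroup G) →
        extendByZero (stabilizer G a) μ y *
          conj (extendByZero (stabilizer G a) μ (x⁻¹ * y * x)) = 0 := by
      intro y hy
      by_cases hyN : y ∈ stabilizer G a
      · have : x⁻¹ * y * x ∉ stabilizer G a := by
          intro h
          apply hy
          refine Subgroup.mem_inf.mpr ⟨hyN, ?_⟩
          rw [mem_stabilizer_iff] at h ⊢
          have h' : x • ((x⁻¹ * y * x) • a) = x • a := by rw [h]
          rw [← mul_smul] at h'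
          have h'' : x * (x⁻¹ * y * x) = y * x := by group
          rwa [h'', mul_smul] at h'
        rw [extendByZero_of_not_mem _ μ this, map_zero, mul_zero]
      · rw [extendByZero_of_not_mem _ μ hyN, zero_mul]
    have hsum : ∑ y : G, extendByZero (stabilizer G a) μ y *
        conj (extendByZero (stabilizer G a) μ (x⁻¹ * y * x)) =
        ∑ y : ↥(stabilizer G a ⊓ stabilizer G (x • a) : Subgroup G),
          extendByZero (stabilizer G a) μ (y : G) *
            conj (extendByZero (stabilizer G a) μ (x⁻¹ * (y : G) * x)) := by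
      rw [← FrobKer.sum_ite_mem (stabilizer G a ⊓ stabilizer G (x • a) : Subgroup G)
        (fun y => extendByZero (stabilizer G a) μ y *
          conj (extendByZero (stabilizer G a) μ (x⁻¹ * y * x)))]
      refine Finset.sum_congr rfl fun y _ => ?_
      split_ifs with hy
      · rfl
      · exact hzero y hy
    rw [hsum]
    let ν : ↥(stabilizer G a ⊓ stabilizer G (x • a) : Subgroup G) →* ℂ :=
      { toFun := fun y => extendByZero (stabilizer G a) μ (y : G) *
            conj (extendByZero (stabilizer G a) μ (x⁻¹ * (y : G) * x))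
        map_one' := by
          have h1 : x⁻¹ * ((1 : ↥(stabilizer G a ⊓ stabilizer G (x • a) : Subgroup G)) : G) * x
              = 1 := by simp
          rw [h1]
          exact hext_norm 1 (Subgroup.one_mem _)
        map_mul' := by
          intro y y'
          have h1 : x⁻¹ * ((y * y' : ↥(stabilizer G a ⊓ stabilizer G (x • a) : Subgroup G)) : G)
              * x = (x⁻¹ * (y : G) * x) * (x⁻¹ * (y' : G) * x) := by
            rw [Subgroup.coe_mul]; group
          rw [h1, hext_mul _ _ (hconjN y y.2) (hconjN y' y'.2), Subgroup.coe_mul,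
            hext_mul _ _ (hE₁N y.2) (hE₁N y'.2), map_mul]
          ring }
    by_cases hν : ν = 1
    · exfalso
      have hν' : ∀ y : ↥(stabilizer G a ⊓ stabilizer G (x • a) : Subgroup G),
          extendByZero (stabilizer G a) μ (y : G) *
            conj (extendByZero (stabilizer G a) μ (x⁻¹ * (y : G) * x)) = 1 := by
        intro y
        have := congrArg (fun f => f y) hν
        exact this
      have heq : ∀ y : G, y ∈ (stabilizer G a ⊓ stabilizer G (x • a) : Subgroup G) →
          extendByZero (stabilizer G a) μ (x⁻¹ * y * x) = extendByZero (stabilizer G a) μ y := by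
        intro y hy
        have h1 := hν' ⟨y, hy⟩
        have h4 := hext_norm _ (hconjN y hy)
        have h5 : extendByZero (stabilizer G a) μ (x⁻¹ * y * x) =
            (extendByZero (stabilizer G a) μ y *
              conj (extendByZero (stabilizer G a) μ (x⁻¹ * y * x))) *
              extendByZero (stabilizer G a) μ (x⁻¹ * y * x) := by
          rw [h1, one_mul]
        rw [h5, mul_assoc, mul_comm (conj _), h4, mul_one]
      -- the restriction to the two point stabilizer is invariant
      let f₁ : ↥(stabilizer G a ⊓ stabilizer G (x • a) : Subgroup G) →* ℂˣ :=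
        (linHom hμ hμ1).comp (Subgroup.inclusion hE₁N)
      have hf₁ : ∀ y : ↥(stabilizer G a ⊓ stabilizer G (x • a) : Subgroup G),
          ((f₁ y : ℂˣ) : ℂ) = extendByZero (stabilizer G a) μ (y : G) := by
        intro y
        rw [extendByZero_of_mem _ μ (hE₁N y.2)]
        rfl
      have hodd₁ : Odd (Nat.card ↥(stabilizer G a ⊓ stabilizer G (x • a) : Subgroup G)) := by
        have h1 := card_transporter (G := G) h2 hab hac hac
        have h4 : Nat.card ↥(stabilizer G a ⊓ stabilizer G (x • a) : Subgroup G) =
            Nat.card {g : G // g • a = a ∧ g • (x • a) = x • a} := by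
          apply Nat.card_congr
          exact Equiv.subtypeEquivRight (fun g => by
            rw [Subgroup.mem_inf, mem_stabilizer_iff, mem_stabilizer_iff])
        rw [h4, h1]
        exact hodd
      have hone := hom_eq_one_of_invariant hZ hac
        (stabilizer G a ⊓ stabilizer G (x • a) : Subgroup G) rfl hodd₁ f₁ (by
          intro u hu y h
          apply Units.ext
          rw [hf₁, hf₁]
          show extendByZero (stabilizer G a) μ (u * (y : G) * u⁻¹) =
            extendByZero (stabilizer G a) μ (y : G)
          by_cases hy1 : (y : G) = 1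
          · rw [hy1]; simp
          · have hya : (y : G) • a = a := (Subgroup.mem_inf.mp y.2).1
            have hyc : (y : G) • (x • a) = x • a := (Subgroup.mem_inf.mp y.2).2
            have hyu : (y : G) • (u⁻¹ • a) = u⁻¹ • a := by
              have h5 : (u * (y : G) * u⁻¹) • a = a := (Subgroup.mem_inf.mp h).1
              have h6 : u⁻¹ • ((u * (y : G) * u⁻¹) • a) = u⁻¹ • a := by rw [h5]
              rw [← mul_smul] at h6
              have h7 : u⁻¹ * (u * (y : G) * u⁻¹) = (y : G) * u⁻¹ := by group
              rwa [h7, mul_smul] at h6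
            have hcases : u⁻¹ • a = a ∨ u⁻¹ • a = x • a := by
              by_contra hne
              push Not at hne
              exact hy1 (h3 (y : G) a (x • a) (u⁻¹ • a) hac (Ne.symm hne.2) (Ne.symm hne.1)
                hya hyc hyu)
            rcases hcases with hu1 | hu2
            · have huN : u⁻¹ ∈ stabilizer G a := mem_stabilizer_iff.mpr hu1
              have := hext_conj u⁻¹ (y : G) huN (hE₁N y.2)
              rwa [inv_inv] at this
            · have hn₀ : u * x ∈ stabilizer G a := by
                rw [mem_stabilizer_iff, mul_smul, ← hu2, smul_inv_smul]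
              have h8 := heq (y : G) y.2
              have h9 : x⁻¹ * (y : G) * x = (u * x)⁻¹ * (u * (y : G) * u⁻¹) * (u * x) := by group
              rw [h9, hext_conj _ _ hn₀ (hE₁N h)] at h8
              exact h8)
      apply hμne
      funext z
      obtain ⟨h, hh, y, hy, hzy⟩ := exists_mul_eq hZ hac H hHa hHcard hHfix (z : G) z.2
      have h10 : μ z = extendByZero (stabilizer G a) μ (z : G) := by
        rw [extendByZero_coe]
      rw [h10, hzy, hext_mul _ _ (hHa hh) (hE₁N hy)]
      have h11 : extendByZero (stabilizer G a) μ h = 1 := by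
        rw [extendByZero_of_mem _ μ (hHa hh)]
        exact hμH ⟨h, hHa hh⟩ hh
      have h12 : extendByZero (stabilizer G a) μ y = 1 := by
        rw [← hf₁ ⟨y, hy⟩, hone ⟨y, hy⟩]
        rfl
      rw [h11, h12, mul_one]
    · exact sum_hom_units_eq_zero ν hν
  have hJ : ∀ x : G, ∑ y : G, extendByZero (stabilizer G a) μ y *
      conj (extendByZero (stabilizer G a) μ (x⁻¹ * y * x)) =
      if x ∈ stabilizer G a then (fun _ => (Nat.card (stabilizer G a) : ℂ)) x else 0 := by
    intro x
    split_ifs with hx
    · exact hJ1 x hx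
    · exact hJ0 x hx
  rw [Finset.sum_congr rfl (fun x _ => hJ x), FrobKer.sum_ite_mem, Finset.sum_const,
    Finset.card_univ, ← Nat.card_eq_fintype_card, nsmul_eq_mul]
  have hpos : (Nat.card (stabilizer G a) : ℂ) ≠ 0 := by
    exact_mod_cast (Nat.card_pos (α := stabilizer G a)).ne'
  field_simp

/-- the value of a function induced from the point stabilizer at an element fixing only that
point -/
theorem indFun_apply_of_mem_kernel {a : Ω} (H : Subgroup G) (hHa : H ≤ stabilizer G a)
    (hHfix : ∀ u ∈ H, u ≠ 1 → ∀ c : Ω, u • c = c → c = a)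
    (μ : stabilizer G a → ℂ) (hcf : IsClassFunction (stabilizer G a) μ) {u : G} (hu : u ∈ H)
    (hu1 : u ≠ 1) : indFun (stabilizer G a) μ u = μ ⟨u, hHa hu⟩ := by
  classical
  letI : Fintype (stabilizer G a) := Fintype.ofFinite _
  rw [indFun_apply]
  have h1 : ∀ x : G, extendByZero (stabilizer G a) μ (x⁻¹ * u * x) =
      if x ∈ stabilizer G a then (fun _ => μ ⟨u, hHa hu⟩) x else 0 := by
    intro x
    split_ifs with hx
    · rw [extendByZero_of_mem _ μ
        (Subgroup.mul_mem _ (Subgroup.mul_mem _ (Subgroup.inv_mem _ hx) (hHa hu)) hx)]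
      have := hcf ⟨u, hHa hu⟩ (⟨x, hx⟩ : stabilizer G a)⁻¹
      rw [← this]
      congr 1
      apply Subtype.ext
      simp
    · apply extendByZero_of_not_mem
      intro h
      apply hx
      rw [mem_stabilizer_iff] at h ⊢
      have h' : x • ((x⁻¹ * u * x) • a) = x • a := by rw [h]
      rw [← mul_smul] at h'
      have h'' : x * (x⁻¹ * u * x) = u * x := by group
      rw [h'', mul_smul] at h'
      exact hHfix u hu hu1 _ h'
  rw [Finset.sum_congr rfl (fun x _ => h1 x), FrobKer.sum_ite_mem, Finset.sum_const,
    Finset.card_univ, ← Nat.card_eq_fintype_card, nsmul_eq_mul]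
  have hpos : (Nat.card (stabilizer G a) : ℂ) ≠ 0 := by
    exact_mod_cast (Nat.card_pos (α := stabilizer G a)).ne'
  field_simp

end Main

end Cfsg.Agent.Helper5.Zass
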