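import Mathlib
import Cfsg.Prelude.Def_LieExceptional
import Cfsg.Agent.Lib.Helper5.Zass
import Cfsg.Agent.Lib.Helper5.ZassFocal
import Cfsg.Agent.S0035
import Cfsg.Agent.S0040
import Cfsg.Agent.S0088
import Cfsg.Agent.S0740
import Cfsg.Agent.S0878
import Cfsg.Agent.Lib.Helper5.ZassChar

/-!
# Simple Zassenhaus groups with odd two point stabilizer: involutions (helper5)
-/

set_option autoImplicit false
set_option linter.unusedVariables false
set_option linter.unusedSectionVars false
set_option linter.style.haveILetI false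

namespace Cfsg.Agent.Helper5.ZassOdd

open MulAction

section Abstract

universe u

/-- An involutive automorphism of an odd order group with cyclic Sylow subgroups, all of whose
invariant homomorphisms into commutative groups are trivial, has no nontrivial fixed point. -/
theorem fpf_of_invariant_hom {X : Type u} [Group X] [Finite X] [IsZGroup X]
    (hodd : Odd (Nat.card X)) (σ : X ≃* X) (hσ : ∀ x, σ (σ x) = x)
    (hinv : ∀ {A : Type u} [CommGroup A] (f : X →* A), (∀ x, f (σ x) = f x) → ∀ x, f x = 1)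
    (x₀ : X) (hx₀ : σ x₀ = x₀) : x₀ = 1 := by
  -- step 1: x₀ lies in the commutator subgroup
  have h1 : x₀ ∈ commutator X := by
    let f₁ : X →* Abelianization X :=
      Abelianization.of * (Abelianization.of.comp σ.toMonoidHom)
    have hf₁ : ∀ x, f₁ x = Abelianization.of x * Abelianization.of (σ x) := fun x => rfl
    have hinv₁ : ∀ x, f₁ (σ x) = f₁ x := by
      intro x
      rw [hf₁, hf₁, hσ, mul_comm]
    have h2 := hinv f₁ hinv₁ x₀
    rw [hf₁, hx₀] at h2
    obtain ⟨k, hk⟩ := hodd
    have h3 : (Abelianization.of x₀) ^ (2 * k + 1) = 1 := by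
      rw [← map_pow, ← hk, pow_card_eq_one', map_one]
    have h4 : (Abelianization.of x₀) ^ (2 * k) = 1 := by
      rw [pow_mul, pow_two, h2, one_pow]
    rw [pow_succ, h4, one_mul] at h3
    rw [← Abelianization.ker_of X]
    exact h3
  -- step 2: conjugates of x₀ are powers of x₀
  haveI hcyc : IsCyclic (commutator X) := IsZGroup.isCyclic_commutator X
  have h2 : ∀ g : X, ∃ m : ℤ, g * x₀ * g⁻¹ = x₀ ^ m := by
    intro g
    obtain ⟨m, hm⟩ := MonoidHom.map_cyclic
      ((MulAut.conjNormal (H := commutator X) g : ↥(commutator X) ≃* ↥(commutator X)).toMonoidHom)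
    refine ⟨m, ?_⟩
    have := congrArg Subtype.val (hm ⟨x₀, h1⟩)
    simpa using this
  haveI hnorm : (Subgroup.zpowers x₀).Normal := by
    constructor
    rintro n ⟨k, rfl⟩ g
    obtain ⟨m, hm⟩ := h2 g
    have : g * x₀ ^ k * g⁻¹ = (g * x₀ * g⁻¹) ^ k := by
      rw [conj_zpow]
    rw [this, hm, ← zpow_mul]
    exact ⟨m * k, rfl⟩
  have hfix : ∀ c ∈ Subgroup.zpowers x₀, σ c = c := by
    rintro c ⟨k, rfl⟩
    show σ (x₀ ^ k) = x₀ ^ k
    rw [map_zpow, hx₀]
  -- step 3: x₀ is central
  have h3 : x₀ ∈ Subgroup.center X := by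
    letI : CommGroup (MulAut ↥(Subgroup.zpowers x₀)) :=
      (IsCyclic.mulAutMulEquiv ↥(Subgroup.zpowers x₀)).toMonoidHom.commGroupOfInjective
        (IsCyclic.mulAutMulEquiv ↥(Subgroup.zpowers x₀)).injective
    let f₂ : X →* MulAut ↥(Subgroup.zpowers x₀) := MulAut.conjNormal
    have hinv₂ : ∀ x, f₂ (σ x) = f₂ x := by
      intro x
      apply MulEquiv.ext
      intro c
      apply Subtype.ext
      show σ x * (c : X) * (σ x)⁻¹ = x * (c : X) * x⁻¹
      have hc1 : x * (c : X) * x⁻¹ ∈ Subgroup.zpowers x₀ := hnorm.conj_mem _ c.2 x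
      rw [← hfix _ hc1, map_mul, map_mul, map_inv, hfix _ c.2]
    have h4 := hinv f₂ hinv₂
    rw [Subgroup.mem_center_iff]
    intro g
    have h5 := congrArg (fun φ : MulAut ↥(Subgroup.zpowers x₀) =>
      ((φ ⟨x₀, Subgroup.mem_zpowers x₀⟩ : ↥(Subgroup.zpowers x₀)) : X)) (h4 g)
    have h6 : g * x₀ * g⁻¹ = x₀ := h5
    calc g * x₀ = (g * x₀ * g⁻¹) * g := by group
      _ = x₀ * g := by rw [h6]
  -- step 4: the commutator subgroup is a commutative Hall subgroup
  have h4 := Cfsg.Agent.S0088.result (commutator X) inferInstance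
    (IsZGroup.coprime_commutator_index X)
  have h5 : x₀ ∈ (commutator X ⊓ commutator X ⊓ Subgroup.center X : Subgroup X) :=
    ⟨⟨h1, h1⟩, h3⟩
  rw [h4, Subgroup.mem_bot] at h5
  exact h5

end Abstract

section Stab

variable {G : Type*} {Ω : Type*} [Group G] [Finite G] [MulAction G Ω] [Fintype Ω]

theorem three_le_card (hZ : IsZassenhausGroup G Ω) : 3 ≤ Fintype.card Ω := by
  classical
  obtain ⟨hfaith, h2, h3, ⟨g₀, hg₀, a₀, b₀, hab₀, hga₀, hgb₀⟩, _⟩ := hZ
  have : ∃ c : Ω, g₀ • c ≠ c := by
    by_contra hcon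
    push Not at hcon
    apply hg₀
    apply hfaith.eq_of_smul_eq_smul
    intro ω
    rw [hcon, one_smul]
  obtain ⟨c, hc⟩ := this
  have hca : c ≠ a₀ := fun h => hc (h ▸ hga₀)
  have hcb : c ≠ b₀ := fun h => hc (h ▸ hgb₀)
  have : ({a₀, b₀, c} : Finset Ω).card ≤ Fintype.card Ω := Finset.card_le_univ _
  rwa [Finset.card_eq_three.mpr ⟨a₀, b₀, c, hab₀, hca.symm, hcb.symm, rfl⟩] at this

theorem exists_third (hZ : IsZassenhausGroup G Ω) (a b : Ω) : ∃ c : Ω, c ≠ a ∧ c ≠ b := by
  classical
  have h3 := three_le_card hZ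
  by_contra hcon
  push Not at hcon
  have : (Finset.univ : Finset Ω) ⊆ {a, b} := by
    intro c _
    rw [Finset.mem_insert, Finset.mem_singleton]
    by_cases h : c = a
    · exact Or.inl h
    · exact Or.inr (hcon c h)
  have h4 := Finset.card_le_card this
  have h5 : ({a, b} : Finset Ω).card ≤ 2 := Finset.card_le_two
  rw [Finset.card_univ] at h4
  omega

theorem two_point_ne_bot (hZ : IsZassenhausGroup G Ω) {a b : Ω} (hab : a ≠ b) :
    (stabilizer G a ⊓ stabilizer G b : Subgroup G) ≠ ⊥ := by
  obtain ⟨hfaith, h2, h3, ⟨g₀, hg₀, a₀, b₀, hab₀, hga₀, hgb₀⟩, _⟩ := hZ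
  rw [is_two_pretransitive_iff] at h2
  obtain ⟨k, hka, hkb⟩ := h2 hab₀ hab
  intro hbot
  have hmem : k * g₀ * k⁻¹ ∈ (stabilizer G a ⊓ stabilizer G b : Subgroup G) := by
    rw [Subgroup.mem_inf, mem_stabilizer_iff, mem_stabilizer_iff]
    constructor
    · rw [mul_smul, mul_smul, ← hka, inv_smul_smul, hga₀]
    · rw [mul_smul, mul_smul, ← hkb, inv_smul_smul, hgb₀]
  rw [hbot, Subgroup.mem_bot] at hmem
  apply hg₀
  calc g₀ = k⁻¹ * (k * g₀ * k⁻¹) * k := by group
    _ = 1 := by rw [hmem]; group

/-- The two point stabilizer of odd order has cyclic Sylow subgroups. -/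
theorem isZGroup_two_point (hZ : IsZassenhausGroup G Ω) {a b : Ω} (hab : a ≠ b)
    (hodd : Odd (Nat.card ↥(stabilizer G a ⊓ stabilizer G b : Subgroup G))) :
    IsZGroup ↥(stabilizer G a ⊓ stabilizer G b : Subgroup G) := by
  classical
  obtain ⟨c, hca, hcb⟩ := exists_third hZ a b
  have hEbot := two_point_ne_bot hZ hab
  obtain ⟨hfaith, h2, h3, _, _⟩ := hZ
  rw [is_two_pretransitive_iff] at h2
  have hEGa : (stabilizer G a ⊓ stabilizer G b : Subgroup G) ≤ stabilizer G a := inf_le_left
  have hmemH : ∀ x : ↥(stabilizer G a),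
      x ∈ (stabilizer G a ⊓ stabilizer G b : Subgroup G).subgroupOf (stabilizer G a) ↔
        (x : G) • b = b := by
    intro x
    rw [Subgroup.mem_subgroupOf, Subgroup.mem_inf, mem_stabilizer_iff, mem_stabilizer_iff]
    constructor
    · exact fun h => h.2
    · exact fun h => ⟨mem_stabilizer_iff.mp x.2, h⟩
  have hfixa : ∀ x : ↥(stabilizer G a), (x : G) • a = a := fun x => mem_stabilizer_iff.mp x.2
  have hFrob : Cfsg.IsFrobeniusComplement
      ((stabilizer G a ⊓ stabilizer G b : Subgroup G).subgroupOf (stabilizer G a)) := by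
    refine ⟨?_, ?_, ?_⟩
    · intro hbot
      apply hEbot
      rw [eq_bot_iff]
      intro x hx
      have hxa : x ∈ stabilizer G a := hEGa hx
      have : (⟨x, hxa⟩ : ↥(stabilizer G a)) ∈
          (stabilizer G a ⊓ stabilizer G b : Subgroup G).subgroupOf (stabilizer G a) := by
        rw [Subgroup.mem_subgroupOf]
        exact hx
      rw [hbot, Subgroup.mem_bot] at this
      rw [Subgroup.mem_bot]
      exact congrArg Subtype.val this
    · intro htop
      obtain ⟨g, hga, hgb⟩ := h2 hab hca.symm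
      have hg : g ∈ stabilizer G a := mem_stabilizer_iff.mpr hga
      have : (⟨g, hg⟩ : ↥(stabilizer G a)) ∈
          (stabilizer G a ⊓ stabilizer G b : Subgroup G).subgroupOf (stabilizer G a) := by
        rw [htop]
        exact Subgroup.mem_top _
      rw [hmemH] at this
      apply hcb
      rw [← hgb]
      exact this
    · intro g hg
      rw [hmemH] at hg
      rw [eq_bot_iff]
      intro x hx
      obtain ⟨hx1, hx2⟩ := Subgroup.mem_inf.mp hx
      rw [Subgroup.mem_bot]
      have hx1' : (x : G) • b = b := (hmemH x).mp hx1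
      rw [Subgroup.mem_pointwise_smul_iff_inv_smul_mem, hmemH] at hx2
      have hx2' : (x : G) • ((g : G) • b) = (g : G) • b := by
        have : ((g⁻¹ * x * g : ↥(stabilizer G a)) : G) • b = b := by
          simpa [MulAut.smul_def, MulAut.conj_inv_apply] using hx2
        have h4 : ((g⁻¹ * x * g : ↥(stabilizer G a)) : G) = (g : G)⁻¹ * (x : G) * (g : G) := rfl
        rw [h4, mul_smul, mul_smul] at this
        have h5 := congrArg (fun ω => (g : G) • ω) this
        simp only [smul_inv_smul] at h5
        exact h5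
      have hne1 : a ≠ (g : G) • b := by
        intro h
        apply hab
        have : (g : G) • a = (g : G) • b := by rw [hfixa g]; exact h
        exact MulAction.injective _ this
      have := h3 (x : G) a b ((g : G) • b) hab (Ne.symm hg) hne1 (hfixa x) hx1' hx2'
      exact Subtype.ext this
  obtain ⟨N, -, hNnorm, hcompl⟩ := Cfsg.Agent.S0035.result _ hFrob
  haveI := hNnorm
  have hNbot : N ≠ ⊥ := by
    intro hN
    rw [hN, Subgroup.isComplement'_bot_left] at hcompl
    exact hFrob.2.1 hcompl
  have hfpf : ∀ y ∈ (stabilizer G a ⊓ stabilizer G b : Subgroup G).subgroupOf (stabilizer G a),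
      y ≠ 1 → N ⊓ Subgroup.centralizer {y} = ⊥ := by
    intro y hy hy1
    rw [eq_bot_iff]
    intro k hk
    obtain ⟨hk1, hk2⟩ := Subgroup.mem_inf.mp hk
    rw [Subgroup.mem_centralizer_singleton_iff] at hk2
    have hyb : (y : G) • b = b := (hmemH y).mp hy
    have hkb : (k : G) • b = b := by
      by_contra hkb
      apply hy1
      have hy3 : (y : G) • ((k : G) • b) = (k : G) • b := by
        have h5 : (k : G) * (y : G) = (y : G) * (k : G) := congrArg Subtype.val hk2
        rw [← mul_smul, ← h5, mul_smul, hyb]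
      have hne1 : a ≠ (k : G) • b := by
        intro h
        apply hab
        have : (k : G) • a = (k : G) • b := by rw [hfixa k]; exact h
        exact MulAction.injective _ this
      have := h3 (y : G) a b ((k : G) • b) hab (Ne.symm hkb) hne1 (hfixa y) hyb hy3
      exact Subtype.ext this
    have hkH : k ∈ (stabilizer G a ⊓ stabilizer G b : Subgroup G).subgroupOf (stabilizer G a) :=
      (hmemH k).mpr hkb
    have hdisj := hcompl.disjoint
    rw [Subgroup.disjoint_def] at hdisj
    rw [Subgroup.mem_bot]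
    exact hdisj hk1 hkH
  have hcardH : Nat.card ↥((stabilizer G a ⊓ stabilizer G b : Subgroup G).subgroupOf
      (stabilizer G a)) = Nat.card ↥(stabilizer G a ⊓ stabilizer G b : Subgroup G) :=
    Nat.card_congr (Subgroup.subgroupOfEquivOfLe hEGa).toEquiv
  haveI hZH : IsZGroup ↥((stabilizer G a ⊓ stabilizer G b : Subgroup G).subgroupOf
      (stabilizer G a)) := by
    constructor
    intro p hp P
    haveI : Fact p.Prime := ⟨hp⟩
    rcases Cfsg.Agent.S0040.result N _ hcompl hNbot hfpf p P with h | ⟨n, ⟨φ⟩⟩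
    · exact h
    · exfalso
      have h5 : Nat.card ↥P = 4 * 2 ^ n := by
        have h50 := Nat.card_congr φ.toEquiv
        rw [Nat.card_eq_fintype_card (α := QuaternionGroup (2 ^ n)), QuaternionGroup.card] at h50
        exact h50
      have h6 : Nat.card ↥P ∣ Nat.card ↥((stabilizer G a ⊓ stabilizer G b :
          Subgroup G).subgroupOf (stabilizer G a)) := Subgroup.card_subgroup_dvd_card _
      rw [hcardH, h5] at h6
      have h7 : 2 ∣ Nat.card ↥(stabilizer G a ⊓ stabilizer G b : Subgroup G) :=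
        Dvd.dvd.trans ⟨2 * 2 ^ n, by ring⟩ h6
      exact (Nat.not_even_iff_odd.mpr hodd) (even_iff_two_dvd.mpr h7)
  exact IsZGroup.of_injective (f := (Subgroup.subgroupOfEquivOfLe hEGa).symm.toMonoidHom)
    (Subgroup.subgroupOfEquivOfLe hEGa).symm.injective

end Stab

section Invert

variable {G : Type*} {Ω : Type*} [Group G] [Finite G] [MulAction G Ω] [Fintype Ω]

theorem conj_mem_of_swap {a b : Ω} {t : G} (hta : t • a = b) (htb : t • b = a) {z : G}
    (hz : z ∈ (stabilizer G a ⊓ stabilizer G b : Subgroup G)) :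
    t * z * t⁻¹ ∈ (stabilizer G a ⊓ stabilizer G b : Subgroup G) := by
  rw [Subgroup.mem_inf, mem_stabilizer_iff, mem_stabilizer_iff] at hz ⊢
  have h1 : t⁻¹ • a = b := by rw [inv_smul_eq_iff, htb]
  have h2 : t⁻¹ • b = a := by rw [inv_smul_eq_iff, hta]
  constructor
  · rw [mul_smul, mul_smul, h1, hz.2, htb]
  · rw [mul_smul, mul_smul, h2, hz.1, hta]

/-- An involution swapping `a` and `b` inverts the two point stabilizer. -/
theorem inverts (hZ : IsZassenhausGroup G Ω) [IsSimpleGroup G] {a b : Ω} (hab : a ≠ b)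
    (hodd : Odd (Nat.card ↥(stabilizer G a ⊓ stabilizer G b : Subgroup G)))
    (t : G) (ht : t * t = 1) (hta : t • a = b) (htb : t • b = a) :
    ∀ z ∈ (stabilizer G a ⊓ stabilizer G b : Subgroup G), t * z * t⁻¹ = z⁻¹ := by
  classical
  haveI := isZGroup_two_point hZ hab hodd
  have htinv : t⁻¹ = t := inv_eq_of_mul_eq_one_left ht
  have hmemE : ∀ x : G, x ∈ (stabilizer G a ⊓ stabilizer G b : Subgroup G) ↔
      x • a = a ∧ x • b = b := by
    intro x
    rw [Subgroup.mem_inf, mem_stabilizer_iff, mem_stabilizer_iff]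
  have htE : t⁻¹ ∉ (stabilizer G a ⊓ stabilizer G b : Subgroup G) := by
    rw [htinv, hmemE]
    intro h
    exact hab (h.1.symm.trans hta)
  have htN : t⁻¹ ∈ Subgroup.normalizer
      ((stabilizer G a ⊓ stabilizer G b : Subgroup G) : Set G) := by
    rw [htinv, Subgroup.mem_normalizer_iff]
    intro n
    constructor
    · intro hn
      exact conj_mem_of_swap hta htb hn
    · intro hn
      have := conj_mem_of_swap hta htb hn
      have e : t * (t * n * t⁻¹) * t⁻¹ = n := by
        rw [htinv]
        calc t * (t * n * t) * t = (t * t) * n * (t * t) := by group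
          _ = n := by rw [ht]; group
      rw [e] at this
      exact this
  -- the automorphism
  let σ : ↥(stabilizer G a ⊓ stabilizer G b : Subgroup G) ≃*
      ↥(stabilizer G a ⊓ stabilizer G b : Subgroup G) :=
    { toFun := fun z => ⟨t * z * t⁻¹, conj_mem_of_swap hta htb z.2⟩
      invFun := fun z => ⟨t * z * t⁻¹, conj_mem_of_swap hta htb z.2⟩
      left_inv := by
        intro z
        apply Subtype.ext
        show t * (t * (z : G) * t⁻¹) * t⁻¹ = z
        rw [htinv]
        calc t * (t * (z : G) * t) * t = (t * t) * z * (t * t) := by group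
          _ = z := by rw [ht]; group
      right_inv := by
        intro z
        apply Subtype.ext
        show t * (t * (z : G) * t⁻¹) * t⁻¹ = z
        rw [htinv]
        calc t * (t * (z : G) * t) * t = (t * t) * z * (t * t) := by group
          _ = z := by rw [ht]; group
      map_mul' := by
        intro x y
        apply Subtype.ext
        show t * ((x : G) * (y : G)) * t⁻¹ = (t * (x : G) * t⁻¹) * (t * (y : G) * t⁻¹)
        group }
  have hσval : ∀ z, ((σ z : ↥(stabilizer G a ⊓ stabilizer G b : Subgroup G)) : G) =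
      t * (z : G) * t⁻¹ := fun z => rfl
  have hσ : ∀ x, σ (σ x) = x := by
    intro z
    apply Subtype.ext
    rw [hσval, hσval, htinv]
    calc t * (t * (z : G) * t) * t = (t * t) * z * (t * t) := by group
      _ = z := by rw [ht]; group
  have hidx := (Cfsg.Agent.S0879.result hZ hab).2
  have hinv : ∀ {A : Type _} [CommGroup A]
      (f : ↥(stabilizer G a ⊓ stabilizer G b : Subgroup G) →* A),
      (∀ x, f (σ x) = f x) → ∀ x, f x = 1 := by
    intro A _ f hf x
    refine Zass.hom_eq_one_of_invariant hZ hab _ rfl hodd f ?_ x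
    intro u hu y huy
    by_cases huE : u ∈ (stabilizer G a ⊓ stabilizer G b : Subgroup G)
    · have h5 : (⟨u * (y : G) * u⁻¹, huy⟩ : ↥(stabilizer G a ⊓ stabilizer G b : Subgroup G)) =
          ⟨u, huE⟩ * y * ⟨u, huE⟩⁻¹ := rfl
      rw [h5, map_mul, map_mul, map_inv, mul_comm (f ⟨u, huE⟩), mul_assoc, mul_inv_cancel,
        mul_one]
    · have h6 := Subgroup.mul_mem_iff_of_index_two hidx
        (a := (⟨t⁻¹, htN⟩ : ↥(Subgroup.normalizer
          ((stabilizer G a ⊓ stabilizer G b : Subgroup G) : Set G)))) (b := ⟨u, hu⟩)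
      rw [Subgroup.mem_subgroupOf, Subgroup.mem_subgroupOf, Subgroup.mem_subgroupOf] at h6
      have h7 : t⁻¹ * u ∈ (stabilizer G a ⊓ stabilizer G b : Subgroup G) := by
        apply h6.mpr
        constructor
        · intro h; exact absurd h htE
        · intro h; exact absurd h huE
      have h8 : (⟨u * (y : G) * u⁻¹, huy⟩ : ↥(stabilizer G a ⊓ stabilizer G b : Subgroup G)) =
          σ (⟨t⁻¹ * u, h7⟩ * y * ⟨t⁻¹ * u, h7⟩⁻¹) := by
        apply Subtype.ext
        rw [hσval]
        show u * (y : G) * u⁻¹ = t * ((t⁻¹ * u) * (y : G) * (t⁻¹ * u)⁻¹) * t⁻¹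
        group
      rw [h8, hf, map_mul, map_mul, map_inv, mul_comm (f ⟨t⁻¹ * u, h7⟩), mul_assoc,
        mul_inv_cancel, mul_one]
  have hfpf := fpf_of_invariant_hom hodd σ hσ hinv
  -- the map x ↦ x⁻¹ σ x is injective, hence surjective
  have hinj : Function.Injective
      (fun x : ↥(stabilizer G a ⊓ stabilizer G b : Subgroup G) => x⁻¹ * σ x) := by
    intro x y hxy
    have hxy' : x⁻¹ * σ x = y⁻¹ * σ y := hxy
    have h9 : σ (y * x⁻¹) = y * x⁻¹ := by
      rw [map_mul, map_inv]
      have : σ x = x * (y⁻¹ * σ y) := by rw [← hxy']; group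
      rw [this]
      group
    have h10 := hfpf _ h9
    have : y = x := by
      calc y = (y * x⁻¹) * x := by group
        _ = x := by rw [h10, one_mul]
    exact this.symm
  have hsurj := Finite.surjective_of_injective hinj
  intro z hz
  obtain ⟨x, hx⟩ := hsurj ⟨z, hz⟩
  have hx' : x⁻¹ * σ x = ⟨z, hz⟩ := hx
  have h11 : σ ⟨z, hz⟩ = (⟨z, hz⟩ : ↥(stabilizer G a ⊓ stabilizer G b : Subgroup G))⁻¹ := by
    rw [← hx', map_mul, map_inv, hσ]
    group
  have h12 := congrArg Subtype.val h11
  rw [hσval] at h12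
  exact h12

end Invert

section Invol

variable {G : Type*} {Ω : Type*} [Group G] [Finite G] [MulAction G Ω] [Fintype Ω]

theorem card_two_point_eq
    (h2 : ∀ {a b c d : Ω}, a ≠ b → c ≠ d → ∃ g : G, g • a = c ∧ g • b = d)
    {a b c d : Ω} (hab : a ≠ b) (hcd : c ≠ d) :
    Nat.card ↥(stabilizer G c ⊓ stabilizer G d : Subgroup G) =
      Nat.card ↥(stabilizer G a ⊓ stabilizer G b : Subgroup G) := by
  rw [← Zass.card_transporter h2 hab hcd hcd]
  apply Nat.card_congr
  exact Equiv.subtypeEquivRight (fun g => by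
    rw [Subgroup.mem_inf, mem_stabilizer_iff, mem_stabilizer_iff])

theorem mul_self_of_orderOf {s : G} (hs : orderOf s = 2) : s * s = 1 := by
  rw [← pow_two, ← hs, pow_orderOf_eq_one]

theorem ne_one_of_orderOf {s : G} (hs : orderOf s = 2) : s ≠ 1 := by
  intro h
  rw [h, orderOf_one] at hs
  omega

theorem orderOf_eq_two {s : G} (hs : s * s = 1) (h1 : s ≠ 1) : orderOf s = 2 := by
  haveI : Fact (Nat.Prime 2) := ⟨Nat.prime_two⟩
  exact orderOf_eq_prime (by rw [pow_two, hs]) h1

/-- The involutions swapping `a` and `b` form a coset of the two point stabilizer. -/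
theorem card_swap (hZ : IsZassenhausGroup G Ω) [IsSimpleGroup G] {a b : Ω} (hab : a ≠ b)
    (hodd : Odd (Nat.card ↥(stabilizer G a ⊓ stabilizer G b : Subgroup G))) :
    Nat.card {s : G // orderOf s = 2 ∧ s • a = b ∧ s • b = a} =
      Nat.card ↥(stabilizer G a ⊓ stabilizer G b : Subgroup G) := by
  obtain ⟨⟨t, ht2, hta, htb⟩, -, -⟩ := Cfsg.Agent.S0740.result hZ hab
  have ht : t * t = 1 := mul_self_of_orderOf ht2
  have htinv : t⁻¹ = t := inv_eq_of_mul_eq_one_left ht
  have hinv := inverts hZ hab hodd t ht hta htb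
  symm
  apply Nat.card_congr
  refine ⟨fun z => ⟨t * z, ?_, ?_, ?_⟩, fun s => ⟨t⁻¹ * s, ?_⟩, ?_, ?_⟩
  · have hz := hinv z z.2
    rw [htinv] at hz
    apply orderOf_eq_two
    · calc t * (z : G) * (t * (z : G)) = (t * (z : G) * t) * (z : G) := by group
        _ = 1 := by rw [hz]; group
    · intro h
      have h5 : (t * (z : G)) • a = b := by
        rw [mul_smul, (mem_stabilizer_iff.mp (Subgroup.mem_inf.mp z.2).1), hta]
      rw [h, one_smul] at h5
      exact hab h5
  · rw [mul_smul, (mem_stabilizer_iff.mp (Subgroup.mem_inf.mp z.2).1), hta]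
  · rw [mul_smul, (mem_stabilizer_iff.mp (Subgroup.mem_inf.mp z.2).2), htb]
  · obtain ⟨s, hs2, hsa, hsb⟩ := s
    rw [Subgroup.mem_inf, mem_stabilizer_iff, mem_stabilizer_iff]
    constructor
    · show (t⁻¹ * s) • a = a
      rw [mul_smul, hsa, inv_smul_eq_iff, hta]
    · show (t⁻¹ * s) • b = b
      rw [mul_smul, hsb, inv_smul_eq_iff, htb]
  · intro z
    apply Subtype.ext
    show t⁻¹ * (t * (z : G)) = z
    group
  · intro s
    apply Subtype.ext
    show t * (t⁻¹ * (s : G)) = s
    group

/-- Two involutions swapping `a` and `b` are conjugate. -/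
theorem swap_isConj (hZ : IsZassenhausGroup G Ω) [IsSimpleGroup G] {a b : Ω} (hab : a ≠ b)
    (hodd : Odd (Nat.card ↥(stabilizer G a ⊓ stabilizer G b : Subgroup G)))
    (s s' : G) (hs : orderOf s = 2) (hsa : s • a = b) (hsb : s • b = a)
    (hsa' : s' • a = b) (hsb' : s' • b = a) : IsConj s s' := by
  have ht : s * s = 1 := mul_self_of_orderOf hs
  have htinv : s⁻¹ = s := inv_eq_of_mul_eq_one_left ht
  have hinv := inverts hZ hab hodd s ht hsa hsb
  have hzE : s⁻¹ * s' ∈ (stabilizer G a ⊓ stabilizer G b : Subgroup G) := by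
    rw [Subgroup.mem_inf, mem_stabilizer_iff, mem_stabilizer_iff]
    constructor
    · rw [mul_smul, hsa', inv_smul_eq_iff, hsa]
    · rw [mul_smul, hsb', inv_smul_eq_iff, hsb]
  obtain ⟨k, hk⟩ := hodd
  have hs' : s' = s * (s⁻¹ * s') := by group
  generalize s⁻¹ * s' = z at hzE hs'
  have hzpow : z ^ (2 * k + 1) = 1 := by
    have := pow_card_eq_one' (G := ↥(stabilizer G a ⊓ stabilizer G b : Subgroup G))
      (x := ⟨z, hzE⟩)
    rw [hk] at this
    exact congrArg Subtype.val this
  have hwE : z ^ (k + 1) ∈ (stabilizer G a ⊓ stabilizer G b : Subgroup G) :=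
    Subgroup.pow_mem _ hzE _
  have hww : z ^ (k + 1) * z ^ (k + 1) = z := by
    rw [← pow_add]
    have : k + 1 + (k + 1) = (2 * k + 1) + 1 := by ring
    rw [this, pow_succ, hzpow, one_mul]
  have hw := hinv _ hwE
  rw [htinv] at hw
  rw [isConj_iff]
  refine ⟨(z ^ (k + 1))⁻¹, ?_⟩
  rw [inv_inv]
  -- w⁻¹ s w = s (s w⁻¹ s) w = s w w
  have h6 : s * (z ^ (k + 1))⁻¹ * s = z ^ (k + 1) := by
    have : s * (z ^ (k + 1))⁻¹ * s = (s * z ^ (k + 1) * s)⁻¹ := by
      rw [mul_inv_rev, mul_inv_rev, htinv, mul_assoc]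
    rw [this, hw, inv_inv]
  calc (z ^ (k + 1))⁻¹ * s * z ^ (k + 1)
      = (s * s) * (z ^ (k + 1))⁻¹ * s * z ^ (k + 1) := by rw [ht, one_mul]
    _ = s * (s * (z ^ (k + 1))⁻¹ * s) * z ^ (k + 1) := by group
    _ = s * (z ^ (k + 1) * z ^ (k + 1)) := by rw [h6]; group
    _ = s' := by rw [hww, hs']

/-- Every involution swaps two points. -/
theorem exists_swap (hZ : IsZassenhausGroup G Ω) (s : G) (hs : orderOf s = 2) :
    ∃ c d : Ω, c ≠ d ∧ s • c = d ∧ s • d = c := by
  have hfaith := hZ.1
  have : ∃ c : Ω, s • c ≠ c := by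
    by_contra hcon
    push Not at hcon
    apply ne_one_of_orderOf hs
    apply hfaith.eq_of_smul_eq_smul
    intro ω
    rw [hcon, one_smul]
  obtain ⟨c, hc⟩ := this
  refine ⟨c, s • c, Ne.symm hc, rfl, ?_⟩
  rw [← mul_smul, mul_self_of_orderOf hs, one_smul]

/-- The number of fixed points of an involution. -/
theorem fix_invol (hZ : IsZassenhausGroup G Ω) {a b : Ω} (hab : a ≠ b)
    (hodd : Odd (Nat.card ↥(stabilizer G a ⊓ stabilizer G b : Subgroup G)))
    (s : G) (hs : orderOf s = 2) :
    (Odd (Fintype.card Ω) → Nat.card (fixedBy Ω s) = 1) ∧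
      (Even (Fintype.card Ω) → Nat.card (fixedBy Ω s) = 0) := by
  obtain ⟨c, d, hcd, hsc, hsd⟩ := exists_swap hZ s hs
  have h := (Cfsg.Agent.S0740.result hZ hcd).2.1 s hs hsc hsd
  refine ⟨h.1, fun hev => ?_⟩
  rcases h.2 hev with h0 | h2'
  · exact h0
  · exfalso
    obtain ⟨x, y, hxy, -⟩ := Nat.card_eq_two_iff.mp h2'
    have hxy' : (x : Ω) ≠ (y : Ω) := fun h => hxy (Subtype.ext h)
    have h2 := hZ.2.1
    rw [is_two_pretransitive_iff] at h2
    have hcard := card_two_point_eq h2 hab hxy'
    have hsE : s ∈ (stabilizer G (x : Ω) ⊓ stabilizer G (y : Ω) : Subgroup G) := by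
      rw [Subgroup.mem_inf, mem_stabilizer_iff, mem_stabilizer_iff]
      exact ⟨x.2, y.2⟩
    have hdvd : orderOf (⟨s, hsE⟩ : ↥(stabilizer G (x : Ω) ⊓ stabilizer G (y : Ω) : Subgroup G)) ∣
        Nat.card ↥(stabilizer G (x : Ω) ⊓ stabilizer G (y : Ω) : Subgroup G) :=
      orderOf_dvd_natCard _
    rw [hcard, Subgroup.orderOf_mk, hs] at hdvd
    exact (Nat.not_even_iff_odd.mpr hodd) (even_iff_two_dvd.mpr hdvd)

end Invol

section CountInvol

variable {G : Type*} {Ω : Type*} [Group G] [Finite G] [MulAction G Ω] [Fintype Ω]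

/-- Double counting of the pairs (involution, moved point). -/
theorem card_invol_mul (hZ : IsZassenhausGroup G Ω) [IsSimpleGroup G] {a b : Ω} (hab : a ≠ b)
    (hodd : Odd (Nat.card ↥(stabilizer G a ⊓ stabilizer G b : Subgroup G))) (f : ℕ)
    (hf : ∀ s : G, orderOf s = 2 → Nat.card (fixedBy Ω s) = f) :
    Nat.card {x : G // orderOf x = 2} * (Fintype.card Ω - f) =
      Fintype.card Ω * ((Fintype.card Ω - 1) *
        Nat.card ↥(stabilizer G a ⊓ stabilizer G b : Subgroup G)) := by
  classical
  haveI : Fintype G := Fintype.ofFinite G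
  have h2 := hZ.2.1
  rw [is_two_pretransitive_iff] at h2
  -- the set of involutions
  have hI : Nat.card {x : G // orderOf x = 2} =
      (Finset.univ.filter (fun x : G => orderOf x = 2)).card := by
    rw [Nat.card_eq_fintype_card, Fintype.card_subtype]
  -- moved points of an involution
  have hmoved : ∀ s : G, orderOf s = 2 →
      (Finset.univ.filter (fun c : Ω => s • c ≠ c)).card = Fintype.card Ω - f := by
    intro s hs
    have h1 : (Finset.univ.filter (fun c : Ω => s • c = c)).card = f := by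
      rw [← hf s hs, Nat.card_eq_fintype_card]
      symm
      apply Fintype.card_of_subtype
      intro x
      rw [Finset.mem_filter]
      simp [mem_fixedBy]
    have h3 := Finset.card_filter_add_card_filter_not (s := (Finset.univ : Finset Ω))
      (fun c : Ω => s • c = c)
    rw [Finset.card_univ, h1] at h3
    have h4 : (Finset.univ.filter (fun c : Ω => s • c ≠ c)).card =
        (Finset.univ.filter (fun c : Ω => ¬ s • c = c)).card := rfl
    rw [h4]
    omega
  -- involutions sending c to d
  have hcd : ∀ c d : Ω, c ≠ d →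
      (Finset.univ.filter (fun x : G => orderOf x = 2 ∧ x • c = d)).card =
        Nat.card ↥(stabilizer G a ⊓ stabilizer G b : Subgroup G) := by
    intro c d hcd
    have hodd' : Odd (Nat.card ↥(stabilizer G c ⊓ stabilizer G d : Subgroup G)) := by
      rw [card_two_point_eq h2 hab hcd]; exact hodd
    rw [← card_two_point_eq h2 hab hcd, ← card_swap hZ hcd hodd', Nat.card_eq_fintype_card,
      Fintype.card_subtype]
    congr 1
    apply Finset.filter_congr
    intro x _
    constructor
    · rintro ⟨hx, hxc⟩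
      refine ⟨hx, hxc, ?_⟩
      rw [← hxc, ← mul_smul, mul_self_of_orderOf hx, one_smul]
    · rintro ⟨hx, hxc, -⟩
      exact ⟨hx, hxc⟩
  -- double count
  have hL : ∑ s ∈ Finset.univ.filter (fun x : G => orderOf x = 2),
      (Finset.univ.filter (fun c : Ω => s • c ≠ c)).card =
      (Finset.univ.filter (fun x : G => orderOf x = 2)).card * (Fintype.card Ω - f) := by
    rw [Finset.sum_congr rfl (fun s hs => hmoved s (Finset.mem_filter.mp hs).2), Finset.sum_const,
      smul_eq_mul]
  have hR : ∑ s ∈ Finset.univ.filter (fun x : G => orderOf x = 2),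
      (Finset.univ.filter (fun c : Ω => s • c ≠ c)).card =
      Fintype.card Ω * ((Fintype.card Ω - 1) *
        Nat.card ↥(stabilizer G a ⊓ stabilizer G b : Subgroup G)) := by
    simp only [Finset.card_filter]
    rw [Finset.sum_comm]
    have h5 : ∀ c : Ω, (∑ s ∈ Finset.univ.filter (fun x : G => orderOf x = 2),
        if s • c ≠ c then 1 else 0) = (Fintype.card Ω - 1) *
          Nat.card ↥(stabilizer G a ⊓ stabilizer G b : Subgroup G) := by
      intro c
      rw [← Finset.card_filter, Finset.filter_filter]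
      rw [Finset.card_eq_sum_card_fiberwise (f := fun s : G => s • c) (t := Finset.univ)
        (fun _ _ => Finset.mem_coe.2 (Finset.mem_univ _))]
      have h6 : ∀ d : Ω, ((Finset.univ.filter (fun x : G => orderOf x = 2 ∧ x • c ≠ c)).filter
          (fun s => s • c = d)).card = if d = c then 0
            else Nat.card ↥(stabilizer G a ⊓ stabilizer G b : Subgroup G) := by
        intro d
        rw [Finset.filter_filter]
        split_ifs with h
        · rw [Finset.card_eq_zero, Finset.filter_eq_empty_iff]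
          rintro x - ⟨⟨-, hx1⟩, hx2⟩
          exact hx1 (hx2.trans h)
        · rw [← hcd c d (Ne.symm h)]
          congr 1
          apply Finset.filter_congr
          intro x _
          constructor
          · rintro ⟨⟨hx, -⟩, hxc⟩
            exact ⟨hx, hxc⟩
          · rintro ⟨hx, hxc⟩
            refine ⟨⟨hx, ?_⟩, hxc⟩
            rw [hxc]; exact h
      rw [Finset.sum_congr rfl (fun d _ => h6 d), Finset.sum_ite, Finset.sum_const_zero, zero_add,
        Finset.sum_const, smul_eq_mul, Finset.filter_ne', Finset.card_erase_of_mem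
        (Finset.mem_univ _), Finset.card_univ]
    rw [Finset.sum_congr rfl (fun c _ => h5 c), Finset.sum_const, smul_eq_mul, Finset.card_univ]
  rw [hI, ← hL, hR]

end CountInvol

section Kernel

variable {G : Type*} {Ω : Type*} [Group G] [Finite G] [MulAction G Ω] [Fintype Ω]

/-- An element of the point stabilizer outside the kernel fixes a second point. -/
theorem exists_fixed_of_not_mem (hZ : IsZassenhausGroup G Ω) {a b : Ω} (hab : a ≠ b)
    (H : Subgroup G) (hHa : H ≤ stabilizer G a) (hHcard : Nat.card H + 1 = Fintype.card Ω)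
    (hHfix : ∀ u ∈ H, u ≠ 1 → ∀ c : Ω, u • c = c → c = a) (g : G) (hga : g • a = a)
    (hgH : g ∉ H) : ∃ c : Ω, c ≠ a ∧ g • c = c := by
  classical
  haveI : Fintype G := Fintype.ofFinite G
  have hnorm := (Cfsg.Agent.S0878.result hZ a H hHa hHcard hHfix).2
  obtain ⟨h₀, hh₀, y, hy, hgy⟩ := Zass.exists_mul_eq hZ hab H hHa hHcard hHfix g
    (mem_stabilizer_iff.mpr hga)
  have h3 := hZ.2.2.1
  have hya : y • a = a := mem_stabilizer_iff.mp (Subgroup.mem_inf.mp hy).1
  have hyb : y • b = b := mem_stabilizer_iff.mp (Subgroup.mem_inf.mp hy).2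
  have hy1 : y ≠ 1 := by
    intro h
    apply hgH
    rw [hgy, h, mul_one]
    exact hh₀
  have hyN : y ∈ Subgroup.normalizer (H : Set G) := by
    rw [hnorm]; exact mem_stabilizer_iff.mpr hya
  have hconj : ∀ k ∈ H, y * k * y⁻¹ ∈ H := fun k hk =>
    (Subgroup.mem_normalizer_iff.mp hyN k).mp hk
  let κ : ↥H → ↥H := fun k => ⟨(k : G) * (y * (k : G)⁻¹ * y⁻¹),
    H.mul_mem k.2 (hconj _ (H.inv_mem k.2))⟩
  have hκinj : Function.Injective κ := by
    intro k k' hkk
    have h1 : (k : G) * (y * (k : G)⁻¹ * y⁻¹) = (k' : G) * (y * (k' : G)⁻¹ * y⁻¹) :=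
      congrArg Subtype.val hkk
    -- (k'⁻¹ k) commutes with y
    have h4 : ((k' : G)⁻¹ * (k : G)) * y = y * ((k' : G)⁻¹ * (k : G)) := by
      have h5 : (k : G) * y * (k : G)⁻¹ = (k' : G) * y * (k' : G)⁻¹ := by
        have : (k : G) * y * (k : G)⁻¹ = ((k : G) * (y * (k : G)⁻¹ * y⁻¹)) * y := by group
        rw [this, h1]; group
      calc ((k' : G)⁻¹ * (k : G)) * y = (k' : G)⁻¹ * ((k : G) * y * (k : G)⁻¹) * (k : G) := by group
        _ = (k' : G)⁻¹ * ((k' : G) * y * (k' : G)⁻¹) * (k : G) := by rw [h5]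
        _ = y * ((k' : G)⁻¹ * (k : G)) := by group
    have h6 : (k' : G)⁻¹ * (k : G) ∈ H := H.mul_mem (H.inv_mem k'.2) k.2
    have h7 : (k' : G)⁻¹ * (k : G) = 1 := by
      by_contra hne
      -- y fixes (k'⁻¹ k) • b
      have h8 : y • (((k' : G)⁻¹ * (k : G)) • b) = ((k' : G)⁻¹ * (k : G)) • b := by
        rw [← mul_smul, ← h4, mul_smul, hyb]
      have h9 : ((k' : G)⁻¹ * (k : G)) • a = a := mem_stabilizer_iff.mp (hHa h6)
      have hne1 : a ≠ ((k' : G)⁻¹ * (k : G)) • b := by
        intro h
        apply hab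
        have : ((k' : G)⁻¹ * (k : G)) • a = ((k' : G)⁻¹ * (k : G)) • b := by rw [h9]; exact h
        exact MulAction.injective _ this
      have hne2 : b ≠ ((k' : G)⁻¹ * (k : G)) • b := by
        intro h
        exact hab (hHfix _ h6 hne b h.symm).symm
      exact hy1 (h3 y a b _ hab hne2 hne1 hya hyb h8)
    apply Subtype.ext
    calc (k : G) = (k' : G) * ((k' : G)⁻¹ * (k : G)) := by group
      _ = k' := by rw [h7, mul_one]
  obtain ⟨k, hk⟩ := Finite.surjective_of_injective hκinj ⟨h₀, hh₀⟩
  have hk' : (k : G) * (y * (k : G)⁻¹ * y⁻¹) = h₀ := congrArg Subtype.val hk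
  have hka : (k : G) • a = a := mem_stabilizer_iff.mp (hHa k.2)
  refine ⟨(k : G) • b, ?_, ?_⟩
  · intro h
    apply hab
    have : (k : G) • a = (k : G) • b := by rw [hka]; exact h.symm
    exact MulAction.injective _ this
  · have h10 : g * (k : G) = (k : G) * y := by
      rw [hgy, ← hk']; group
    rw [← mul_smul, h10, mul_smul, hyb]

/-- A conjugation invariant set containing `x` bounds the index of the centralizer. -/
theorem card_le_mul_centralizer {G : Type*} [Group G] [Fintype G] [DecidableEq G]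
    (K : Subgroup G) (x : G) (J : Finset G)
    (hJ : ∀ g ∈ K, g * x * g⁻¹ ∈ J) :
    Nat.card K ≤ J.card * Nat.card ↥(Subgroup.centralizer {x} ⊓ K : Subgroup G) := by
  classical
  have hK : Nat.card K = (Finset.univ.filter (fun g : G => g ∈ K)).card := by
    rw [Nat.card_eq_fintype_card, Fintype.card_subtype]
  have hC : Nat.card ↥(Subgroup.centralizer {x} ⊓ K : Subgroup G) =
      (Finset.univ.filter (fun g : G => g ∈ (Subgroup.centralizer {x} ⊓ K : Subgroup G))).card := by
    rw [Nat.card_eq_fintype_card, Fintype.card_subtype]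
  rw [hK, hC]
  rw [Finset.card_eq_sum_card_fiberwise (f := fun g : G => g * x * g⁻¹) (t := J)
    (fun g hg => hJ g (Finset.mem_filter.mp hg).2)]
  rw [← smul_eq_mul, ← Finset.sum_const]
  apply Finset.sum_le_sum
  intro j _
  by_cases hne : ((Finset.univ.filter (fun g : G => g ∈ K)).filter
      (fun g => g * x * g⁻¹ = j)).Nonempty
  · obtain ⟨g₀, hg₀⟩ := hne
    rw [Finset.mem_filter, Finset.mem_filter] at hg₀
    apply Finset.card_le_card_of_injOn (fun g => g₀⁻¹ * g)
    · intro g hg
      have hg' := Finset.mem_coe.mp hg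
      rw [Finset.mem_filter, Finset.mem_filter] at hg'
      rw [Finset.mem_coe, Finset.mem_filter]
      refine ⟨Finset.mem_univ _, ?_⟩
      rw [Subgroup.mem_inf, Subgroup.mem_centralizer_singleton_iff]
      constructor
      · have h1 : g * x * g⁻¹ = g₀ * x * g₀⁻¹ := by rw [hg'.2, hg₀.2]
        calc g₀⁻¹ * g * x = g₀⁻¹ * (g * x * g⁻¹) * g := by group
          _ = g₀⁻¹ * (g₀ * x * g₀⁻¹) * g := by rw [h1]
          _ = x * (g₀⁻¹ * g) := by group
      · exact K.mul_mem (K.inv_mem hg₀.1.2) hg'.1.2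
    · intro g _ g' _ h
      exact mul_left_cancel h
  · rw [Finset.not_nonempty_iff_eq_empty] at hne
    rw [hne, Finset.card_empty]
    exact Nat.zero_le _

end Kernel

section InvolFix

variable {G : Type*} {Ω : Type*} [Group G] [Finite G] [MulAction G Ω] [Fintype Ω]

/-- For an odd number of points, the number of involutions fixing a given point is the order of
the two point stabilizer. -/
theorem card_invol_fix [Fintype G] [DecidableEq Ω] (hZ : IsZassenhausGroup G Ω) [IsSimpleGroup G]
    {a b : Ω} (hab : a ≠ b)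
    (hodd : Odd (Nat.card ↥(stabilizer G a ⊓ stabilizer G b : Subgroup G)))
    (hn : Odd (Fintype.card Ω)) :
    (Finset.univ.filter (fun s : G => orderOf s = 2 ∧ s • a = a)).card =
      Nat.card ↥(stabilizer G a ⊓ stabilizer G b : Subgroup G) := by
  classical
  have h2 := hZ.2.1
  rw [is_two_pretransitive_iff] at h2
  have hf : ∀ s : G, orderOf s = 2 → Nat.card (fixedBy Ω s) = 1 := fun s hs =>
    (fix_invol hZ hab hodd s hs).1 hn
  have hI := card_invol_mul hZ hab hodd 1 hf
  have hn3 := three_le_card hZ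
  have hI' : Nat.card {x : G // orderOf x = 2} =
      Fintype.card Ω * Nat.card ↥(stabilizer G a ⊓ stabilizer G b : Subgroup G) := by
    apply Nat.eq_of_mul_eq_mul_right (show 0 < Fintype.card Ω - 1 by omega)
    rw [hI]; ring
  -- all points have the same count
  have hsame : ∀ c : Ω, (Finset.univ.filter (fun s : G => orderOf s = 2 ∧ s • c = c)).card =
      (Finset.univ.filter (fun s : G => orderOf s = 2 ∧ s • a = a)).card := by
    intro c
    by_cases hca : c = a
    · rw [hca]
    · obtain ⟨g, hga, -⟩ := h2 hab hca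
      apply Finset.card_nbij' (fun s => g⁻¹ * s * g) (fun s => g * s * g⁻¹)
      · intro s hs
        have hs' := Finset.mem_coe.mp hs
        rw [Finset.mem_filter] at hs'
        rw [Finset.mem_coe, Finset.mem_filter]
        refine ⟨Finset.mem_univ _, ?_, ?_⟩
        · show orderOf (g⁻¹ * s * g) = 2
          have : g⁻¹ * s * g = MulAut.conj g⁻¹ s := by simp [MulAut.conj_apply]
          rw [this, MulEquiv.orderOf_eq, hs'.2.1]
        · show (g⁻¹ * s * g) • a = a
          rw [mul_smul, mul_smul, hga, hs'.2.2, ← hga, inv_smul_smul]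
      · intro s hs
        have hs' := Finset.mem_coe.mp hs
        rw [Finset.mem_filter] at hs'
        rw [Finset.mem_coe, Finset.mem_filter]
        refine ⟨Finset.mem_univ _, ?_, ?_⟩
        · show orderOf (g * s * g⁻¹) = 2
          have : g * s * g⁻¹ = MulAut.conj g s := by simp [MulAut.conj_apply]
          rw [this, MulEquiv.orderOf_eq, hs'.2.1]
        · show (g * s * g⁻¹) • c = c
          rw [mul_smul, mul_smul, ← hga, inv_smul_smul, hs'.2.2]
      · intro s _
        show g * (g⁻¹ * s * g) * g⁻¹ = s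
        group
      · intro s _
        show g⁻¹ * (g * s * g⁻¹) * g = s
        group
  -- double count
  have hsum : ∑ c : Ω, (Finset.univ.filter (fun s : G => orderOf s = 2 ∧ s • c = c)).card =
      Nat.card {x : G // orderOf x = 2} := by
    simp only [Finset.card_filter]
    rw [Finset.sum_comm]
    rw [Nat.card_eq_fintype_card, Fintype.card_subtype, Finset.card_filter]
    apply Finset.sum_congr rfl
    intro s _
    by_cases hs : orderOf s = 2
    · rw [if_pos hs]
      have h1 : (Finset.univ.filter (fun c : Ω => s • c = c)).card = 1 := by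
        rw [← hf s hs, Nat.card_eq_fintype_card]
        symm
        apply Fintype.card_of_subtype
        intro x
        rw [Finset.mem_filter]
        simp [mem_fixedBy]
      have h4 : (∑ c : Ω, if orderOf s = 2 ∧ s • c = c then 1 else 0) =
          (Finset.univ.filter (fun c : Ω => s • c = c)).card := by
        rw [Finset.card_filter]
        apply Finset.sum_congr rfl
        intro c _
        simp [hs]
      rw [h4, h1]
    · rw [if_neg hs]
      apply Finset.sum_eq_zero
      intro c _
      simp [hs]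
  rw [Finset.sum_congr rfl (fun c _ => hsame c), Finset.sum_const, smul_eq_mul, Finset.card_univ,
    hI'] at hsum
  exact Nat.eq_of_mul_eq_mul_left (show 0 < Fintype.card Ω by omega) hsum

end InvolFix

end Cfsg.Agent.Helper5.ZassOdd
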