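import Mathlib

/-!
# Pairs of involutions with product in a given class (helper5)
-/

set_option autoImplicit false
set_option linter.unusedVariables false
set_option linter.unusedSectionVars false
set_option linter.style.haveILetI false

namespace Cfsg.Agent.Helper5.InvolPairs

variable {G : Type*} [Group G]

theorem mul_self_of_orderOf {s : G} (hs : orderOf s = 2) : s * s = 1 := by
  rw [← pow_two, ← hs, pow_orderOf_eq_one]

/-- an involution `x` inverts `x * y` when `y` is an involution -/
theorem conj_mul_eq_inv {x y : G} (hx : orderOf x = 2) (hy : orderOf y = 2) :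
    x * (x * y) * x⁻¹ = (x * y)⁻¹ := by
  have hxx := mul_self_of_orderOf hx
  have hyy := mul_self_of_orderOf hy
  have hxinv : x⁻¹ = x := inv_eq_of_mul_eq_one_left hxx
  have hyinv : y⁻¹ = y := inv_eq_of_mul_eq_one_left hyy
  rw [mul_inv_rev, hxinv, hyinv]
  calc x * (x * y) * x = (x * x) * y * x := by group
    _ = y * x := by rw [hxx, one_mul]

/-- The number of pairs of involutions with product in a given conjugacy class is at most the
group order. -/
theorem card_pairs_le [Fintype G] [DecidableEq G] [DecidableEq (ConjClasses G)]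
    (C : ConjClasses G) :
    (((Finset.univ.filter (fun x : G => orderOf x = 2)) ×ˢ
      (Finset.univ.filter (fun x : G => orderOf x = 2))).filter
        (fun p : G × G => ConjClasses.mk (p.1 * p.2) = C)).card ≤ Fintype.card G := by
  classical
  by_cases hne : (((Finset.univ.filter (fun x : G => orderOf x = 2)) ×ˢ
      (Finset.univ.filter (fun x : G => orderOf x = 2))).filter
        (fun p : G × G => ConjClasses.mk (p.1 * p.2) = C)).Nonempty
  · obtain ⟨⟨x₁, y₁⟩, h₁⟩ := hne
    rw [Finset.mem_filter, Finset.mem_product, Finset.mem_filter, Finset.mem_filter] at h₁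
    obtain ⟨⟨⟨-, hx₁⟩, ⟨-, hy₁⟩⟩, hC⟩ := h₁
    have hC' : ConjClasses.mk (x₁ * y₁) = C := hC
    have hinv₁ := conj_mul_eq_inv hx₁ hy₁
    -- choose conjugating elements
    have hex : ∀ u : G, ConjClasses.mk u = C → ∃ g : G, g * (x₁ * y₁) * g⁻¹ = u := by
      intro u hu
      rw [← hC', ConjClasses.mk_eq_mk_iff_isConj, isConj_comm, isConj_iff] at hu
      exact hu
    let gsel : G → G := fun u => if h : ConjClasses.mk u = C then Classical.choose (hex u h) else 1
    have hgsel : ∀ u : G, ConjClasses.mk u = C → gsel u * (x₁ * y₁) * (gsel u)⁻¹ = u := by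
      intro u hu
      simp only [gsel, dif_pos hu]
      exact Classical.choose_spec (hex u hu)
    rw [← Finset.card_univ]
    apply Finset.card_le_card_of_injOn
      (fun p : G × G => gsel (p.1 * p.2) * x₁ * (gsel (p.1 * p.2))⁻¹ * p.1 * gsel (p.1 * p.2))
    · intro p _
      exact Finset.mem_coe.mpr (Finset.mem_univ _)
    · -- recover the product from the image
      have hrec : ∀ p : G × G, orderOf p.1 = 2 → orderOf p.2 = 2 →
          ConjClasses.mk (p.1 * p.2) = C →
          (gsel (p.1 * p.2) * x₁ * (gsel (p.1 * p.2))⁻¹ * p.1 * gsel (p.1 * p.2)) * (x₁ * y₁) *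
            (gsel (p.1 * p.2) * x₁ * (gsel (p.1 * p.2))⁻¹ * p.1 * gsel (p.1 * p.2))⁻¹ =
              p.1 * p.2 := by
        rintro ⟨x, y⟩ hx hy hC2
        simp only at hx hy hC2 ⊢
        have hg := hgsel (x * y) hC2
        have hinv := conj_mul_eq_inv hx hy
        generalize gsel (x * y) = g at hg
        generalize x₁ * y₁ = u₀ at hg hinv₁
        generalize x * y = u at hg hinv
        -- w u₀ w⁻¹ with w = g x₁ g⁻¹ x g
        have h1 : g * x₁ * g⁻¹ * x * g * u₀ * (g * x₁ * g⁻¹ * x * g)⁻¹ =
            g * x₁ * g⁻¹ * (x * (g * u₀ * g⁻¹) * x⁻¹) * (g * x₁ * g⁻¹)⁻¹ := by group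
        rw [h1, hg, hinv]
        have h2 : u⁻¹ = g * u₀⁻¹ * g⁻¹ := by rw [← hg]; group
        rw [h2]
        have h3 : g * x₁ * g⁻¹ * (g * u₀⁻¹ * g⁻¹) * (g * x₁ * g⁻¹)⁻¹ =
            g * (x₁ * u₀ * x₁⁻¹)⁻¹ * g⁻¹ := by group
        rw [h3, hinv₁, inv_inv, hg]
      intro p hp p' hp' hpp
      have hp1 := Finset.mem_coe.mp hp
      have hp1' := Finset.mem_coe.mp hp'
      rw [Finset.mem_filter, Finset.mem_product, Finset.mem_filter, Finset.mem_filter] at hp1 hp1'
      have hu : p.1 * p.2 = p'.1 * p'.2 := by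
        rw [← hrec p hp1.1.1.2 hp1.1.2.2 hp1.2, ← hrec p' hp1'.1.1.2 hp1'.1.2.2 hp1'.2]
        simp only at hpp
        rw [hpp]
      simp only at hpp
      rw [hu] at hpp
      have hx : p.1 = p'.1 := by
        have := mul_right_cancel hpp
        exact mul_left_cancel this
      have hy : p.2 = p'.2 := by
        rw [hx] at hu
        exact mul_left_cancel hu
      exact Prod.ext hx hy
  · rw [Finset.not_nonempty_iff_eq_empty] at hne
    rw [hne, Finset.card_empty]
    exact Nat.zero_le _

end Cfsg.Agent.Helper5.InvolPairs
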