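import Mathlib
import Cfsg.Agent.Lib.Helper5.FeitZ9
import Cfsg.Agent.Lib.Helper5.ZassOdd
import Cfsg.Agent.Lib.Helper5.ZassChar
import Cfsg.Agent.Lib.Helper5.PermChar
import Cfsg.Agent.Lib.Helper1.FpfThompson
import Cfsg.Agent.S0157
import Cfsg.Agent.S0878
import Cfsg.Agent.S0740
import Cfsg.Agent.S0884

/-!
# Feit's theorem on Zassenhaus groups: the hypotheses in a simple Zassenhaus group (helper5)
-/

set_option autoImplicit false
set_option linter.unusedVariables false
set_option linter.unusedSectionVars false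
set_option linter.style.haveILetI false

namespace Cfsg.Agent.Helper5.FeitZ

open Cfsg Cfsg.Agent.Helper24 Cfsg.Agent.Helper5 Cfsg.Agent.Helper8 Cfsg.Agent.Helper18
open MulAction
open scoped ComplexConjugate

universe u v

section ZassGen

variable {G : Type u} {Ω : Type v} [Group G] [Finite G] [MulAction G Ω] [Fintype Ω]

/-- the centralizer of a nonidentity element of the kernel lies in the kernel -/
theorem zass_centralizer_le (hZ : IsZassenhausGroup G Ω) {a b : Ω} (hab : a ≠ b)
    (H : Subgroup G) (hHa : H ≤ stabilizer G a) (hHcard : Nat.card H + 1 = Fintype.card Ω)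
    (hHfix : ∀ u ∈ H, u ≠ 1 → ∀ c : Ω, u • c = c → c = a) :
    ∀ k ∈ H, k ≠ 1 → Subgroup.centralizer ({k} : Set G) ≤ H := by
  intro k hk hk1 x hx
  rw [Subgroup.mem_centralizer_singleton_iff] at hx
  have hka : k • a = a := mem_stabilizer_iff.mp (hHa hk)
  have hxa : x • a = a := by
    apply hHfix k hk hk1
    rw [← mul_smul, ← hx, mul_smul, hka]
  by_contra hxH
  obtain ⟨c, hca, hxc⟩ := ZassOdd.exists_fixed_of_not_mem hZ hab H hHa hHcard hHfix x hxa hxH
  have hkc : k • c ≠ c := fun h => hca (hHfix k hk hk1 c h)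
  have hkca : k • c ≠ a := by
    intro h
    apply hca
    rw [← hka] at h
    exact MulAction.injective k h
  have hxkc : x • (k • c) = k • c := by
    rw [← mul_smul, hx, mul_smul, hxc]
  have hx1 : x = 1 := hZ.2.2.1 x a c (k • c) (Ne.symm hca) (Ne.symm hkc) (Ne.symm hkca) hxa hxc hxkc
  exact hxH (hx1 ▸ H.one_mem)

/-- the kernel is nilpotent -/
theorem zass_nilpotent (hZ : IsZassenhausGroup G Ω) {a b : Ω} (hab : a ≠ b)
    (H : Subgroup G) (hHa : H ≤ stabilizer G a) (hHcard : Nat.card H + 1 = Fintype.card Ω)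
    (hHfix : ∀ u ∈ H, u ≠ 1 → ∀ c : Ω, u • c = c → c = a) : Group.IsNilpotent H := by
  classical
  have hnorm := (Cfsg.Agent.S0878.result hZ a H hHa hHcard hHfix).2
  have hC := zass_centralizer_le hZ hab H hHa hHcard hHfix
  have hEbot := ZassOdd.two_point_ne_bot hZ hab
  have hEcard : Nat.card ↥(stabilizer G a ⊓ stabilizer G b : Subgroup G) ≠ 1 :=
    fun h => hEbot (Subgroup.card_eq_one.mp h)
  obtain ⟨r, hr, hrdvd⟩ := Nat.exists_prime_and_dvd hEcard
  haveI : Fact r.Prime := ⟨hr⟩
  obtain ⟨t, ht⟩ := exists_prime_orderOf_dvd_card' r hrdvd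
  have ht1 : (t : G) ≠ 1 := by
    intro e
    have : t = 1 := Subtype.ext e
    rw [this, orderOf_one] at ht
    exact hr.one_lt.ne ht
  have htr : (t : G) ^ r = 1 := by
    have := pow_orderOf_eq_one t
    rw [ht] at this
    have h2 := congrArg Subtype.val this
    simpa using h2
  have htE := t.2
  rw [Subgroup.mem_inf, mem_stabilizer_iff, mem_stabilizer_iff] at htE
  have htN : (t : G) ∈ Subgroup.normalizer (H : Set G) := by
    rw [hnorm, mem_stabilizer_iff]
    exact htE.1
  haveI hKn : (H.subgroupOf (Subgroup.normalizer (H : Set G))).Normal :=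
    Subgroup.normal_in_normalizer
  obtain ⟨t', ht'⟩ : ∃ t' : ↥(Subgroup.normalizer (H : Set G)), (t' : G) = (t : G) :=
    ⟨⟨t, htN⟩, rfl⟩
  have ht'r : t' ^ r = 1 := by
    apply Subtype.ext
    rw [Subgroup.coe_pow, ht', htr, Subgroup.coe_one]
  have hφr : (MulAut.conjNormal (H := H.subgroupOf (Subgroup.normalizer (H : Set G))) t') ^ r
      = 1 := by
    rw [← map_pow, ht'r, map_one]
  have hφ : MonoidHom.FixedPointFree
      (MulAut.conjNormal (H := H.subgroupOf (Subgroup.normalizer (H : Set G))) t') := by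
    intro n hn
    by_contra hn1
    have h2 : (t : G) * ((n : ↥(Subgroup.normalizer (H : Set G))) : G) * (t : G)⁻¹ =
        ((n : ↥(Subgroup.normalizer (H : Set G))) : G) := by
      have h3 := congrArg Subtype.val (congrArg Subtype.val hn)
      simp only [MulEquiv.coe_toMonoidHom, MulAut.conjNormal_apply, Subgroup.coe_mul,
        Subgroup.coe_inv, ht'] at h3
      exact h3
    have hnH : ((n : ↥(Subgroup.normalizer (H : Set G))) : G) ∈ H :=
      Subgroup.mem_subgroupOf.mp n.2
    have hn1' : ((n : ↥(Subgroup.normalizer (H : Set G))) : G) ≠ 1 := by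
      intro h
      apply hn1
      apply Subtype.ext
      apply Subtype.ext
      exact h
    have htH : (t : G) ∈ H := by
      apply hC _ hnH hn1'
      rw [Subgroup.mem_centralizer_singleton_iff]
      calc (t : G) * ((n : ↥(Subgroup.normalizer (H : Set G))) : G)
          = ((t : G) * ((n : ↥(Subgroup.normalizer (H : Set G))) : G) * (t : G)⁻¹) * t := by
            group
        _ = ((n : ↥(Subgroup.normalizer (H : Set G))) : G) * t := by rw [h2]
    exact hab (hHfix t htH ht1 b htE.2).symm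
  have hnil' : Group.IsNilpotent ↥(H.subgroupOf (Subgroup.normalizer (H : Set G))) :=
    Cfsg.Agent.Helper1.Fpf.fpf_nilpotent _ hφ hr hφr
  exact (Group.isNilpotent_congr (Subgroup.subgroupOfEquivOfLe
    (Subgroup.le_normalizer (H := H)))).1 hnil'

/-- the order of the normalizer of the kernel -/
theorem zass_index (hZ : IsZassenhausGroup G Ω) {a b : Ω} (hab : a ≠ b)
    (H : Subgroup G) (hHa : H ≤ stabilizer G a) (hHcard : Nat.card H + 1 = Fintype.card Ω)
    (hHfix : ∀ u ∈ H, u ≠ 1 → ∀ c : Ω, u • c = c → c = a) :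
    (H.subgroupOf (Subgroup.normalizer (H : Set G))).index =
      Nat.card ↥(stabilizer G a ⊓ stabilizer G b : Subgroup G) := by
  classical
  haveI : Fintype G := Fintype.ofFinite G
  have hnorm := (Cfsg.Agent.S0878.result hZ a H hHa hHcard hHfix).2
  have h2 := hZ.2.1
  haveI : IsPretransitive G Ω := @isPretransitive_of_is_two_pretransitive G Ω _ _ h2
  rw [MulAction.is_two_pretransitive_iff] at h2
  have h1 := Zass.card_eq h2 hab
  have h3 := card_normalizer_eq H
  have h4 : Nat.card ↥(Subgroup.normalizer (H : Set G)) = Nat.card ↥(stabilizer G a) := by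
    rw [hnorm]
  have h5 := (stabilizer G a).card_mul_index
  rw [MulAction.index_stabilizer_of_transitive, Nat.card_eq_fintype_card (α := Ω),
    Nat.card_eq_fintype_card (α := G), h1] at h5
  have hpos : 0 < Fintype.card Ω := Fintype.card_pos_iff.mpr ⟨a⟩
  have hHpos : 0 < Nat.card H := Nat.card_pos
  have h6 : Nat.card ↥(stabilizer G a) = (Fintype.card Ω - 1) *
      Nat.card ↥(stabilizer G a ⊓ stabilizer G b : Subgroup G) := by
    have : Fintype.card Ω * Nat.card ↥(stabilizer G a) = Fintype.card Ω * ((Fintype.card Ω - 1) *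
        Nat.card ↥(stabilizer G a ⊓ stabilizer G b : Subgroup G)) := by
      rw [← h5]; ring
    exact Nat.eq_of_mul_eq_mul_left hpos this
  rw [h4, h6, ← hHcard, Nat.add_sub_cancel] at h3
  exact (Nat.eq_of_mul_eq_mul_left hHpos h3).symm

end ZassGen

section ZassSimple

variable {G : Type u} {Ω : Type v} [Group G] [Fintype G] [MulAction G Ω] [Fintype Ω]

/-- the two point stabilizer of odd order of a simple Zassenhaus group is commutative -/
theorem zass_two_point_comm (hZ : IsZassenhausGroup G Ω) [IsSimpleGroup G] {a b : Ω}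
    (hab : a ≠ b) (hodd : Odd (Nat.card ↥(stabilizer G a ⊓ stabilizer G b : Subgroup G))) :
    ∀ z ∈ (stabilizer G a ⊓ stabilizer G b : Subgroup G),
      ∀ w ∈ (stabilizer G a ⊓ stabilizer G b : Subgroup G), z * w = w * z := by
  obtain ⟨⟨t, ht2, hta, htb⟩, -, -⟩ := Cfsg.Agent.S0740.result hZ hab
  have ht : t * t = 1 := ZassOdd.mul_self_of_orderOf ht2
  have hinv := ZassOdd.inverts hZ hab hodd t ht hta htb
  intro z hz w hw
  have h1 := hinv z hz
  have h2 := hinv w hw
  have h3 := hinv (z * w) (Subgroup.mul_mem _ hz hw)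
  have h4 : t * (z * w) * t⁻¹ = (t * z * t⁻¹) * (t * w * t⁻¹) := by group
  rw [h4, h1, h2, mul_inv_rev] at h3
  have h5 : (z⁻¹ * w⁻¹)⁻¹ = (w⁻¹ * z⁻¹)⁻¹ := by rw [h3]
  rw [mul_inv_rev, mul_inv_rev, inv_inv, inv_inv] at h5
  exact h5.symm

/-- the normalizer of the kernel is commutative modulo the kernel -/
theorem zass_quotient_comm (hZ : IsZassenhausGroup G Ω) [IsSimpleGroup G] {a b : Ω}
    (hab : a ≠ b) (hodd : Odd (Nat.card ↥(stabilizer G a ⊓ stabilizer G b : Subgroup G)))
    (H : Subgroup G) (hHa : H ≤ stabilizer G a) (hHcard : Nat.card H + 1 = Fintype.card Ω)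
    (hHfix : ∀ u ∈ H, u ≠ 1 → ∀ c : Ω, u • c = c → c = a) :
    ∀ x y : ↥(Subgroup.normalizer (H : Set G)),
      x * y * x⁻¹ * y⁻¹ ∈ H.subgroupOf (Subgroup.normalizer (H : Set G)) := by
  classical
  have hnorm := (Cfsg.Agent.S0878.result hZ a H hHa hHcard hHfix).2
  have hcomm := zass_two_point_comm hZ hab hodd
  haveI hKn : (H.subgroupOf (Subgroup.normalizer (H : Set G))).Normal :=
    Subgroup.normal_in_normalizer
  have hEN : (stabilizer G a ⊓ stabilizer G b : Subgroup G) ≤
      Subgroup.normalizer (H : Set G) := by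
    rw [hnorm]
    exact inf_le_left
  have hrep : ∀ x : ↥(Subgroup.normalizer (H : Set G)),
      ∃ y : ↥(Subgroup.normalizer (H : Set G)),
        (y : G) ∈ (stabilizer G a ⊓ stabilizer G b : Subgroup G) ∧
        (QuotientGroup.mk x : ↥(Subgroup.normalizer (H : Set G)) ⧸
          H.subgroupOf (Subgroup.normalizer (H : Set G))) = QuotientGroup.mk y := by
    intro x
    have hx : (x : G) ∈ stabilizer G a := hnorm ▸ x.2
    obtain ⟨h, hh, y, hy, hxy⟩ := Zass.exists_mul_eq hZ hab H hHa hHcard hHfix (x : G) hx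
    refine ⟨⟨y, hEN hy⟩, hy, ?_⟩
    have hx' : x = (⟨h, Subgroup.le_normalizer hh⟩ : ↥(Subgroup.normalizer (H : Set G))) *
        ⟨y, hEN hy⟩ := Subtype.ext hxy
    rw [hx', QuotientGroup.mk_mul]
    have h1 : (QuotientGroup.mk (⟨h, Subgroup.le_normalizer hh⟩ :
        ↥(Subgroup.normalizer (H : Set G))) : ↥(Subgroup.normalizer (H : Set G)) ⧸
          H.subgroupOf (Subgroup.normalizer (H : Set G))) = 1 := by
      rw [QuotientGroup.eq_one_iff]
      exact Subgroup.mem_subgroupOf.mpr hh
    rw [h1, one_mul]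
  intro x y
  obtain ⟨x', hx'E, hx'⟩ := hrep x
  obtain ⟨y', hy'E, hy'⟩ := hrep y
  rw [← QuotientGroup.eq_one_iff, QuotientGroup.mk_mul, QuotientGroup.mk_mul,
    QuotientGroup.mk_mul, QuotientGroup.mk_inv, QuotientGroup.mk_inv, hx', hy',
    ← QuotientGroup.mk_mul]
  have h1 : x' * y' = y' * x' := Subtype.ext (hcomm _ hx'E _ hy'E)
  rw [h1, QuotientGroup.mk_mul]
  group

end ZassSimple

/-- transport of the statement on induced linear characters along an equality of subgroups -/
theorem transport_P2 {G : Type u} [Group G] [Fintype G] (H : Subgroup G) {L M : Subgroup G}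
    (hLM : M = L)
    (hL : ∀ μ : ↥L → ℂ, IsCharacter ↥L μ → μ 1 = 1 → (∀ u : ↥L, (u : G) ∈ H → μ u = 1) →
      μ ≠ (fun _ => (1 : ℂ)) → IsIrrCharacter G (indFun L μ) ∧
        ∀ u ∈ H, u ≠ 1 → indFun L μ u = 1) :
    ∀ μ : ↥M → ℂ, IsCharacter ↥M μ → μ 1 = 1 → (∀ u : ↥M, (u : G) ∈ H → μ u = 1) →
      μ ≠ (fun _ => (1 : ℂ)) → IsIrrCharacter G (indFun M μ) ∧
        ∀ u ∈ H, u ≠ 1 → indFun M μ u = 1 := by
  subst hLM
  exact hL

/-- the function induced from the principal character along equal subgroups -/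
theorem indFun_const_congr {G : Type u} [Group G] [Fintype G] {L M : Subgroup G} (h : L = M) :
    indFun L (fun _ => (1 : ℂ)) = indFun M (fun _ => (1 : ℂ)) := by
  subst h
  rfl

section ZassHyp

variable {G : Type u} {Ω : Type v} [Group G] [Fintype G] [MulAction G Ω] [Fintype Ω]

/-- the hypotheses of the counting argument hold in a simple Zassenhaus group -/
theorem zass_hyp (hZ : IsZassenhausGroup G Ω) [IsSimpleGroup G] {a b : Ω}
    (hab : a ≠ b) (hodd : Odd (Nat.card ↥(stabilizer G a ⊓ stabilizer G b : Subgroup G)))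
    (H : Subgroup G) (hHa : H ≤ stabilizer G a) (hHcard : Nat.card H + 1 = Fintype.card Ω)
    (hHfix : ∀ u ∈ H, u ≠ 1 → ∀ c : Ω, u • c = c → c = a)
    [Fintype ↥(Subgroup.normalizer (H : Set G))] :
    Hyp H (fun g => (Nat.card (fixedBy Ω g) : ℂ) - 1) := by
  classical
  obtain ⟨hTI, hnorm⟩ := Cfsg.Agent.S0878.result hZ a H hHa hHcard hHfix
  have h2 := hZ.2.1
  haveI : IsPretransitive G Ω := @isPretransitive_of_is_two_pretransitive G Ω _ _ h2
  have hC := zass_centralizer_le hZ hab H hHa hHcard hHfix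
  have hcardΩ : Nat.card Ω = Nat.card H + 1 := by
    rw [Nat.card_eq_fintype_card, hHcard]
  refine ⟨?_, ?_, hC, zass_quotient_comm hZ hab hodd H hHa hHcard hHfix, ?_, ?_, ?_, ?_, ?_⟩
  · intro g hg
    rw [hnorm] at hg
    exact hTI g hg
  · refine lt_of_le_of_ne Subgroup.le_normalizer ?_
    intro heq
    have hEbot := ZassOdd.two_point_ne_bot hZ hab
    obtain ⟨t, ht, ht1⟩ := ((stabilizer G a ⊓ stabilizer G b :
      Subgroup G).bot_or_exists_ne_one).resolve_left hEbot
    have htE := ht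
    rw [Subgroup.mem_inf, mem_stabilizer_iff, mem_stabilizer_iff] at htE
    have htH : t ∈ H := by
      rw [heq, hnorm, mem_stabilizer_iff]
      exact htE.1
    exact hab (hHfix t htH ht1 b htE.2).symm
  · rw [hnorm, MulAction.index_stabilizer_of_transitive, hcardΩ]
  · have h3 := ZassOdd.three_le_card hZ
    exact (Cfsg.Agent.S0157.result (G := G) Ω (by rw [hcardΩ]; omega)).mpr h2
  · funext g
    rw [indFun_const_congr hnorm, indFun_stabilizer_apply a g]
    have h1 : Nat.card {y : orbit G a // g • (y : Ω) = (y : Ω)} = Nat.card (fixedBy Ω g) := by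
      apply Nat.card_congr
      refine
        { toFun := fun y => ⟨y.1.1, y.2⟩
          invFun := fun y => ⟨⟨y.1, by rw [MulAction.orbit_eq_univ]; exact Set.mem_univ _⟩, y.2⟩
          left_inv := fun y => rfl
          right_inv := fun y => rfl }
    rw [h1]
    simp only [Pi.add_apply]
    ring
  · intro u hu hu1
    have h1 : fixedBy Ω u = {a} := by
      ext c
      rw [MulAction.mem_fixedBy, Set.mem_singleton_iff]
      constructor
      · exact hHfix u hu hu1 c
      · intro hc
        rw [hc]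
        exact mem_stabilizer_iff.mp (hHa hu)
    show (Nat.card (fixedBy Ω u) : ℂ) - 1 = 0
    rw [h1, Nat.card_unique]
    simp
  · apply transport_P2 H hnorm
    intro μ hμ hμ1 hμH hμne
    refine ⟨Zass.irr_indFun_linear hZ hab hodd H hHa hHcard hHfix μ hμ hμ1 hμH hμne, ?_⟩
    intro u hu hu1
    rw [Zass.indFun_apply_of_mem_kernel H hHa hHfix μ (isClassFunction_of_isCharacter hμ) hu hu1]
    exact hμH ⟨u, hHa hu⟩ hu

end ZassHyp

section ZassMain

variable {G : Type u} {Ω : Type v} [Group G] [Fintype G] [MulAction G Ω] [Fintype Ω]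

/-- Feit's theorem for a simple Zassenhaus group -/
theorem zass_simple_case (hZ : IsZassenhausGroup G Ω) [IsSimpleGroup G] {a b : Ω}
    (hab : a ≠ b) (hodd : Odd (Nat.card ↥(stabilizer G a ⊓ stabilizer G b : Subgroup G)))
    (H : Subgroup G) (hHa : H ≤ stabilizer G a) (hHcard : Nat.card H + 1 = Fintype.card Ω)
    (hHfix : ∀ u ∈ H, u ≠ 1 → ∀ c : Ω, u • c = c → c = a)
    (hbig : 2 * Nat.card ↥(stabilizer G a ⊓ stabilizer G b : Subgroup G) + 1 < Nat.card H) :
    IsPGroup 2 H ∧ (∃ u v : H, u * v ≠ v * u) ∧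
      (commutator H).index ≤
        4 * Nat.card ↥(stabilizer G a ⊓ stabilizer G b : Subgroup G) ^ 2 + 1 := by
  classical
  letI : Fintype ↥(Subgroup.normalizer (H : Set G)) := Fintype.ofFinite _
  have hyp := zass_hyp hZ hab hodd H hHa hHcard hHfix
  have hnil := zass_nilpotent hZ hab H hHa hHcard hHfix
  have hidx := zass_index hZ hab H hHa hHcard hHfix
  have hK1 : H ≠ ⊥ := by
    intro h
    rw [h, Subgroup.card_bot] at hbig
    omega
  have hcls := Cfsg.Agent.S0884.result hZ hab (Nat.card H)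
    (Nat.card ↥(stabilizer G a ⊓ stabilizer G b : Subgroup G)) hHcard.symm rfl hodd
    (by omega) H hHa hHcard hHfix
  obtain ⟨⟨m, hm⟩, hnc, hle⟩ := abstract_main H hyp hnil hK1 (by rw [hidx]; exact hcls)
    (by rw [hidx]; exact hbig)
  refine ⟨IsPGroup.of_card hm, ?_, ?_⟩
  · by_contra hcon
    push Not at hcon
    exact hnc ⟨⟨fun u v => hcon u v⟩⟩
  · rw [FeitCoh.commutator_subgroupOf_self, hidx] at hle
    exact hle

end ZassMain

end Cfsg.Agent.Helper5.FeitZ
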