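import Mathlib
import Cfsg.Agent.Lib.Helper5.FeitZ10
import Cfsg.Agent.S0339

/-!
# Feit's theorem on Zassenhaus groups: reduction to simple groups (helper5)
-/

set_option autoImplicit false
set_option linter.unusedVariables false
set_option linter.unusedSectionVars false
set_option linter.style.haveILetI false

namespace Cfsg.Agent.Helper5.FeitZ

open Cfsg Cfsg.Agent.Helper24 Cfsg.Agent.Helper5 Cfsg.Agent.Helper8 Cfsg.Agent.Helper18
open MulAction
open scoped ComplexConjugate

universe u v

section Count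

variable {M : Type u} {Ω : Type v} [Group M] [Finite M] [MulAction M Ω] [Fintype Ω]

/-- the order of a point stabilizer -/
theorem zass_card_stabilizer (hZ : IsZassenhausGroup M Ω) {a b : Ω} (hab : a ≠ b) :
    Nat.card ↥(stabilizer M a) = (Fintype.card Ω - 1) *
      Nat.card ↥(stabilizer M a ⊓ stabilizer M b : Subgroup M) := by
  classical
  haveI : Fintype M := Fintype.ofFinite M
  have h2 := hZ.2.1
  haveI : IsPretransitive M Ω := @isPretransitive_of_is_two_pretransitive M Ω _ _ h2
  rw [MulAction.is_two_pretransitive_iff] at h2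
  have h1 := Zass.card_eq h2 hab
  have h5 := (stabilizer M a).card_mul_index
  rw [MulAction.index_stabilizer_of_transitive, Nat.card_eq_fintype_card (α := Ω),
    Nat.card_eq_fintype_card (α := M), h1] at h5
  have hpos : 0 < Fintype.card Ω := Fintype.card_pos_iff.mpr ⟨a⟩
  have : Fintype.card Ω * Nat.card ↥(stabilizer M a) = Fintype.card Ω * ((Fintype.card Ω - 1) *
      Nat.card ↥(stabilizer M a ⊓ stabilizer M b : Subgroup M)) := by
    rw [← h5]; ring
  exact Nat.eq_of_mul_eq_mul_left hpos this

/-- a subgroup containing all the elements of a point stabilizer with a single fixed point has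
at least as many elements as there are other points -/
theorem zass_card_ge (hZ : IsZassenhausGroup M Ω) {a b : Ω} (hab : a ≠ b) (H' : Subgroup M)
    (hfix : ∀ g : M, g • a = a → g ∉ H' → ∃ c : Ω, c ≠ a ∧ g • c = c) :
    Fintype.card Ω ≤ Nat.card H' + 1 := by
  classical
  haveI : Fintype M := Fintype.ofFinite M
  have h2 := hZ.2.1
  rw [MulAction.is_two_pretransitive_iff] at h2
  have hstab := zass_card_stabilizer hZ hab
  obtain ⟨e', he'⟩ : ∃ e' : ℕ,
      e' = Nat.card ↥(stabilizer M a ⊓ stabilizer M b : Subgroup M) := ⟨_, rfl⟩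
  rw [← he'] at hstab
  have he'pos : 0 < e' := he' ▸ Nat.card_pos
  have hA : (Finset.univ.filter (fun g : M => g • a = a)).card = Nat.card ↥(stabilizer M a) := by
    rw [Nat.card_eq_fintype_card, Fintype.card_subtype]
    rfl
  have hB : (Finset.univ.filter (fun g : M => g ∈ H')).card = Nat.card H' := by
    rw [Nat.card_eq_fintype_card, Fintype.card_subtype]
  have hCc : ∀ c : Ω, c ≠ a →
      ((Finset.univ.filter (fun g : M => g • a = a ∧ g • c = c)).erase 1).card = e' - 1 := by
    intro c hc
    rw [Finset.card_erase_of_mem, Zass.cnt2_eq h2 hab (Ne.symm hc) (Ne.symm hc), he']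
    rw [Finset.mem_filter]
    exact ⟨Finset.mem_univ _, one_smul _ _, one_smul _ _⟩
  have hcover : Finset.univ.filter (fun g : M => g • a = a) ⊆
      Finset.univ.filter (fun g : M => g ∈ H') ∪
        (Finset.univ.erase a).biUnion (fun c =>
          (Finset.univ.filter (fun g : M => g • a = a ∧ g • c = c)).erase 1) := by
    intro g hg
    rw [Finset.mem_filter] at hg
    rw [Finset.mem_union]
    by_cases hgH : g ∈ H'
    · left
      rw [Finset.mem_filter]
      exact ⟨Finset.mem_univ _, hgH⟩
    · right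
      obtain ⟨c, hca, hgc⟩ := hfix g hg.2 hgH
      rw [Finset.mem_biUnion]
      refine ⟨c, Finset.mem_erase.mpr ⟨hca, Finset.mem_univ _⟩, ?_⟩
      rw [Finset.mem_erase, Finset.mem_filter]
      refine ⟨?_, Finset.mem_univ _, hg.2, hgc⟩
      intro h1
      exact hgH (h1 ▸ H'.one_mem)
  have h1 := Finset.card_le_card hcover
  have h3 := Finset.card_union_le (Finset.univ.filter (fun g : M => g ∈ H'))
    ((Finset.univ.erase a).biUnion (fun c =>
      (Finset.univ.filter (fun g : M => g • a = a ∧ g • c = c)).erase 1))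
  have h4 := Finset.card_biUnion_le (s := Finset.univ.erase a) (t := fun c =>
      (Finset.univ.filter (fun g : M => g • a = a ∧ g • c = c)).erase 1)
  have h5 : ∑ c ∈ Finset.univ.erase a,
      ((Finset.univ.filter (fun g : M => g • a = a ∧ g • c = c)).erase 1).card =
      (Fintype.card Ω - 1) * (e' - 1) := by
    rw [Finset.sum_congr rfl (fun c hc => hCc c (Finset.mem_erase.mp hc).1), Finset.sum_const,
      smul_eq_mul, Finset.card_erase_of_mem (Finset.mem_univ _), Finset.card_univ]
  rw [hA, hstab] at h1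
  rw [hB] at h3
  rw [h5] at h4
  have hpos : 0 < Fintype.card Ω := Fintype.card_pos_iff.mpr ⟨a⟩
  have hkey : (Fintype.card Ω - 1) * e' = (Fintype.card Ω - 1) * (e' - 1) +
      (Fintype.card Ω - 1) := by
    obtain ⟨e'', he''⟩ : ∃ e'', e' = e'' + 1 := ⟨e' - 1, by omega⟩
    rw [he'', Nat.add_sub_cancel]
    ring
  omega

end Count

section Reduce

variable {G : Type u} {Ω : Type v} [Group G] [Finite G] [MulAction G Ω] [Fintype Ω]

/-- the kernel lies in every nontrivial normal subgroup -/
theorem zass_kernel_le_normal (hZ : IsZassenhausGroup G Ω) {a b : Ω} (hab : a ≠ b)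
    (H : Subgroup G) (hHa : H ≤ stabilizer G a) (hHcard : Nat.card H + 1 = Fintype.card Ω)
    (hHfix : ∀ u ∈ H, u ≠ 1 → ∀ c : Ω, u • c = c → c = a)
    (N : Subgroup G) [N.Normal] (hN : N ≠ ⊥) : H ≤ N := by
  have hZN := Cfsg.Agent.S0339.result hZ N hN
  have h1 := zass_card_ge hZN hab (H.subgroupOf N) (by
    intro g hga hgH
    have hga' : (g : G) • a = a := hga
    have hgH' : (g : G) ∉ H := fun h => hgH (Subgroup.mem_subgroupOf.mpr h)
    obtain ⟨c, hca, hgc⟩ := ZassOdd.exists_fixed_of_not_mem hZ hab H hHa hHcard hHfix (g : G)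
      hga' hgH'
    exact ⟨c, hca, hgc⟩)
  have h2 : Nat.card ↥(H.subgroupOf N) = Nat.card ↥(H ⊓ N : Subgroup G) := by
    rw [← Subgroup.subgroupOf_map_subtype]
    exact (Subgroup.card_map_of_injective N.subtype_injective).symm
  have h3 : Nat.card H ≤ Nat.card ↥(H ⊓ N : Subgroup G) := by omega
  have h4 : (H ⊓ N : Subgroup G) = H := Subgroup.eq_of_le_of_card_ge inf_le_left h3
  rw [← h4]
  exact inf_le_right

end Reduce

section Induct

/-- the two point stabilizer of a subgroup divides that of the group -/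
theorem two_point_card_dvd {G : Type u} {Ω : Type v} [Group G] [Finite G] [MulAction G Ω]
    (N : Subgroup G) (a b : Ω) :
    Nat.card ↥(stabilizer ↥N a ⊓ stabilizer ↥N b : Subgroup ↥N) ∣
      Nat.card ↥(stabilizer G a ⊓ stabilizer G b : Subgroup G) := by
  have hle : (stabilizer ↥N a ⊓ stabilizer ↥N b : Subgroup ↥N).map N.subtype ≤
      (stabilizer G a ⊓ stabilizer G b : Subgroup G) := by
    rintro x ⟨g, hg, rfl⟩
    have hg' := hg
    rw [SetLike.mem_coe, Subgroup.mem_inf, mem_stabilizer_iff, mem_stabilizer_iff] at hg'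
    rw [Subgroup.mem_inf, mem_stabilizer_iff, mem_stabilizer_iff]
    exact ⟨hg'.1, hg'.2⟩
  have h1 := Subgroup.card_dvd_of_le hle
  rw [Subgroup.card_map_of_injective N.subtype_injective] at h1
  exact h1

theorem zass_general_aux {Ω : Type v} [Fintype Ω] : ∀ (n : ℕ) (G : Type u) [Group G] [Finite G]
    [MulAction G Ω], Nat.card G = n → IsZassenhausGroup G Ω → ∀ {a b : Ω}, a ≠ b →
    Odd (Nat.card ↥(stabilizer G a ⊓ stabilizer G b : Subgroup G)) →
    ∀ H : Subgroup G, H ≤ stabilizer G a → Nat.card H + 1 = Fintype.card Ω →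
    (∀ u ∈ H, u ≠ 1 → ∀ c : Ω, u • c = c → c = a) →
    2 * Nat.card ↥(stabilizer G a ⊓ stabilizer G b : Subgroup G) + 1 < Nat.card H →
    IsPGroup 2 H ∧ (∃ u v : H, u * v ≠ v * u) ∧
      (commutator H).index ≤
        4 * Nat.card ↥(stabilizer G a ⊓ stabilizer G b : Subgroup G) ^ 2 + 1 := by
  intro n
  induction n using Nat.strong_induction_on with
  | _ n ih =>
  intro G _ _ _ hcard hZ a b hab hodd H hHa hHcard hHfix hbig
  classical
  by_cases hs : IsSimpleGroup G
  · haveI := hs
    haveI : Fintype G := Fintype.ofFinite G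
    exact zass_simple_case hZ hab hodd H hHa hHcard hHfix hbig
  · -- a proper nontrivial normal subgroup
    have hnt : Nontrivial G := by
      rw [← Finite.one_lt_card_iff_nontrivial]
      have h1 : Nat.card H ≤ Nat.card G := Subgroup.card_le_card_group H
      omega
    obtain ⟨N, hNn, hNbot, hNtop⟩ : ∃ N : Subgroup G, N.Normal ∧ N ≠ ⊥ ∧ N ≠ ⊤ := by
      by_contra hno
      push Not at hno
      apply hs
      haveI := hnt
      refine ⟨fun N hN => ?_⟩
      by_cases hb : N = ⊥
      · left; exact hb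
      · right; exact hno N hN hb
    haveI := hNn
    have hZN := Cfsg.Agent.S0339.result hZ N hNbot
    have hHN := zass_kernel_le_normal hZ hab H hHa hHcard hHfix N hNbot
    have hlt : Nat.card ↥N < n := by
      rw [← hcard]
      refine lt_of_le_of_ne (Subgroup.card_le_card_group N) ?_
      intro h
      exact hNtop (Subgroup.eq_top_of_card_eq N h)
    have hdvd := two_point_card_dvd N a b
    have hodd' : Odd (Nat.card ↥(stabilizer ↥N a ⊓ stabilizer ↥N b : Subgroup ↥N)) := by
      rcases hodd with ⟨k, hk⟩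
      by_contra hne
      rw [Nat.not_odd_iff_even] at hne
      have h2 : 2 ∣ Nat.card ↥(stabilizer G a ⊓ stabilizer G b : Subgroup G) :=
        dvd_trans (even_iff_two_dvd.mp hne) hdvd
      omega
    have hle' : Nat.card ↥(stabilizer ↥N a ⊓ stabilizer ↥N b : Subgroup ↥N) ≤
        Nat.card ↥(stabilizer G a ⊓ stabilizer G b : Subgroup G) :=
      Nat.le_of_dvd Nat.card_pos hdvd
    have hcardH' : Nat.card ↥(H.subgroupOf N) = Nat.card H :=
      Nat.card_congr (Subgroup.subgroupOfEquivOfLe hHN).toEquiv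
    have hHa' : H.subgroupOf N ≤ stabilizer ↥N a := by
      intro g hg
      rw [mem_stabilizer_iff]
      exact mem_stabilizer_iff.mp (hHa (Subgroup.mem_subgroupOf.mp hg))
    have hHfix' : ∀ u ∈ H.subgroupOf N, u ≠ 1 → ∀ c : Ω, u • c = c → c = a := by
      intro u hu hu1 c huc
      exact hHfix (u : G) (Subgroup.mem_subgroupOf.mp hu) (fun h => hu1 (Subtype.ext h)) c huc
    obtain ⟨hp, ⟨u, v, huv⟩, hidx⟩ := ih (Nat.card ↥N) hlt ↥N rfl hZN hab hodd' (H.subgroupOf N)
      hHa' (by rw [hcardH']; exact hHcard) hHfix' (by rw [hcardH']; omega)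
    refine ⟨hp.of_equiv (Subgroup.subgroupOfEquivOfLe hHN), ?_, ?_⟩
    · refine ⟨Subgroup.subgroupOfEquivOfLe hHN u, Subgroup.subgroupOfEquivOfLe hHN v, ?_⟩
      intro h
      apply huv
      apply (Subgroup.subgroupOfEquivOfLe hHN).injective
      rw [map_mul, map_mul, h]
    · rw [← FeitCoh.index_commutator_congr (Subgroup.subgroupOfEquivOfLe hHN)]
      refine le_trans hidx ?_
      have := Nat.pow_le_pow_left hle' 2
      omega

end Induct

end Cfsg.Agent.Helper5.FeitZ
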