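import Mathlib
import Cfsg.Prelude.Def_Blocks
import Cfsg.Agent.Lib.Helper24.CharLinear
import Cfsg.Agent.Lib.Helper24.CharInduced
import Cfsg.Agent.Lib.Helper24.CharComplete
import Cfsg.Agent.Lib.Helper10.BR996Defs
import Cfsg.Agent.Lib.Helper21.BTDefs
import Cfsg.Agent.Lib.Helper5.BRP0
import Cfsg.Agent.Lib.Helper5.Pm1A
import Cfsg.Agent.Lib.Helper5.BR996ADAPT

/-!
# S0997, piece ADAPT2 (helper5): `BTData` from `Helper5.BRP0.brauer_interface`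
-/

set_option autoImplicit false
set_option linter.unusedSectionVars false
set_option linter.unusedVariables false
set_option linter.style.haveILetI false

namespace Cfsg.Agent.Helper21.BT

open scoped ComplexConjugate
open Cfsg Cfsg.Agent.Helper24 Cfsg.Agent.Helper10.BR996

universe u

namespace ADAPT2

/-- `∑_{a ≠ 1} ψ(a) conj ψ'(a) = p [ψ = ψ'] - 1` for irreducible characters of a group of prime
order. -/
theorem sum_ne_one_mul_conj {A : Type u} [Group A] [Fintype A] [DecidableEq A]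
    [DecidableEq (IrrCharacter A)] {p : ℕ} (hpp : p.Prime)
    (hA : Nat.card A = p) (ψ ψ' : IrrCharacter A) :
    ∑ a : A, (if a ≠ 1 then (ψ : A → ℂ) a * conj ((ψ' : A → ℂ) a) else 0) =
      (if ψ = ψ' then (p : ℂ) else 0) - 1 := by
  haveI : Fintype (IrrCharacter A) := Cfsg.Agent.Helper24.irrFintype
  have h := irr_orthogonality' ψ ψ'
  unfold classInner at h
  rw [hA] at h
  have hp0 : (p : ℂ) ≠ 0 := by exact_mod_cast hpp.ne_zero
  have h : (p : ℂ)⁻¹ * ∑ g : A, (ψ : A → ℂ) g * conj ((ψ' : A → ℂ) g) = if ψ = ψ' then 1 else 0 := by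
    rw [h]
    by_cases hψ : ψ = ψ'
    · rw [if_pos hψ, if_pos hψ]
    · rw [if_neg hψ, if_neg hψ]
  have hsum : ∑ a : A, (ψ : A → ℂ) a * conj ((ψ' : A → ℂ) a) = if ψ = ψ' then (p : ℂ) else 0 := by
    have h2 : ∑ a : A, (ψ : A → ℂ) a * conj ((ψ' : A → ℂ) a) =
        (p : ℂ) * ((p : ℂ)⁻¹ * ∑ a : A, (ψ : A → ℂ) a * conj ((ψ' : A → ℂ) a)) := by
      rw [← mul_assoc, mul_inv_cancel₀ hp0, one_mul]
    rw [h2, h]
    by_cases hψ : ψ = ψ'
    · simp [hψ]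
    · simp [hψ]
  have h1 : (ψ : A → ℂ) 1 = 1 := Cfsg.Agent.Helper5.BRP0.irr_one hpp hA ψ
  have h1' : (ψ' : A → ℂ) 1 = 1 := Cfsg.Agent.Helper5.BRP0.irr_one hpp hA ψ'
  have h4 : ∑ a : A, (if a ≠ 1 then (ψ : A → ℂ) a * conj ((ψ' : A → ℂ) a) else 0) =
      ∑ a : A, (ψ : A → ℂ) a * conj ((ψ' : A → ℂ) a) -
        (ψ : A → ℂ) 1 * conj ((ψ' : A → ℂ) 1) := by
    rw [← Finset.add_sum_erase Finset.univ (fun a => (ψ : A → ℂ) a * conj ((ψ' : A → ℂ) a))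
      (Finset.mem_univ (1 : A))]
    rw [add_sub_cancel_left]
    rw [← Finset.add_sum_erase Finset.univ _ (Finset.mem_univ (1 : A))]
    simp only [ne_eq, not_true_eq_false, if_false, zero_add]
    refine Finset.sum_congr rfl fun a ha => ?_
    rw [if_pos (Finset.ne_of_mem_erase ha)]
  rw [h4, hsum, h1, h1']
  simp

open Classical in
/-- the sum over `P ∖ 1` of `θ conj θ'`, where `θ`, `θ'` are `-δ₀` times sums over the orbits
`O`, `O'` of linear characters of `P`. -/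
theorem dsum_mul_conj_of_orbit {G : Type u} [Group G] [Fintype G] (P : Subgroup G)
    [DecidableEq (IrrCharacter ↥P)] {p : ℕ} (hpp : p.Prime)
    (hcard : Nat.card P = p) (θ θ' : G → ℂ) (O O' : Finset (IrrCharacter ↥P))
    (d : ℤ) (hd : d = 1 ∨ d = -1)
    (hOv : ∀ a : ↥P, a ≠ 1 → θ (a : G) = -(d : ℂ) * ∑ ψ ∈ O, (ψ : ↥P → ℂ) a)
    (hOv' : ∀ a : ↥P, a ≠ 1 → θ' (a : G) = -(d : ℂ) * ∑ ψ ∈ O', (ψ : ↥P → ℂ) a) :
    dsum P (fun g => θ g * conj (θ' g)) =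
      (p : ℂ) * ((O ∩ O').card : ℂ) - (O.card : ℂ) * (O'.card : ℂ) := by
  haveI : Fintype (IrrCharacter ↥P) := Cfsg.Agent.Helper24.irrFintype
  rw [ADAPT.dsum_eq_sum_subtype]
  have hd2 : (d : ℂ) * (d : ℂ) = 1 := by
    rcases hd with h | h <;> simp [h]
  have hdc : conj (d : ℂ) = (d : ℂ) := by simp
  have h2 : ∀ a : P, (if a ≠ 1 then θ (a : G) * conj (θ' (a : G)) else 0) =
      ∑ ψ ∈ O, ∑ ψ' ∈ O', (if a ≠ 1 then (ψ : ↥P → ℂ) a * conj ((ψ' : ↥P → ℂ) a) else 0) := by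
    intro a
    by_cases ha : a = 1
    · simp [ha]
    · simp only [ha, ne_eq, not_false_eq_true, if_true]
      rw [hOv a ha, hOv' a ha, map_mul, map_neg, hdc, map_sum]
      rw [show -(d : ℂ) * (∑ ψ ∈ O, (ψ : ↥P → ℂ) a) * (-(d : ℂ) * ∑ ψ' ∈ O', conj ((ψ' : ↥P → ℂ) a)) =
          ((d : ℂ) * (d : ℂ)) * ((∑ ψ ∈ O, (ψ : ↥P → ℂ) a) * ∑ ψ' ∈ O', conj ((ψ' : ↥P → ℂ) a)) by ring]
      rw [hd2, one_mul, Finset.sum_mul_sum]
  simp_rw [h2]
  rw [Finset.sum_comm]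
  have h3 : ∀ ψ ∈ O, ∑ a : P, ∑ ψ' ∈ O',
      (if a ≠ 1 then (ψ : ↥P → ℂ) a * conj ((ψ' : ↥P → ℂ) a) else 0) =
      ∑ ψ' ∈ O', ((if ψ = ψ' then (p : ℂ) else 0) - 1) := by
    intro ψ _
    rw [Finset.sum_comm]
    refine Finset.sum_congr rfl fun ψ' _ => ?_
    exact sum_ne_one_mul_conj hpp hcard ψ ψ'
  rw [Finset.sum_congr rfl h3]
  simp_rw [Finset.sum_sub_distrib, Finset.sum_const, nsmul_eq_mul, mul_one]
  congr 1
  -- `∑_{ψ ∈ O} ∑_{ψ' ∈ O'} p [ψ = ψ'] = p |O ∩ O'|`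
  have h5 : ∀ ψ ∈ O, ∑ ψ' ∈ O', (if ψ = ψ' then (p : ℂ) else 0) =
      if ψ ∈ O' then (p : ℂ) else 0 := by
    intro ψ _
    rw [Finset.sum_ite_eq]
  rw [Finset.sum_congr rfl h5, ← Finset.sum_filter, Finset.sum_const, nsmul_eq_mul,
    Finset.filter_mem_eq_inter, mul_comm]

open Classical in
theorem dsum_self_of_orbit {G : Type u} [Group G] [Fintype G] (P : Subgroup G)
    {p : ℕ} (hpp : p.Prime)
    (hcard : Nat.card P = p) (θ : G → ℂ) (O : Finset (IrrCharacter ↥P))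
    (d : ℤ) (hd : d = 1 ∨ d = -1) (w : ℕ) (hOc : O.card = w)
    (hOv : ∀ a : ↥P, a ≠ 1 → θ (a : G) = -(d : ℂ) * ∑ ψ ∈ O, (ψ : ↥P → ℂ) a) :
    dsum P (fun g => θ g * conj (θ g)) = (p : ℂ) * (w : ℂ) - (w : ℂ) ^ 2 := by
  rw [dsum_mul_conj_of_orbit P hpp hcard θ θ O O d hd hOv hOv, Finset.inter_self, hOc]
  ring

open Classical in
theorem dsum_cross_of_orbit {G : Type u} [Group G] [Fintype G] (P : Subgroup G)
    {p : ℕ} (hpp : p.Prime)
    (hcard : Nat.card P = p) (θ θ' : G → ℂ) (O O' : Finset (IrrCharacter ↥P))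
    (d : ℤ) (hd : d = 1 ∨ d = -1) (w : ℕ) (hOc : O.card = w) (hOc' : O'.card = w)
    (hdisj : Disjoint O O')
    (hOv : ∀ a : ↥P, a ≠ 1 → θ (a : G) = -(d : ℂ) * ∑ ψ ∈ O, (ψ : ↥P → ℂ) a)
    (hOv' : ∀ a : ↥P, a ≠ 1 → θ' (a : G) = -(d : ℂ) * ∑ ψ ∈ O', (ψ : ↥P → ℂ) a) :
    dsum P (fun g => θ g * conj (θ' g)) = -(w : ℂ) ^ 2 := by
  rw [dsum_mul_conj_of_orbit P hpp hcard θ θ' O O' d hd hOv hOv',
    Finset.disjoint_iff_inter_eq_empty.1 hdisj, hOc, hOc']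
  simp
  ring

end ADAPT2

variable {G : Type u} [Group G] [Fintype G] [Fintype (IrrCharacter G)]
  (p : ℕ) [Fact p.Prime] (P : Subgroup G)

local notation "𝒩" => Subgroup.normalizer (P : Set G)

/-- PIECE ADAPT2. -/
theorem exists_btData (hp2 : p ≠ 2) (hcard : Nat.card P = p)
    (hcent : Subgroup.centralizer (P : Set G) ≤ P) :
    Nonempty (BTData p P (P.relIndex 𝒩) ((p - 1) / P.relIndex 𝒩)) := by
  classical
  have hpp : p.Prime := Fact.out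
  have hcomm : ∀ a b : P, a * b = b * a := by
    haveI : Fact p.Prime := ⟨hpp⟩
    have : IsCyclic P := isCyclic_of_prime_card hcard
    exact fun a b => (IsCyclic.commGroup (α := P)).mul_comm a b
  have hC : Subgroup.centralizer (P : Set G) = P := by
    apply le_antisymm hcent
    intro x hx
    rw [Subgroup.mem_centralizer_iff]
    intro y hy
    have := hcomm ⟨y, hy⟩ ⟨x, hx⟩
    exact congrArg Subtype.val this
  have hw : (Subgroup.centralizer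
      (((Cfsg.Agent.Helper5.Pm1.toSylow P hpp hcard hcent : Sylow p G) : Subgroup G) : Set G)).relIndex
      (Subgroup.normalizer
        (((Cfsg.Agent.Helper5.Pm1.toSylow P hpp hcard hcent : Sylow p G) : Subgroup G) : Set G)) =
        P.relIndex 𝒩 := by
    rw [Cfsg.Agent.Helper5.Pm1.toSylow_coe, hC]
  obtain ⟨hwd, hw0, X, Y, δ, δ₀, O, hdisj, hX, hY, hXv, hone, hD, hδ₀, hYO, hOdisj, -, -, hreg,
      horth⟩ :=
    Cfsg.Agent.Helper5.BRP0.brauer_interface p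
      (Cfsg.Agent.Helper5.Pm1.toSylow P hpp hcard hcent) hcard
      (by rw [Cfsg.Agent.Helper5.Pm1.toSylow_coe]; exact hC) (P.relIndex 𝒩) hw
  refine ⟨{ X := X, Y := Y, sg := δ, d0 := δ₀, disj := hdisj, cardX := hX, cardY := hY,
            sg_pm := fun χ hχ => (hXv χ hχ).1, d0_pm := hδ₀,
            valX := fun χ hχ z hz hz1 => (hXv χ hχ).2.1 z hz hz1,
            valD := fun χ h1 h2 z hz hz1 => hD χ h1 h2 z hz hz1,
            regY := hreg, sumY := ?_, one_memX := ?_, orth := ?_, selfY := ?_, crossY := ?_ }⟩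
  · intro θ hθ
    obtain ⟨hOc, hOn, hOv, -⟩ := hYO θ hθ
    exact ADAPT.dsum_of_orbit hpp P hcard (θ : G → ℂ) (O θ) (δ₀ : ℂ) (P.relIndex 𝒩) hOc hOn hOv
  · intro ht
    apply hone
    have := (Nat.le_div_iff_mul_le hw0).1 ht
    omega
  · intro θ hθ g hg
    exact horth g hg θ hθ
  · intro θ hθ
    obtain ⟨hOc, hOn, hOv, -⟩ := hYO θ hθ
    exact ADAPT2.dsum_self_of_orbit P hpp hcard (θ : G → ℂ) (O θ) δ₀ hδ₀ _ hOc hOv
  · intro θ hθ θ' hθ' hne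
    obtain ⟨hOc, hOn, hOv, -⟩ := hYO θ hθ
    obtain ⟨hOc', hOn', hOv', -⟩ := hYO θ' hθ'
    exact ADAPT2.dsum_cross_of_orbit P hpp hcard (θ : G → ℂ) (θ' : G → ℂ) (O θ) (O θ') δ₀ hδ₀ _ hOc
      hOc' (hOdisj θ hθ θ' hθ' hne) hOv hOv'

end Cfsg.Agent.Helper21.BT
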