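import Mathlib
import Cfsg.Prelude.Def_Blocks
import Cfsg.Agent.Lib.Helper5.TLDDefs
import Cfsg.Agent.Lib.Helper18.TLDTPKG
import Cfsg.Agent.Lib.Helper1.TLDDCHAR
import Cfsg.Agent.Lib.Helper1.TLDDCONJ
import Cfsg.Agent.Lib.Helper12.TLDDSM
import Cfsg.Agent.Lib.Helper6.TLDDCOL
import Cfsg.Agent.Lib.Helper6.TLDDDEG0
import Cfsg.Agent.Lib.Helper12.TLDDW
import Cfsg.Agent.Lib.Helper20.TLDDDICH
import Cfsg.Agent.Lib.Helper18.TLDDEXP
import Cfsg.Agent.Lib.Helper20.TLDDNV
import Cfsg.Agent.Lib.Helper2.TLDDORB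
import Cfsg.Agent.Lib.Helper2.TLDDVAN
import Cfsg.Agent.Lib.Helper18.TLDDDEG
import Cfsg.Agent.Lib.Helper7.TLDABS
import Cfsg.Agent.Lib.Helper15.TLDGGT
import Cfsg.Agent.Lib.Helper15.TLDGGW
import Cfsg.Agent.Lib.Helper15.TLDGGINV
import Cfsg.Agent.Lib.Helper23.TLDGGSMB
import Cfsg.Agent.Lib.Helper23.TLDGGCOL
import Cfsg.Agent.Lib.Helper23.TLDGGB
import Cfsg.Agent.Lib.Helper5.TLDAsmC
import Cfsg.Agent.Lib.Helper5.TLDFinal
import Cfsg.Agent.Lib.Helper15.TLGT
import Cfsg.Agent.Lib.Helper24.CharComplete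
import Cfsg.Agent.Lib.Helper24.CharOrtho

set_option autoImplicit false

/-!
# Blocks of defect one: the number of characters (no oddness hypothesis)
-/

namespace Cfsg.Agent.Helper5.TLG

open scoped ComplexConjugate
open Cfsg Cfsg.Agent.Helper5.TLD

set_option linter.unusedSectionVars false
set_option linter.unusedVariables false
set_option linter.style.haveILetI false

variable (p : ℕ) [Fact p.Prime] {G : Type*} [Group G] [Finite G]

set_option maxHeartbeats 3200000 in
/-- the partition of a block of defect one (no oddness hypothesis). -/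
theorem main_count (M : Ideal AlgInt) (hM : IsPModular p M) (P : Sylow p G)
    (hP : Nat.card P = p) (B : Set (IrrCharacter G)) (hB : IsPBlock M B)
    (hBP : IsDefectGroup p M B P)
    (b : Set (IrrCharacter (Subgroup.centralizer ((P : Subgroup G) : Set G))))
    (hind : IsInducedBlock M (Subgroup.centralizer ((P : Subgroup G) : Set G)) b B)
    (θ : IrrCharacter (Subgroup.centralizer ((P : Subgroup G) : Set G))) (hθ : θ ∈ b)
    (hθP : ∀ x : Subgroup.centralizer ((P : Subgroup G) : Set G), (x : G) ∈ (P : Subgroup G) →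
      (θ : Subgroup.centralizer ((P : Subgroup G) : Set G) → ℂ) x =
        (θ : Subgroup.centralizer ((P : Subgroup G) : Set G) → ℂ) 1)
    (T : Subgroup G)
    (hT : ∀ g : G, g ∈ T ↔ (g ∈ Subgroup.normalizer ((P : Subgroup G) : Set G) ∧
      ∀ c c' : Subgroup.centralizer ((P : Subgroup G) : Set G), (c' : G) = g * c * g⁻¹ →
        (θ : Subgroup.centralizer ((P : Subgroup G) : Set G) → ℂ) c' =
          (θ : Subgroup.centralizer ((P : Subgroup G) : Set G) → ℂ) c))
    (e : ℕ) (he : (Subgroup.centralizer ((P : Subgroup G) : Set G)).relIndex T = e) :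
    e ∣ p - 1 ∧ ∃ (Xs Y : Finset (IrrCharacter G)),
      (∀ χ, χ ∈ B ↔ χ ∈ Xs ∨ χ ∈ Y) ∧ Disjoint Xs Y ∧ Xs.card = e ∧ Y.card = (p - 1) / e := by
  classical
  have hpp : p.Prime := Fact.out
  haveI : Fintype G := Fintype.ofFinite G
  haveI : Fintype (IrrCharacter G) := Cfsg.Agent.Helper24.irrFintype
  haveI : Fintype (P : Subgroup G) := Fintype.ofFinite _
  obtain ⟨hCT, hTN⟩ := cent_le_T_le_norm p P θ T hT
  have hfd : (Subgroup.centralizer ((P : Subgroup G) : Set G)).relIndex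
      (Subgroup.normalizer ((P : Subgroup G) : Set G)) ∣ p - 1 :=
    Cfsg.Agent.Helper5.TL.relIndex_dvd p P hP
  have hmul : e * T.relIndex (Subgroup.normalizer ((P : Subgroup G) : Set G)) =
      (Subgroup.centralizer ((P : Subgroup G) : Set G)).relIndex
        (Subgroup.normalizer ((P : Subgroup G) : Set G)) := by
    rw [← he]
    exact Subgroup.relIndex_mul_relIndex _ _ _ hCT hTN
  have hed : e ∣ p - 1 := Dvd.dvd.trans ⟨_, hmul.symm⟩ hfd
  have hp1 : 0 < p - 1 := by have := hpp.two_le; omega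
  have he0 : 0 < e := Nat.pos_of_dvd_of_pos hed hp1
  refine ⟨hed, ?_⟩
  obtain ⟨ν, hνe, hfpf, hν3, hν4⟩ := exists_T_package p P hP T hCT hTN e he
  set X : Finset (IrrCharacter G) := Finset.univ.filter (fun χ => χ ∈ B) with hXdef
  have hX : ∀ χ, χ ∈ X ↔ χ ∈ B := by
    intro χ
    rw [hXdef, Finset.mem_filter]
    exact ⟨fun h => h.2, fun h => ⟨Finset.mem_univ _, h⟩⟩
  set F : IrrCharacter G → ↥(P : Subgroup G) → ℂ := fun χ a =>
    FP p P (θ : Subgroup.centralizer ((P : Subgroup G) : Set G) → ℂ) (χ : G → ℂ) (a : G) with hF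
  set d : IrrCharacter G → ℕ := fun χ => charDegree (χ : G → ℂ) with hd
  obtain ⟨Xs, Y, s, ε, δ, dd, ζf, hunion, hdisj, hXs, hY, -⟩ :=
    abs_structure' (A := (P : Subgroup G)) p hP X F d ν e he0 hed hνe hfpf
      (fun χ _ => isCharacter_FP p P hP θ hθP χ)
      (fun χ _ a => FP_nu_invariant p P θ T hT ν hν4 χ a)
      (fun χ _ => Cfsg.Agent.Helper24.charDegree_pos χ.2)
      (fun a a' ha ha' => col_rel p M hM P hP B hB b hind θ hθ hθP T hT e ν hfpf hν3 hν4 X hX
        a a' ha ha')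
      (fun a ha => deg_rel p M hM P hP B hB b hind θ hθ hθP X hX a ha)
      (fun χ hχ => by
        obtain ⟨a, haP, ha1, hne⟩ :=
          exists_FP_ne_zero p M hM P hP B hB hBP b hind θ hθ hθP χ ((hX χ).1 hχ)
        exact ⟨⟨a, haP⟩, fun h => ha1 (congrArg Subtype.val h), hne⟩)
      (fun χ _ a ha => tl_rel p M hM P hP B hB b hind θ hθ hθP X hX χ a ha)
  have hmem : ∀ χ, χ ∈ B ↔ χ ∈ Xs ∨ χ ∈ Y := by
    intro χ
    rw [← hX, ← hunion, Finset.mem_union]
  exact ⟨Xs, Y, hmem, hdisj, hXs, hY⟩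

/-- COUNT (no oddness hypothesis): the number of characters in a block of defect one. -/
theorem card_block (M : Ideal AlgInt) (hM : IsPModular p M) (P : Sylow p G)
    (hP : Nat.card P = p) (B : Set (IrrCharacter G)) (hB : IsPBlock M B)
    (hBP : IsDefectGroup p M B P)
    (b : Set (IrrCharacter (Subgroup.centralizer ((P : Subgroup G) : Set G))))
    (hind : IsInducedBlock M (Subgroup.centralizer ((P : Subgroup G) : Set G)) b B)
    (θ : IrrCharacter (Subgroup.centralizer ((P : Subgroup G) : Set G))) (hθ : θ ∈ b)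
    (hθP : ∀ x : Subgroup.centralizer ((P : Subgroup G) : Set G), (x : G) ∈ (P : Subgroup G) →
      (θ : Subgroup.centralizer ((P : Subgroup G) : Set G) → ℂ) x =
        (θ : Subgroup.centralizer ((P : Subgroup G) : Set G) → ℂ) 1)
    (T : Subgroup G)
    (hT : ∀ g : G, g ∈ T ↔ (g ∈ Subgroup.normalizer ((P : Subgroup G) : Set G) ∧
      ∀ c c' : Subgroup.centralizer ((P : Subgroup G) : Set G), (c' : G) = g * c * g⁻¹ →
        (θ : Subgroup.centralizer ((P : Subgroup G) : Set G) → ℂ) c' =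
          (θ : Subgroup.centralizer ((P : Subgroup G) : Set G) → ℂ) c))
    (e : ℕ) (he : (Subgroup.centralizer ((P : Subgroup G) : Set G)).relIndex T = e) :
    e ∣ p - 1 ∧ Nat.card B = e + (p - 1) / e := by
  classical
  obtain ⟨hed, Xs, Y, hmem, hdisj, hXs, hY⟩ :=
    main_count p M hM P hP B hB hBP b hind θ hθ hθP T hT e he
  refine ⟨hed, ?_⟩
  have hBeq : B = (Xs : Set (IrrCharacter G)) ∪ (Y : Set (IrrCharacter G)) := by
    ext χ
    rw [Set.mem_union, Finset.mem_coe, Finset.mem_coe]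
    exact hmem χ
  rw [hBeq, Nat.card_coe_set_eq, ← Finset.coe_union, Set.ncard_coe_finset,
    Finset.card_union_of_disjoint hdisj, hXs, hY]

end Cfsg.Agent.Helper5.TLG
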