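import Mathlib
import Cfsg.Agent.Lib.Helper8.SecRep5
import Cfsg.Agent.Lib.Helper17.BG11T
import Cfsg.Agent.Lib.Helper18.BG13P1

/-!
# `K ≠ 1`, `U ≠ 1` ⇒ `|K|` prime   (helper5)

Frobenius–Wielandt (helper8 `fw_group`) applied twice: a Frobenius group `U K` (abelian kernel `U`)
acting coprimely on a solvable group `S`, with `K` acting in a prime manner on `S` and `U` not
centralising `S`, has `|K|` prime.
-/

set_option autoImplicit false

namespace Cfsg.Agent.Helper5.BGFwK

open Cfsg Subgroup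
open scoped commutatorElement

variable {X : Type*} [Group X]

theorem centralizer_sup_eq (A B : Subgroup X) :
    centralizer ((A ⊔ B : Subgroup X) : Set X) = centralizer (A : Set X) ⊓ centralizer (B : Set X) := by
  apply le_antisymm
  · exact le_inf (centralizer_le (SetLike.coe_subset_coe.mpr le_sup_left))
      (centralizer_le (SetLike.coe_subset_coe.mpr le_sup_right))
  · intro x hx
    obtain ⟨hA, hB⟩ := Subgroup.mem_inf.mp hx
    have h1 : A ⊔ B ≤ centralizer ({x} : Set X) := by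
      apply sup_le
      · intro a ha
        rw [mem_centralizer_iff]
        intro z hz
        rw [Set.mem_singleton_iff] at hz
        rw [hz]
        exact ((mem_centralizer_iff.mp hA) a ha).symm
      · intro b hb
        rw [mem_centralizer_iff]
        intro z hz
        rw [Set.mem_singleton_iff] at hz
        rw [hz]
        exact ((mem_centralizer_iff.mp hB) b hb).symm
    rw [mem_centralizer_iff]
    intro y hy
    exact ((mem_centralizer_iff.mp (h1 hy)) x (Set.mem_singleton x)).symm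

variable [Finite X]

/-- coprime action: `[S, U, U] = [S, U]` -/
theorem comm_comm_eq_of_coprime (S U : Subgroup X) (hUS : U ≤ normalizer (S : Set X))
    (hcop : (Nat.card U).Coprime (Nat.card S)) (hsolv : Group.IsSolvable U) :
    ⁅⁅S, U⁆, U⁆ = ⁅S, U⁆ := by
  have hAY : U ≤ normalizer ((⁅S, U⁆ : Subgroup X) : Set X) :=
    Cfsg.Agent.Helper1.le_normalizer_commutator_right S U
  have hCY : S ⊓ centralizer (U : Set X) ≤ normalizer ((⁅S, U⁆ : Subgroup X) : Set X) :=
    inf_le_left.trans (Cfsg.Agent.Helper1.le_normalizer_commutator_left S U)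
  apply le_antisymm (Cfsg.Agent.Helper1.commutator_le_of_le_normalizer hAY)
  rw [Subgroup.commutator_le]
  intro x hx a ha
  have hx' : x ∈ ⁅S, U⁆ ⊔ (S ⊓ centralizer (U : Set X)) := by
    rw [Cfsg.Agent.Helper17.BG11.comm_sup_cent_coprime S U hUS hcop hsolv]
    exact hx
  obtain ⟨y, hy, c, hc, rfl⟩ := Cfsg.Agent.Helper1.exists_mul_of_mem_sup hCY hx'
  have hca : ⁅c, a⁆ = 1 := by
    rw [commutatorElement_eq_one_iff_mul_comm]
    exact ((mem_centralizer_iff.mp (Subgroup.mem_inf.mp hc).2) a ha).symm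
  have h1 : ⁅y * c, a⁆ = y * ⁅c, a⁆ * y⁻¹ * ⁅y, a⁆ := by
    simp only [commutatorElement_def]
    group
  rw [h1, hca, mul_one, mul_inv_cancel, one_mul]
  exact Subgroup.commutator_mem_commutator hy ha

open scoped IsMulCommutative in
theorem isNilpotent_of_isMulCommutative (U : Subgroup X) (hU : IsMulCommutative U) :
    Group.IsNilpotent ↥U := by
  haveI := hU
  infer_instance

/-- Frobenius–Wielandt twice: `U K` Frobenius with abelian kernel `U`, acting coprimely on the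
solvable group `S`, `K` acting in a prime manner on `S`, `U` not centralising `S`. Then `|K|` is
prime. -/
theorem card_prime_of_prime_action (S U K : Subgroup X)
    (hS : Group.IsSolvable S) (hUab : IsMulCommutative U)
    (hUS : U ≤ normalizer (S : Set X)) (hKS : K ≤ normalizer (S : Set X))
    (hKU : K ≤ normalizer (U : Set X))
    (hcop : (Nat.card S).Coprime (Nat.card ↥(U ⊔ K)))
    (hfpf : ∀ k ∈ K, k ≠ 1 → U ⊓ centralizer ({k} : Set X) = ⊥)
    (hprime : ∀ k ∈ K, k ≠ 1 → S ⊓ centralizer ({k} : Set X) = S ⊓ centralizer (K : Set X))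
    (hK1 : K ≠ ⊥) (hN : ¬ U ≤ centralizer (S : Set X)) : (Nat.card K).Prime := by
  classical
  -- `N = [S, U]`
  have hNS : ⁅S, U⁆ ≤ S := Cfsg.Agent.Helper1.commutator_le_of_le_normalizer hUS
  have hN1 : ⁅S, U⁆ ≠ ⊥ := by
    intro h
    rw [Subgroup.commutator_eq_bot_iff_le_centralizer] at h
    exact hN (le_centralizer_iff.mp h)
  have hUN : U ≤ normalizer ((⁅S, U⁆ : Subgroup X) : Set X) :=
    Cfsg.Agent.Helper1.le_normalizer_commutator_right S U
  have hKN : K ≤ normalizer ((⁅S, U⁆ : Subgroup X) : Set X) :=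
    Cfsg.Agent.Helper18.BG13P.le_normalizer_commutator_of_le hKS hKU
  have hcopU : (Nat.card U).Coprime (Nat.card S) :=
    (hcop.coprime_dvd_right (card_dvd_of_le le_sup_left)).symm
  have hUnil : Group.IsNilpotent ↥U := isNilpotent_of_isMulCommutative U hUab
  have hUsolv : Group.IsSolvable ↥U := by
    haveI := hUnil
    infer_instance
  have hNN : ⁅⁅S, U⁆, U⁆ = ⁅S, U⁆ := comm_comm_eq_of_coprime S U hUS hcopU hUsolv
  have hNsolv : Group.IsSolvable ↥(⁅S, U⁆ : Subgroup X) :=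
    solvable_of_solvable_injective (Subgroup.inclusion_injective hNS)
  -- a subgroup `X₀ ≤ K` of prime order
  have hc1 : Nat.card ↥K ≠ 1 := fun h => hK1 (Subgroup.card_eq_one.mp h)
  obtain ⟨r, hr, hrd⟩ := Nat.exists_prime_and_dvd hc1
  haveI := Fact.mk hr
  obtain ⟨k, hk⟩ := exists_prime_orderOf_dvd_card' r hrd
  have hk1 : (k : X) ≠ 1 := by
    intro h
    have : k = 1 := Subtype.ext h
    rw [this, orderOf_one] at hk
    exact hr.one_lt.ne hk
  have hX0K : zpowers (k : X) ≤ K := zpowers_le.mpr k.2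
  have hX0c : Nat.card ↥(zpowers (k : X)) = r := by
    rw [Nat.card_zpowers, Subgroup.orderOf_coe, hk]
  -- the two Frobenius–Wielandt formulas
  have hUnK : ∀ e ∈ K, ∀ u ∈ U, e * u * e⁻¹ ∈ U := fun e he u hu =>
    (mem_normalizer_iff.mp (hKU he) u).mp hu
  have hfpfK : ∀ e ∈ K, e ≠ 1 → ∀ u ∈ U, e * u = u * e → u = 1 := by
    intro e he he1 u hu hcomm
    have : u ∈ U ⊓ centralizer ({e} : Set X) := by
      refine Subgroup.mem_inf.mpr ⟨hu, ?_⟩
      rw [mem_centralizer_iff]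
      intro z hz
      rw [Set.mem_singleton_iff] at hz
      rw [hz]
      exact hcomm
    rw [hfpf e he he1, mem_bot] at this
    exact this
  have hcopN : ∀ E : Subgroup X, E ≤ K →
      (Nat.card ↥(⁅S, U⁆ : Subgroup X)).Coprime (Nat.card ↥(U ⊔ E)) := fun E hE =>
    (hcop.coprime_dvd_left (card_dvd_of_le hNS)).coprime_dvd_right
      (card_dvd_of_le (sup_le_sup_left hE U))
  have hfw1 := Cfsg.Agent.Helper8.SecRep.fw_group U K hUnK hfpfK hUnil _ ⁅S, U⁆ rfl hNsolv
    (sup_le hUN hKN) (hcopN K le_rfl)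
  have hfw2 := Cfsg.Agent.Helper8.SecRep.fw_group U (zpowers (k : X))
    (fun e he u hu => hUnK e (hX0K he) u hu)
    (fun e he he1 u hu hc => hfpfK e (hX0K he) he1 u hu hc) hUnil _ ⁅S, U⁆ rfl hNsolv
    (sup_le hUN (hX0K.trans hKN)) (hcopN _ hX0K)
  -- prime action
  have hcX0 : ⁅S, U⁆ ⊓ centralizer ((zpowers (k : X) : Subgroup X) : Set X) =
      ⁅S, U⁆ ⊓ centralizer (K : Set X) := by
    rw [Cfsg.Agent.Helper7.centralizer_zpowers_eq]
    have h1 := hprime k k.2 hk1
    calc ⁅S, U⁆ ⊓ centralizer ({(k : X)} : Set X)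
        = ⁅S, U⁆ ⊓ (S ⊓ centralizer ({(k : X)} : Set X)) := by
          rw [← inf_assoc, inf_eq_left.mpr hNS]
      _ = ⁅S, U⁆ ⊓ (S ⊓ centralizer (K : Set X)) := by rw [h1]
      _ = ⁅S, U⁆ ⊓ centralizer (K : Set X) := by rw [← inf_assoc, inf_eq_left.mpr hNS]
  have hcUX0 : ⁅S, U⁆ ⊓ centralizer ((U ⊔ zpowers (k : X) : Subgroup X) : Set X) =
      ⁅S, U⁆ ⊓ centralizer ((U ⊔ K : Subgroup X) : Set X) := by
    rw [centralizer_sup_eq, centralizer_sup_eq, inf_left_comm, hcX0, inf_left_comm]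
  rw [hcX0, hcUX0, hX0c] at hfw2
  -- arithmetic
  set a := Nat.card ↥(⁅S, U⁆ ⊓ centralizer (K : Set X)) with ha
  set b := Nat.card ↥(⁅S, U⁆ ⊓ centralizer ((U ⊔ K : Subgroup X) : Set X)) with hb
  set c := Nat.card ↥(⁅S, U⁆ ⊓ centralizer (U : Set X)) with hc
  set n := Nat.card ↥(⁅S, U⁆ : Subgroup X) with hn
  have ha0 : 0 < a := Nat.card_pos
  have hb0 : 0 < b := Nat.card_pos
  have hc0 : 0 < c := Nat.card_pos
  have hn0 : 0 < n := Nat.card_pos
  by_contra hnp
  have hkr : Nat.card ↥K ≠ r := fun h => hnp (h ▸ hr)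
  have hrk : r < Nat.card ↥K := lt_of_le_of_ne (Nat.le_of_dvd Nat.card_pos hrd) (Ne.symm hkr)
  -- `b ^ k * n = a ^ k * c` and `b ^ r * n = a ^ r * c`
  have h3 : b ^ Nat.card ↥K * a ^ r = a ^ Nat.card ↥K * b ^ r := by
    have h4 : (b ^ Nat.card ↥K * n) * (a ^ r * c) = (a ^ Nat.card ↥K * c) * (b ^ r * n) := by
      rw [hfw1, hfw2]
    have h5 : (b ^ Nat.card ↥K * a ^ r) * (n * c) = (a ^ Nat.card ↥K * b ^ r) * (n * c) := by
      calc (b ^ Nat.card ↥K * a ^ r) * (n * c) = (b ^ Nat.card ↥K * n) * (a ^ r * c) := by ring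
        _ = (a ^ Nat.card ↥K * c) * (b ^ r * n) := h4
        _ = (a ^ Nat.card ↥K * b ^ r) * (n * c) := by ring
    exact Nat.eq_of_mul_eq_mul_right (Nat.mul_pos hn0 hc0) h5
  obtain ⟨d, hd⟩ := Nat.exists_eq_add_of_lt hrk
  have h6 : b ^ (d + 1) = a ^ (d + 1) := by
    have h7 : b ^ (d + 1) * (a ^ r * b ^ r) = a ^ (d + 1) * (a ^ r * b ^ r) := by
      have e1 : Nat.card ↥K = r + (d + 1) := by omega
      have h3' : b ^ (r + (d + 1)) * a ^ r = a ^ (r + (d + 1)) * b ^ r := e1 ▸ h3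
      calc b ^ (d + 1) * (a ^ r * b ^ r) = b ^ (r + (d + 1)) * a ^ r := by ring
        _ = a ^ (r + (d + 1)) * b ^ r := h3'
        _ = a ^ (d + 1) * (a ^ r * b ^ r) := by ring
    exact Nat.eq_of_mul_eq_mul_right (Nat.mul_pos (pow_pos ha0 r) (pow_pos hb0 r)) h7
  have hab : b = a := Nat.pow_left_injective (Nat.succ_ne_zero d) h6
  rw [hab] at hfw1
  have hnc : n = c := Nat.eq_of_mul_eq_mul_left (pow_pos ha0 _) hfw1
  have hle : ⁅S, U⁆ ≤ centralizer (U : Set X) := by
    have h8 : ⁅S, U⁆ ⊓ centralizer (U : Set X) = ⁅S, U⁆ :=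
      Subgroup.eq_of_le_of_card_ge inf_le_left (by rw [← hn, ← hc, hnc])
    exact inf_eq_left.mp h8
  apply hN1
  rw [← hNN, Subgroup.commutator_eq_bot_iff_le_centralizer]
  exact hle

end Cfsg.Agent.Helper5.BGFwK
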