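import Mathlib
import Cfsg.Agent.S0035
import Cfsg.Agent.S0039
import Cfsg.Agent.S0041
import Cfsg.Agent.S0042
import Cfsg.Agent.Lib.Helper1.FpfAction
import Cfsg.Agent.Lib.Helper16.UniqueOrderP
import Cfsg.Agent.Lib.Helper16.UniqueInvolution
import Cfsg.Agent.Lib.Helper16.OddUnique

/-!
# Hereditary properties of Frobenius complements (helper5)
-/

set_option autoImplicit false

namespace Cfsg.Agent.Helper5

open Cfsg
open scoped Pointwise

/-- The two hereditary properties of Frobenius complements that we use: commuting elements of the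
same prime order generate the same subgroup, and an element of prime order normalizing a subgroup
of a different prime order centralizes it. -/
structure FCFacts (G : Type*) [Group G] : Prop where
  comm_p : ∀ p : ℕ, p.Prime → ∀ z w : G, orderOf z = p → orderOf w = p → z * w = w * z →
    w ∈ Subgroup.zpowers z
  norm_pq : ∀ p q : ℕ, p.Prime → q.Prime → p ≠ q → ∀ x y : G, orderOf x = p → orderOf y = q →
    x * y * x⁻¹ ∈ Subgroup.zpowers y → x * y = y * x

theorem FCFacts.of_injective {G G' : Type*} [Group G] [Group G'] (h : FCFacts G') (f : G →* G')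
    (hf : Function.Injective f) : FCFacts G := by
  constructor
  · intro p hp z w hz hw hzw
    have h1 := h.comm_p p hp (f z) (f w) (by rw [orderOf_injective f hf, hz])
      (by rw [orderOf_injective f hf, hw]) (by rw [← map_mul, ← map_mul, hzw])
    obtain ⟨k, hk⟩ := Subgroup.mem_zpowers_iff.mp h1
    refine Subgroup.mem_zpowers_iff.mpr ⟨k, hf ?_⟩
    rw [map_zpow]; exact hk
  · intro p q hp hq hpq x y hx hy hxy
    apply hf
    rw [map_mul, map_mul]
    apply h.norm_pq p q hp hq hpq (f x) (f y) (by rw [orderOf_injective f hf, hx])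
      (by rw [orderOf_injective f hf, hy])
    obtain ⟨k, hk⟩ := Subgroup.mem_zpowers_iff.mp hxy
    refine Subgroup.mem_zpowers_iff.mpr ⟨k, ?_⟩
    rw [← map_zpow, hk, map_mul, map_mul, map_inv]

theorem FCFacts.subgroup {G : Type*} [Group G] (h : FCFacts G) (H : Subgroup G) : FCFacts H :=
  h.of_injective H.subtype H.subtype_injective

/-- The cardinality of the join of two cyclic subgroups of distinct prime orders, one normalizing
the other. -/
theorem card_sup_zpowers_pq {L : Type*} [Group L] [Finite L] {p q : ℕ} (hp : p.Prime)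
    (hq : q.Prime) (hpq : p ≠ q) {x y : L} (hx : orderOf x = p) (hy : orderOf y = q)
    (hxy : x * y * x⁻¹ ∈ Subgroup.zpowers y) :
    Nat.card (Subgroup.zpowers x ⊔ Subgroup.zpowers y : Subgroup L) = p * q := by
  have hnorm : Subgroup.zpowers x ≤ Subgroup.normalizer (Subgroup.zpowers y : Set L) := by
    rw [Subgroup.zpowers_le]
    have h1 : ∀ n : L, n ∈ Subgroup.zpowers y → x * n * x⁻¹ ∈ Subgroup.zpowers y := by
      intro n hn
      obtain ⟨k, rfl⟩ := Subgroup.mem_zpowers_iff.mp hn
      have : x * y ^ k * x⁻¹ = (x * y * x⁻¹) ^ k := by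
        rw [conj_zpow]
      rw [this]
      exact Subgroup.zpow_mem _ hxy k
    -- finite: conjugation maps the subgroup into itself, hence onto
    rw [Subgroup.mem_normalizer_iff]
    intro n
    constructor
    · exact h1 n
    · intro hn
      -- x⁻¹ = x ^ (p - 1)
      have hxp : x ^ p = 1 := by rw [← hx]; exact pow_orderOf_eq_one x
      have hiter : ∀ j : ℕ, ∀ m : L, m ∈ Subgroup.zpowers y →
          x ^ j * m * (x ^ j)⁻¹ ∈ Subgroup.zpowers y := by
        intro j
        induction j with
        | zero => intro m hm; simpa using hm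
        | succ j ih =>
          intro m hm
          have := h1 _ (ih m hm)
          have e : x ^ (j + 1) * m * (x ^ (j + 1))⁻¹ = x * (x ^ j * m * (x ^ j)⁻¹) * x⁻¹ := by
            rw [pow_succ']; group
          rw [e]; exact this
      have h2 := hiter (p - 1) _ hn
      have hinv : x ^ (p - 1) = x⁻¹ := by
        have hp1 : p - 1 + 1 = p := Nat.sub_add_cancel hp.one_le
        have : x ^ (p - 1) * x = 1 := by rw [← pow_succ, hp1, hxp]
        exact eq_inv_of_mul_eq_one_left this
      rw [hinv] at h2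
      have e : x⁻¹ * (x * n * x⁻¹) * x⁻¹⁻¹ = n := by group
      rwa [e] at h2
  have hset : ((Subgroup.zpowers x ⊔ Subgroup.zpowers y : Subgroup L) : Set L)
      = (Subgroup.zpowers x : Set L) * (Subgroup.zpowers y : Set L) :=
    Subgroup.coe_mul_of_left_le_normalizer_right _ _ hnorm
  have hle : Nat.card (Subgroup.zpowers x ⊔ Subgroup.zpowers y : Subgroup L) ≤ p * q := by
    have h1 : Nat.card (Subgroup.zpowers x ⊔ Subgroup.zpowers y : Subgroup L)
        = Nat.card ((Subgroup.zpowers x : Set L) * (Subgroup.zpowers y : Set L) : Set L) := by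
      rw [← hset]; rfl
    rw [h1]
    refine (Set.natCard_mul_le).trans ?_
    have h2 : Nat.card (Subgroup.zpowers x : Set L) = p := by
      rw [← hx]; exact Nat.card_zpowers x
    have h3 : Nat.card (Subgroup.zpowers y : Set L) = q := by
      rw [← hy]; exact Nat.card_zpowers y
    rw [h2, h3]
  have hdp : p ∣ Nat.card (Subgroup.zpowers x ⊔ Subgroup.zpowers y : Subgroup L) := by
    have := Subgroup.card_dvd_of_le (le_sup_left : Subgroup.zpowers x ≤ Subgroup.zpowers x ⊔ Subgroup.zpowers y)
    rwa [Nat.card_zpowers, hx] at this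
  have hdq : q ∣ Nat.card (Subgroup.zpowers x ⊔ Subgroup.zpowers y : Subgroup L) := by
    have := Subgroup.card_dvd_of_le (le_sup_right : Subgroup.zpowers y ≤ Subgroup.zpowers x ⊔ Subgroup.zpowers y)
    rwa [Nat.card_zpowers, hy] at this
  have hcop : Nat.Coprime p q := (Nat.coprime_primes hp hq).mpr hpq
  have hdvd : p * q ∣ Nat.card (Subgroup.zpowers x ⊔ Subgroup.zpowers y : Subgroup L) :=
    hcop.mul_dvd_of_dvd_of_dvd hdp hdq
  exact le_antisymm hle (Nat.le_of_dvd Nat.card_pos hdvd)

/-- A group embedding into a Frobenius complement satisfies `FCFacts`. -/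
theorem fcFacts_of_embedding {G L : Type*} [Group G] [Group L] [Finite L] (H : Subgroup L)
    (hH : Cfsg.IsFrobeniusComplement H) (ι : G →* L) (hι : Function.Injective ι)
    (hιH : ∀ g : G, ι g ∈ H) : FCFacts G := by
  obtain ⟨N, hNk, hNn, hNnil⟩ := Cfsg.Agent.S0042.result H hH
  obtain ⟨N', hNk', hNn', hc⟩ := Cfsg.Agent.S0035.result H hH
  have hNN : N' = N := SetLike.coe_injective (hNk'.trans hNk.symm)
  rw [hNN] at hc
  haveI := hNn
  have hH1 : H ≠ ⊥ := hH.1
  have hN1 : N ≠ ⊥ := by
    intro h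
    rw [h, Subgroup.isComplement'_bot_left] at hc
    exact hH.2.1 hc
  have hfix := (Cfsg.Agent.S0039.result N H hc hN1 hH1).mp hH
  haveI : Nontrivial N := (Subgroup.nontrivial_iff_ne_bot N).mpr hN1
  haveI := hNnil
  set V : Subgroup L := (Subgroup.center N).map N.subtype with hVdef
  have hVN : V ≤ N := by
    rintro _ ⟨v, -, rfl⟩
    exact v.2
  haveI hVcomm : IsMulCommutative V := by
    refine ⟨⟨?_⟩⟩
    rintro ⟨_, a, ha, rfl⟩ ⟨_, b, hb, rfl⟩
    apply Subtype.ext
    show N.subtype a * N.subtype b = N.subtype b * N.subtype a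
    rw [← map_mul, ← map_mul]
    congr 1
    exact (Subgroup.mem_center_iff.mp ha b).symm
  have hVne : V ≠ ⊥ := by
    intro h
    have h1 : Subgroup.center N ≠ ⊥ := Group.IsNilpotent.center_ne_bot N
    apply h1
    rw [eq_bot_iff]
    intro v hv
    have h2 : N.subtype v ∈ V := ⟨v, hv, rfl⟩
    rw [h, Subgroup.mem_bot] at h2
    rw [Subgroup.mem_bot]
    exact Subtype.ext h2
  haveI hVnormal : V.Normal := by
    rw [hVdef]; infer_instance
  have hHV : H ≤ Subgroup.normalizer (V : Set L) := by
    rw [Subgroup.normalizer_eq_top]; exact le_top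
  have hfpfV : ∀ h ∈ H, h ≠ 1 → V ⊓ Subgroup.centralizer {h} = ⊥ := by
    intro h hh h1
    rw [eq_bot_iff]
    exact (inf_le_inf_right _ hVN).trans (hfix h hh h1).le
  constructor
  · intro p hp z w hz hw hzw
    haveI : Fact p.Prime := ⟨hp⟩
    have h1 := Cfsg.Agent.Helper1.mem_zpowers_of_fpf_of_commute (K := V) (H := H) hHV hVne hfpfV
      (hιH z) (hιH w) (by rw [orderOf_injective ι hι, hz]) (by rw [orderOf_injective ι hι, hw])
      (by rw [← map_mul, ← map_mul, hzw])
    obtain ⟨k, hk⟩ := Subgroup.mem_zpowers_iff.mp h1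
    refine Subgroup.mem_zpowers_iff.mpr ⟨k, hι ?_⟩
    rw [map_zpow]; exact hk
  · intro p q hp hq hpq x y hx hy hxy
    have hx' : orderOf (ι x) = p := by rw [orderOf_injective ι hι, hx]
    have hy' : orderOf (ι y) = q := by rw [orderOf_injective ι hι, hy]
    have hxy' : ι x * ι y * (ι x)⁻¹ ∈ Subgroup.zpowers (ι y) := by
      obtain ⟨k, hk⟩ := Subgroup.mem_zpowers_iff.mp hxy
      refine Subgroup.mem_zpowers_iff.mpr ⟨k, ?_⟩
      rw [← map_zpow, hk, map_mul, map_mul, map_inv]
    set A : Subgroup L := Subgroup.zpowers (ι x) ⊔ Subgroup.zpowers (ι y) with hA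
    have hAH : A ≤ H := by
      rw [hA, sup_le_iff, Subgroup.zpowers_le, Subgroup.zpowers_le]
      exact ⟨hιH x, hιH y⟩
    have hcard : Nat.card A = p * q := card_sup_zpowers_pq hp hq hpq hx' hy' hxy'
    have hcyc : IsCyclic A :=
      Cfsg.Agent.S0041.result A V hVne (hAH.trans hHV)
        (fun a ha ha1 => hfpfV a (hAH ha) ha1) (Or.inr ⟨p, q, hp, hq, hcard⟩)
    have hxA : ι x ∈ A := (le_sup_left : Subgroup.zpowers (ι x) ≤ A) (Subgroup.mem_zpowers _)
    have hyA : ι y ∈ A := (le_sup_right : Subgroup.zpowers (ι y) ≤ A) (Subgroup.mem_zpowers _)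
    letI := hcyc.commGroup
    have hcomm : (⟨ι x, hxA⟩ : A) * ⟨ι y, hyA⟩ = ⟨ι y, hyA⟩ * ⟨ι x, hxA⟩ := mul_comm _ _
    apply hι
    rw [map_mul, map_mul]
    exact congrArg Subtype.val hcomm

end Cfsg.Agent.Helper5
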