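import Mathlib
import Cfsg.Agent.Lib.Helper5.FCBasic

/-!
# Consequences of `FCFacts`: `p`-subgroups, and normalized cyclic subgroups (helper5)
-/

set_option autoImplicit false

namespace Cfsg.Agent.Helper5

open Cfsg Cfsg.Agent.Helper16

/-- In a finite cyclic group, an element killed by `q` lies in the subgroup generated by any
element of order `q`. -/
theorem mem_zpowers_of_pow_eq_one_of_isCyclic {Z : Type*} [Group Z] [Finite Z] [IsCyclic Z]
    {q : ℕ} (hq : 0 < q) {c c' : Z} (hc : orderOf c = q) (hc' : c' ^ q = 1) :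
    c' ∈ Subgroup.zpowers c := by
  classical
  letI := Fintype.ofFinite Z
  have h1 := IsCyclic.card_pow_eq_one_le (α := Z) hq
  have h2 : (Finset.univ.filter (fun a : Z => a ∈ Subgroup.zpowers c)) ⊆
      Finset.univ.filter (fun a : Z => a ^ q = 1) := by
    intro a ha
    rw [Finset.mem_filter] at ha ⊢
    refine ⟨Finset.mem_univ _, ?_⟩
    obtain ⟨k, rfl⟩ := Subgroup.mem_zpowers_iff.mp ha.2
    rw [← zpow_natCast, ← zpow_mul, mul_comm, zpow_mul, zpow_natCast, ← hc, pow_orderOf_eq_one,
      one_zpow]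
  have h3 : (Finset.univ.filter (fun a : Z => a ∈ Subgroup.zpowers c)).card = q := by
    rw [← Fintype.card_subtype, ← Nat.card_eq_fintype_card]
    have := Nat.card_zpowers c
    rw [hc] at this
    exact this
  have h4 := Finset.eq_of_subset_of_card_le h2 (by rw [h3]; exact h1)
  have h5 : c' ∈ Finset.univ.filter (fun a : Z => a ^ q = 1) := by
    rw [Finset.mem_filter]; exact ⟨Finset.mem_univ _, hc'⟩
  rw [← h4, Finset.mem_filter] at h5
  exact h5.2

/-- A finite `p`-group satisfying `FCFacts` has a unique subgroup of order `p`. -/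
theorem FCFacts.uniqueOrderP {G : Type*} [Group G] [Finite G] (h : FCFacts G) {p : ℕ}
    [hp : Fact p.Prime] (hG : IsPGroup p G) : UniqueOrderP p G := by
  intro a b ha hb
  haveI : Nontrivial G := by
    refine ⟨⟨a, 1, ?_⟩⟩
    intro h1
    rw [h1, orderOf_one] at ha
    exact hp.out.one_lt.ne ha
  haveI hcn : Nontrivial (Subgroup.center G) := hG.center_nontrivial
  have hdvd : p ∣ Nat.card (Subgroup.center G) := by
    obtain ⟨k, hk⟩ := (hG.to_subgroup (Subgroup.center G)).exists_card_eq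
    rw [hk]
    have hk0 : k ≠ 0 := by
      rintro rfl
      rw [pow_zero] at hk
      have := Finite.one_lt_card_iff_nontrivial.mpr hcn
      omega
    exact dvd_pow_self p hk0
  obtain ⟨z', hz'⟩ := exists_prime_orderOf_dvd_card' p hdvd
  have hzo : orderOf (z' : G) = p := by rw [Subgroup.orderOf_coe, hz']
  have hzc : ∀ x : G, (z' : G) * x = x * z' := fun x => (Subgroup.mem_center_iff.mp z'.2 x).symm
  have key : ∀ c : G, orderOf c = p → Subgroup.zpowers c = Subgroup.zpowers (z' : G) := by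
    intro c hc
    have h1 := h.comm_p p hp.out (z' : G) c hzo hc (hzc c)
    apply Subgroup.eq_of_le_of_card_ge (Subgroup.zpowers_le.mpr h1)
    rw [Nat.card_zpowers, Nat.card_zpowers, hc, hzo]
  rw [key a ha, ← key b hb]
  exact Subgroup.mem_zpowers b

theorem FCFacts.isCyclic_of_isPGroup_odd {G : Type*} [Group G] [Finite G] (h : FCFacts G) {p : ℕ}
    [hp : Fact p.Prime] (hodd : Odd p) (hG : IsPGroup p G) : IsCyclic G :=
  isCyclic_of_uniqueOrderP_odd hodd hG (h.uniqueOrderP hG)

theorem FCFacts.cyclic_or_quaternion {G : Type*} [Group G] [Finite G] (h : FCFacts G)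
    (hG : IsPGroup 2 G) : IsCyclic G ∨ ∃ n : ℕ, Nonempty (G ≃* QuaternionGroup (2 ^ n)) := by
  haveI : Fact (Nat.Prime 2) := ⟨Nat.prime_two⟩
  exact cyclic_or_quaternion_of_uniqueOrderP_two hG (h.uniqueOrderP hG)

/-- In a group satisfying `FCFacts`, an element of prime order `p` normalizing a cyclic subgroup
of order prime to `p` centralizes it. -/
theorem FCFacts.commute_of_normalizes {G : Type*} [Group G] [Finite G] (h : FCFacts G) {p : ℕ}
    (hp : p.Prime) {w : G} (hw : orderOf w = p) :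
    ∀ (n : ℕ) (y : G), orderOf y = n → n.Coprime p → w * y * w⁻¹ ∈ Subgroup.zpowers y →
      w * y = y * w := by
  intro n
  induction n using Nat.strong_induction_on with
  | _ n ih =>
  intro y hy hcop hwy
  by_cases hn1 : n = 1
  · rw [hn1, orderOf_eq_one_iff] at hy
    rw [hy, mul_one, one_mul]
  have hnpos : 0 < n := by rw [← hy]; exact orderOf_pos y
  obtain ⟨q, hq, hqn⟩ := Nat.exists_prime_and_dvd hn1
  have hqp : q ≠ p := by
    intro hqp
    subst hqp
    have := Nat.Coprime.eq_one_of_dvd hcop.symm hqn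
    exact hq.one_lt.ne' this
  have hyq : orderOf (y ^ q) = n / q := by
    rw [orderOf_pow' y hq.ne_zero, hy, Nat.gcd_eq_right hqn]
  have hlt : n / q < n := Nat.div_lt_self hnpos hq.one_lt
  obtain ⟨k, hk⟩ := Subgroup.mem_zpowers_iff.mp hwy
  have hwyq : w * y ^ q * w⁻¹ ∈ Subgroup.zpowers (y ^ q) := by
    rw [← conj_pow, ← hk]
    refine Subgroup.mem_zpowers_iff.mpr ⟨k, ?_⟩
    rw [← zpow_natCast, ← zpow_natCast, ← zpow_mul, ← zpow_mul, mul_comm]
  have hcopq : (n / q).Coprime p := Nat.Coprime.coprime_dvd_left (Nat.div_dvd_of_dvd hqn) hcop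
  have hc1 : w * y ^ q = y ^ q * w := ih (n / q) hlt (y ^ q) hyq hcopq hwyq
  set c : G := y⁻¹ * (w * y * w⁻¹) with hc
  have hcy : c ∈ Subgroup.zpowers y :=
    Subgroup.mul_mem _ (Subgroup.inv_mem _ (Subgroup.mem_zpowers y)) hwy
  have hyc : Commute y c := by
    obtain ⟨j, hj⟩ := Subgroup.mem_zpowers_iff.mp hcy
    rw [← hj]
    exact (Commute.refl y).zpow_right j
  have hwyw : w * y * w⁻¹ = y * c := by rw [hc]; group
  have hcq : c ^ q = 1 := by
    have h2 : (w * y * w⁻¹) ^ q = y ^ q := by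
      rw [conj_pow, hc1]; group
    rw [hwyw, hyc.mul_pow] at h2
    exact mul_left_cancel (a := y ^ q) (by rw [h2, mul_one])
  -- `w` normalizes `zpowers y`
  have hnorm : ∀ g : G, g ∈ Subgroup.zpowers y → w * g * w⁻¹ ∈ Subgroup.zpowers y := by
    intro g hg
    obtain ⟨j, rfl⟩ := Subgroup.mem_zpowers_iff.mp hg
    rw [← conj_zpow]
    exact Subgroup.zpow_mem _ hwy j
  have hwc : w * c = c * w := by
    by_cases hc1' : c = 1
    · rw [hc1', mul_one, one_mul]
    haveI : Fact q.Prime := ⟨hq⟩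
    have hco : orderOf c = q := orderOf_eq_prime hcq hc1'
    apply h.norm_pq p q hp hq hqp.symm w c hw hco
    have hmem := hnorm c hcy
    have hpow : (w * c * w⁻¹) ^ q = 1 := by rw [conj_pow, hcq]; group
    haveI : IsCyclic (Subgroup.zpowers y) := inferInstance
    have h3 := mem_zpowers_of_pow_eq_one_of_isCyclic (Z := Subgroup.zpowers y) hq.pos
      (c := ⟨c, hcy⟩) (c' := ⟨w * c * w⁻¹, hmem⟩) (by rw [← hco]; exact Subgroup.orderOf_mk c hcy)
      (Subtype.ext (by simpa using hpow))
    obtain ⟨j, hj⟩ := Subgroup.mem_zpowers_iff.mp h3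
    refine Subgroup.mem_zpowers_iff.mpr ⟨j, ?_⟩
    have := congrArg Subtype.val hj
    simpa using this
  have hiter : ∀ j : ℕ, w ^ j * y * (w ^ j)⁻¹ = y * c ^ j := by
    intro j
    induction j with
    | zero => simp
    | succ j ihj =>
      have e : w ^ (j + 1) * y * (w ^ (j + 1))⁻¹ = w * (w ^ j * y * (w ^ j)⁻¹) * w⁻¹ := by
        rw [pow_succ']; group
      rw [e, ihj]
      have e2 : w * (y * c ^ j) * w⁻¹ = (w * y * w⁻¹) * (w * c ^ j * w⁻¹) := by group
      have hwcj : w * c ^ j * w⁻¹ = c ^ j := by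
        have : Commute w (c ^ j) := (show Commute w c from hwc).pow_right j
        rw [this.eq]; group
      rw [e2, hwyw, hwcj, mul_assoc, ← pow_succ']
  have hcp : c ^ p = 1 := by
    have h4 := hiter p
    have hwp : w ^ p = 1 := by rw [← hw]; exact pow_orderOf_eq_one w
    rw [hwp, one_mul, inv_one, mul_one] at h4
    exact (mul_left_cancel (a := y) (by rw [← h4, mul_one])).symm
  have hc_one : c = 1 := by
    have h5 : orderOf c ∣ q := orderOf_dvd_of_pow_eq_one hcq
    have h6 : orderOf c ∣ p := orderOf_dvd_of_pow_eq_one hcp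
    have h7 : orderOf c ∣ Nat.gcd q p := Nat.dvd_gcd h5 h6
    rw [(Nat.coprime_primes hq hp).mpr hqp] at h7
    exact orderOf_eq_one_iff.mp (Nat.dvd_one.mp h7)
  rw [hc_one, mul_one] at hwyw
  calc w * y = (w * y * w⁻¹) * w := by group
    _ = y * w := by rw [hwyw]

end Cfsg.Agent.Helper5
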