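import Mathlib
import Cfsg.Agent.Lib.Helper5.FCSylow
import Cfsg.Agent.Lib.Helper16.QuatLike
import Cfsg.Agent.Lib.Helper16.QuatNormal
import Cfsg.Agent.Lib.Helper16.AutTwoGroup
import Cfsg.Agent.Lib.Helper16.Solvable2
import Cfsg.Agent.Lib.Helper7.PComp
import Cfsg.Agent.Lib.Helper7.Bender
import Cfsg.Agent.Lib.Helper22.PPrimeCore
import Cfsg.Agent.Lib.Helper14.Basic
import Cfsg.Agent.Lib.Helper4.BinOctA

/-!
# Solvable groups satisfying `FCFacts`: a homomorphism to `S₄` whose kernel is a Z-group (helper5)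
-/

set_option autoImplicit false

namespace Cfsg.Agent.Helper5

open Cfsg Cfsg.Agent.Helper16

theorem uniqueOrderP_of_injective {p : ℕ} {G H : Type*} [Group G] [Group H] (f : H →* G)
    (hf : Function.Injective f) (h : UniqueOrderP p G) : UniqueOrderP p H := by
  intro x y hx hy
  have h1 := h (f x) (f y) (by rw [orderOf_injective f hf, hx]) (by rw [orderOf_injective f hf, hy])
  obtain ⟨k, hk⟩ := Subgroup.mem_zpowers_iff.mp h1
  exact Subgroup.mem_zpowers_iff.mpr ⟨k, hf (by rw [map_zpow]; exact hk)⟩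

/-- A subgroup of index at most four gives a homomorphism to `S₄` whose kernel is its core. -/
theorem exists_hom_ker_eq_normalCore {X : Type*} [Group X] [Finite X] (B : Subgroup X)
    (hB : B.index ≤ 4) : ∃ f' : X →* Equiv.Perm (Fin 4), f'.ker = B.normalCore := by
  classical
  letI : Fintype (X ⧸ B) := Fintype.ofFinite _
  have hcard : Fintype.card (X ⧸ B) ≤ Fintype.card (Fin 4) := by
    rw [← Nat.card_eq_fintype_card, Fintype.card_fin]
    exact hB
  obtain ⟨ι⟩ := Function.Embedding.nonempty_of_card_le hcard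
  refine ⟨(Equiv.Perm.viaEmbeddingHom ι).comp (MulAction.toPermHom X (X ⧸ B)), ?_⟩
  rw [Subgroup.normalCore_eq_ker, ← MonoidHom.comap_ker,
    (MonoidHom.ker_eq_bot_iff _).mpr (Equiv.Perm.viaEmbeddingHom_injective ι), MonoidHom.comap_bot]

theorem exists_hom_of_isPGroup_two {X : Type*} [Group X] [Finite X] (h2 : IsPGroup 2 X)
    (hU : UniqueOrderP 2 X) :
    ∃ f' : X →* Equiv.Perm (Fin 4), IsCyclic f'.ker ∧ IsPGroup 2 f'.ker := by
  rcases cyclic_or_quaternion_of_uniqueOrderP_two h2 hU with hc | ⟨k, ⟨e⟩⟩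
  · refine ⟨1, ?_, h2.to_subgroup _⟩
    rw [MonoidHom.ker_one]
    exact isCyclic_of_surjective Subgroup.topEquiv.symm.toMonoidHom Subgroup.topEquiv.symm.surjective
  · obtain ⟨a, hao, hidx, -, -⟩ := quaternionLike_of_mulEquiv k e
    haveI : (Subgroup.zpowers a).Normal := Subgroup.normal_of_index_eq_two hidx
    obtain ⟨f', hf'⟩ := exists_hom_ker_eq_normalCore (Subgroup.zpowers a) (by rw [hidx]; norm_num)
    refine ⟨f', ?_, h2.to_subgroup _⟩
    rw [hf', Subgroup.normalCore_eq_self]
    infer_instance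

theorem exists_hom_two_structure {X : Type*} [Group X] [Finite X]
    (hC : Subgroup.centralizer (pCore 2 X : Set X) ≤ pCore 2 X)
    (S' : Sylow 2 X) (hU : UniqueOrderP 2 S') :
    ∃ f' : X →* Equiv.Perm (Fin 4), IsCyclic f'.ker ∧ IsPGroup 2 f'.ker := by
  haveI hF : Fact (Nat.Prime 2) := ⟨Nat.prime_two⟩
  have hTS : pCore 2 X ≤ S' := Cfsg.Agent.Helper14.pCore_le_sylow S'
  have hT2 : IsPGroup 2 (pCore 2 X) := Cfsg.Agent.Helper14.pCore_isPGroup 2 X
  have hUT : UniqueOrderP 2 (pCore 2 X) :=
    uniqueOrderP_of_injective (Subgroup.inclusion hTS) (Subgroup.inclusion_injective hTS) hU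
  -- the case where `X` is a `2`-group
  have h2case : IsPGroup 2 X →
      ∃ f' : X →* Equiv.Perm (Fin 4), IsCyclic f'.ker ∧ IsPGroup 2 f'.ker := by
    intro h2
    have hS'top : (S' : Subgroup X) = ⊤ :=
      (S'.is_maximal' (Q := ⊤) (h2.to_subgroup ⊤) le_top).symm
    have hUX : UniqueOrderP 2 X := by
      intro x y hx hy
      have hxS : x ∈ (S' : Subgroup X) := by rw [hS'top]; exact Subgroup.mem_top x
      have hyS : y ∈ (S' : Subgroup X) := by rw [hS'top]; exact Subgroup.mem_top y
      have h1 := hU ⟨x, hxS⟩ ⟨y, hyS⟩ ((Subgroup.orderOf_mk x hxS).trans hx)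
        ((Subgroup.orderOf_mk y hyS).trans hy)
      obtain ⟨k, hk⟩ := Subgroup.mem_zpowers_iff.mp h1
      refine Subgroup.mem_zpowers_iff.mpr ⟨k, ?_⟩
      have := congrArg Subtype.val hk
      simpa using this
    exact exists_hom_of_isPGroup_two h2 hUX
  rcases cyclic_or_quaternion_of_uniqueOrderP_two hT2 hUT with hcyc | ⟨k, ⟨e⟩⟩
  · apply h2case
    exact isPGroup_of_aut_isPGroup (pCore 2 X) hT2 hC (mulAut_isPGroup_of_isCyclic' hT2 hcyc)
  · rcases Nat.lt_or_ge k 1 with hk0 | hk1
    · -- `k = 0`: cyclic of order four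
      have hk : k = 0 := by omega
      subst hk
      have hcyc' : IsCyclic (QuaternionGroup (2 ^ 0)) := by
        rw [pow_zero]; exact QuaternionGroup.quaternionGroup_one_isCyclic
      have hcyc : IsCyclic (pCore 2 X) :=
        isCyclic_of_surjective e.symm.toMonoidHom e.symm.surjective
      apply h2case
      exact isPGroup_of_aut_isPGroup (pCore 2 X) hT2 hC (mulAut_isPGroup_of_isCyclic' hT2 hcyc)
    · rcases Nat.lt_or_ge k 2 with hk1' | hk2
      · -- `k = 1`: the quaternion group of order eight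
        have hk : k = 1 := by omega
        subst hk
        rw [pow_one] at e
        obtain ⟨iso⟩ := Cfsg.Agent.S3742.result
        refine ⟨iso.toMonoidHom.comp (Cfsg.Agent.Helper4.BinOct.kap (pCore 2 X) e), ?_⟩
        have hker : (iso.toMonoidHom.comp (Cfsg.Agent.Helper4.BinOct.kap (pCore 2 X) e)).ker
            = (Cfsg.Agent.Helper4.BinOct.kap (pCore 2 X) e).ker := by
          rw [← MonoidHom.comap_ker, (MonoidHom.ker_eq_bot_iff _).mpr iso.injective,
            MonoidHom.comap_bot]
        have hcard := Cfsg.Agent.Helper4.BinOct.card_ker_kap (pCore 2 X) e hC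
        rw [hker]
        exact ⟨isCyclic_of_prime_card (p := 2) hcard,
          IsPGroup.of_card (n := 1) (by rw [hcard, pow_one])⟩
      · -- `k ≥ 2`: the automorphism group is a `2`-group
        obtain ⟨a, hao, hidx, hout4, -⟩ := quaternionLike_of_mulEquiv k e
        have hcardT : Nat.card (pCore 2 X) = 2 ^ (k + 1 + 1) := by
          have h1 := Subgroup.card_mul_index (Subgroup.zpowers a)
          rw [hidx, Nat.card_zpowers, hao] at h1
          rw [← h1]
          exact (pow_succ 2 (k + 1)).symm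
        have hA : IsPGroup 2 (MulAut (pCore 2 X)) := by
          apply aut_isPGroup_of_cyclic_index_two (k + 1) (by omega) hcardT a hao
          intro g hg
          rw [hout4 g hg]
          have h3 : 2 ^ 3 ≤ 2 ^ (k + 1) := Nat.pow_le_pow_right (by norm_num) (by omega)
          omega
        apply h2case
        exact isPGroup_of_aut_isPGroup (pCore 2 X) hT2 hC hA

/-- A finite solvable group satisfying `FCFacts` has a homomorphism to `S₄` whose kernel has
cyclic Sylow subgroups. -/
theorem exists_hom_perm_four {G : Type*} [Group G] [Finite G] (hsol : Group.IsSolvable G)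
    (h : FCFacts G) :
    ∃ f : G →* Equiv.Perm (Fin 4), ∀ (p : ℕ) [Fact p.Prime] (P : Sylow p f.ker), IsCyclic P := by
  haveI hF : Fact (Nat.Prime 2) := ⟨Nat.prime_two⟩
  have hOc : (Nat.card (pPrimeCore 2 G)).Coprime 2 :=
    Cfsg.Agent.Helper22.card_pPrimeCore_coprime 2
  have hπs : Function.Surjective (QuotientGroup.mk' (pPrimeCore 2 G)) :=
    QuotientGroup.mk'_surjective _
  have hsol' : Group.IsSolvable (G ⧸ pPrimeCore 2 G) := inferInstance
  have hO' : pPrimeCore 2 (G ⧸ pPrimeCore 2 G) = ⊥ :=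
    Cfsg.Agent.Helper7.pPrimeCore_quotient_eq_bot' 2
  have hC := centralizer_pCore_le_of_isSolvable 2 hsol' hO'
  -- the quotient map is injective on `2`-elements
  have hinj2 : ∀ u : G, (∃ j : ℕ, u ^ 2 ^ j = 1) →
      (QuotientGroup.mk' (pPrimeCore 2 G)) u = 1 → u = 1 := by
    rintro u ⟨j, hj⟩ h1
    have h2 : u ∈ pPrimeCore 2 G := by
      rwa [QuotientGroup.mk'_apply, QuotientGroup.eq_one_iff] at h1
    have h4 : u ^ Nat.card (pPrimeCore 2 G) = 1 := by
      have h := pow_card_eq_one' (G := pPrimeCore 2 G) (x := ⟨u, h2⟩)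
      have h' := congrArg (fun z : pPrimeCore 2 G => (z : G)) h
      simpa only [Subgroup.coe_pow, Subgroup.coe_one] using h'
    exact Cfsg.Agent.Helper14.eq_one_of_pow_eq_one_of_coprime h4 hj
      (Nat.Coprime.pow_right j hOc)
  let S : Sylow 2 G := default
  have hinj : Function.Injective
      ((QuotientGroup.mk' (pPrimeCore 2 G)).subgroupMap (S : Subgroup G)) := by
    rw [injective_iff_map_eq_one]
    intro x hx
    have h1 : (QuotientGroup.mk' (pPrimeCore 2 G)) (x : G) = 1 := by
      have := congrArg Subtype.val hx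
      simpa using this
    obtain ⟨j, hj⟩ := S.2 x
    have h3 : (x : G) ^ 2 ^ j = 1 := by
      have := congrArg Subtype.val hj
      simpa using this
    exact Subtype.ext (hinj2 _ ⟨j, h3⟩ h1)
  let S' : Sylow 2 (G ⧸ pPrimeCore 2 G) := S.mapSurjective hπs
  let f : (S : Subgroup G) ≃* (S' : Subgroup (G ⧸ pPrimeCore 2 G)) :=
    MulEquiv.ofBijective ((QuotientGroup.mk' (pPrimeCore 2 G)).subgroupMap (S : Subgroup G))
      ⟨hinj, MonoidHom.subgroupMap_surjective _ _⟩
  have hUS : UniqueOrderP 2 (S : Subgroup G) := (h.subgroup _).uniqueOrderP S.2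
  have hUS' : UniqueOrderP 2 (S' : Subgroup (G ⧸ pPrimeCore 2 G)) :=
    uniqueOrderP_of_injective f.symm.toMonoidHom f.symm.injective hUS
  obtain ⟨f', hcyc, h2⟩ := exists_hom_two_structure hC S' hUS'
  refine ⟨f'.comp (QuotientGroup.mk' (pPrimeCore 2 G)), ?_⟩
  intro p _ P
  by_cases hp2 : p = 2
  · subst hp2
    let ψ : (P : Subgroup (f'.comp (QuotientGroup.mk' (pPrimeCore 2 G))).ker) →* f'.ker :=
      MonoidHom.codRestrict
        ((QuotientGroup.mk' (pPrimeCore 2 G)).comp
          ((f'.comp (QuotientGroup.mk' (pPrimeCore 2 G))).ker.subtype.comp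
            (P : Subgroup (f'.comp (QuotientGroup.mk' (pPrimeCore 2 G))).ker).subtype))
        f'.ker (fun u => by
          rw [MonoidHom.mem_ker]
          exact MonoidHom.mem_ker.mp u.1.2)
    have hψ : Function.Injective ψ := by
      rw [injective_iff_map_eq_one]
      intro u hu
      have h1 : (QuotientGroup.mk' (pPrimeCore 2 G)) ((u : (f'.comp (QuotientGroup.mk' (pPrimeCore 2 G))).ker) : G) = 1 := by
        have := congrArg Subtype.val hu
        exact this
      obtain ⟨j, hj⟩ := P.2 u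
      have h3 : ((u : (f'.comp (QuotientGroup.mk' (pPrimeCore 2 G))).ker) : G) ^ 2 ^ j = 1 := by
        have := congrArg (fun z : (P : Subgroup (f'.comp (QuotientGroup.mk' (pPrimeCore 2 G))).ker) =>
          ((z : (f'.comp (QuotientGroup.mk' (pPrimeCore 2 G))).ker) : G)) hj
        simpa using this
      exact Subtype.ext (Subtype.ext (hinj2 _ ⟨j, h3⟩ h1))
    exact isCyclic_of_injective ψ hψ
  · have hodd : Odd p := (Fact.out : p.Prime).odd_of_ne_two hp2
    have hFP : FCFacts (P : Subgroup (f'.comp (QuotientGroup.mk' (pPrimeCore 2 G))).ker) :=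
      (h.subgroup _).subgroup _
    exact hFP.isCyclic_of_isPGroup_odd hodd P.2

end Cfsg.Agent.Helper5
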