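import Mathlib
import Cfsg.Prelude.Def_CharExt
import Cfsg.Agent.Lib.Helper5.IrrOfChar
import Cfsg.Agent.Lib.Helper24.CharAlgebra

/-!
# The determinantal character (helper5's shared library)
-/

set_option autoImplicit false

namespace Cfsg.Agent.Helper5

open Cfsg Cfsg.Agent.Helper24 Module

universe u

section DetChar

variable {G : Type u} [Group G]

/-- The determinantal character of a character is computed by some representation affording
it. -/
theorem exists_rep_detChar {χ : G → ℂ} (hc : IsCharacter G χ) :
    ∃ (n : ℕ) (R : Representation ℂ G (Fin n → ℂ)), R.character = χ ∧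
      ∀ g, detChar χ g = LinearMap.det (R g) := by
  classical
  refine ⟨Classical.choose hc, Classical.choose (Classical.choose_spec hc),
    Classical.choose_spec (Classical.choose_spec hc), ?_⟩
  intro g
  unfold detChar
  rw [dif_pos hc]

theorem detChar_mul {χ : G → ℂ} (hc : IsCharacter G χ) (g h : G) :
    detChar χ (g * h) = detChar χ g * detChar χ h := by
  obtain ⟨n, R, -, hR⟩ := exists_rep_detChar hc
  rw [hR, hR, hR, map_mul, map_mul]

theorem detChar_one {χ : G → ℂ} (hc : IsCharacter G χ) : detChar χ 1 = 1 := by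
  obtain ⟨n, R, -, hR⟩ := exists_rep_detChar hc
  rw [hR, map_one, map_one]

/-- The determinantal character as a homomorphism. -/
noncomputable def detHom {χ : G → ℂ} (hc : IsCharacter G χ) : G →* ℂˣ :=
  MonoidHom.toHomUnits
    { toFun := detChar χ
      map_one' := detChar_one hc
      map_mul' := detChar_mul hc }

@[simp] theorem detHom_apply {χ : G → ℂ} (hc : IsCharacter G χ) (g : G) :
    ((detHom hc g : ℂˣ) : ℂ) = detChar χ g := rfl

theorem isIrrCharacter_detChar {χ : G → ℂ} (hc : IsCharacter G χ) :
    IsIrrCharacter G (detChar χ) := by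
  have := isIrrCharacter_of_monoidHom (detHom hc)
  simpa using this

/-- For an irreducible character, the determinantal character is computed by any representation
affording it. -/
theorem detChar_eq_det [Finite G] {χ : G → ℂ} (hχ : IsIrrCharacter G χ)
    {V : Type} [AddCommGroup V] [Module ℂ V] [FiniteDimensional ℂ V]
    (R : Representation ℂ G V) (hR : R.character = χ) (g : G) :
    detChar χ g = LinearMap.det (R g) := by
  classical
  letI : Fintype G := Fintype.ofFinite G
  obtain ⟨n, R₀, hR₀, hdet⟩ := exists_rep_detChar (isCharacter_of_isIrrCharacter hχ)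
  rw [hdet]
  have h1 : R₀.IsIrreducible := isIrreducible_of_isIrrCharacter R₀ (by rw [hR₀]; exact hχ)
  have h2 : R.IsIrreducible := isIrreducible_of_isIrrCharacter R (by rw [hR]; exact hχ)
  obtain ⟨φ⟩ := nonempty_equiv_of_char_eq R₀ R h1 h2 (hR₀.trans hR.symm)
  have h := φ.toIntertwiningMap.isIntertwining' g
  have h3 : R g = φ.toLinearEquiv.toLinearMap ∘ₗ R₀ g ∘ₗ φ.toLinearEquiv.symm.toLinearMap := by
    apply LinearMap.ext
    intro v
    have h4 := congrArg (fun f => f (φ.toLinearEquiv.symm v)) h
    simp only [LinearMap.comp_apply] at h4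
    simp only [LinearMap.comp_apply, LinearEquiv.coe_coe]
    rw [h4]
    congr 1
    exact (φ.toLinearEquiv.apply_symm_apply v).symm
  rw [h3, LinearMap.det_conj]

/-- The determinantal character of a linear character is itself. -/
theorem detChar_of_hom [Finite G] (f : G →* ℂˣ) :
    detChar (fun g => ((f g : ℂˣ) : ℂ)) = fun g => ((f g : ℂˣ) : ℂ) := by
  funext g
  rw [detChar_eq_det (isIrrCharacter_of_monoidHom f) (linRep f) (linRep_character f)]
  show LinearMap.det (((f g : ℂˣ) : ℂ) • (LinearMap.id : ℂ →ₗ[ℂ] ℂ)) = _
  rw [LinearMap.det_smul, Module.finrank_self, pow_one, LinearMap.det_id, mul_one]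

theorem detChar_linear [Finite G] {μ : G → ℂ} (hμ : IsCharacter G μ) (h1 : μ 1 = 1) :
    detChar μ = μ := by
  have := detChar_of_hom (linHom hμ h1)
  simpa using this

/-- Determinantal characters are compatible with pulling back along a homomorphism, as long as
the pulled back character stays irreducible. -/
theorem detChar_comp [Finite G] {H : Type u} [Group H] [Finite H] (f : H →* G) {χ : G → ℂ}
    (hχ : IsIrrCharacter G χ) (hcomp : IsIrrCharacter H (χ ∘ f)) (h : H) :
    detChar (χ ∘ f) h = detChar χ (f h) := by
  obtain ⟨n, R, hR, hdet⟩ := exists_rep_detChar (isCharacter_of_isIrrCharacter hχ)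
  rw [hdet, detChar_eq_det hcomp (R.comp f) (by rw [← hR]; rfl)]
  rfl

end DetChar

section Twist

variable {G : Type u} [Group G]
variable {V : Type*} [AddCommGroup V] [Module ℂ V]

/-- The twist of a representation by a linear character. -/
def twistRep (β : G →* ℂˣ) (R : Representation ℂ G V) : Representation ℂ G V where
  toFun g := ((β g : ℂˣ) : ℂ) • R g
  map_one' := by simp
  map_mul' a b := by
    rw [map_mul, map_mul, Units.val_mul, smul_mul_smul_comm]

theorem twistRep_apply (β : G →* ℂˣ) (R : Representation ℂ G V) (g : G) :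
    twistRep β R g = ((β g : ℂˣ) : ℂ) • R g := rfl

theorem twistRep_character (β : G →* ℂˣ) (R : Representation ℂ G V) :
    (twistRep β R).character = fun g => ((β g : ℂˣ) : ℂ) * R.character g := by
  funext g
  show LinearMap.trace ℂ V (((β g : ℂˣ) : ℂ) • R g) = _
  rw [map_smul, smul_eq_mul]
  rfl

theorem isIrreducible_twistRep (β : G →* ℂˣ) (R : Representation ℂ G V) (hR : R.IsIrreducible) :
    (twistRep β R).IsIrreducible := by
  rw [isIrreducible_iff] at hR ⊢
  refine ⟨hR.1, ?_⟩
  intro U hU
  apply hR.2 U
  intro g v hv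
  have h1 := hU g v hv
  rw [twistRep_apply, LinearMap.smul_apply] at h1
  have h2 := U.smul_mem (((β g : ℂˣ) : ℂ))⁻¹ h1
  rwa [smul_smul, inv_mul_cancel₀ (Units.ne_zero _), one_smul] at h2

/-- The product of a linear character and an irreducible character is irreducible. -/
theorem isIrrCharacter_twist (β : G →* ℂˣ) {χ : G → ℂ} (hχ : IsIrrCharacter G χ) :
    IsIrrCharacter G (fun g => ((β g : ℂˣ) : ℂ) * χ g) := by
  obtain ⟨n, R, hR, rfl⟩ := hχ
  exact ⟨n, twistRep β R, isIrreducible_twistRep β R hR, twistRep_character β R⟩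

/-- The determinantal character of a twist. -/
theorem detChar_twist [Finite G] (β : G →* ℂˣ) {χ : G → ℂ} (hχ : IsIrrCharacter G χ) (n : ℕ)
    (hn : χ 1 = n) (g : G) :
    detChar (fun g => ((β g : ℂˣ) : ℂ) * χ g) g = ((β g : ℂˣ) : ℂ) ^ n * detChar χ g := by
  obtain ⟨m, R, hR, hdet⟩ := exists_rep_detChar (isCharacter_of_isIrrCharacter hχ)
  have hm : m = n := by
    rw [← hR, Representation.char_one] at hn
    have : finrank ℂ (Fin m → ℂ) = n := by exact_mod_cast hn
    simpa using this
  rw [detChar_eq_det (isIrrCharacter_twist β hχ) (twistRep β R)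
    (by rw [twistRep_character, hR]), twistRep_apply, LinearMap.det_smul, hdet]
  simp [hm]

end Twist

end Cfsg.Agent.Helper5
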