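import Mathlib
import Cfsg.Prelude.Def_Local
import Cfsg.Prelude.Def_Blocks
import Cfsg.Agent.Lib.Helper19.PLength
import Cfsg.Agent.Lib.Helper23.PrincipalQuot
import Cfsg.Agent.Lib.Helper24.CharHom

/-!
# p-length one and the principal block: the forward direction (helper5)
-/

set_option autoImplicit false

namespace Cfsg.Agent.Helper5.PLenOne

open Cfsg Cfsg.Agent.Helper24 Cfsg.Agent.Helper23.Blk Cfsg.Agent.Helper19.PLen

universe u

variable {G : Type u} [Group G] [Finite G]

/-- a normal subgroup of index prime to `p` contains every Sylow `p`-subgroup -/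
theorem sylow_le_of_index_coprime {p : ℕ} [Fact p.Prime] (P : Sylow p G) (U : Subgroup G)
    [U.Normal] (hU : U.index.Coprime p) : (P : Subgroup G) ≤ U := by
  intro g hg
  rw [← QuotientGroup.eq_one_iff (N := U)]
  obtain ⟨k, hk⟩ := (P.2 ⟨g, hg⟩)
  have hk' : g ^ p ^ k = 1 := by
    have := congrArg (Subtype.val) hk
    simpa using this
  have h1 : ((g : G) : G ⧸ U) ^ p ^ k = 1 := by
    rw [← QuotientGroup.mk_pow, hk', QuotientGroup.mk_one]
  have h2 : ((g : G) : G ⧸ U) ^ Nat.card (G ⧸ U) = 1 := pow_card_eq_one'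
  have h3 : (Nat.card (G ⧸ U)).Coprime (p ^ k) := by
    have : Nat.card (G ⧸ U) = U.index := rfl
    rw [this]
    exact Nat.Coprime.pow_right k hU
  have h4 := pow_gcd_eq_one.mpr ⟨h2, h1⟩
  rw [Nat.Coprime.gcd_eq_one h3, pow_one] at h4
  exact h4

/-- if `G` has `p`-length at most one then `G = N_G(P) O_{p'}(G)` -/
theorem normalizer_sup_eq_top_of_plengthLE {p : ℕ} [Fact p.Prime] (P : Sylow p G)
    (h : PLengthLE p 1 G) :
    Subgroup.normalizer ((P : Subgroup G) : Set G) ⊔ (upperPSeries p G 1).1 = ⊤ := by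
  have hch := upperPSeries_isPChain (G := G) p
  have h3 : (upperPSeries p G 3).1 = ⊤ := h
  have h2 : ((upperPSeries p G 2).1.relIndex (upperPSeries p G (2 + 1)).1).Coprime p :=
    hch.even 2 (by decide)
  rw [h3, Subgroup.relIndex_top_right] at h2
  have hPU2 : (P : Subgroup G) ≤ (upperPSeries p G 2).1 := sylow_le_of_index_coprime P _ h2
  have hfr := Sylow.normalizer_sup_eq_top' P hPU2
  -- U2 ≤ U1 ⊔ P
  have h12 := upperPSeries_one_le_two (G := G) p
  obtain ⟨m, hm⟩ := relIndex_upperPSeries_one_two (G := G) p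
  have hK : (upperPSeries p G 2).1 ≤ (upperPSeries p G 1).1 ⊔ (P : Subgroup G) := by
    rw [← Subgroup.relIndex_eq_one]
    have d1 : ((upperPSeries p G 1).1 ⊔ (P : Subgroup G)).relIndex (upperPSeries p G 2).1 ∣ p ^ m := by
      rw [← hm]
      exact Subgroup.relIndex_dvd_of_le_left _ le_sup_left
    have d2 : ((upperPSeries p G 1).1 ⊔ (P : Subgroup G)).relIndex (upperPSeries p G 2).1 ∣
        (P : Subgroup G).index :=
      dvd_trans (Subgroup.relIndex_dvd_of_le_left _ le_sup_right)
        (Subgroup.relIndex_dvd_index_of_le hPU2)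
    have hcop : ((P : Subgroup G).index).Coprime (p ^ m) := by
      apply Nat.Coprime.pow_right
      rw [Nat.coprime_comm, Nat.Prime.coprime_iff_not_dvd Fact.out]
      exact P.not_dvd_index
    exact Nat.eq_one_of_dvd_coprimes hcop d2 d1
  rw [eq_top_iff, ← hfr]
  apply sup_le
  · exact le_sup_left
  · refine le_trans hK (sup_le le_sup_right ?_)
    exact le_trans Subgroup.le_normalizer le_sup_left

/-- the forward direction -/
theorem forward {p : ℕ} [Fact p.Prime] {M : Ideal AlgInt} (hM : IsPModular p M) (P : Sylow p G)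
    (h : PLengthLE p 1 G) (χ : IrrCharacter G) (hχ : χ ∈ principalBlock M G) :
    IsIrrCharacter ↥(Subgroup.normalizer ((P : Subgroup G) : Set G))
      (fun n : ↥(Subgroup.normalizer ((P : Subgroup G) : Set G)) => (χ : G → ℂ) n) := by
  set U : Subgroup G := (upperPSeries p G 1).1 with hU
  have hUc : ¬ p ∣ Nat.card U := by
    rw [← Nat.Prime.coprime_iff_not_dvd Fact.out, Nat.coprime_comm]
    exact card_upperPSeries_one_coprime p
  have htriv := principalBlock_trivial_on hM U hUc hχ
  set ψ : IrrCharacter (G ⧸ U) := (inflateEquiv U).symm ⟨χ, htriv⟩ with hψ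
  have hχψ : (χ : G → ℂ) = (ψ : G ⧸ U → ℂ) ∘ (QuotientGroup.mk : G → G ⧸ U) := by
    rw [← inflateEquiv_coe, hψ, Equiv.apply_symm_apply]
  have hsup := normalizer_sup_eq_top_of_plengthLE P h
  let f : ↥(Subgroup.normalizer ((P : Subgroup G) : Set G)) →* G ⧸ U :=
    (QuotientGroup.mk' U).comp (Subgroup.subtype _)
  have hf : Function.Surjective f := by
    intro x
    obtain ⟨g, rfl⟩ := QuotientGroup.mk_surjective x
    have hg : g ∈ Subgroup.normalizer ((P : Subgroup G) : Set G) ⊔ U := by
      rw [hsup]; exact Subgroup.mem_top g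
    rw [Subgroup.mem_sup_of_normal_right] at hg
    obtain ⟨y, hy, z, hz, rfl⟩ := hg
    refine ⟨⟨y, hy⟩, ?_⟩
    show ((y : G) : G ⧸ U) = ((y * z : G) : G ⧸ U)
    rw [QuotientGroup.mk_mul, (QuotientGroup.eq_one_iff z).mpr hz, mul_one]
  have := isIrrCharacter_comp_of_surjective f hf ψ.2
  convert this using 1
  funext n
  rw [hχψ]
  rfl

end Cfsg.Agent.Helper5.PLenOne
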