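import Mathlib
import Cfsg.Agent.S1350
import Cfsg.Agent.S1394
import Cfsg.Agent.S1395
import Cfsg.Agent.S1396
import Cfsg.Agent.S1404
import Cfsg.Agent.S1405
import Cfsg.Agent.S1408
import Cfsg.Agent.S1410
import Cfsg.Agent.S1411
import Cfsg.Agent.Lib.Helper17.BG11B
import Cfsg.Agent.Lib.Helper19.BG16C
import Cfsg.Agent.Lib.Helper22.BG13A
import Cfsg.Agent.Lib.Helper16.BG145A
import Cfsg.Agent.Lib.Helper23.BG10G
import Cfsg.Agent.Lib.Helper14.SubnormalClosure
import Cfsg.Agent.Lib.Helper14.BGTransB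

/-!
# Bender–Glauberman 12.4, part A: the key lemma   (helper5)

If `p ∉ σ(M)`, `A ≤ M` is elementary abelian of order `p²`, maximal among the elementary abelian
`p`-subgroups of `G`, and `M'` is nilpotent, then `A` does not centralise `M_σ`.
-/

set_option autoImplicit false

namespace Cfsg.Agent.Helper5.BG124

open Cfsg Subgroup
open Cfsg.Agent.Helper15 (mem_map_conj_iff conj_mem_map_conj map_conj_map_conj map_conj_one
  map_conj_inv_map_conj map_conj_map_conj_inv map_conj_mono card_map_conj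
  map_conj_eq_of_mem_normalizer IsSylowIn isSylowIn_top isSylowIn_of_sylow_le exists_isSylowIn)

universe u

variable {G : Type u} [Group G] [Finite G]

theorem mem_of_cent {p : ℕ} [Fact p.Prime] {A : Subgroup G} (hA : IsElementaryAbelian p A)
    (hmax : ∀ B : Subgroup G, IsElementaryAbelian p B → A ≤ B → B = A) {x : G}
    (hx : x ∈ centralizer (A : Set G)) (hxp : x ^ p = 1) : x ∈ A := by
  have h := hmax (A ⊔ zpowers x) (Cfsg.Agent.Helper17.BG11.elemAb_sup_zpowers hA hx hxp) le_sup_left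
  rw [← h]
  exact le_sup_right (a := A) (mem_zpowers x)

theorem transHyp (hG : IsMinSimpleOddOrder G) {p : ℕ} [Fact p.Prime] {A : Subgroup G}
    (hA : IsElementaryAbelian p A) (hcard : Nat.card A = p ^ 2)
    (hmax : ∀ B : Subgroup G, IsElementaryAbelian p B → A ≤ B → B = A) :
    TransitivityHypothesis A := by
  have hpG : p ∣ Nat.card G := by
    have h1 : Nat.card A ∣ Nat.card G := card_subgroup_dvd_card A
    rw [hcard] at h1
    exact (dvd_pow_self p two_ne_zero).trans h1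
  refine Cfsg.Agent.S1396.result hG p hpG A (IsPGroup.of_card hcard) hA.1 (Or.inl ⟨?_, ?_⟩)
  · intro x hx
    exact ⟨fun h => mem_of_cent hA hmax hx h, fun h => hA.2 x h⟩
  · intro H hH
    exact Cfsg.Agent.S1410.result hG p H hH

theorem not_rankLE_one_of_card_sq {p : ℕ} [Fact p.Prime] {A : Subgroup G}
    (hA : IsElementaryAbelian p A) (hcard : Nat.card A = p ^ 2) :
    ¬ RankLE 1 ↥(A ⊓ centralizer (A : Set G)) := by
  have hpp : p.Prime := Fact.out
  have hAC : A ≤ centralizer (A : Set G) := le_centralizer_iff_isMulCommutative.mpr hA.1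
  have hinf : A ⊓ centralizer (A : Set G) = A := inf_eq_left.mpr hAC
  intro h
  haveI := hA.1
  have h1 := h p hpp (⊤ : Subgroup ↥(A ⊓ centralizer (A : Set G))) (by
    refine ⟨⟨fun a b => ?_⟩⟩
    apply Subtype.ext
    apply Subtype.ext
    have ha : (a.1.1 : G) ∈ A := (inf_le_left : A ⊓ centralizer (A : Set G) ≤ A) a.1.2
    have hb : (b.1.1 : G) ∈ A := (inf_le_left : A ⊓ centralizer (A : Set G) ≤ A) b.1.2
    exact mul_comm_of_mem_isMulCommutative A ha hb) (by
    intro a _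
    apply Subtype.ext
    have := hA.2 (a : G) ((inf_le_left : A ⊓ centralizer (A : Set G) ≤ A) a.2)
    simpa using this)
  rw [Subgroup.card_top, hinf, hcard, pow_one] at h1
  have : p < p ^ 2 := by
    have := hpp.one_lt
    nlinarith
  omega

/-- in a nilpotent subgroup `D` normalised by `M`, a Sylow subgroup of `G` lying in `D` is
normalised by `M` -/
theorem le_normalizer_of_sylow_le_nilpotent {p : ℕ} [Fact p.Prime] (S : Sylow p G)
    {D M : Subgroup G} (hSD : (S : Subgroup G) ≤ D) (hD : Group.IsNilpotent ↥D)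
    (hMD : M ≤ normalizer (D : Set G)) : M ≤ normalizer ((S : Subgroup G) : Set G) := by
  have hSyl : IsSylowIn p (S : Subgroup G) D := isSylowIn_of_sylow_le S hSD
  have hall : ∀ (q : ℕ) [Fact q.Prime] (P : Sylow q ↥D), (P : Subgroup ↥D).Normal :=
    ((isNilpotent_of_finite_tfae (G := ↥D)).out 0 3).mp hD
  have hnorm : (hSyl.toSylow : Subgroup ↥D).Normal := hall p hSyl.toSylow
  have hDN : D ≤ normalizer ((S : Subgroup G) : Set G) := by
    rw [← Subgroup.normal_subgroupOf_iff_le_normalizer hSD]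
    exact hnorm
  intro m hm
  have hmD : D.map (MulAut.conj m).toMonoidHom = D := map_conj_eq_of_mem_normalizer (hMD hm)
  have hSyl2 : IsSylowIn p ((S : Subgroup G).map (MulAut.conj m).toMonoidHom) D := by
    have := hSyl.map_conj m
    rwa [hmD] at this
  obtain ⟨d, hd, hdS⟩ := hSyl.exists_conj hSyl2
  rw [map_conj_eq_of_mem_normalizer (hDN hd)] at hdS
  exact Cfsg.Agent.Helper15.mem_normalizer_of_map_conj_eq hdS.symm

/-- the key lemma -/
theorem key_lemma (hG : IsMinSimpleOddOrder G) {M : Subgroup G} (hM : IsCoatom M) {p : ℕ}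
    [Fact p.Prime] (hp : p ∉ sigma M) {A : Subgroup G} (hAM : A ≤ M)
    (hA : IsElementaryAbelian p A) (hcard : Nat.card A = p ^ 2)
    (hmax : ∀ B : Subgroup G, IsElementaryAbelian p B → A ≤ B → B = A)
    (hnil : Group.IsNilpotent ↥(commutator ↥M))
    (hcent : A ≤ centralizer (sigmaCore M : Set G)) : False := by
  have hpp : p.Prime := Fact.out
  have hT := transHyp hG hA hcard hmax
  have h05 : Cfsg.Agent.Helper19.BG16.H1405 G := fun M hM => Cfsg.Agent.S1405.result hG M hM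
  have hne : sigmaCore M ≠ ⊥ := Cfsg.Agent.Helper19.BG16.sigmaCore_ne_bot hG h05 hM
  have h50 := Cfsg.Agent.S1350.result hG M hM
  -- a prime `q ∈ σ(M)`
  have hc1 : Nat.card ↥(sigmaCore M) ≠ 1 := by
    intro h
    exact hne (Subgroup.card_eq_one.mp h)
  obtain ⟨q, hq, hqd⟩ := Nat.exists_prime_and_dvd hc1
  haveI := Fact.mk hq
  have hqσ : q ∈ sigma M :=
    Cfsg.Agent.Helper17.BG11.prime_mem_sigma_of_dvd_card M le_rfl hq hqd
  have hqp : q ≠ p := fun h => hp (h ▸ hqσ)
  -- a Sylow `q`-subgroup of `M`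
  obtain ⟨Q0, hQ0⟩ := exists_isSylowIn (p := q) M
  have hQ0σ : Q0 ≤ sigmaCore M :=
    Cfsg.Agent.Helper17.BG11.le_sigmaCore_of_isPGroup h50.1 hqσ hQ0.isPGroup hQ0.le
  have hQ0top : IsSylowIn q Q0 ⊤ := Cfsg.Agent.Helper22.BG13.isSylowIn_top_of_mem_sigma hqσ hQ0
  have hNQ0 : normalizer (Q0 : Set G) ≤ M :=
    Cfsg.Agent.Helper22.BG13.normalizer_le_of_mem_sigma hqσ hQ0
  have hqQ0 : q ∣ Nat.card ↥Q0 := by
    rw [hQ0.card_eq]
    apply dvd_pow_self
    intro h0
    have := (Nat.factorization_eq_zero_iff (Nat.card ↥M) q).mp h0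
    rcases this with h | h | h
    · exact h hq
    · exact h hqσ.2.1
    · exact Nat.card_pos.ne' h
  have hAQ0 : A ≤ centralizer (Q0 : Set G) :=
    hcent.trans (centralizer_le (SetLike.coe_subset_coe.mpr hQ0σ))
  have hAN : A ≤ normalizer ((hQ0top.sylowOfTop : Subgroup G) : Set G) :=
    hAQ0.trans (centralizer_le_normalizer _)
  have hQmem : Q0 ∈ maxInvSubgroups ⊤ A {q} :=
    Cfsg.Agent.Helper17.BG11.sylow_mem_maxInv A hQ0top.sylowOfTop hAN
  have hqA : ¬ q ∣ Nat.card ↥A := by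
    rw [hcard]
    intro h
    exact hqp ((Nat.prime_dvd_prime_iff_eq hq hpp).mp (hq.dvd_of_dvd_pow h))
  have hqC : q ∣ Nat.card ↥(centralizer (A : Set G)) :=
    hqQ0.trans (card_dvd_of_le (le_centralizer_iff.mp hAQ0))
  have htr := Cfsg.Agent.S1394.result hG A hT (not_rankLE_one_of_card_sq hA hcard) q hq hqA hqC
  -- a Sylow `p`-subgroup of `G` over `A`
  obtain ⟨S, hAS⟩ := (IsPGroup.of_card hcard : IsPGroup p ↥A).exists_le_sylow
  have hStop : (S : Subgroup G) ≠ ⊤ := Cfsg.Agent.Helper14.BGTrans.ne_top_of_isPGroup hG S.isPGroup'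
  have hSπ : ∀ r : ℕ, r.Prime → r ∣ Nat.card ↥(S : Subgroup G) → r ∣ Nat.card ↥A := by
    intro r hr hrd
    obtain ⟨n, hn⟩ := S.isPGroup'.exists_card_eq
    rw [hn] at hrd
    have : r = p := (Nat.prime_dvd_prime_iff_eq hr hpp).mp (hr.dvd_of_dvd_pow hrd)
    rw [this, hcard]
    exact dvd_pow_self p two_ne_zero
  have hsn : (A.subgroupOf (S : Subgroup G)).IsSubnormal := by
    haveI : Group.IsNilpotent ↥(S : Subgroup G) := S.isPGroup'.isNilpotent
    exact Cfsg.Agent.Helper14.isSubnormal_of_isNilpotent _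
  obtain ⟨-, -, hsub, h4⟩ :=
    Cfsg.Agent.S1395.result hG A hT q hq hqA (S : Subgroup G) hStop hSπ hAS hsn htr
  obtain ⟨Q1, hQ1, -⟩ := Cfsg.Agent.Helper14.BGTrans.exists_maxInv_ge (q := q)
    (A := (S : Subgroup G)) (U := ⊥) IsPGroup.of_bot (by
      intro x _
      rw [mem_normalizer_iff]
      intro y
      simp)
  obtain ⟨k, -, hk⟩ := htr Q0 hQmem Q1 (hsub hQ1)
  obtain ⟨h5, -⟩ := h4 Q1 hQ1
  obtain ⟨V, hV, -⟩ := Cfsg.Agent.Helper23.BG10.exists_compl_normalizer S
  have h11 := (Cfsg.Agent.S1411.result hG p S V hV).2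
  have hS1 : (S : Subgroup G) ≤
      ⁅normalizer (Q1 : Set G), normalizer (Q1 : Set G)⁆ := (le_inf le_rfl h11).trans h5
  -- conjugate back by `k`
  have hNQ1 : normalizer (Q1 : Set G) =
      (normalizer (Q0 : Set G)).map (MulAut.conj k).toMonoidHom := by
    rw [hk, Cfsg.Agent.Helper14.normalizer_map_conj]
  rw [hNQ1, ← Subgroup.map_commutator] at hS1
  have hS2 : (S : Subgroup G).map (MulAut.conj k⁻¹).toMonoidHom ≤
      ⁅normalizer (Q0 : Set G), normalizer (Q0 : Set G)⁆ := by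
    have := map_conj_mono hS1 k⁻¹
    rwa [map_conj_inv_map_conj] at this
  have hS3 : ((k⁻¹ • S : Sylow p G) : Subgroup G) ≤ ⁅M, M⁆ :=
    hS2.trans (Subgroup.commutator_mono hNQ0 hNQ0)
  -- `M' = ⁅M, M⁆` is nilpotent and normal in `M`
  have hD : Group.IsNilpotent ↥(⁅M, M⁆ : Subgroup G) := by
    rw [← Subgroup.map_subtype_commutator]
    exact Group.nilpotent_of_mulEquiv
      ((commutator ↥M).equivMapOfInjective M.subtype M.subtype_injective)
  have hMD : M ≤ normalizer ((⁅M, M⁆ : Subgroup G) : Set G) := by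
    rw [← Subgroup.map_subtype_commutator]
    exact Cfsg.Agent.Helper14.BGUniq.le_normalizer_map_subtype M _
  have hMS := le_normalizer_of_sylow_le_nilpotent (k⁻¹ • S) hS3 hD hMD
  have hS1' : ((k⁻¹ • S : Sylow p G) : Subgroup G) ≠ ⊥ := by
    intro h
    have h1 : Nat.card ↥((k⁻¹ • S : Sylow p G) : Subgroup G) = 1 := by rw [h, Subgroup.card_bot]
    have h2 : Nat.card ↥((k⁻¹ • S : Sylow p G) : Subgroup G) = Nat.card ↥(S : Subgroup G) :=
      card_map_conj _ _
    have h3 : Nat.card ↥A ∣ Nat.card ↥(S : Subgroup G) := card_dvd_of_le hAS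
    rw [← h2, h1, hcard] at h3
    have : p ^ 2 = 1 := Nat.dvd_one.mp h3
    have := hpp.one_lt
    nlinarith
  have hNtop : normalizer (((k⁻¹ • S : Sylow p G) : Subgroup G) : Set G) ≠ ⊤ :=
    Cfsg.Agent.Helper14.BGTrans.normalizer_ne_top_of_isPGroup hG (k⁻¹ • S).isPGroup' hS1'
  have hNeq : normalizer (((k⁻¹ • S : Sylow p G) : Subgroup G) : Set G) = M :=
    (hM.le_iff_eq hNtop).mp hMS
  apply hp
  refine Cfsg.Agent.Helper16.BG145.mem_sigma_of_sylow ?_ (k⁻¹ • S)
    (hS3.trans (Cfsg.Agent.Helper1.commutator_le_of_le_normalizer le_normalizer)) hNeq.le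
  have h1 : Nat.card ↥A ∣ Nat.card ↥M := card_dvd_of_le hAM
  rw [hcard] at h1
  exact (dvd_pow_self p two_ne_zero).trans h1

end Cfsg.Agent.Helper5.BG124
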