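import Mathlib
import Cfsg.Agent.Lib.Helper5.BG124A
import Cfsg.Agent.S1403
import Cfsg.Agent.S1406
import Cfsg.Agent.Lib.Helper23.BG10A
import Cfsg.Agent.Lib.Helper14.KBal
import Cfsg.Agent.Lib.Helper1.PiHall

/-!
# Bender–Glauberman 12.4, part B: general lemmas   (helper5)
-/

set_option autoImplicit false

namespace Cfsg.Agent.Helper5.BG124

open Cfsg Subgroup
open Cfsg.Agent.Helper15 (mem_map_conj_iff conj_mem_map_conj map_conj_map_conj map_conj_one
  map_conj_inv_map_conj map_conj_map_conj_inv map_conj_mono card_map_conj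
  map_conj_eq_of_mem_normalizer IsSylowIn isSylowIn_top isSylowIn_of_sylow_le exists_isSylowIn
  exists_isSylowIn_ge)
open Cfsg.Agent.Helper14.BGTrans Cfsg.Agent.Helper14.BGUniq

universe u

variable {G : Type u} [Group G] [Finite G]

/-- the statement of BG Lemma 12.3 -/
def Lemma123 (G : Type u) [Group G] : Prop :=
  ∀ (M Mstar : Subgroup G), IsCoatom M → IsCoatom Mstar → Mstar ≠ M →
    ∀ (p : ℕ) [Fact p.Prime] (A A0 : Subgroup G), A ≤ M → IsElementaryAbelian p A →
      Nat.card A = p ^ 2 → A0 ≤ A → Nat.card A0 = p → normalizer (A0 : Set G) ≤ Mstar →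
      (p ∉ sigma M → A ≤ centralizer ((sigmaCore M ⊓ Mstar : Subgroup G) : Set G)) ∧
      (p ∉ alpha M → A ≤ centralizer ((alphaCore M ⊓ Mstar : Subgroup G) : Set G))

/-- `M` is the unique maximal subgroup containing `N_G(A₀)` -/
def Good (M A₀ : Subgroup G) : Prop :=
  normalizer (A₀ : Set G) ≤ M ∧
    ∀ L : Subgroup G, IsCoatom L → normalizer (A₀ : Set G) ≤ L → L = M

theorem good_of_uniq {M K A₀ : Subgroup G} (hM : IsCoatom M) (hKM : K ≤ M)
    (hK : InUniqueMaximal K) (hKN : K ≤ normalizer (A₀ : Set G))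
    (hN : normalizer (A₀ : Set G) ≠ ⊤) : Good M A₀ := by
  obtain ⟨L, ⟨hL, hKL⟩, hu⟩ := hK
  have hLM : M = L := hu M ⟨hM, hKM⟩
  have hu' : ∀ H : Subgroup G, IsCoatom H ∧ K ≤ H → H = M := fun H hH => (hu H hH).trans hLM.symm
  exact ⟨le_of_inUniqueMaximal hN hKN hu', fun H hH hNH => hu' H ⟨hH, hKN.trans hNH⟩⟩

theorem exists_other {M A₀ : Subgroup G} (hN : normalizer (A₀ : Set G) ≠ ⊤)
    (h : ¬ Good M A₀) : ∃ L : Subgroup G, IsCoatom L ∧ L ≠ M ∧ normalizer (A₀ : Set G) ≤ L := by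
  by_contra hcon
  push Not at hcon
  apply h
  obtain ⟨H, hH, hNH⟩ := exists_isCoatom_ge hN
  have hHM : H = M := by
    by_contra hne
    exact hcon H hH hne hNH
  refine ⟨hHM ▸ hNH, fun L hL hNL => ?_⟩
  by_contra hne
  exact hcon L hL hne hNL

section elemAb

variable {p : ℕ} [Fact p.Prime] {A : Subgroup G}

omit [Finite G] in
theorem ne_bot_of_card_sq (hcard : Nat.card A = p ^ 2) : A ≠ ⊥ := by
  have hpp : p.Prime := Fact.out
  intro h
  rw [h, Subgroup.card_bot] at hcard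
  have := Nat.one_lt_pow (n := 2) (by norm_num) hpp.one_lt
  omega

omit [Finite G] in
theorem card_zpowers_of_mem (hA : IsElementaryAbelian p A) {a : G} (ha : a ∈ A) (ha1 : a ≠ 1) :
    Nat.card ↥(zpowers a) = p := by
  rw [Nat.card_zpowers]
  exact orderOf_eq_prime (hA.2 a ha) ha1

omit [Finite G] in
/-- a subgroup of order `p` of `A` exists -/
theorem exists_card_eq_prime (hA : IsElementaryAbelian p A) (hcard : Nat.card A = p ^ 2) :
    ∃ A₀ : Subgroup G, A₀ ≤ A ∧ Nat.card A₀ = p := by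
  obtain ⟨a, ha, ha1⟩ := exists_mem_ne_one (ne_bot_of_card_sq hcard)
  exact ⟨zpowers a, zpowers_le.mpr ha, card_zpowers_of_mem hA ha ha1⟩

omit [Finite G] in
theorem ne_bot_of_card_prime {A₀ : Subgroup G} (hc : Nat.card A₀ = p) : A₀ ≠ ⊥ := by
  have hpp : p.Prime := Fact.out
  intro h
  rw [h, Subgroup.card_bot] at hc
  exact hpp.one_lt.ne hc

theorem normalizer_ne_top_of_card_prime (hG : IsMinSimpleOddOrder G) {A₀ : Subgroup G}
    (hc : Nat.card A₀ = p) : normalizer (A₀ : Set G) ≠ ⊤ :=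
  normalizer_ne_top_of_isPGroup hG (IsPGroup.of_card (n := 1) (by rw [hc, pow_one]))
    (ne_bot_of_card_prime hc)

theorem le_centralizer_of_le_elemAb (hA : IsElementaryAbelian p A) {A₀ : Subgroup G}
    (hA₀ : A₀ ≤ A) : A ≤ centralizer (A₀ : Set G) :=
  (le_centralizer_self_of_isElementaryAbelian hA).trans
    (centralizer_le (SetLike.coe_subset_coe.mpr hA₀))

/-- coprime generation: if `A` centralises `C_X(A₀)` for every `A₀ ≤ A` of order `p`, then `A`
centralises `X` -/
theorem le_centralizer_of_hyperplanes {X : Subgroup G}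
    (hA : IsElementaryAbelian p A) (hcard : Nat.card A = p ^ 2) (hX : ¬ p ∣ Nat.card X)
    (hAX : A ≤ normalizer (X : Set G))
    (h : ∀ A₀ : Subgroup G, A₀ ≤ A → Nat.card A₀ = p →
      A ≤ centralizer ((X ⊓ centralizer (A₀ : Set G) : Subgroup G) : Set G)) :
    A ≤ centralizer (X : Set G) := by
  have hpp : p.Prime := Fact.out
  have hgen := Cfsg.Agent.Helper14.KBal.le_iSup_hyperplane hA (ne_bot_of_card_sq hcard) hX hAX
  rw [le_centralizer_iff]
  refine hgen.trans (iSup_le ?_)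
  rintro ⟨D, hDA, hDr⟩
  have hDc : Nat.card D = p := by
    have h1 := Cfsg.Agent.Helper14.KBal.card_hyperplane hDA hDr
    rw [hcard, pow_two] at h1
    exact Nat.eq_of_mul_eq_mul_right hpp.pos h1
  exact le_centralizer_iff.mp (h D hDA hDc)

end elemAb

end Cfsg.Agent.Helper5.BG124
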