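import Mathlib
import Cfsg.Agent.Lib.Helper5.BG124B

/-!
# Bender–Glauberman 12.4, part C: the second assertion   (helper5)
-/

set_option autoImplicit false

namespace Cfsg.Agent.Helper5.BG124

open Cfsg Subgroup
open Cfsg.Agent.Helper15 (mem_map_conj_iff conj_mem_map_conj map_conj_map_conj map_conj_one
  map_conj_inv_map_conj map_conj_map_conj_inv map_conj_mono card_map_conj
  map_conj_eq_of_mem_normalizer IsSylowIn isSylowIn_top isSylowIn_of_sylow_le exists_isSylowIn
  exists_isSylowIn_ge)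
open Cfsg.Agent.Helper14.BGTrans Cfsg.Agent.Helper14.BGUniq

universe u

variable {G : Type u} [Group G] [Finite G]

/-- a nontrivial `p`-subgroup has a central element of order `p` -/
theorem exists_central_of_isPGroup {p : ℕ} [Fact p.Prime] {P : Subgroup G} (hP : IsPGroup p P)
    (hP1 : P ≠ ⊥) : ∃ z ∈ P, z ≠ 1 ∧ z ^ p = 1 ∧ ∀ x ∈ P, x * z = z * x := by
  have hpp : p.Prime := Fact.out
  haveI : Nontrivial ↥P := (Subgroup.nontrivial_iff_ne_bot P).mpr hP1
  haveI := hP.center_nontrivial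
  have hZ : IsPGroup p ↥(center ↥P) := hP.to_subgroup (center ↥P)
  obtain ⟨n, hn⟩ := hZ.exists_card_eq
  have hn0 : n ≠ 0 := by
    rintro rfl
    rw [pow_zero] at hn
    have h1 : 1 < Nat.card ↥(center ↥P) := Finite.one_lt_card
    omega
  have hdvd : p ∣ Nat.card ↥(center ↥P) := hn ▸ dvd_pow_self p hn0
  obtain ⟨z, hz⟩ := exists_prime_orderOf_dvd_card' p hdvd
  refine ⟨((z : ↥P) : G), (z : ↥P).2, ?_, ?_, ?_⟩
  · intro h
    have h1 : z = 1 := Subtype.ext (Subtype.ext h)
    rw [h1, orderOf_one] at hz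
    exact hpp.one_lt.ne hz
  · have h1 : z ^ p = 1 := by rw [← hz]; exact pow_orderOf_eq_one z
    have h2 := congrArg (fun w : ↥(center ↥P) => ((w : ↥P) : G)) h1
    simpa using h2
  · intro x hx
    have h1 := (Subgroup.mem_center_iff.mp z.2) ⟨x, hx⟩
    exact congrArg Subtype.val h1

section

variable {p : ℕ} [Fact p.Prime] {A M : Subgroup G}

/-- Step 1: under `(*)`, `p ∉ α(M)` -/
theorem not_mem_alpha (hG : IsMinSimpleOddOrder G) (hM : IsCoatom M) (hAM : A ≤ M)
    (hA : IsElementaryAbelian p A) (hcard : Nat.card A = p ^ 2)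
    (hstar : ∀ A₀ : Subgroup G, A₀ ≤ A → Nat.card A₀ = p → ¬ Good M A₀) : p ∉ alpha M := by
  have hpp : p.Prime := Fact.out
  rintro ⟨-, hr⟩
  have hAp : IsPGroup p ↥A := isPGroup_of_isElementaryAbelian hA
  obtain ⟨P, hAP, hP⟩ := exists_isSylowIn_ge hAp hAM
  -- `P` is a uniqueness subgroup
  have hPU : InUniqueMaximal P := by
    obtain ⟨E, hEM, hEe, hEc⟩ := exists_elemAb_of_not_pRankLE hr
    obtain ⟨T, hET, hT⟩ := exists_isSylowIn_ge (isPGroup_of_isElementaryAbelian hEe) hEM
    have hTU : InUniqueMaximal T := by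
      apply Cfsg.Agent.S1403.result hG T (ne_top_of_isPGroup hG hT.isPGroup)
      · apply not_rankLE_of_lt hET hEe
        exact lt_trans (Nat.pow_lt_pow_right hpp.one_lt (by norm_num)) hEc
      · exact Or.inl (not_rankLE_of_lt hET hEe hEc)
    obtain ⟨m, hm, hmT⟩ := hT.exists_conj hP
    rw [← hmT]
    exact inUniqueMaximal_map_conj hTU m
  have hP1 : P ≠ ⊥ := ne_bot_of_le (ne_bot_of_card_sq hcard) hAP
  obtain ⟨z, hzP, hz1, hzp, hzc⟩ := exists_central_of_isPGroup hP.isPGroup hP1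
  by_cases hzA : z ∈ A
  · -- `A₀ = ⟨z⟩`
    have hc : Nat.card ↥(zpowers z) = p := card_zpowers_of_mem hA hzA hz1
    apply hstar (zpowers z) (zpowers_le.mpr hzA) hc
    apply good_of_uniq hM hP.le hPU _ (normalizer_ne_top_of_card_prime hG hc)
    refine le_trans ?_ (centralizer_le_normalizer _)
    rw [le_centralizer_iff, zpowers_le, mem_centralizer_iff]
    intro x hx
    exact hzc x hx
  · -- `A < A⟨z⟩` elementary abelian
    have hzC : z ∈ centralizer (A : Set G) := by
      rw [mem_centralizer_iff]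
      intro a ha
      exact hzc a (hAP ha)
    have hB := Cfsg.Agent.Helper17.BG11.elemAb_sup_zpowers hA hzC hzp
    have hAB : A ≤ A ⊔ zpowers z := le_sup_left
    have hcardB : p ^ 2 < Nat.card ↥(A ⊔ zpowers z) := by
      rw [← hcard]
      by_contra hle
      have h1 := Subgroup.eq_of_le_of_card_ge hAB (not_lt.mp hle)
      apply hzA
      rw [h1]
      exact le_sup_right (a := A) (mem_zpowers z)
    have hBC : A ⊔ zpowers z ≤ centralizer (A : Set G) :=
      (le_centralizer_self_of_isElementaryAbelian hB).trans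
        (centralizer_le (SetLike.coe_subset_coe.mpr hAB))
    have h1 : ¬ RankLE 2 ↥(centralizer (A : Set G)) := not_rankLE_of_lt hBC hB hcardB
    have h2 : ¬ RankLE 1 ↥A := by
      apply not_rankLE_of_lt le_rfl hA
      rw [hcard]
      exact Nat.pow_lt_pow_right hpp.one_lt (by norm_num)
    have hAU : InUniqueMaximal A :=
      Cfsg.Agent.S1403.result hG A (ne_top_of_isPGroup hG hAp) h2 (Or.inr h1)
    obtain ⟨A₀, hA₀A, hA₀c⟩ := exists_card_eq_prime hA hcard
    apply hstar A₀ hA₀A hA₀c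
    exact good_of_uniq hM hAM hAU
      ((le_centralizer_of_le_elemAb hA hA₀A).trans (centralizer_le_normalizer _))
      (normalizer_ne_top_of_card_prime hG hA₀c)

/-- Step 2: under `(*)`, `M_α = 1` -/
theorem alphaCore_eq_bot (hG : IsMinSimpleOddOrder G) (h123 : Lemma123 G) (hM : IsCoatom M)
    (hAM : A ≤ M) (hA : IsElementaryAbelian p A) (hcard : Nat.card A = p ^ 2)
    (hstar : ∀ A₀ : Subgroup G, A₀ ≤ A → Nat.card A₀ = p → ¬ Good M A₀) : alphaCore M = ⊥ := by
  have hpp : p.Prime := Fact.out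
  by_contra hne
  have hpα : p ∉ alpha M := not_mem_alpha hG hM hAM hA hcard hstar
  obtain ⟨hαH, -, -, -, -⟩ := Cfsg.Agent.S1405.result hG M hM
  have hpX : ¬ p ∣ Nat.card ↥(alphaCore M) := fun h => hpα (hαH.2.1 p hpp h)
  have hMX : M ≤ normalizer ((alphaCore M : Subgroup G) : Set G) :=
    le_normalizer_piCoreOf (alpha M) M
  have hcentA : A ≤ centralizer ((alphaCore M : Subgroup G) : Set G) := by
    apply le_centralizer_of_hyperplanes hA hcard hpX (hAM.trans hMX)
    intro A₀ hA₀A hA₀c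
    have hN := normalizer_ne_top_of_card_prime hG hA₀c
    obtain ⟨L, hL, hLM, hNL⟩ := exists_other hN (hstar A₀ hA₀A hA₀c)
    have h1 := (h123 M L hM hL hLM p A A₀ hAM hA hcard hA₀A hA₀c hNL).2 hpα
    refine h1.trans (centralizer_le (SetLike.coe_subset_coe.mpr ?_))
    exact inf_le_inf_left _ ((centralizer_le_normalizer _).trans hNL)
  -- `M_α` has rank at least 3
  have hc1 : Nat.card ↥(alphaCore M) ≠ 1 := fun h => hne (Subgroup.card_eq_one.mp h)
  obtain ⟨q, hq, hqd⟩ := Nat.exists_prime_and_dvd hc1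
  haveI := Fact.mk hq
  have hqα : q ∈ alpha M := hαH.2.1 q hq hqd
  obtain ⟨E, hEM, hEe, hEc⟩ := exists_elemAb_of_not_pRankLE hqα.2
  have hEα : E ≤ alphaCore M := by
    apply Cfsg.Agent.Helper1.PiHall.le_of_isPiHallOf_of_le_normalizer hαH hMX hEM
    intro r hr hrd
    obtain ⟨n, hn⟩ := (isPGroup_of_isElementaryAbelian hEe).exists_card_eq
    rw [hn] at hrd
    rw [(Nat.prime_dvd_prime_iff_eq hr hq).mp (hr.dvd_of_dvd_pow hrd)]
    exact hqα
  obtain ⟨A₀, hA₀A, hA₀c⟩ := exists_card_eq_prime hA hcard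
  have hN := normalizer_ne_top_of_card_prime hG hA₀c
  have hE2 : E ≤ alphaCore M ⊓ centralizer (A₀ : Set G) := by
    refine le_inf hEα (hEα.trans ?_)
    exact (le_centralizer_iff.mp hcentA).trans (centralizer_le (SetLike.coe_subset_coe.mpr hA₀A))
  have hr : ¬ RankLE 1 ↥(alphaCore M ⊓ centralizer (A₀ : Set G)) := by
    apply not_rankLE_of_lt hE2 hEe
    exact lt_trans (Nat.pow_lt_pow_right hq.one_lt (by norm_num)) hEc
  have h06 := Cfsg.Agent.S1406.result hG M hM A₀ (hA₀A.trans hAM) (by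
    intro r hr hrd
    rw [hA₀c] at hrd
    rw [(Nat.prime_dvd_prime_iff_eq hr hpp).mp hrd]
    exact hpα) hr
  apply hstar A₀ hA₀A hA₀c
  exact good_of_uniq hM inf_le_left h06 (inf_le_right.trans (centralizer_le_normalizer _)) hN

/-- if `M_α = 1` then `M'` is nilpotent -/
theorem commutator_isNilpotent (hG : IsMinSimpleOddOrder G) (hM : IsCoatom M)
    (hα : alphaCore M = ⊥) : Group.IsNilpotent ↥(commutator ↥M) := by
  obtain ⟨-, -, -, -, h5⟩ := Cfsg.Agent.S1405.result hG M hM
  have hbot : piCore (alpha M) ↥M = ⊥ := by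
    have h1 : (piCore (alpha M) ↥M).map M.subtype = ⊥ := hα
    exact (Subgroup.map_eq_bot_iff_of_injective _ M.subtype_injective).mp h1
  have hinj : Function.Injective (QuotientGroup.mk' (piCore (alpha M) ↥M)) := by
    rw [← MonoidHom.ker_eq_bot_iff, QuotientGroup.ker_mk', hbot]
  haveI := h5
  exact Group.nilpotent_of_mulEquiv
    ((commutator ↥M).equivMapOfInjective _ hinj).symm

/-- Step 3: under `(*)`, `p ∈ σ(M)` -/
theorem mem_sigma (hG : IsMinSimpleOddOrder G) (h123 : Lemma123 G) (hM : IsCoatom M)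
    (hAM : A ≤ M) (hA : IsElementaryAbelian p A) (hcard : Nat.card A = p ^ 2)
    (hstar : ∀ A₀ : Subgroup G, A₀ ≤ A → Nat.card A₀ = p → ¬ Good M A₀) : p ∈ sigma M := by
  have hpp : p.Prime := Fact.out
  by_contra hpσ
  have hpα : p ∉ alpha M := not_mem_alpha hG hM hAM hA hcard hstar
  have hα : alphaCore M = ⊥ := alphaCore_eq_bot hG h123 hM hAM hA hcard hstar
  have hnil := commutator_isNilpotent hG hM hα
  have hpX : ¬ p ∣ Nat.card ↥(sigmaCore M) := fun h =>
    hpσ (Cfsg.Agent.Helper17.BG11.prime_mem_sigma_of_dvd_card M le_rfl hpp h)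
  have hMX : M ≤ normalizer ((sigmaCore M : Subgroup G) : Set G) :=
    le_normalizer_piCoreOf (sigma M) M
  have hcentA : A ≤ centralizer ((sigmaCore M : Subgroup G) : Set G) := by
    apply le_centralizer_of_hyperplanes hA hcard hpX (hAM.trans hMX)
    intro A₀ hA₀A hA₀c
    have hN := normalizer_ne_top_of_card_prime hG hA₀c
    obtain ⟨L, hL, hLM, hNL⟩ := exists_other hN (hstar A₀ hA₀A hA₀c)
    have h1 := (h123 M L hM hL hLM p A A₀ hAM hA hcard hA₀A hA₀c hNL).1 hpσ
    refine h1.trans (centralizer_le (SetLike.coe_subset_coe.mpr ?_))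
    exact inf_le_inf_left _ ((centralizer_le_normalizer _).trans hNL)
  have hr2 : PRankLE p 2 ↥M := by
    by_contra h
    exact hpα ⟨hpp, h⟩
  have hr1 : ¬ PRankLE p 1 ↥M := by
    apply not_pRankLE_of_le hAM hA
    rw [hcard]
    exact Nat.pow_lt_pow_right hpp.one_lt (by norm_num)
  have hmax := (Cfsg.Agent.S1408.result hG M hM p hpσ hr2 hr1).2 A hAM hA hcard
  exact key_lemma hG hM hpσ hAM hA hcard hmax hnil hcentA

/-- `M_σ` is nilpotent when `M_α = 1` -/
theorem sigmaCore_isNilpotent (hG : IsMinSimpleOddOrder G) (hM : IsCoatom M)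
    (hα : alphaCore M = ⊥) : Group.IsNilpotent ↥(sigmaCore M) := by
  have hnil := commutator_isNilpotent hG hM hα
  have h04 : Cfsg.Agent.Helper19.BG16.H1404 G := fun M hM p _ hp X hXp hX1 hXM =>
    Cfsg.Agent.S1404.result hG M hM p hp X hXp hX1 hXM
  have hle : sigmaCore M ≤ ⁅M, M⁆ := Cfsg.Agent.Helper19.BG16.sigmaCore_le_commutator hG h04 hM
  have hD : Group.IsNilpotent ↥(⁅M, M⁆ : Subgroup G) := by
    rw [← Subgroup.map_subtype_commutator]
    exact Group.nilpotent_of_mulEquiv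
      ((commutator ↥M).equivMapOfInjective M.subtype M.subtype_injective)
  haveI := hD
  refine Subgroup.isNilpotent_of_ker_le_center (Subgroup.inclusion hle) ?_
  rw [(MonoidHom.ker_eq_bot_iff _).mpr (Subgroup.inclusion_injective hle)]
  exact bot_le

end

end Cfsg.Agent.Helper5.BG124
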