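import Mathlib
import Cfsg.Agent.Lib.Helper5.BG124C

/-!
# Bender–Glauberman 12.4, part D: `C_G(A) ≤ M` and the assembly   (helper5)

`prop_12_4` is the statement of S1416, from BG Lemma 12.3 (`Lemma123 G`).
-/

set_option autoImplicit false

namespace Cfsg.Agent.Helper5.BG124

open Cfsg Subgroup
open Cfsg.Agent.Helper15 (mem_map_conj_iff conj_mem_map_conj map_conj_map_conj map_conj_one
  map_conj_inv_map_conj map_conj_map_conj_inv map_conj_mono card_map_conj
  map_conj_eq_of_mem_normalizer IsSylowIn isSylowIn_top isSylowIn_of_sylow_le exists_isSylowIn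
  exists_isSylowIn_ge)
open Cfsg.Agent.Helper14.BGTrans Cfsg.Agent.Helper14.BGUniq

universe u

variable {G : Type u} [Group G]

/-- `Ω₁(Z(P))` as a subgroup of `G` -/
def omegaZ (p : ℕ) (P : Subgroup G) : Subgroup G where
  carrier := {z | z ∈ P ∧ z ^ p = 1 ∧ ∀ x ∈ P, x * z = z * x}
  one_mem' := ⟨one_mem _, one_pow _, fun x _ => by rw [mul_one, one_mul]⟩
  mul_mem' := by
    rintro a b ⟨ha, hap, hac⟩ ⟨hb, hbp, hbc⟩
    refine ⟨mul_mem ha hb, ?_, ?_⟩
    · have hab : Commute a b := hbc a ha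
      rw [hab.mul_pow, hap, hbp, one_mul]
    · intro x hx
      rw [← mul_assoc, hac x hx, mul_assoc, hbc x hx, mul_assoc]
  inv_mem' := by
    rintro a ⟨ha, hap, hac⟩
    refine ⟨inv_mem ha, by rw [inv_pow, hap, inv_one], ?_⟩
    intro x hx
    have h := hac x hx
    calc x * a⁻¹ = a⁻¹ * (a * x) * a⁻¹ := by group
    _ = a⁻¹ * (x * a) * a⁻¹ := by rw [h]
    _ = a⁻¹ * x := by group

theorem mem_omegaZ {p : ℕ} {P : Subgroup G} {z : G} :
    z ∈ omegaZ p P ↔ z ∈ P ∧ z ^ p = 1 ∧ ∀ x ∈ P, x * z = z * x := Iff.rfl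

theorem omegaZ_le (p : ℕ) (P : Subgroup G) : omegaZ p P ≤ P := fun _ hz => hz.1

theorem normalizer_le_normalizer_omegaZ (p : ℕ) (P : Subgroup G) :
    normalizer (P : Set G) ≤ normalizer ((omegaZ p P : Subgroup G) : Set G) := by
  apply Cfsg.Agent.Helper17.BG11.le_normalizer_of_conj_mem
  rintro n hn z ⟨hzP, hzp, hzc⟩
  refine ⟨(mem_normalizer_iff.mp hn z).mp hzP, ?_, ?_⟩
  · rw [conj_pow, hzp, mul_one, mul_inv_cancel]
  · intro x hx
    have hx' : n⁻¹ * x * n⁻¹⁻¹ ∈ P := (mem_normalizer_iff.mp (inv_mem hn) x).mp hx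
    have h := hzc _ hx'
    calc x * (n * z * n⁻¹) = n * ((n⁻¹ * x * n⁻¹⁻¹) * z) * n⁻¹ := by group
    _ = n * (z * (n⁻¹ * x * n⁻¹⁻¹)) * n⁻¹ := by rw [h]
    _ = n * z * n⁻¹ * x := by group

variable [Finite G]

theorem omegaZ_ne_bot {p : ℕ} [Fact p.Prime] {P : Subgroup G} (hP : IsPGroup p P)
    (hP1 : P ≠ ⊥) : omegaZ p P ≠ ⊥ := by
  obtain ⟨z, hzP, hz1, hzp, hzc⟩ := exists_central_of_isPGroup hP hP1
  intro h
  have : z ∈ omegaZ p P := ⟨hzP, hzp, hzc⟩
  rw [h, mem_bot] at this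
  exact hz1 this

section

variable {p : ℕ} [Fact p.Prime] {A M : Subgroup G}

/-- the first assertion of BG 12.4 -/
theorem centralizer_le_of_lemma123 (hG : IsMinSimpleOddOrder G) (h123 : Lemma123 G)
    (hM : IsCoatom M) (hAM : A ≤ M) (hA : IsElementaryAbelian p A)
    (hcard : Nat.card A = p ^ 2) : centralizer (A : Set G) ≤ M := by
  have hpp : p.Prime := Fact.out
  by_cases hgood : ∃ A₀ : Subgroup G, A₀ ≤ A ∧ Nat.card A₀ = p ∧ Good M A₀
  · obtain ⟨A₀, hA₀A, -, hN, -⟩ := hgood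
    exact (centralizer_le (SetLike.coe_subset_coe.mpr hA₀A)).trans
      ((centralizer_le_normalizer _).trans hN)
  · have hstar : ∀ A₀ : Subgroup G, A₀ ≤ A → Nat.card A₀ = p → ¬ Good M A₀ :=
      fun A₀ h1 h2 h3 => hgood ⟨A₀, h1, h2, h3⟩
    have hpσ := mem_sigma hG h123 hM hAM hA hcard hstar
    have hα := alphaCore_eq_bot hG h123 hM hAM hA hcard hstar
    have hpα := not_mem_alpha hG hM hAM hA hcard hstar
    have hnilσ := sigmaCore_isNilpotent hG hM hα
    have h50 := Cfsg.Agent.S1350.result hG M hM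
    have hAp : IsPGroup p ↥A := isPGroup_of_isElementaryAbelian hA
    obtain ⟨P, hAP, hP⟩ := exists_isSylowIn_ge hAp hAM
    have hPσ : P ≤ sigmaCore M :=
      Cfsg.Agent.Helper17.BG11.le_sigmaCore_of_isPGroup h50.1 hpσ hP.isPGroup hP.le
    have hPtop : IsSylowIn p P ⊤ := Cfsg.Agent.Helper22.BG13.isSylowIn_top_of_mem_sigma hpσ hP
    have hMP : M ≤ normalizer (P : Set G) :=
      le_normalizer_of_sylow_le_nilpotent hPtop.sylowOfTop hPσ hnilσ
        (le_normalizer_piCoreOf (sigma M) M)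
    have hMZ : M ≤ normalizer ((omegaZ p P : Subgroup G) : Set G) :=
      hMP.trans (normalizer_le_normalizer_omegaZ p P)
    have hr2 : PRankLE p 2 ↥M := by
      by_contra h
      exact hpα ⟨hpp, h⟩
    have hZA : omegaZ p P ≤ A := by
      rintro z ⟨hzP, hzp, hzc⟩
      have hzC : z ∈ centralizer (A : Set G) := by
        rw [mem_centralizer_iff]
        intro a ha
        exact hzc a (hAP ha)
      have hB := Cfsg.Agent.Helper17.BG11.elemAb_sup_zpowers hA hzC hzp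
      have hBM : A ⊔ zpowers z ≤ M := sup_le hAM (zpowers_le.mpr (hP.le hzP))
      have hle : Nat.card ↥(A ⊔ zpowers z) ≤ p ^ 2 := by
        by_contra h
        exact not_pRankLE_of_le hBM hB (not_le.mp h) hr2
      have h1 := Subgroup.eq_of_le_of_card_ge (le_sup_left : A ≤ A ⊔ zpowers z)
        (by rw [hcard]; exact hle)
      rw [h1]
      exact le_sup_right (a := A) (mem_zpowers z)
    have hP1 : P ≠ ⊥ := ne_bot_of_le (ne_bot_of_card_sq hcard) hAP
    have hZ1 : omegaZ p P ≠ ⊥ := omegaZ_ne_bot hP.isPGroup hP1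
    have hZp : IsPGroup p ↥(omegaZ p P) := hP.isPGroup.to_le (omegaZ_le p P)
    have hNZ : normalizer ((omegaZ p P : Subgroup G) : Set G) = M :=
      (hM.le_iff_eq (normalizer_ne_top_of_isPGroup hG hZp hZ1)).mp hMZ
    by_cases hZeq : omegaZ p P = A
    · rw [← hZeq]
      exact (centralizer_le_normalizer _).trans hNZ.le
    · exfalso
      have hdvd : Nat.card ↥(omegaZ p P) ∣ p ^ 2 := hcard ▸ card_dvd_of_le hZA
      obtain ⟨k, hk2, hk⟩ := (Nat.dvd_prime_pow hpp).mp hdvd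
      have hk0 : k ≠ 0 := by
        rintro rfl
        rw [pow_zero] at hk
        exact hZ1 (Subgroup.card_eq_one.mp hk)
      have hk2' : k ≠ 2 := by
        rintro rfl
        exact hZeq (Subgroup.eq_of_le_of_card_ge hZA (by rw [hcard, hk]))
      have hk1 : k = 1 := by omega
      rw [hk1, pow_one] at hk
      apply hstar (omegaZ p P) hZA hk
      refine ⟨hNZ.le, fun L hL hNL => ?_⟩
      rw [hNZ] at hNL
      exact (hM.le_iff_eq hL.1).mp hNL

end

/-- BG Proposition 12.4 (the statement of S1416), from BG Lemma 12.3 -/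
theorem prop_12_4 (hG : IsMinSimpleOddOrder G) (h123 : Lemma123 G)
    (M : Subgroup G) (hM : IsCoatom M) (p : ℕ) [Fact p.Prime] (A : Subgroup G)
    (hA : A ≤ M ∧ IsElementaryAbelian p A ∧ Nat.card A = p ^ 2) :
    centralizer (A : Set G) ≤ M ∧
      ((∀ A₀ : Subgroup G, A₀ ≤ A → Nat.card A₀ = p →
          ¬ (normalizer (A₀ : Set G) ≤ M ∧ ∀ L : Subgroup G, IsCoatom L →
            normalizer (A₀ : Set G) ≤ L → L = M)) →
        p ∈ sigma M ∧ alphaCore M = ⊥ ∧ Group.IsNilpotent (sigmaCore M)) := by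
  obtain ⟨hAM, hAe, hcard⟩ := hA
  refine ⟨centralizer_le_of_lemma123 hG h123 hM hAM hAe hcard, fun hstar => ?_⟩
  have hstar' : ∀ A₀ : Subgroup G, A₀ ≤ A → Nat.card A₀ = p → ¬ Good M A₀ := hstar
  have hα := alphaCore_eq_bot hG h123 hM hAM hAe hcard hstar'
  exact ⟨mem_sigma hG h123 hM hAM hAe hcard hstar', hα, sigmaCore_isNilpotent hG hM hα⟩

end Cfsg.Agent.Helper5.BG124
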