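import Mathlib
import Cfsg.Agent.Lib.Helper10.EODefs

/-! EO-STAR2 (S2264/S2265, helper10's design): `star` is multiplicative and preserves
irreducibility. -/

set_option autoImplicit false

open Polynomial

namespace Cfsg.Agent.Helper10.EO

section poly
variable {F : Type*} [Field F]

theorem eo_star2_reverse_eq_mirror (f : F[X]) (h0 : f.coeff 0 ≠ 0) : f.reverse = f.mirror := by
  have h : f.natTrailingDegree = 0 :=
    Nat.le_zero.mp (Polynomial.natTrailingDegree_le_of_ne_zero h0)
  rw [Polynomial.mirror, h, pow_zero, mul_one]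

theorem eo_star2_star_eq (f : F[X]) (h0 : f.coeff 0 ≠ 0) :
    star f = C (f.coeff 0)⁻¹ * f.mirror := by
  rw [star, eo_star2_reverse_eq_mirror f h0]

theorem eo_star2_isUnit_mirror (p : F[X]) (hp : IsUnit p) : IsUnit p.mirror := by
  obtain ⟨r, _, hr⟩ := Polynomial.isUnit_iff.mp hp
  rw [← hr, Polynomial.mirror_C]
  rw [hr]
  exact hp

theorem eo_star2_isUnit_of_mirror (p : F[X]) (hp : IsUnit p.mirror) : IsUnit p := by
  have := eo_star2_isUnit_mirror p.mirror hp
  rwa [Polynomial.mirror_mirror] at this

theorem eo_star2_mirror_star (f : F[X]) (h0 : f.coeff 0 ≠ 0) :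
    (star f).mirror = C (f.coeff 0)⁻¹ * f := by
  rw [eo_star2_star_eq f h0, Polynomial.mirror_mul_of_domain, Polynomial.mirror_C,
    Polynomial.mirror_mirror]

/-- PIECE EO-STAR2. -/
theorem star_mul_irreducible :
    (∀ f g : F[X], f.coeff 0 ≠ 0 → g.coeff 0 ≠ 0 → star (f * g) = star f * star g) ∧
    (∀ f : F[X], f.coeff 0 ≠ 0 → Irreducible f → Irreducible (star f)) := by
  refine ⟨?_, ?_⟩
  · intro f g hf hg
    unfold star
    rw [Polynomial.mul_coeff_zero, Polynomial.reverse_mul_of_domain, mul_inv, C_mul]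
    ring
  · intro f h0 hirr
    have hu : (f.coeff 0)⁻¹ ≠ 0 := inv_ne_zero h0
    have hCu : IsUnit (C (f.coeff 0)⁻¹ : F[X]) := Polynomial.isUnit_C.mpr (isUnit_iff_ne_zero.mpr hu)
    refine ⟨?_, ?_⟩
    · intro hunit
      have h1 := eo_star2_isUnit_mirror _ hunit
      rw [eo_star2_mirror_star f h0] at h1
      have h2 : IsUnit f := by
        rcases isUnit_of_mul_isUnit_right h1 with h
        exact h
      exact hirr.not_isUnit h2
    · intro a b hab
      have h1 : (star f).mirror = a.mirror * b.mirror := by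
        rw [hab, Polynomial.mirror_mul_of_domain]
      rw [eo_star2_mirror_star f h0] at h1
      -- f = (C (f.coeff 0) * a.mirror) * b.mirror
      have h2 : f = (C (f.coeff 0) * a.mirror) * b.mirror := by
        have : C (f.coeff 0) * (C (f.coeff 0)⁻¹ * f) = C (f.coeff 0) * (a.mirror * b.mirror) := by
          rw [h1]
        rw [← mul_assoc, ← C_mul, mul_inv_cancel₀ h0, C_1, one_mul] at this
        exact this.trans (mul_assoc _ _ _).symm
      rcases hirr.isUnit_or_isUnit h2 with h | h
      · left
        have hC0 : IsUnit (C (f.coeff 0) : F[X]) :=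
          Polynomial.isUnit_C.mpr (isUnit_iff_ne_zero.mpr h0)
        have h3 : IsUnit a.mirror := isUnit_of_mul_isUnit_right h
        exact eo_star2_isUnit_of_mirror a h3
      · right
        exact eo_star2_isUnit_of_mirror b h

end poly

end Cfsg.Agent.Helper10.EO
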