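import Mathlib
import Cfsg.Agent.Lib.Helper10.MannDefs
import Cfsg.Agent.Lib.Helper13.MANNITER

/-!
# S4009 (Mann's bound), piece MANN-ABS (helper5): nilpotent absorption
-/

set_option autoImplicit false

namespace Cfsg.Agent.Helper10.Mann

open scoped commutatorElement

variable {G : Type*} [Group G]

/-- aux: `[A ⊔ B, G] ≤ [A, G] ⊔ [B, G]` for normal `A`, `B`. -/
theorem abs_sup_comm_le (A B : Subgroup G) [A.Normal] [B.Normal] :
    ⁅A ⊔ B, (⊤ : Subgroup G)⁆ ≤ ⁅A, (⊤ : Subgroup G)⁆ ⊔ ⁅B, (⊤ : Subgroup G)⁆ := by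
  rw [Subgroup.commutator_comm (A ⊔ B), Subgroup.commutator_comm A, Subgroup.commutator_comm B]
  exact comm_sup_le ⊤ A B

/-- aux: the induction behind `le_of_le_sup_comm`. -/
theorem abs_le_sup_mIter (N B : Subgroup G) [N.Normal] [B.Normal]
    (h : N ≤ B ⊔ ⁅N, (⊤ : Subgroup G)⁆) (j : ℕ) : N ≤ B ⊔ mIter N j := by
  induction j with
  | zero => exact le_sup_right
  | succ j ih =>
    have h1 : ⁅N, (⊤ : Subgroup G)⁆ ≤ ⁅B ⊔ mIter N j, (⊤ : Subgroup G)⁆ :=
      Subgroup.commutator_mono ih le_rfl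
    have h2 := abs_sup_comm_le B (mIter N j)
    have h3 : ⁅B, (⊤ : Subgroup G)⁆ ≤ B := Subgroup.commutator_le_left _ _
    have h4 : ⁅N, (⊤ : Subgroup G)⁆ ≤ B ⊔ mIter N (j + 1) := by
      refine h1.trans (h2.trans ?_)
      rw [mIter_succ]
      exact sup_le_sup_right h3 _
    exact h.trans (sup_le le_sup_left h4)

theorem le_of_le_sup_comm [Group.IsNilpotent G] (N B : Subgroup G) [N.Normal] [B.Normal]
    (h : N ≤ B ⊔ ⁅N, (⊤ : Subgroup G)⁆) : N ≤ B := by
  obtain ⟨n, hn⟩ := Subgroup.nilpotent_iff_lowerCentralSeries.mp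
    (inferInstance : Group.IsNilpotent G)
  have h1 := abs_le_sup_mIter N B h n
  have h2 : mIter N n ≤ ⊥ := by
    have h3 : mIter N n ≤ mIter (⊤ : Subgroup G) n := mIter_mono le_top n
    have h4 := mIter_lcs (G := G) 0 n
    rw [Subgroup.lowerCentralSeries_zero, zero_add, hn] at h4
    rw [← h4]
    exact h3
  rw [le_bot_iff] at h2
  rw [h2, sup_bot_eq] at h1
  exact h1

theorem eq_bot_of_le_comm [Group.IsNilpotent G] (N : Subgroup G) [N.Normal]
    (h : N ≤ ⁅N, (⊤ : Subgroup G)⁆) : N = ⊥ := by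
  rw [eq_bot_iff]
  apply le_of_le_sup_comm N ⊥
  rw [bot_sup_eq]
  exact h

theorem chain_lt [Group.IsNilpotent G] (H N : Subgroup G) [H.Normal] [N.Normal] (j : ℕ)
    (h : ¬ mIter H j ≤ N) : mIter H (j + 1) ⊔ N < mIter H j ⊔ N := by
  have hle : mIter H (j + 1) ⊔ N ≤ mIter H j ⊔ N := sup_le_sup_right (mIter_succ_le H j) N
  refine lt_of_le_of_ne hle ?_
  intro heq
  apply h
  apply le_of_le_sup_comm (mIter H j) N
  have h1 : mIter H j ≤ mIter H (j + 1) ⊔ N := by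
    rw [heq]
    exact le_sup_left
  rw [mIter_succ, sup_comm] at h1
  exact h1

end Cfsg.Agent.Helper10.Mann
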