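import Mathlib
import Cfsg.Prelude.Def_Classical
import Cfsg.Agent.Lib.Helper15.S74Defs
import Cfsg.Agent.Lib.Helper2.SpCenter

/-!
# S2474, T4 (`ex_PSp`, sub-design helper5): symplectic models

A *model* is a finite-dimensional `F`-space `U` with an alternating nondegenerate form `ω` and an
isometry `g`.  `Mod F k N`: some model of dimension `2k` has `orderOf g = N`; `ModB`: moreover
`g ^ m = -1` whenever `N = 2 * m`; `ModZ F k m`: `orderOf g = 2 * m` and `g ^ m = -1`;
`ModN F k N`: `orderOf g = N` and no power of `g` is `-1`.  The universe `v` of the space `U` is a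
parameter (`Mod.{v, u}`), since `FiniteField.Extension` lives in `Type`.
See `plans/S2474_T4_plan.md`.
-/

set_option autoImplicit false

namespace Cfsg.Agent.Helper15.S74

universe v u

/-- `(U, ω, g)` is a symplectic model of dimension `2k`: `ω` is alternating and nondegenerate and
`g` is an isometry -/
def IsModel {F : Type u} [Field F] {U : Type v} [AddCommGroup U] [Module F U]
    (ω : LinearMap.BilinForm F U) (g : U ≃ₗ[F] U) (k : ℕ) : Prop :=
  Module.Finite F U ∧ Module.finrank F U = 2 * k ∧ (∀ x, ω x x = 0) ∧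
    (∀ x, (∀ y, ω x y = 0) → x = 0) ∧ ∀ x y, ω (g x) (g y) = ω x y

/-- some model of dimension `2k` has an isometry of order `N` -/
def Mod (F : Type u) [Field F] (k N : ℕ) : Prop :=
  ∃ (U : Type v) (_ : AddCommGroup U) (_ : Module F U) (ω : LinearMap.BilinForm F U)
    (g : U ≃ₗ[F] U), IsModel ω g k ∧ orderOf g = N

/-- as `Mod`, and if `N = 2 * m` then `g ^ m = -1` -/
def ModB (F : Type u) [Field F] (k N : ℕ) : Prop :=
  ∃ (U : Type v) (_ : AddCommGroup U) (_ : Module F U) (ω : LinearMap.BilinForm F U)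
    (g : U ≃ₗ[F] U), IsModel ω g k ∧ orderOf g = N ∧
      ∀ m : ℕ, N = 2 * m → ∀ x, (g ^ m) x = -x

/-- some model of dimension `2k` has an isometry of order `2 * m` with `g ^ m = -1` -/
def ModZ (F : Type u) [Field F] (k m : ℕ) : Prop :=
  ∃ (U : Type v) (_ : AddCommGroup U) (_ : Module F U) (ω : LinearMap.BilinForm F U)
    (g : U ≃ₗ[F] U), IsModel ω g k ∧ orderOf g = 2 * m ∧ ∀ x, (g ^ m) x = -x

/-- some model of dimension `2k` has an isometry of order `N` no power of which is `-1` -/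
def ModN (F : Type u) [Field F] (k N : ℕ) : Prop :=
  ∃ (U : Type v) (_ : AddCommGroup U) (_ : Module F U) (ω : LinearMap.BilinForm F U)
    (g : U ≃ₗ[F] U), IsModel ω g k ∧ orderOf g = N ∧ ∀ j : ℕ, ∃ x, (g ^ j) x ≠ -x

theorem ModB.mod {F : Type u} [Field F] {k N : ℕ} (h : ModB.{v, u} F k N) : Mod.{v, u} F k N := by
  obtain ⟨U, i1, i2, ω, g, hM, hN, -⟩ := h
  exact ⟨U, i1, i2, ω, g, hM, hN⟩

theorem ModB.modZ {F : Type u} [Field F] {k m : ℕ} (h : ModB.{v, u} F k (2 * m)) :
    ModZ.{v, u} F k m := by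
  obtain ⟨U, i1, i2, ω, g, hM, hN, hz⟩ := h
  exact ⟨U, i1, i2, ω, g, hM, hN, hz m rfl⟩

theorem ModN.mod {F : Type u} [Field F] {k N : ℕ} (h : ModN.{v, u} F k N) : Mod.{v, u} F k N := by
  obtain ⟨U, i1, i2, ω, g, hM, hN, -⟩ := h
  exact ⟨U, i1, i2, ω, g, hM, hN⟩

end Cfsg.Agent.Helper15.S74
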