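import Mathlib
import Cfsg.Agent.Lib.Helper15.S62Defs

/-!
# S2362 piece S62-ADJ (helper5): the adjoint of a multiplication on `L = F[ζ]` is a multiplication
-/

set_option autoImplicit false

open Polynomial

namespace Cfsg.Agent.Helper15.S62

universe u

section linalg

variable {F : Type u} [Field F] {V : Type u} [AddCommGroup V] [Module F V]

/-- PIECE S62-ADJ: for a nondegenerate symmetric form `B'` on `L = F[ζ]` with `ζ` an isometry, every
multiplication has an adjoint which is again a multiplication: the set of `a` for which some `b`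
satisfies `B' (a x) y = B' x (b y)` for all `x y` is a subalgebra containing `ζ` (`b = ζ⁻¹`), `b` is
unique (nondegeneracy), and `a ↦ b` is an `F`-algebra homomorphism. -/
theorem exists_adjoint {L : Type u} [Field L] [Algebra F L] [FiniteDimensional F L]
    (B' : LinearMap.BilinForm F L) (hsymm : ∀ x y, B' x y = B' y x)
    (hnd : ∀ x, (∀ y, B' x y = 0) → x = 0) (ζ : L) (hζ0 : ζ ≠ 0)
    (hζ : Algebra.adjoin F {ζ} = ⊤) (hinv : ∀ x y, B' (ζ * x) (ζ * y) = B' x y) :
    ∃ σ : L →ₐ[F] L, σ ζ = ζ⁻¹ ∧ ∀ a x y : L, B' (a * x) y = B' x (σ a * y) := by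
  classical
  -- uniqueness of adjoints
  have huniq : ∀ a b b' : L, (∀ x y, B' (a * x) y = B' x (b * y)) →
      (∀ x y, B' (a * x) y = B' x (b' * y)) → b = b' := by
    intro a b b' h h'
    have hz : b - b' = 0 := by
      apply hnd
      intro y
      rw [hsymm]
      have h1 := h y 1
      have h2 := h' y 1
      rw [mul_one] at h1 h2
      rw [map_sub, ← h1, ← h2, sub_self]
    exact sub_eq_zero.mp hz
  -- the subalgebra of elements having an adjoint
  let S : Subalgebra F L :=
    { carrier := {a | ∃ b : L, ∀ x y, B' (a * x) y = B' x (b * y)}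
      mul_mem' := by
        rintro a₁ a₂ ⟨b₁, h₁⟩ ⟨b₂, h₂⟩
        refine ⟨b₂ * b₁, fun x y => ?_⟩
        rw [mul_assoc, h₁, h₂, mul_assoc]
      one_mem' := ⟨1, fun x y => by rw [one_mul, one_mul]⟩
      add_mem' := by
        rintro a₁ a₂ ⟨b₁, h₁⟩ ⟨b₂, h₂⟩
        refine ⟨b₁ + b₂, fun x y => ?_⟩
        rw [add_mul, add_mul, map_add, map_add, LinearMap.add_apply, h₁, h₂]
      zero_mem' := ⟨0, fun x y => by simp⟩
      algebraMap_mem' := by
        intro c
        refine ⟨algebraMap F L c, fun x y => ?_⟩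
        rw [← Algebra.smul_def, ← Algebra.smul_def, map_smul, map_smul, LinearMap.smul_apply] }
  have hζS : ζ ∈ S := by
    refine ⟨ζ⁻¹, fun x y => ?_⟩
    have := hinv x (ζ⁻¹ * y)
    rw [← mul_assoc, mul_inv_cancel₀ hζ0, one_mul] at this
    exact this
  have hS : S = ⊤ := by
    apply top_unique
    rw [← hζ]
    exact Algebra.adjoin_le (Set.singleton_subset_iff.mpr hζS)
  have hex : ∀ a : L, ∃ b : L, ∀ x y, B' (a * x) y = B' x (b * y) := by
    intro a
    have : a ∈ S := by rw [hS]; exact Algebra.mem_top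
    exact this
  choose σ hσ using hex
  refine ⟨{ toFun := σ
            map_one' := ?_
            map_mul' := ?_
            map_zero' := ?_
            map_add' := ?_
            commutes' := ?_ }, ?_, ?_⟩
  · exact huniq 1 _ _ (hσ 1) (fun x y => by rw [one_mul, one_mul])
  · intro a₁ a₂
    refine huniq (a₁ * a₂) _ _ (hσ _) (fun x y => ?_)
    rw [mul_assoc, hσ a₁, hσ a₂, ← mul_assoc, mul_comm (σ a₂) (σ a₁)]
  · exact huniq 0 _ _ (hσ 0) (fun x y => by simp)
  · intro a₁ a₂
    refine huniq (a₁ + a₂) _ _ (hσ _) (fun x y => ?_)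
    rw [add_mul, add_mul, map_add, map_add, LinearMap.add_apply, hσ a₁, hσ a₂]
  · intro c
    refine huniq (algebraMap F L c) _ _ (hσ _) (fun x y => ?_)
    rw [← Algebra.smul_def, ← Algebra.smul_def, map_smul, map_smul, LinearMap.smul_apply]
  · refine huniq ζ _ _ (hσ ζ) (fun x y => ?_)
    have := hinv x (ζ⁻¹ * y)
    rw [← mul_assoc, mul_inv_cancel₀ hζ0, one_mul] at this
    exact this
  · intro a x y
    exact hσ a x y

end linalg

end Cfsg.Agent.Helper15.S62
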