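import Mathlib
import Cfsg.Agent.Lib.Helper15.S62Defs
import Cfsg.Agent.Lib.Helper2.SpCenter

/-!
# S2362 piece S62-SIGNTRIV (helper5): sign of `lvlPerm` and `det` are trivial on the commutator subgroup
-/

set_option autoImplicit false

open Polynomial

namespace Cfsg.Agent.Helper15.S62

universe u

section bridge

variable {F : Type u} [Field F]

/-- PIECE S62-SIGNTRIV: `sign ∘ lvlPermHom` and `det` are homomorphisms into commutative groups, so
they kill the commutator subgroup (`Abelianization.commutator_subset_ker`,
`Matrix.GeneralLinearGroup.det`). -/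
theorem sign_det_of_mem_commutator {ι : Type} [Fintype ι] [DecidableEq ι] (Q : (ι → F) → F)
    (c : F) [Fintype {v : ι → F // Q v = c}] [DecidableEq {v : ι → F // Q v = c}]
    (g : Cfsg.isometryGroup F Q) (hg : g ∈ commutator (Cfsg.isometryGroup F Q)) :
    Equiv.Perm.sign (lvlPerm Q c g) = 1 ∧
      ((g.1 : GL ι F) : Matrix ι ι F).det = 1 := by
  constructor
  · have h := Abelianization.commutator_subset_ker
      ((Equiv.Perm.sign).comp (lvlPermHom Q c)) hg
    rw [MonoidHom.mem_ker] at h
    exact h
  · have h := Abelianization.commutator_subset_ker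
      ((Matrix.GeneralLinearGroup.det (n := ι) (R := F)).comp (Cfsg.isometryGroup F Q).subtype) hg
    rw [MonoidHom.mem_ker] at h
    have h2 := congrArg (fun u : Fˣ => (u : F)) h
    simpa using h2

end bridge

end Cfsg.Agent.Helper15.S62
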