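import Mathlib
import Cfsg.Prelude.Def_Classical
import Cfsg.Agent.Lib.Helper15.S74Defs

/-!
# S2474 piece S74-SIGMA (helper5, for helper15): an involutive nontrivial `F`-automorphism of a
finite extension `L` of a finite field `F`: the degree is even, `= 2k`, and the automorphism is
`x ↦ x ^ (q ^ k)`.
-/

set_option autoImplicit false

namespace Cfsg.Agent.Helper15.S74

universe u

variable {F : Type u} [Field F]

/-- PIECE S74-SIGMA -/
theorem sigma_eq_pow' [Fintype F] {L : Type u} [Field L] [Algebra F L] [Finite L]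
    (σ : L →ₐ[F] L) (hinv : ∀ x, σ (σ x) = x) (hne : ∃ x, σ x ≠ x) :
    ∃ k : ℕ, 1 ≤ k ∧ Module.finrank F L = 2 * k ∧ ∀ x : L, σ x = x ^ (Fintype.card F ^ k) := by
  obtain ⟨⟨i, hi⟩, hi2⟩ := (FiniteField.bijective_frobeniusAlgHom_pow F L).2 σ
  simp only at hi2
  have hσx : ∀ x, σ x = x ^ (Fintype.card F ^ i) := by
    intro x
    rw [← hi2, AlgHom.coe_pow, FiniteField.coe_frobeniusAlgHom, pow_iterate]
  have hsq : FiniteField.frobeniusAlgHom F L ^ (2 * i) = 1 := by
    rw [two_mul, pow_add, hi2]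
    ext x
    exact hinv x
  have hdvd : Module.finrank F L ∣ 2 * i := by
    rw [← FiniteField.orderOf_frobeniusAlgHom F L]
    exact orderOf_dvd_of_pow_eq_one hsq
  have hi0 : i ≠ 0 := by
    intro h0
    obtain ⟨x, hx⟩ := hne
    apply hx
    rw [hσx, h0, pow_zero, pow_one]
  obtain ⟨c, hc⟩ := hdvd
  have hc1 : c = 1 := by
    rcases c with _ | _ | c
    · omega
    · rfl
    · exfalso
      have : 2 * Module.finrank F L ≤ 2 * i := by
        rw [hc]
        nlinarith
      omega
  rw [hc1, mul_one] at hc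
  exact ⟨i, by omega, hc.symm, hσx⟩

end Cfsg.Agent.Helper15.S74
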