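import Mathlib
import Cfsg.Prelude
import Cfsg.Agent.Lib.Helper13.SylODefs

/-!
# S4613 / SylO piece SYLO-PREV (helper5): `prev_unique`

Two "previous" cosets of `g` in `C(w)` (with `ℓ w < ℓ (w σt)`) coincide.
-/

set_option autoImplicit false

namespace Cfsg.Agent.Helper13.SylO

open Cfsg Cfsg.Agent.Helper2.WordLen Cfsg.Agent.Helper2.BN Cfsg.Agent.Helper17.BNCox

section pure
variable {H : Type*} [Group H] (P : Cfsg.BNPair H)

/-- aux: `C(σt) * C(σt) ⊆ B ∪ C(σt)`. -/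
theorem prev_mul_mem (t : P.S) (a c : H) (ha : a ∈ C P (σ P t)) (hc : c ∈ C P (σ P t)) :
    a * c ∈ P.B ∨ a * c ∈ C P (σ P t) := by
  have ha' : a ∈ C P (π P ⟨t, P.subset t.2⟩) := ha
  rw [mem_C_iff] at ha'
  obtain ⟨b, hb, b', hb', rfl⟩ := ha'
  have hy : b' * c ∈ C P (σ P t) := B_mul_C P hb' hc
  have e : b * ((⟨t, P.subset t.2⟩ : P.N) : H) * b' * c = b * ((t : H) * (b' * c)) := by
    simp [mul_assoc]
  rw [e]
  rcases L1 P t hy with h | h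
  · left
    rw [σ_mul_self, C_one] at h
    exact P.B.mul_mem hb h
  · right
    exact B_mul_C P hb h

/-- PIECE SYLO-PREV. -/
theorem prev_unique (w : W P) (t : P.S) (hlt : ℓ P w < ℓ P (w * σ P t)) (g g₁ g₂ : H)
    (h1 : g₁ ∈ C P w) (h2 : g₂ ∈ C P w) (h1' : g₁⁻¹ * g ∈ C P (σ P t))
    (h2' : g₂⁻¹ * g ∈ C P (σ P t)) : g₁⁻¹ * g₂ ∈ P.B := by
  have h2i : (g₂⁻¹ * g)⁻¹ ∈ C P (σ P t) := by
    have := C_inv P h2'
    rwa [σ_inv] at this
  have e : g₁⁻¹ * g₂ = (g₁⁻¹ * g) * (g₂⁻¹ * g)⁻¹ := by group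
  rcases prev_mul_mem P t _ _ h1' h2i with h | h
  · rw [e]; exact h
  · exfalso
    rw [← e] at h
    have hlen : ℓ P (w * σ P t) = ℓ P w + ℓ P (σ P t) := by
      have := ℓ_mul_gen_le P t w
      rw [ℓ_σ]
      omega
    have h3 : g₁ * (g₁⁻¹ * g₂) ∈ C P (w * σ P t) := mul_mem_C P hlen h1 h
    have e2 : g₁ * (g₁⁻¹ * g₂) = g₂ := by group
    rw [e2] at h3
    have h4 : w = w * σ P t := C_inj P h2 h3
    have h5 : σ P t = 1 := by
      have := congrArg (fun x => w⁻¹ * x) h4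
      simpa using this.symm
    exact σ_ne_one P t h5

end pure

end Cfsg.Agent.Helper13.SylO
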