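import Mathlib
import Cfsg.Prelude.Def_Blocks
import Cfsg.Agent.Lib.Helper5.Clifford
import Cfsg.Agent.Lib.Helper24.CharNormal

/-!
# Gallagher-type results (helper5's shared library)
-/

set_option autoImplicit false
set_option linter.style.haveILetI false
set_option linter.unusedVariables false
set_option linter.unusedSectionVars false

namespace Cfsg.Agent.Helper5

open Cfsg Cfsg.Agent.Helper24

universe u w

open scoped ComplexConjugate

section Squeeze

/-- A squeeze lemma for natural numbers. -/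
theorem nat_squeeze {ι : Type*} [DecidableEq ι] (S : Finset ι) (e : ι → ℕ) (a : ι → ι → ℕ)
    (he : ∀ i ∈ S, e i ≠ 0) (ha : ∀ i ∈ S, 1 ≤ a i i)
    (h : ∑ i ∈ S, ∑ j ∈ S, e i * e j * a i j = ∑ i ∈ S, e i ^ 2) :
    ∀ i ∈ S, ∀ j ∈ S, a i j = if i = j then 1 else 0 := by
  have hle : ∀ i ∈ S, e i ^ 2 ≤ ∑ j ∈ S, e i * e j * a i j := by
    intro i hi
    calc e i ^ 2 = e i * e i * 1 := by ring
      _ ≤ e i * e i * a i i := Nat.mul_le_mul_left _ (ha i hi)
      _ ≤ ∑ j ∈ S, e i * e j * a i j :=
        Finset.single_le_sum (f := fun j => e i * e j * a i j) (fun j _ => Nat.zero_le _) hi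
  have heq := (Finset.sum_eq_sum_iff_of_le hle).mp h.symm
  intro i hi j hj
  have h1 := heq i hi
  rw [← Finset.add_sum_erase S _ hi] at h1
  have h2 : e i * e i * 1 ≤ e i * e i * a i i := Nat.mul_le_mul_left _ (ha i hi)
  have h3 : e i ^ 2 = e i * e i * 1 := by ring
  have h4 : ∑ x ∈ S.erase i, e i * e x * a i x = 0 := by omega
  have h5 : e i * e i * a i i = e i * e i * 1 := by omega
  have hei : 0 < e i * e i := Nat.mul_pos (Nat.pos_of_ne_zero (he i hi)) (Nat.pos_of_ne_zero (he i hi))
  by_cases hij : i = j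
  · subst hij
    rw [if_pos rfl]
    exact Nat.eq_of_mul_eq_mul_left hei h5
  · rw [if_neg hij]
    rw [Finset.sum_eq_zero_iff] at h4
    have h6 := h4 j (Finset.mem_erase.mpr ⟨fun h => hij h.symm, hj⟩)
    have hej : 0 < e i * e j := Nat.mul_pos (Nat.pos_of_ne_zero (he i hi)) (Nat.pos_of_ne_zero (he j hj))
    rcases Nat.mul_eq_zero.mp h6 with h7 | h7
    · omega
    · exact h7

variable {G : Type u} [Group G] [Fintype G]

/-- Squeeze lemma for characters: if the norm of `∑ eᵢ cᵢ` is `∑ eᵢ²`, with `cᵢ` nonzero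
characters and `eᵢ` positive, then the `cᵢ` are irreducible and pairwise orthogonal. -/
theorem char_squeeze {ι : Type*} [DecidableEq ι] (S : Finset ι) (e : ι → ℕ) (c : ι → G → ℂ)
    (he : ∀ i ∈ S, e i ≠ 0) (hc : ∀ i ∈ S, IsCharacter G (c i)) (hc0 : ∀ i ∈ S, c i ≠ 0)
    (hsum : classInner (∑ i ∈ S, (e i : ℂ) • c i) (∑ i ∈ S, (e i : ℂ) • c i) =
      ((∑ i ∈ S, e i ^ 2 : ℕ) : ℂ)) :
    (∀ i ∈ S, IsIrrCharacter G (c i)) ∧
      ∀ i ∈ S, ∀ j ∈ S, i ≠ j → classInner (c i) (c j) = 0 := by
  classical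
  letI := irrFintype (G := G)
  -- natural numbers a i j
  have hnat : ∀ i j, ∃ n : ℕ, i ∈ S → j ∈ S → classInner (c i) (c j) = n := by
    intro i j
    by_cases hi : i ∈ S
    · by_cases hj : j ∈ S
      · obtain ⟨n, hn⟩ := classInner_char_nat (hc i hi) (hc j hj)
        exact ⟨n, fun _ _ => hn⟩
      · exact ⟨0, fun _ h => absurd h hj⟩
    · exact ⟨0, fun h _ => absurd h hi⟩
  choose a ha using hnat
  have haii : ∀ i ∈ S, 1 ≤ a i i := by
    intro i hi
    by_contra hlt
    have h0 : a i i = 0 := by omega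
    have := ha i i hi hi
    rw [h0] at this
    exact hc0 i hi (classInner_self_eq_zero (by simpa using this))
  have hexp : classInner (∑ i ∈ S, (e i : ℂ) • c i) (∑ i ∈ S, (e i : ℂ) • c i) =
      ((∑ i ∈ S, ∑ j ∈ S, e i * e j * a i j : ℕ) : ℂ) := by
    rw [classInner_sum_left]
    push_cast
    apply Finset.sum_congr rfl
    intro i hi
    rw [classInner_smul_left, classInner_sum_right, Finset.mul_sum]
    apply Finset.sum_congr rfl
    intro j hj
    rw [classInner_smul_right, ha i j hi hj, Complex.conj_natCast]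
    ring
  rw [hexp] at hsum
  have hsum' : ∑ i ∈ S, ∑ j ∈ S, e i * e j * a i j = ∑ i ∈ S, e i ^ 2 := Nat.cast_injective hsum
  have hres := nat_squeeze S e a he haii hsum'
  constructor
  · intro i hi
    rw [isIrrCharacter_iff]
    refine ⟨hc i hi, ?_⟩
    rw [ha i i hi hi, hres i hi i hi, if_pos rfl]
    simp
  · intro i hi j hj hij
    rw [ha i j hi hj, hres i hi j hj, if_neg hij]
    simp

end Squeeze

section NTrivial

variable {G : Type u} [Group G] [Fintype G]

/-- A function invariant under right translation by the normal subgroup `N` is orthogonal to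
every irreducible character that is not trivial on `N`. -/
theorem classInner_eq_zero_of_right_invariant (N : Subgroup G) [hN : N.Normal] {f : G → ℂ}
    (hf : ∀ g : G, ∀ m ∈ N, f (g * m) = f g) {ψ : G → ℂ} (hψ : IsIrrCharacter G ψ)
    (hnt : ∃ x ∈ N, ψ x ≠ ψ 1) : classInner f ψ = 0 := by
  classical
  letI : Fintype N := Fintype.ofFinite N
  have hz := sum_char_coset_eq_zero N hψ hnt
  unfold classInner
  have h1 : ∀ m : N, ∑ g : G, f g * conj (ψ g) = ∑ g : G, f g * conj (ψ (g * m)) := by
    intro m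
    rw [← Equiv.sum_comp (Equiv.mulRight (m : G))]
    apply Finset.sum_congr rfl
    intro g _
    simp [hf g m m.2]
  have key : (Nat.card N : ℂ) * ∑ g : G, f g * conj (ψ g) = 0 := by
    calc (Nat.card N : ℂ) * ∑ g : G, f g * conj (ψ g)
        = ∑ m : N, ∑ g : G, f g * conj (ψ g) := by
          simp [Finset.sum_const, Nat.card_eq_fintype_card]
      _ = ∑ m : N, ∑ g : G, f g * conj (ψ (g * m)) := Finset.sum_congr rfl (fun m _ => h1 m)
      _ = ∑ g : G, ∑ m : N, f g * conj (ψ (g * m)) := Finset.sum_comm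
      _ = ∑ g : G, f g * conj (∑ m : N, ψ (g * m)) := by
          apply Finset.sum_congr rfl
          intro g _
          rw [map_sum, Finset.mul_sum]
      _ = 0 := by simp [hz]
  have hN0 : (Nat.card N : ℂ) ≠ 0 := by
    rw [Nat.cast_ne_zero]; exact Nat.card_pos.ne'
  rcases mul_eq_zero.mp key with h | h
  · exact absurd h hN0
  · rw [h, mul_zero]

/-- Irreducible constituents of the character induced from the trivial character of a normal
subgroup `N` are trivial on `N`. -/
theorem ntrivial_of_constituent_ind_one (N : Subgroup G) [hN : N.Normal] {β : G → ℂ}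
    (hβ : IsIrrCharacter G β) (h : classInner (indFun N (fun _ => (1 : ℂ))) β ≠ 0) :
    ∀ n ∈ N, β n = β 1 := by
  classical
  letI : Fintype N := Fintype.ofFinite N
  have hone : IsIrrCharacter N (fun _ : N => (1 : ℂ)) := isIrrCharacter_one
  have hcf := isClassFunction_of_isIrrCharacter hβ
  rw [frobenius_reciprocity N _ hcf, ← classInner_conj_symm] at h
  have h' : classInner (fun n : N => β n) (fun _ : N => (1 : ℂ)) ≠ 0 := by
    intro h0
    apply h
    rw [h0, map_zero]
  obtain ⟨e, he0, hee, he⟩ := restrict_eq_smul_of_invariant N hβ hone (fun g => rfl) h'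
  intro n hn
  have h1 := congrFun he ⟨n, hn⟩
  have h2 := congrFun he 1
  simp only [Pi.smul_apply, smul_eq_mul, mul_one] at h1 h2
  rw [h1]
  exact h2.symm

theorem constituent_ind_one_of_ntrivial (N : Subgroup G) [hN : N.Normal] {β : G → ℂ}
    (hβ : IsIrrCharacter G β) (h : ∀ n ∈ N, β n = β 1) :
    classInner (indFun N (fun _ => (1 : ℂ))) β ≠ 0 := by
  classical
  letI : Fintype N := Fintype.ofFinite N
  have hcf := isClassFunction_of_isIrrCharacter hβ
  rw [frobenius_reciprocity N _ hcf]
  unfold classInner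
  have h1 : ∑ g : N, (1 : ℂ) * conj (β g) = (Nat.card N : ℂ) * conj (β 1) := by
    simp only [one_mul]
    rw [Finset.sum_congr rfl (fun g _ => by rw [h g g.2])]
    simp [Finset.sum_const, Nat.card_eq_fintype_card]
  rw [h1]
  have hN0 : (Nat.card N : ℂ) ≠ 0 := by
    rw [Nat.cast_ne_zero]; exact Nat.card_pos.ne'
  obtain ⟨n, hn, hn1⟩ := irr_one_eq hβ
  rw [hn1, Complex.conj_natCast]
  field_simp
  rw [Nat.cast_ne_zero]; omega

end NTrivial

end Cfsg.Agent.Helper5
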