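import Mathlib

/-!
# Transfer of an invariant homomorphism on a normal subgroup (helper5)
-/

set_option autoImplicit false
set_option linter.unusedSectionVars false
set_option linter.unusedVariables false

namespace Cfsg.Agent.Helper5

open MulAction Subgroup

variable {G : Type*} [Group G] {A : Type*} [CommGroup A]

/-- The transfer of a `G`-invariant homomorphism `ϕ` on a normal subgroup `N` of finite index
restricts to `ϕ ^ |G : N|` on `N`. -/
theorem transfer_invariant_apply (N : Subgroup G) [hN : N.Normal] [N.FiniteIndex] (ϕ : N →* A)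
    (hinv : ∀ (g : G) (n : N), ϕ ⟨g⁻¹ * n * g, by
      have := hN.conj_mem (n : G) n.2 g⁻¹
      rwa [inv_inv] at this⟩ = ϕ n) (n : N) :
    MonoidHom.transfer ϕ (n : G) = ϕ n ^ N.index := by
  classical
  haveI : Finite (G ⧸ N) := Subgroup.finite_quotient_of_finiteIndex
  haveI : Finite (Quotient (orbitRel (zpowers (n : G)) (G ⧸ N))) := Quotient.finite _
  letI : Fintype (Quotient (orbitRel (zpowers (n : G)) (G ⧸ N))) := Fintype.ofFinite _
  rw [MonoidHom.transfer_eq_prod_quotient_orbitRel_zpowers_quot]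
  have h1 : ∀ q : Quotient (orbitRel (zpowers (n : G)) (G ⧸ N)),
      ϕ ⟨q.out.out⁻¹ * (n : G) ^ Function.minimalPeriod ((n : G) • ·) q.out * q.out.out,
        QuotientGroup.out_conj_pow_minimalPeriod_mem N (n : G) q.out⟩ =
      ϕ n ^ Function.minimalPeriod ((n : G) • ·) q.out := by
    intro q
    rw [← map_pow]
    exact hinv q.out.out (n ^ Function.minimalPeriod ((n : G) • ·) q.out)
  simp only [h1]
  rw [Finset.prod_pow_eq_pow_sum, ← Subgroup.index_eq_sum_minimalPeriod]

/-- The transfer from a subgroup `H` of finite index, containing a normal subgroup `N` of `G` on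
which `ϕ` is `G`-invariant, restricts to `ϕ ^ |G : H|` on `N`. -/
theorem transfer_invariant_apply' (N H : Subgroup G) [hN : N.Normal] [H.FiniteIndex]
    (hNH : N ≤ H) (ϕ : H →* A)
    (hinv : ∀ (g : G) (n : N), ϕ ⟨g⁻¹ * n * g, hNH (by
      have := hN.conj_mem (n : G) n.2 g⁻¹
      rwa [inv_inv] at this)⟩ = ϕ ⟨n, hNH n.2⟩) (n : N) :
    MonoidHom.transfer ϕ (n : G) = ϕ ⟨n, hNH n.2⟩ ^ H.index := by
  classical
  haveI : Finite (G ⧸ H) := Subgroup.finite_quotient_of_finiteIndex
  haveI : Finite (Quotient (orbitRel (zpowers (n : G)) (G ⧸ H))) := Quotient.finite _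
  letI : Fintype (Quotient (orbitRel (zpowers (n : G)) (G ⧸ H))) := Fintype.ofFinite _
  rw [MonoidHom.transfer_eq_prod_quotient_orbitRel_zpowers_quot]
  have h1 : ∀ q : Quotient (orbitRel (zpowers (n : G)) (G ⧸ H)),
      ϕ ⟨q.out.out⁻¹ * (n : G) ^ Function.minimalPeriod ((n : G) • ·) q.out * q.out.out,
        QuotientGroup.out_conj_pow_minimalPeriod_mem H (n : G) q.out⟩ =
      ϕ ⟨n, hNH n.2⟩ ^ Function.minimalPeriod ((n : G) • ·) q.out := by
    intro q
    rw [← map_pow]
    exact hinv q.out.out (n ^ Function.minimalPeriod ((n : G) • ·) q.out)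
  simp only [h1]
  rw [Finset.prod_pow_eq_pow_sum, ← Subgroup.index_eq_sum_minimalPeriod]

/-- If all values of `ϕ` have `k`-th power one, so do all values of its transfer. -/
theorem transfer_pow_eq_one (H : Subgroup G) [H.FiniteIndex] (ϕ : H →* A) (k : ℕ)
    (hk : ∀ h : H, ϕ h ^ k = 1) (g : G) : MonoidHom.transfer ϕ g ^ k = 1 := by
  classical
  haveI : Finite (G ⧸ H) := Subgroup.finite_quotient_of_finiteIndex
  haveI : Finite (Quotient (orbitRel (zpowers g) (G ⧸ H))) := Quotient.finite _
  letI : Fintype (Quotient (orbitRel (zpowers g) (G ⧸ H))) := Fintype.ofFinite _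
  rw [MonoidHom.transfer_eq_prod_quotient_orbitRel_zpowers_quot, ← Finset.prod_pow]
  exact Finset.prod_eq_one (fun q _ => hk _)

end Cfsg.Agent.Helper5
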