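import Mathlib
import Cfsg.Agent.Lib.Helper5.RepExtend

/-!
# A finite central extension over which an invariant irreducible representation extends
(helper5's shared library)

For an irreducible complex representation `ρ` of a normal subgroup `N` of a finite group `G`
whose character is `G`-invariant, the group `extGroup N ρ` of pairs `(g, M)` with `M` an operator
realizing the conjugation by `g` and `det M ^ |N| = 1` is a finite group mapping onto `G` with a
central kernel, containing a copy of `N`, and acting on the space of `ρ` by the second projection.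
-/

set_option autoImplicit false

namespace Cfsg.Agent.Helper5

open Cfsg Cfsg.Agent.Helper24 Module

universe u v

section CentralExt

variable {G : Type u} [Group G]
variable {V : Type v} [AddCommGroup V] [Module ℂ V]

/-- The `k`-th power of the determinant of the second component. -/
noncomputable def detPowHom (G : Type u) [Group G] (V : Type v) [AddCommGroup V] [Module ℂ V]
    (k : ℕ) : G × (V →ₗ[ℂ] V)ˣ →* ℂˣ :=
  (powMonoidHom k).comp
    ((Units.map (LinearMap.det : (V →ₗ[ℂ] V) →* ℂ)).comp (MonoidHom.snd G (V →ₗ[ℂ] V)ˣ))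

theorem detPowHom_apply (k : ℕ) (x : G × (V →ₗ[ℂ] V)ˣ) :
    ((detPowHom G V k x : ℂˣ) : ℂ) = (LinearMap.det ((x.2 : (V →ₗ[ℂ] V)ˣ) : V →ₗ[ℂ] V)) ^ k := by
  simp [detPowHom]

/-- The extension group. -/
noncomputable def extGroup (N : Subgroup G) [hN : N.Normal] (ρ : Representation ℂ N V) :
    Subgroup (G × (V →ₗ[ℂ] V)ˣ) :=
  intertwinerGroup N ρ ⊓ (detPowHom G V (Nat.card N)).ker

theorem mem_extGroup (N : Subgroup G) [hN : N.Normal] (ρ : Representation ℂ N V)
    (x : G × (V →ₗ[ℂ] V)ˣ) : x ∈ extGroup N ρ ↔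
      x ∈ intertwinerGroup N ρ ∧
        (LinearMap.det ((x.2 : (V →ₗ[ℂ] V)ˣ) : V →ₗ[ℂ] V)) ^ (Nat.card N) = 1 := by
  rw [extGroup, Subgroup.mem_inf, MonoidHom.mem_ker]
  constructor
  · rintro ⟨h1, h2⟩
    refine ⟨h1, ?_⟩
    rw [← detPowHom_apply, h2]
    rfl
  · rintro ⟨h1, h2⟩
    refine ⟨h1, ?_⟩
    apply Units.ext
    rw [detPowHom_apply, h2]
    rfl

/-- The projection to `G`. -/
noncomputable def extProj (N : Subgroup G) [hN : N.Normal] (ρ : Representation ℂ N V) :
    extGroup N ρ →* G :=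
  (MonoidHom.fst G (V →ₗ[ℂ] V)ˣ).comp (extGroup N ρ).subtype

theorem extProj_apply (N : Subgroup G) [hN : N.Normal] (ρ : Representation ℂ N V)
    (x : extGroup N ρ) : extProj N ρ x = (x : G × (V →ₗ[ℂ] V)ˣ).1 := rfl

/-- The representation of the extension group on `V`. -/
noncomputable def extRep (N : Subgroup G) [hN : N.Normal] (ρ : Representation ℂ N V) :
    Representation ℂ (extGroup N ρ) V :=
  (Units.coeHom (V →ₗ[ℂ] V)).comp
    ((MonoidHom.snd G (V →ₗ[ℂ] V)ˣ).comp (extGroup N ρ).subtype)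

theorem extRep_apply (N : Subgroup G) [hN : N.Normal] (ρ : Representation ℂ N V)
    (x : extGroup N ρ) :
    extRep N ρ x = (((x : G × (V →ₗ[ℂ] V)ˣ).2 : (V →ₗ[ℂ] V)ˣ) : V →ₗ[ℂ] V) := rfl

end CentralExt

section Emb

variable {G : Type u} [Group G] [Finite G]
variable {V : Type v} [AddCommGroup V] [Module ℂ V]
variable (N : Subgroup G) [hN : N.Normal] (ρ : Representation ℂ N V)

theorem mem_extGroup_of_mem (m : N) : ((m : G), ρ.asGroupHom m) ∈ extGroup N ρ := by
  rw [mem_extGroup]
  refine ⟨mem_intertwinerGroup_of_mem N ρ m, ?_⟩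
  show LinearMap.det (((ρ.asGroupHom m : (V →ₗ[ℂ] V)ˣ)) : V →ₗ[ℂ] V) ^ Nat.card N = 1
  rw [Representation.asGroupHom_apply, ← map_pow, ← map_pow, pow_card_eq_one', map_one, map_one]

/-- The embedding of `N` in the extension group. -/
noncomputable def extEmb : N →* extGroup N ρ where
  toFun m := ⟨((m : G), ρ.asGroupHom m), mem_extGroup_of_mem N ρ m⟩
  map_one' := by
    apply Subtype.ext
    apply Prod.ext
    · rfl
    · show ρ.asGroupHom 1 = 1
      rw [map_one]
  map_mul' := by
    intro a b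
    apply Subtype.ext
    apply Prod.ext
    · rfl
    · show ρ.asGroupHom (a * b) = ρ.asGroupHom a * ρ.asGroupHom b
      rw [map_mul]

theorem extProj_extEmb (m : N) : extProj N ρ (extEmb N ρ m) = (m : G) := rfl

theorem extRep_extEmb (m : N) : extRep N ρ (extEmb N ρ m) = ρ m := by
  rw [extRep_apply]
  show ((ρ.asGroupHom m : (V →ₗ[ℂ] V)ˣ) : V →ₗ[ℂ] V) = ρ m
  rw [Representation.asGroupHom_apply]

theorem extEmb_injective : Function.Injective (extEmb N ρ) := by
  intro a b h
  have := congrArg (extProj N ρ) h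
  rw [extProj_extEmb, extProj_extEmb] at this
  exact Subtype.ext this

/-- The image of `N` is normal in the extension group. -/
theorem extEmb_range_normal : (extEmb N ρ).range.Normal := by
  constructor
  rintro _ ⟨m, rfl⟩ x
  have hx := ((mem_extGroup N ρ x.1).mp x.2).1
  refine ⟨MulAut.conjNormal (x : G × (V →ₗ[ℂ] V)ˣ).1 m, ?_⟩
  apply Subtype.ext
  apply Prod.ext
  · show ((MulAut.conjNormal (x : G × (V →ₗ[ℂ] V)ˣ).1 m : N) : G) =
      (x : G × (V →ₗ[ℂ] V)ˣ).1 * (m : G) * ((x : G × (V →ₗ[ℂ] V)ˣ).1)⁻¹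
    rw [MulAut.conjNormal_apply]
  · show ρ.asGroupHom (MulAut.conjNormal (x : G × (V →ₗ[ℂ] V)ˣ).1 m) =
      (x : G × (V →ₗ[ℂ] V)ˣ).2 * ρ.asGroupHom m * ((x : G × (V →ₗ[ℂ] V)ˣ).2)⁻¹
    rw [← hx m]

end Emb

section Surj

variable {G : Type u} [Group G] [Finite G]
variable {V : Type v} [AddCommGroup V] [Module ℂ V] [FiniteDimensional ℂ V]
variable (N : Subgroup G) [hN : N.Normal] (ρ : Representation ℂ N V)

/-- A nonzero scalar as an invertible operator. -/
noncomputable def scalarUnit (V : Type v) [AddCommGroup V] [Module ℂ V] (c : ℂˣ) :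
    (V →ₗ[ℂ] V)ˣ :=
  Units.map ((algebraMap ℂ (Module.End ℂ V) : ℂ →+* Module.End ℂ V) : ℂ →* Module.End ℂ V) c

theorem scalarUnit_val (c : ℂˣ) :
    ((scalarUnit V c : (V →ₗ[ℂ] V)ˣ) : V →ₗ[ℂ] V) = (c : ℂ) • (1 : Module.End ℂ V) := by
  show algebraMap ℂ (Module.End ℂ V) (c : ℂ) = _
  rw [Algebra.algebraMap_eq_smul_one]

theorem scalarUnit_comm (c : ℂˣ) (B : (V →ₗ[ℂ] V)ˣ) : scalarUnit V c * B = B * scalarUnit V c := by
  apply Units.ext
  rw [Units.val_mul, Units.val_mul, scalarUnit_val]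
  simp

theorem det_scalarUnit (c : ℂˣ) :
    LinearMap.det ((scalarUnit V c : (V →ₗ[ℂ] V)ˣ) : V →ₗ[ℂ] V) = (c : ℂ) ^ finrank ℂ V := by
  rw [scalarUnit_val, LinearMap.det_smul]
  simp

/-- The projection to `G` is onto, when `ρ` is irreducible with invariant character. -/
theorem extProj_surjective (hρ : ρ.IsIrreducible)
    (hinv : ∀ (g : G) (n : N), ρ.character (MulAut.conjNormal g n) = ρ.character n) :
    Function.Surjective (extProj N ρ) := by
  classical
  letI : Fintype N := Fintype.ofFinite N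
  intro g
  obtain ⟨M, hM⟩ := exists_intertwiner N ρ hρ g (hinv g)
  have hnt : Nontrivial V := ((isIrreducible_iff ρ).mp hρ).1
  have hd : 0 < finrank ℂ V := Module.finrank_pos
  set δ : ℂ := LinearMap.det ((M : (V →ₗ[ℂ] V)ˣ) : V →ₗ[ℂ] V) with hδ
  have hδ0 : δ ≠ 0 := by
    have : IsUnit δ := (M.isUnit).map (LinearMap.det : (V →ₗ[ℂ] V) →* ℂ)
    exact this.ne_zero
  obtain ⟨c, hc⟩ := IsAlgClosed.exists_pow_nat_eq (δ⁻¹) hd
  have hc0 : c ≠ 0 := by
    rintro rfl
    rw [zero_pow hd.ne'] at hc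
    exact inv_ne_zero hδ0 hc.symm
  have hmem : (g, scalarUnit V (Units.mk0 c hc0) * M) ∈ extGroup N ρ := by
    rw [mem_extGroup]
    refine ⟨mem_intertwinerGroup_mul_central N ρ hM _ (scalarUnit_comm _), ?_⟩
    show LinearMap.det (((scalarUnit V (Units.mk0 c hc0) * M : (V →ₗ[ℂ] V)ˣ)) : V →ₗ[ℂ] V) ^
      Nat.card N = 1
    rw [Units.val_mul, map_mul, det_scalarUnit, Units.val_mk0, hc, ← hδ, inv_mul_cancel₀ hδ0,
      one_pow]
  exact ⟨⟨_, hmem⟩, rfl⟩

/-- The defining relation of the extension group, in terms of endomorphisms. -/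
theorem extRep_mul_rho (x : extGroup N ρ) (n : N) :
    extRep N ρ x * ρ n = ρ (MulAut.conjNormal (extProj N ρ x) n) * extRep N ρ x := by
  have hx := ((mem_extGroup N ρ x.1).mp x.2).1 n
  rw [mul_inv_eq_iff_eq_mul] at hx
  have := congrArg (fun u : (V →ₗ[ℂ] V)ˣ => (u : V →ₗ[ℂ] V)) hx
  simp only [Units.val_mul, Representation.asGroupHom_apply] at this
  exact this

/-- An element of the extension group lying over `m ∈ N` acts as a root of unity times `ρ m`. -/
theorem exists_scalar_of_proj_mem (hρ : ρ.IsIrreducible) (x : extGroup N ρ) (m : N)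
    (hx : extProj N ρ x = (m : G)) :
    ∃ c : ℂ, c ^ (finrank ℂ V * Nat.card N) = 1 ∧ extRep N ρ x = c • ρ m := by
  have hcomm : ∀ n : N, (ρ m⁻¹ * extRep N ρ x) ∘ₗ ρ n = ρ n ∘ₗ (ρ m⁻¹ * extRep N ρ x) := by
    intro n
    show (ρ m⁻¹ * extRep N ρ x) * ρ n = ρ n * (ρ m⁻¹ * extRep N ρ x)
    rw [mul_assoc, extRep_mul_rho, hx]
    have : MulAut.conjNormal (m : G) n = m * n * m⁻¹ := by
      apply Subtype.ext
      rw [MulAut.conjNormal_apply]
      rfl
    rw [this, ← mul_assoc, ← mul_assoc, ← map_mul, ← map_mul]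
    congr 2
    group
  letI : Fintype N := Fintype.ofFinite N
  obtain ⟨c, hc⟩ := exists_scalar_of_comm ρ hρ _ hcomm
  have hM : extRep N ρ x = c • ρ m := by
    have h1 : ρ m * (ρ m⁻¹ * extRep N ρ x) = extRep N ρ x := by
      rw [← mul_assoc, ← map_mul, mul_inv_cancel, map_one, one_mul]
    rw [← h1, hc]
    simp
  refine ⟨c, ?_, hM⟩
  have hdet := ((mem_extGroup N ρ x.1).mp x.2).2
  have hdet' : LinearMap.det (extRep N ρ x) ^ Nat.card N = 1 := hdet
  rw [hM, LinearMap.det_smul, mul_pow, ← map_pow, ← map_pow, pow_card_eq_one', map_one, map_one,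
    mul_one, ← pow_mul] at hdet'
  exact hdet'

/-- Elements of the kernel of the projection act as scalars. -/
theorem exists_scalar_of_mem_ker (hρ : ρ.IsIrreducible) (x : extGroup N ρ)
    (hx : x ∈ (extProj N ρ).ker) :
    ∃ c : ℂ, c ^ (finrank ℂ V * Nat.card N) = 1 ∧
      extRep N ρ x = c • (1 : Module.End ℂ V) := by
  have hx' : extProj N ρ x = ((1 : N) : G) := hx
  obtain ⟨c, h1, h2⟩ := exists_scalar_of_proj_mem N ρ hρ x 1 hx'
  exact ⟨c, h1, by rw [h2, map_one]⟩

theorem finite_ker_extProj (hρ : ρ.IsIrreducible) : Finite (extProj N ρ).ker := by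
  classical
  have hnt : Nontrivial V := ((isIrreducible_iff ρ).mp hρ).1
  have hpos : 0 < finrank ℂ V * Nat.card N := Nat.mul_pos Module.finrank_pos Nat.card_pos
  have key : ∀ x : (extProj N ρ).ker, ∃ c : ℂ, c ^ (finrank ℂ V * Nat.card N) = 1 ∧
      extRep N ρ (x : extGroup N ρ) = c • (1 : Module.End ℂ V) :=
    fun x => exists_scalar_of_mem_ker N ρ hρ x x.2
  choose f hf1 hf2 using key
  let F : (extProj N ρ).ker →
      (Polynomial.nthRootsFinset (finrank ℂ V * Nat.card N) (1 : ℂ)) :=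
    fun x => ⟨f x, (Polynomial.mem_nthRootsFinset hpos _).mpr (hf1 x)⟩
  apply Finite.of_injective F
  intro x y hxy
  have hc : f x = f y := congrArg Subtype.val hxy
  apply Subtype.ext
  apply Subtype.ext
  apply Prod.ext
  · have hx : extProj N ρ (x : extGroup N ρ) = 1 := x.2
    have hy : extProj N ρ (y : extGroup N ρ) = 1 := y.2
    exact hx.trans hy.symm
  · apply Units.ext
    have h := hf2 x
    rw [hc, ← hf2 y] at h
    exact h

/-- The extension group is finite. -/
theorem finite_extGroup (hρ : ρ.IsIrreducible) : Finite (extGroup N ρ) := by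
  haveI := finite_ker_extProj N ρ hρ
  haveI : Finite (extGroup N ρ ⧸ (extProj N ρ).ker) :=
    Finite.of_equiv _ (QuotientGroup.quotientKerEquivRange (extProj N ρ)).symm.toEquiv
  exact Finite.of_subgroup_quotient (extProj N ρ).ker

/-- The representation of the extension group is irreducible. -/
theorem isIrreducible_extRep (hρ : ρ.IsIrreducible) : (extRep N ρ).IsIrreducible := by
  rw [isIrreducible_iff] at hρ ⊢
  refine ⟨hρ.1, ?_⟩
  intro U hU
  apply hρ.2 U
  intro n v hv
  rw [← extRep_extEmb N ρ n]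
  exact hU _ v hv

/-- The preimage of `N` in the extension group has the same index as `N`. -/
theorem index_comap_extProj (hρ : ρ.IsIrreducible)
    (hinv : ∀ (g : G) (n : N), ρ.character (MulAut.conjNormal g n) = ρ.character n) :
    (N.comap (extProj N ρ)).index = N.index :=
  Subgroup.index_comap_of_surjective N (extProj_surjective N ρ hρ hinv)

end Surj

end Cfsg.Agent.Helper5
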