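import Mathlib
import Cfsg.Agent.Lib.Helper5.CentralExt
import Cfsg.Agent.Lib.Helper5.IrrOfChar
import Cfsg.Agent.Lib.Helper5.TransferInv

/-!
# Extending an invariant irreducible representation from Sylow-type data
(helper5's shared library)
-/

set_option autoImplicit false

namespace Cfsg.Agent.Helper5

open Cfsg Cfsg.Agent.Helper24 Module

universe u v

section ExtendSylow

variable {G : Type u} [Group G] [Finite G]
variable {V : Type v} [AddCommGroup V] [Module ℂ V] [FiniteDimensional ℂ V]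
variable (N : Subgroup G) [hN : N.Normal] (ρ : Representation ℂ N V)

/-- The kernel of the projection is central. -/
theorem ker_extProj_le_center (hρ : ρ.IsIrreducible) :
    (extProj N ρ).ker ≤ Subgroup.center (extGroup N ρ) := by
  intro x hx
  obtain ⟨c, -, hc⟩ := exists_scalar_of_mem_ker N ρ hρ x hx
  rw [Subgroup.mem_center_iff]
  intro g
  have hx1 : (x : G × (V →ₗ[ℂ] V)ˣ).1 = 1 := hx
  apply Subtype.ext
  apply Prod.ext
  · show (g : G × (V →ₗ[ℂ] V)ˣ).1 * (x : G × (V →ₗ[ℂ] V)ˣ).1 =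
      (x : G × (V →ₗ[ℂ] V)ˣ).1 * (g : G × (V →ₗ[ℂ] V)ˣ).1
    rw [hx1, mul_one, one_mul]
  · apply Units.ext
    show extRep N ρ g * extRep N ρ x = extRep N ρ x * extRep N ρ g
    rw [hc]
    simp

/-- A scalar multiple of the identity is determined by its scalar on a nontrivial space. -/
theorem smul_one_injective [Nontrivial V] {c c' : ℂ}
    (h : c • (1 : Module.End ℂ V) = c' • (1 : Module.End ℂ V)) : c = c' :=
  smul_left_injective ℂ (one_ne_zero : (1 : Module.End ℂ V) ≠ 0) h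

theorem rep_ne_zero {H : Type*} [Group H] [Nontrivial V] (R : Representation ℂ H V) (h : H) :
    R h ≠ 0 := by
  intro h0
  have h1 : R h * R h⁻¹ = 1 := by rw [← map_mul, mul_inv_cancel, map_one]
  rw [h0, zero_mul] at h1
  exact zero_ne_one h1

/-- If `ρ` extends to a representation `R` of `P ≥ N`, the representation of the preimage of
`P` in the extension group differs from the inflation of `R` by a linear character. -/
theorem exists_hom_of_extension (hρ : ρ.IsIrreducible) (P : Subgroup G) (hNP : N ≤ P)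
    (R : Representation ℂ P V) (hR : ∀ n : N, R ⟨n, hNP n.2⟩ = ρ n) :
    ∃ ν : (P.comap (extProj N ρ)) →* ℂˣ, ∀ x : P.comap (extProj N ρ),
      extRep N ρ (x : extGroup N ρ) =
        ((ν x : ℂˣ) : ℂ) • R ⟨extProj N ρ (x : extGroup N ρ), x.2⟩ := by
  classical
  letI : Fintype N := Fintype.ofFinite N
  have hnt : Nontrivial V := ((isIrreducible_iff ρ).mp hρ).1
  have key : ∀ x : P.comap (extProj N ρ), ∃ c : ℂ,
      extRep N ρ (x : extGroup N ρ) = c • R ⟨extProj N ρ (x : extGroup N ρ), x.2⟩ := by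
    intro x
    set y : P := ⟨extProj N ρ (x : extGroup N ρ), x.2⟩ with hy
    have hcomm : ∀ n : N, (R y⁻¹ * extRep N ρ (x : extGroup N ρ)) ∘ₗ ρ n =
        ρ n ∘ₗ (R y⁻¹ * extRep N ρ (x : extGroup N ρ)) := by
      intro n
      show (R y⁻¹ * extRep N ρ (x : extGroup N ρ)) * ρ n =
        ρ n * (R y⁻¹ * extRep N ρ (x : extGroup N ρ))
      rw [mul_assoc, extRep_mul_rho, ← hR, ← hR]
      have : (⟨((MulAut.conjNormal (extProj N ρ (x : extGroup N ρ)) n : N) : G),
          hNP (MulAut.conjNormal (extProj N ρ (x : extGroup N ρ)) n).2⟩ : P) =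
          y * ⟨n, hNP n.2⟩ * y⁻¹ := by
        apply Subtype.ext
        rw [MulAut.conjNormal_apply]
        rfl
      rw [this, ← mul_assoc, ← mul_assoc, ← map_mul, ← map_mul]
      congr 2
      group
    obtain ⟨c, hc⟩ := exists_scalar_of_comm ρ hρ _ hcomm
    refine ⟨c, ?_⟩
    have h1 : R y * (R y⁻¹ * extRep N ρ (x : extGroup N ρ)) = extRep N ρ (x : extGroup N ρ) := by
      rw [← mul_assoc, ← map_mul, mul_inv_cancel, map_one, one_mul]
    rw [← h1, hc]
    simp
  choose f hf using key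
  have huniq : ∀ (y : P) (c c' : ℂ), c • R y = c' • R y → c = c' := by
    intro y c c' h
    exact smul_left_injective ℂ (rep_ne_zero R y) h
  have hf1 : f 1 = 1 := by
    have h := hf 1
    have h1 : extRep N ρ ((1 : P.comap (extProj N ρ)) : extGroup N ρ) = 1 := by
      rw [Subgroup.coe_one, map_one]
    have h2 : (⟨extProj N ρ ((1 : P.comap (extProj N ρ)) : extGroup N ρ),
        (1 : P.comap (extProj N ρ)).2⟩ : P) = 1 := by
      apply Subtype.ext
      show extProj N ρ ((1 : P.comap (extProj N ρ)) : extGroup N ρ) = 1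
      rw [Subgroup.coe_one, map_one]
    rw [h1, h2, map_one] at h
    exact (smul_one_injective (V := V) (by rw [one_smul]; exact h)).symm
  have hfmul : ∀ x y : P.comap (extProj N ρ), f (x * y) = f x * f y := by
    intro x y
    have h := hf (x * y)
    have h2 : (⟨extProj N ρ ((x * y : P.comap (extProj N ρ)) : extGroup N ρ),
        (x * y).2⟩ : P) = ⟨extProj N ρ (x : extGroup N ρ), x.2⟩ *
          ⟨extProj N ρ (y : extGroup N ρ), y.2⟩ := by
      apply Subtype.ext
      show extProj N ρ ((x * y : P.comap (extProj N ρ)) : extGroup N ρ) = _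
      rw [Subgroup.coe_mul, map_mul]
      rfl
    have h3 : extRep N ρ ((x * y : P.comap (extProj N ρ)) : extGroup N ρ) =
        extRep N ρ (x : extGroup N ρ) * extRep N ρ (y : extGroup N ρ) := by
      rw [Subgroup.coe_mul, map_mul]
    rw [h2, h3, hf x, hf y, smul_mul_smul_comm, ← map_mul] at h
    exact (huniq _ _ _ h).symm
  let F : (P.comap (extProj N ρ)) →* ℂ := ⟨⟨f, hf1⟩, hfmul⟩
  refine ⟨F.toHomUnits, ?_⟩
  intro x
  exact hf x

theorem scalarUnit_mul (a b : ℂˣ) : scalarUnit V (a * b) = scalarUnit V a * scalarUnit V b := by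
  unfold scalarUnit
  rw [map_mul]

theorem scalarUnit_one : scalarUnit V 1 = 1 := by
  unfold scalarUnit
  rw [map_one]

/-- The set of exponents `k` for which some linear character of the extension group is trivial on
the copy of `N` and is the `k`-th power of the scalar on the kernel of the projection. -/
def extExponents : AddSubgroup ℤ where
  carrier := {k | ∃ ν : extGroup N ρ →* ℂˣ, (∀ n : N, ν (extEmb N ρ n) = 1) ∧
      ∀ x ∈ (extProj N ρ).ker, ∀ c : ℂ, c ≠ 0 → extRep N ρ x = c • (1 : Module.End ℂ V) →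
        ((ν x : ℂˣ) : ℂ) = c ^ k}
  add_mem' := by
    rintro a b ⟨ν, hν1, hν2⟩ ⟨ν', hν1', hν2'⟩
    refine ⟨ν * ν', ?_, ?_⟩
    · intro n
      rw [MonoidHom.mul_apply, hν1, hν1', one_mul]
    · intro x hx c hc0 hc
      rw [MonoidHom.mul_apply, Units.val_mul, hν2 x hx c hc0 hc, hν2' x hx c hc0 hc,
        zpow_add₀ hc0]
  zero_mem' := by
    refine ⟨1, ?_, ?_⟩
    · intro n
      rfl
    · intro x hx c hc0 hc
      rw [zpow_zero]
      rfl
  neg_mem' := by
    rintro a ⟨ν, hν1, hν2⟩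
    refine ⟨ν⁻¹, ?_, ?_⟩
    · intro n
      rw [MonoidHom.inv_apply, hν1, inv_one]
    · intro x hx c hc0 hc
      rw [MonoidHom.inv_apply, Units.val_inv_eq_inv_val, hν2 x hx c hc0 hc, zpow_neg]

theorem mem_extExponents (k : ℤ) : k ∈ extExponents N ρ ↔
    ∃ ν : extGroup N ρ →* ℂˣ, (∀ n : N, ν (extEmb N ρ n) = 1) ∧
      ∀ x ∈ (extProj N ρ).ker, ∀ c : ℂ, c ≠ 0 → extRep N ρ x = c • (1 : Module.End ℂ V) →
        ((ν x : ℂˣ) : ℂ) = c ^ k := Iff.rfl

/-- If `ρ` extends to `P ≥ N`, the index of `P` is an admissible exponent (by transfer). -/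
theorem index_mem_extExponents (hρ : ρ.IsIrreducible)
    (hinv : ∀ (g : G) (n : N), ρ.character (MulAut.conjNormal g n) = ρ.character n)
    (P : Subgroup G) (hNP : N ≤ P)
    (R : Representation ℂ P V) (hR : ∀ n : N, R ⟨n, hNP n.2⟩ = ρ n) :
    (P.index : ℤ) ∈ extExponents N ρ := by
  classical
  have hnt : Nontrivial V := ((isIrreducible_iff ρ).mp hρ).1
  obtain ⟨ν, hν⟩ := exists_hom_of_extension N ρ hρ P hNP R hR
  haveI : Finite (extGroup N ρ) := finite_extGroup N ρ hρ
  have hidx : (P.comap (extProj N ρ)).index = P.index :=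
    Subgroup.index_comap_of_surjective P (extProj_surjective N ρ hρ hinv)
  haveI hN₀ : ((extEmb N ρ).range).Normal := extEmb_range_normal N ρ
  have hN₀H : (extEmb N ρ).range ≤ P.comap (extProj N ρ) := by
    rintro _ ⟨m, rfl⟩
    show extProj N ρ (extEmb N ρ m) ∈ P
    rw [extProj_extEmb]
    exact hNP m.2
  have hKH : (extProj N ρ).ker ≤ P.comap (extProj N ρ) := by
    intro y hy
    show extProj N ρ y ∈ P
    have : extProj N ρ y = 1 := hy
    rw [this]
    exact P.one_mem
  have hν1 : ∀ (y : extGroup N ρ) (hy : y ∈ (extEmb N ρ).range)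
      (hyH : y ∈ P.comap (extProj N ρ)), ν ⟨y, hyH⟩ = 1 := by
    rintro _ ⟨m, rfl⟩ hyH
    have h := hν ⟨extEmb N ρ m, hyH⟩
    have h2 : R ⟨extProj N ρ (extEmb N ρ m), hyH⟩ = ρ m := hR m
    rw [h2] at h
    have h3 : extRep N ρ (extEmb N ρ m) = ρ m := extRep_extEmb N ρ m
    rw [h3] at h
    have h4 : (1 : ℂ) • ρ m = ((ν ⟨extEmb N ρ m, hyH⟩ : ℂˣ) : ℂ) • ρ m := by
      rw [one_smul]
      exact h
    have := smul_left_injective ℂ (rep_ne_zero ρ m) h4
    exact Units.ext this.symm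
  refine ⟨MonoidHom.transfer ν, ?_, ?_⟩
  · intro n
    have := transfer_invariant_apply' (extEmb N ρ).range (P.comap (extProj N ρ)) hN₀H ν
      (by
        intro g n₀
        rw [hν1 _ n₀.2, hν1]
        have := hN₀.conj_mem (n₀ : extGroup N ρ) n₀.2 g⁻¹
        rwa [inv_inv] at this)
      ⟨extEmb N ρ n, ⟨n, rfl⟩⟩
    rw [this, hν1 _ ⟨n, rfl⟩, one_pow]
  · intro x hx c hc0 hc
    have hcen := ker_extProj_le_center N ρ hρ
    have := transfer_invariant_apply' (extProj N ρ).ker (P.comap (extProj N ρ)) hKH ν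
      (by
        intro g k
        congr 1
        apply Subtype.ext
        show g⁻¹ * (k : extGroup N ρ) * g = k
        have := Subgroup.mem_center_iff.mp (hcen k.2) g
        rw [mul_assoc, ← this, ← mul_assoc, inv_mul_cancel, one_mul])
      ⟨x, hx⟩
    rw [this, hidx, Units.val_pow_eq_pow_val, zpow_natCast]
    congr 1
    have h := hν ⟨x, hKH hx⟩
    have h2 : (⟨extProj N ρ x, hKH hx⟩ : P) = 1 := by
      apply Subtype.ext
      exact hx
    rw [h2, map_one, hc] at h
    exact (smul_one_injective (V := V) h).symm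

/-- If `1` is an admissible exponent, `ρ` extends to `G`. -/
theorem exists_rep_of_one_mem (hρ : ρ.IsIrreducible)
    (hinv : ∀ (g : G) (n : N), ρ.character (MulAut.conjNormal g n) = ρ.character n)
    (h1 : (1 : ℤ) ∈ extExponents N ρ) :
    ∃ R : Representation ℂ G V, ∀ n : N, R (n : G) = ρ n := by
  classical
  have hnt : Nontrivial V := ((isIrreducible_iff ρ).mp hρ).1
  obtain ⟨ν, hν1, hν2⟩ := h1
  have hπ := extProj_surjective N ρ hρ hinv
  let Φ : extGroup N ρ →* (V →ₗ[ℂ] V)ˣ :=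
    { toFun := fun x => scalarUnit V (ν x)⁻¹ * (x : G × (V →ₗ[ℂ] V)ˣ).2
      map_one' := by
        rw [map_one, inv_one, scalarUnit_one, one_mul]
        rfl
      map_mul' := by
        intro x y
        rw [map_mul, mul_inv, scalarUnit_mul]
        show scalarUnit V (ν x)⁻¹ * scalarUnit V (ν y)⁻¹ *
          ((x : G × (V →ₗ[ℂ] V)ˣ).2 * (y : G × (V →ₗ[ℂ] V)ˣ).2) = _
        have hc := scalarUnit_comm (V := V) (ν y)⁻¹ (x : G × (V →ₗ[ℂ] V)ˣ).2
        rw [mul_assoc (scalarUnit V (ν x)⁻¹) (scalarUnit V (ν y)⁻¹),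
          ← mul_assoc (scalarUnit V (ν y)⁻¹) (x : G × (V →ₗ[ℂ] V)ˣ).2, hc,
          mul_assoc (x : G × (V →ₗ[ℂ] V)ˣ).2, ← mul_assoc (scalarUnit V (ν x)⁻¹)] }
  have hker : (extProj N ρ).ker ≤ Φ.ker := by
    intro x hx
    obtain ⟨c, hc1, hc⟩ := exists_scalar_of_mem_ker N ρ hρ x hx
    have hc0 : c ≠ 0 := by
      rintro rfl
      have := rep_ne_zero (extRep N ρ) x
      rw [hc, zero_smul] at this
      exact this rfl
    have hνx := hν2 x hx c hc0 hc
    rw [zpow_one] at hνx
    rw [MonoidHom.mem_ker]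
    show scalarUnit V (ν x)⁻¹ * (x : G × (V →ₗ[ℂ] V)ˣ).2 = 1
    have : (x : G × (V →ₗ[ℂ] V)ˣ).2 = scalarUnit V (ν x) := by
      apply Units.ext
      rw [scalarUnit_val, hνx]
      exact hc
    rw [this, ← scalarUnit_mul, inv_mul_cancel, scalarUnit_one]
  let L := (extProj N ρ).liftOfSurjective hπ ⟨Φ, hker⟩
  refine ⟨(Units.coeHom (V →ₗ[ℂ] V)).comp L, ?_⟩
  intro n
  have h : L (extProj N ρ (extEmb N ρ n)) = Φ (extEmb N ρ n) :=
    MonoidHom.liftOfRightInverse_comp_apply _ _ _ ⟨Φ, hker⟩ _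
  rw [extProj_extEmb] at h
  show ((L (n : G) : (V →ₗ[ℂ] V)ˣ) : V →ₗ[ℂ] V) = ρ n
  rw [h]
  show ((scalarUnit V (ν (extEmb N ρ n))⁻¹ * ρ.asGroupHom n : (V →ₗ[ℂ] V)ˣ) : V →ₗ[ℂ] V) = ρ n
  rw [hν1, inv_one, scalarUnit_one, one_mul, Representation.asGroupHom_apply]

/-- **Extension from Sylow-type subgroups**: an irreducible representation `ρ` of a normal
subgroup `N` with `G`-invariant character extends to `G` provided that for every prime `p` it
extends to some subgroup containing `N` of index prime to `p`. -/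
theorem exists_extension_of_sylow (hρ : ρ.IsIrreducible)
    (hinv : ∀ (g : G) (n : N), ρ.character (MulAut.conjNormal g n) = ρ.character n)
    (hsyl : ∀ p : ℕ, p.Prime → ∃ (P : Subgroup G) (hNP : N ≤ P) (R : Representation ℂ P V),
      Nat.Coprime P.index p ∧ ∀ n : N, R ⟨n, hNP n.2⟩ = ρ n) :
    ∃ R : Representation ℂ G V, ∀ n : N, R (n : G) = ρ n := by
  apply exists_rep_of_one_mem N ρ hρ hinv
  obtain ⟨a, ha⟩ := Int.subgroup_cyclic (extExponents N ρ)
  have hdvd : ∀ p : ℕ, p.Prime → ∃ P : Subgroup G, Nat.Coprime P.index p ∧ a ∣ (P.index : ℤ) := by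
    intro p hp
    obtain ⟨P, hNP, R, hcop, hR⟩ := hsyl p hp
    refine ⟨P, hcop, ?_⟩
    have hmem := index_mem_extExponents N ρ hρ hinv P hNP R hR
    rw [ha, AddSubgroup.mem_closure_singleton] at hmem
    obtain ⟨k, hk⟩ := hmem
    exact ⟨k, by rw [← hk, smul_eq_mul, mul_comm]⟩
  have habs : a.natAbs = 1 := by
    by_contra hne
    obtain ⟨q, hq, hqa⟩ := Nat.exists_prime_and_dvd hne
    obtain ⟨P, hcop, hdiv⟩ := hdvd q hq
    have h1 : (a.natAbs : ℤ) ∣ (P.index : ℤ) := Int.natAbs_dvd.mpr hdiv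
    have h2 : a.natAbs ∣ P.index := Int.natCast_dvd_natCast.mp h1
    have h3 : q ∣ P.index := hqa.trans h2
    have h4 : q ∣ 1 := by
      have := Nat.dvd_gcd h3 (dvd_refl q)
      rwa [hcop] at this
    exact hq.one_lt.ne' (Nat.dvd_one.mp h4)
  rw [ha, AddSubgroup.mem_closure_singleton]
  rcases Int.natAbs_eq a with h | h
  · exact ⟨1, by rw [h, habs]; simp⟩
  · exact ⟨-1, by rw [h, habs]; simp⟩

end ExtendSylow

end Cfsg.Agent.Helper5
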