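import Mathlib
import Cfsg.Agent.Lib.Helper5.DetChar
import Cfsg.Agent.Lib.Helper5.ExtendSylow

/-!
# Two extensions of an irreducible character differ by a linear character of the quotient
(helper5's shared library)
-/

set_option autoImplicit false

namespace Cfsg.Agent.Helper5

open Cfsg Cfsg.Agent.Helper24 Module

universe u v

section ExtUnique

variable {G : Type u} [Group G] [Finite G]
variable {V : Type v} [AddCommGroup V] [Module ℂ V] [FiniteDimensional ℂ V]

/-- Two representations of `G` extending the same irreducible representation of the normal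
subgroup `N` differ by a linear character trivial on `N`. -/
theorem exists_hom_of_two_extensions (N : Subgroup G) [hN : N.Normal]
    (ρ : Representation ℂ N V) (hρ : ρ.IsIrreducible) (R R' : Representation ℂ G V)
    (hR : ∀ n : N, R (n : G) = ρ n) (hR' : ∀ n : N, R' (n : G) = ρ n) :
    ∃ β : G →* ℂˣ, (∀ n : N, β (n : G) = 1) ∧ ∀ g : G, R' g = ((β g : ℂˣ) : ℂ) • R g := by
  classical
  letI : Fintype N := Fintype.ofFinite N
  have hnt : Nontrivial V := ((isIrreducible_iff ρ).mp hρ).1
  have key : ∀ g : G, ∃ c : ℂ, R' g = c • R g := by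
    intro g
    have hcomm : ∀ n : N, (R g⁻¹ * R' g) ∘ₗ ρ n = ρ n ∘ₗ (R g⁻¹ * R' g) := by
      intro n
      show (R g⁻¹ * R' g) * ρ n = ρ n * (R g⁻¹ * R' g)
      have hconj : g * (n : G) * g⁻¹ ∈ N := hN.conj_mem n n.2 g
      have h1 : R' g * ρ n = ρ ⟨g * n * g⁻¹, hconj⟩ * R' g := by
        rw [← hR' n, ← hR' ⟨g * n * g⁻¹, hconj⟩, ← map_mul, ← map_mul]
        congr 1
        show g * (n : G) = g * n * g⁻¹ * g
        group
      rw [mul_assoc, h1, ← hR ⟨g * n * g⁻¹, hconj⟩, ← hR n, ← mul_assoc, ← mul_assoc, ← map_mul,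
        ← map_mul]
      congr 2
      show g⁻¹ * (g * (n : G) * g⁻¹) = (n : G) * g⁻¹
      group
    obtain ⟨c, hc⟩ := exists_scalar_of_comm ρ hρ _ hcomm
    refine ⟨c, ?_⟩
    have h1 : R g * (R g⁻¹ * R' g) = R' g := by
      rw [← mul_assoc, ← map_mul, mul_inv_cancel, map_one, one_mul]
    rw [← h1, hc]
    simp
  choose f hf using key
  have huniq : ∀ (g : G) (c c' : ℂ), c • R g = c' • R g → c = c' := by
    intro g c c' h
    exact smul_left_injective ℂ (rep_ne_zero R g) h
  have hf1 : f 1 = 1 := by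
    have h := hf 1
    rw [map_one, map_one] at h
    exact (smul_one_injective (V := V) (by rw [one_smul]; exact h)).symm
  have hfmul : ∀ x y : G, f (x * y) = f x * f y := by
    intro x y
    have h := hf (x * y)
    rw [map_mul, hf x, hf y, smul_mul_smul_comm, ← map_mul] at h
    exact (huniq _ _ _ h).symm
  let F : G →* ℂ := ⟨⟨f, hf1⟩, hfmul⟩
  refine ⟨F.toHomUnits, ?_, fun g => hf g⟩
  intro n
  apply Units.ext
  show f (n : G) = 1
  have h := hf (n : G)
  rw [hR, hR'] at h
  have h4 : (1 : ℂ) • ρ n = f (n : G) • ρ n := by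
    rw [one_smul]
    exact h
  exact (smul_left_injective ℂ (rep_ne_zero ρ n) h4).symm

/-- Character form: two irreducible characters of `G` with the same irreducible restriction to
the normal subgroup `N` differ by a linear character trivial on `N`. -/
theorem exists_hom_of_extensions_char (N : Subgroup G) [hN : N.Normal] {η χ' : G → ℂ}
    (hη : IsIrrCharacter G η) (hχ' : IsIrrCharacter G χ')
    (hηN : IsIrrCharacter N (fun n : N => η n)) (hres : ∀ n : N, χ' n = η n) :
    ∃ β : G →* ℂˣ, (∀ n : N, β (n : G) = 1) ∧ χ' = fun g => ((β g : ℂˣ) : ℂ) * η g := by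
  classical
  letI : Fintype N := Fintype.ofFinite N
  obtain ⟨d, R, hR, hRη⟩ := hη
  obtain ⟨d', R', hR', hR'χ⟩ := hχ'
  let ρ : Representation ℂ N (Fin d → ℂ) := R.comp N.subtype
  let ρ' : Representation ℂ N (Fin d' → ℂ) := R'.comp N.subtype
  have hρchar : ρ.character = fun n : N => η n := by
    funext n
    rw [← hRη]
    rfl
  have hρ'char : ρ'.character = ρ.character := by
    funext n
    rw [hρchar]
    show ρ'.character n = η n
    rw [← hres n, ← hR'χ]
    rfl
  have hρ : ρ.IsIrreducible := isIrreducible_of_isIrrCharacter ρ (by rw [hρchar]; exact hηN)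
  have hρ' : ρ'.IsIrreducible :=
    isIrreducible_of_isIrrCharacter ρ' (by rw [hρ'char, hρchar]; exact hηN)
  obtain ⟨φ⟩ := nonempty_equiv_of_char_eq ρ ρ' hρ hρ' hρ'char.symm
  let R'' : Representation ℂ G (Fin d → ℂ) := transportRep R' φ.toLinearEquiv.symm
  have hR''N : ∀ n : N, R'' (n : G) = ρ n := by
    intro n
    apply LinearMap.ext
    intro v
    rw [transportRep_apply, LinearEquiv.symm_symm]
    have h := φ.toIntertwiningMap.isIntertwining' n
    have h2 := congrArg (fun f => f v) h
    simp only [LinearMap.comp_apply] at h2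
    rw [LinearEquiv.symm_apply_eq]
    exact h2.symm
  have hR''char : R''.character = χ' := by
    rw [← hR'χ]
    exact (Representation.char_iso (transportEquiv R' φ.toLinearEquiv.symm)).symm
  obtain ⟨β, hβ1, hβ2⟩ := exists_hom_of_two_extensions N ρ hρ R R'' (fun n => rfl) hR''N
  refine ⟨β, hβ1, ?_⟩
  funext g
  rw [← hR''char, ← hRη]
  show LinearMap.trace ℂ _ (R'' g) = ((β g : ℂˣ) : ℂ) * LinearMap.trace ℂ _ (R g)
  rw [hβ2 g, map_smul, smul_eq_mul]

end ExtUnique

end Cfsg.Agent.Helper5
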