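import Mathlib
import Cfsg.Agent.S0862
import Cfsg.Agent.S0886
import Cfsg.Agent.Lib.Helper5.Clifford
import Cfsg.Agent.Lib.Helper3.Schmidt

/-!
# Extendibility of a character of coprime degree and of its determinant (helper5's library)
-/

set_option autoImplicit false

namespace Cfsg.Agent.Helper5

open Cfsg Cfsg.Agent.Helper24 Module

universe u

section DetExtend

/-- If `ϑ` extends to `G`, so does its determinantal character. -/
theorem det_ext_of_ext {G : Type u} [Group G] [Finite G] (N : Subgroup G) {ϑ : N → ℂ}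
    (hϑ : IsIrrCharacter N ϑ) {χ : G → ℂ} (hχ : IsIrrCharacter G χ) (hres : ∀ n : N, χ n = ϑ n) :
    ∃ μ : G → ℂ, IsCharacter G μ ∧ μ 1 = 1 ∧ ∀ n : N, μ n = detChar ϑ n := by
  have hc := isCharacter_of_isIrrCharacter hχ
  refine ⟨detChar χ, isCharacter_of_isIrrCharacter (isIrrCharacter_detChar hc), detChar_one hc, ?_⟩
  intro n
  have hχres : (χ ∘ N.subtype) = ϑ := funext hres
  rw [← hχres]
  exact (detChar_comp N.subtype hχ (by rw [hχres]; exact hϑ) n).symm

/-- Solvable case of Gallagher's theorem, by induction on the index. -/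
theorem ext_of_det_ext_solvable_aux (k : ℕ) :
    ∀ (G : Type u) [Group G] [Finite G] (N : Subgroup G) [hN : N.Normal],
    N.index = k → Group.IsSolvable (G ⧸ N) → ∀ (ϑ : N → ℂ), IsIrrCharacter N ϑ →
    (∀ (g : G) (n : N), ϑ ⟨g * n * g⁻¹, hN.conj_mem (n : G) n.2 g⟩ = ϑ n) →
    ∀ d : ℕ, ϑ 1 = d → Nat.Coprime N.index d →
    (∃ μ : G → ℂ, IsCharacter G μ ∧ μ 1 = 1 ∧ ∀ n : N, μ n = detChar ϑ n) →
    ∃ χ : G → ℂ, IsIrrCharacter G χ ∧ ∀ n : N, χ n = ϑ n := by
  induction k using Nat.strong_induction_on with
  | _ k ih =>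
    intro G _ _ N hN hk hsolv ϑ hϑ hinv d hd hcop hμex
    obtain ⟨μ, hμ, hμ1, hμN⟩ := hμex
    by_cases htriv : Nontrivial (G ⧸ N)
    · haveI := hsolv
      obtain ⟨Mbar, p, hMn, hp, hMidx⟩ :=
        Cfsg.Agent.Helper3.exists_normal_index_prime (G := G ⧸ N)
      haveI : Mbar.Normal := hMn
      set M : Subgroup G := Mbar.comap (QuotientGroup.mk' N) with hM
      haveI hMnorm : M.Normal := Subgroup.normal_comap _
      have hNM : N ≤ M := by
        intro n hn
        show QuotientGroup.mk' N n ∈ Mbar
        rw [QuotientGroup.mk'_apply, (QuotientGroup.eq_one_iff n).mpr hn]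
        exact Mbar.one_mem
      have hMindex : M.index = p := by
        rw [hM, Subgroup.index_comap_of_surjective _ (QuotientGroup.mk'_surjective N), hMidx]
      haveI : Fact p.Prime := ⟨hp⟩
      have hcyc : IsCyclic (G ⧸ M) :=
        isCyclic_of_prime_card (p := p) (by rw [← Subgroup.index_eq_card, hMindex])
      -- data on `M`
      haveI hN'norm : (N.subgroupOf M).Normal := Subgroup.normal_subgroupOf
      let E : N.subgroupOf M ≃* N := Subgroup.subgroupOfEquivOfLe hNM
      have hN'idx : (N.subgroupOf M).index * p = k := by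
        have := Subgroup.relIndex_mul_index hNM
        rw [hMindex, hk] at this
        exact this
      have hlt : (N.subgroupOf M).index < k := by
        have hpos : 0 < (N.subgroupOf M).index :=
          Nat.pos_of_ne_zero Subgroup.index_ne_zero_of_finite
        have := hp.two_le
        nlinarith
      have hsolv' : Group.IsSolvable (M ⧸ N.subgroupOf M) := by
        let f : M ⧸ N.subgroupOf M →* G ⧸ N :=
          QuotientGroup.map (N.subgroupOf M) N M.subtype (fun x hx => hx)
        apply solvable_of_solvable_injective (f := f)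
        rw [injective_iff_map_eq_one]
        intro x hx
        induction x using QuotientGroup.induction_on with
        | H m =>
          have hx' : ((M.subtype m : G) : G ⧸ N) = 1 := hx
          rw [QuotientGroup.eq_one_iff] at hx'
          exact (QuotientGroup.eq_one_iff m).mpr hx'
      set ϑ' : N.subgroupOf M → ℂ := ϑ ∘ E with hϑ'def
      have hϑ' : IsIrrCharacter (N.subgroupOf M) ϑ' := isIrrCharacter_comp_equiv E hϑ
      have hinv' : ∀ (m : M) (n' : N.subgroupOf M),
          ϑ' ⟨m * n' * m⁻¹, hN'norm.conj_mem (n' : M) n'.2 m⟩ = ϑ' n' := by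
        intro m n'
        have := hinv (m : G) (E n')
        show ϑ (E _) = ϑ (E n')
        rw [← this]
        congr 1
      have hd' : ϑ' 1 = d := by
        show ϑ (E 1) = d
        rw [map_one, hd]
      have hcop' : Nat.Coprime (N.subgroupOf M).index d := by
        apply Nat.Coprime.coprime_dvd_left _ hcop
        rw [hk, ← hN'idx]
        exact dvd_mul_right _ _
      set μ' : M → ℂ := fun m => μ m with hμ'def
      have hμ' : IsCharacter M μ' := isCharacter_restrict M hμ
      have hμ'N : ∀ n' : N.subgroupOf M, μ' n' = detChar ϑ' n' := by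
        intro n'
        have := detChar_comp E.toMonoidHom hϑ hϑ' n'
        show μ' n' = detChar (ϑ ∘ E.toMonoidHom) n'
        rw [this]
        exact hμN (E n')
      obtain ⟨ψ₀, hψ₀, hψ₀N⟩ := ih (N.subgroupOf M).index hlt M (N.subgroupOf M) rfl hsolv' ϑ' hϑ'
        hinv' d hd' hcop' ⟨μ', hμ', hμ1, hμ'N⟩
      obtain ⟨ψ, ⟨hψ, hψN, hψdet⟩, hψuniq⟩ := Cfsg.Agent.S0862.result (N.subgroupOf M) ϑ' hϑ' d hd'
        hcop' ⟨ψ₀, hψ₀, hψ₀N⟩ μ' ⟨hμ', hμ1⟩ hμ'N
      have hψinv : ∀ g : G, conjFun M g ψ = ψ := by
        intro g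
        apply hψuniq
        refine ⟨isIrrCharacter_conjFun M g hψ, ?_, ?_⟩
        · intro n'
          rw [conjFun_apply]
          have hmem : g * ((n' : M) : G) * g⁻¹ ∈ N := hN.conj_mem _ n'.2 g
          have h1 := hψN ⟨⟨g * ((n' : M) : G) * g⁻¹, hMnorm.conj_mem _ (n' : M).2 g⟩, hmem⟩
          rw [h1]
          have := hinv g (E n')
          show ϑ (E _) = ϑ (E n')
          rw [← this]
          congr 1
        · funext m
          have hirr : IsIrrCharacter M (ψ ∘ (MulAut.conjNormal g : MulAut M).toMonoidHom) := by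
            have := isIrrCharacter_conjFun M g hψ
            rwa [conjFun_eq_comp] at this
          rw [conjFun_eq_comp]
          have := detChar_comp (MulAut.conjNormal g : MulAut M).toMonoidHom hψ hirr m
          rw [hψdet] at this
          show detChar (ψ ∘ (MulAut.conjNormal g : MulAut M).toMonoidHom) m = μ' m
          rw [this]
          show μ ((MulAut.conjNormal g m : M) : G) = μ m
          rw [MulAut.conjNormal_apply]
          exact isClassFunction_of_isCharacter hμ (m : G) g
      obtain ⟨χ, hχ, hχM⟩ := Cfsg.Agent.S0886.result M hcyc ψ hψ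
        (fun g m => congrFun (hψinv g) m)
      refine ⟨χ, hχ, ?_⟩
      intro n
      have h1 := hχM ⟨n, hNM n.2⟩
      have h2 := hψN ⟨⟨n, hNM n.2⟩, n.2⟩
      show χ ((⟨n, hNM n.2⟩ : M) : G) = ϑ n
      rw [h1, h2]
      show ϑ (E _) = ϑ n
      congr 1
    · -- `N = ⊤`
      rw [not_nontrivial_iff_subsingleton] at htriv
      have hNtop : N = ⊤ := QuotientGroup.subgroup_eq_top_of_subsingleton N htriv
      let e : N ≃* G := (MulEquiv.subgroupCongr hNtop).trans Subgroup.topEquiv
      refine ⟨ϑ ∘ e.symm, isIrrCharacter_comp_equiv e.symm hϑ, ?_⟩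
      intro n
      show ϑ (e.symm (n : G)) = ϑ n
      congr 1

end DetExtend

end Cfsg.Agent.Helper5
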