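import Mathlib
import Cfsg.Agent.S0868
import Cfsg.Agent.Lib.Helper5.CentralExt
import Cfsg.Agent.Lib.Helper5.Clifford
import Cfsg.Agent.Lib.Helper1.CharScalar
import Cfsg.Agent.Lib.Helper18.ScalarSubgroup
import Cfsg.Agent.Lib.Helper18.CliffordCorr
import Cfsg.Agent.Lib.Helper5.IndFun
import Cfsg.Agent.S0854

/-!
# The relative degree `χ(1)/ϑ(1)` divides the index (helper5's shared library)
-/

set_option autoImplicit false

namespace Cfsg.Agent.Helper5

open Cfsg Cfsg.Agent.Helper24 Module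
open scoped ComplexConjugate

universe u

section InvariantCase

variable {G : Type u} [Group G] [Fintype G]

/-- Invariant case: if `ϑ ∈ Irr(N)` is `G`-invariant and lies under `χ ∈ Irr(G)`, then
`χ_N = e ϑ` with `e` dividing `|G : N|`. -/
theorem mult_dvd_index_of_invariant (N : Subgroup G) [hN : N.Normal] [Fintype N] {χ : G → ℂ}
    (hχ : IsIrrCharacter G χ) {ϑ : N → ℂ} (hϑ : IsIrrCharacter N ϑ)
    (hinv : ∀ g : G, conjFun N g ϑ = ϑ) (hcon : classInner (fun n : N => χ n) ϑ ≠ 0) :
    ∃ e : ℕ, (fun n : N => χ n) = (e : ℂ) • ϑ ∧ e ∣ N.index := by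
  classical
  obtain ⟨e, he0, he, hres⟩ := restrict_eq_smul_of_invariant N hχ hϑ hinv hcon
  refine ⟨e, hres, ?_⟩
  obtain ⟨d, ρ, hρ, hρϑ⟩ := hϑ
  have hinv' : ∀ (g : G) (n : N), ρ.character (MulAut.conjNormal g n) = ρ.character n := by
    intro g n
    rw [hρϑ]
    have := congrFun (hinv g) n
    rw [conjFun_eq_comp] at this
    exact this
  haveI : Finite (extGroup N ρ) := finite_extGroup N ρ hρ
  letI : Fintype (extGroup N ρ) := Fintype.ofFinite _
  have hπ : Function.Surjective (extProj N ρ) := extProj_surjective N ρ hρ hinv'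
  haveI hN₀ : ((extEmb N ρ).range).Normal := extEmb_range_normal N ρ
  letI : Fintype (extEmb N ρ).range := Fintype.ofFinite _
  set τ : extGroup N ρ → ℂ := (extRep N ρ).character with hτdef
  have hτ : IsIrrCharacter (extGroup N ρ) τ :=
    isIrrCharacter_of_rep (extRep N ρ) (isIrreducible_extRep N ρ hρ)
  set χ' : extGroup N ρ → ℂ := χ ∘ (extProj N ρ) with hχ'def
  have hχ' : IsIrrCharacter (extGroup N ρ) χ' :=
    isIrrCharacter_comp_of_surjective (extProj N ρ) hπ hχ
  let E : N ≃* (extEmb N ρ).range := MonoidHom.ofInjective (extEmb_injective N ρ)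
  have hτι : ∀ n : N, τ (extEmb N ρ n) = ϑ n := by
    intro n
    rw [← hρϑ]
    show LinearMap.trace ℂ _ (extRep N ρ (extEmb N ρ n)) = LinearMap.trace ℂ _ (ρ n)
    rw [extRep_extEmb]
  have hτN : (fun n : (extEmb N ρ).range => τ n) ∘ E = ϑ := by
    funext n
    exact hτι n
  have hχN : (fun n : (extEmb N ρ).range => χ' n) ∘ E = (fun n : N => χ n) := by
    funext n
    rfl
  have hτN₀ : IsIrrCharacter (extEmb N ρ).range (fun n : (extEmb N ρ).range => τ n) := by
    have := isIrrCharacter_comp_equiv E.symm (χ := ϑ) ⟨d, ρ, hρ, hρϑ⟩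
    rw [← hτN] at this
    convert this using 1
    funext n
    simp
  have hinner : classInner (fun n : (extEmb N ρ).range => χ' n)
      (fun n : (extEmb N ρ).range => τ n) = e := by
    rw [← classInner_comp_equiv E, hτN, hχN, he]
  set η : extGroup N ρ → ℂ := fun g => (Nat.card (extEmb N ρ).range : ℂ)⁻¹ *
    ∑ n : (extEmb N ρ).range, χ' ((n : extGroup N ρ) * g) * conj (τ ((n : extGroup N ρ) * g))
    with hη
  have hηirr : IsIrrCharacter (extGroup N ρ) η :=
    (Cfsg.Agent.S0868.result (extEmb N ρ).range τ hτ hτN₀ χ' hχ' η hη).1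
      (by rw [hinner]; exact_mod_cast he0)
  have hη1 : η 1 = e := by
    rw [← hinner]
    unfold classInner
    simp only [hη, mul_one]
  obtain ⟨m, R, hR, hRη⟩ := hηirr
  have hm : (m : ℂ) = e := by
    rw [← hη1, ← hRη, Representation.char_one]
    simp
  have hme : m = e := by exact_mod_cast hm
  have hscal : ∀ x ∈ N.comap (extProj N ρ),
      ∃ c : ℂ, R x = c • (1 : Module.End ℂ (Fin m → ℂ)) := by
    intro x hx
    apply Cfsg.Agent.Helper1.rep_scalar_of_norm_char_eq R x
    rw [hRη]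
    let m₀ : N := ⟨extProj N ρ x, hx⟩
    obtain ⟨c, hc1, hc2⟩ := exists_scalar_of_proj_mem N ρ hρ x m₀ rfl
    have hnt : Nontrivial (Fin d → ℂ) := ((isIrreducible_iff ρ).mp hρ).1
    have hpos : 0 < finrank ℂ (Fin d → ℂ) * Nat.card N :=
      Nat.mul_pos Module.finrank_pos Nat.card_pos
    have hcn : ‖c‖ = 1 := Complex.norm_eq_one_of_pow_eq_one hc1 hpos.ne'
    have hηx : η x = conj c * η 1 := by
      have hterm : ∀ n : (extEmb N ρ).range,
          χ' ((n : extGroup N ρ) * x) * conj (τ ((n : extGroup N ρ) * x)) =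
            conj c * (χ' ((n : extGroup N ρ) * extEmb N ρ m₀) *
              conj (τ ((n : extGroup N ρ) * extEmb N ρ m₀))) := by
        intro n
        have h1 : χ' ((n : extGroup N ρ) * x) = χ' ((n : extGroup N ρ) * extEmb N ρ m₀) := by
          show χ (extProj N ρ ((n : extGroup N ρ) * x)) =
            χ (extProj N ρ ((n : extGroup N ρ) * extEmb N ρ m₀))
          rw [map_mul, map_mul, extProj_extEmb]
        have h2 : τ ((n : extGroup N ρ) * x) = c * τ ((n : extGroup N ρ) * extEmb N ρ m₀) := by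
          show LinearMap.trace ℂ _ (extRep N ρ ((n : extGroup N ρ) * x)) =
            c * LinearMap.trace ℂ _ (extRep N ρ ((n : extGroup N ρ) * extEmb N ρ m₀))
          rw [MonoidHom.map_mul (extRep N ρ), MonoidHom.map_mul (extRep N ρ), hc2, extRep_extEmb,
            mul_smul_comm, map_smul, smul_eq_mul]
        rw [h1, h2, map_mul]
        ring
      have hmem : extEmb N ρ m₀ ∈ (extEmb N ρ).range := ⟨m₀, rfl⟩
      have hsum : ∑ n : (extEmb N ρ).range,
          χ' ((n : extGroup N ρ) * x) * conj (τ ((n : extGroup N ρ) * x)) =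
          conj c * ∑ n : (extEmb N ρ).range,
            χ' (n : extGroup N ρ) * conj (τ (n : extGroup N ρ)) := by
        rw [Finset.sum_congr rfl (fun n _ => hterm n), ← Finset.mul_sum]
        congr 1
        exact Fintype.sum_equiv
          (Equiv.mulRight (⟨extEmb N ρ m₀, hmem⟩ : (extEmb N ρ).range)) _ _ (fun n => rfl)
      simp only [hη, mul_one]
      rw [hsum]
      ring
    rw [hηx, norm_mul, Complex.norm_conj, hcn, one_mul, hη1, Complex.norm_natCast]
    simp [hme]
  have hdvd := Cfsg.Agent.Helper18.finrank_dvd_index_of_scalar R hR (N.comap (extProj N ρ)) hscal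
  rw [index_comap_extProj N ρ hρ hinv'] at hdvd
  simpa [hme] using hdvd

end InvariantCase

section General

variable {G : Type u} [Group G] [Fintype G]

/-- General case: if `ϑ ∈ Irr(N)` lies under `χ ∈ Irr(G)` for `N` normal in `G`, then
`χ(1) = k ϑ(1)` with `k` a natural number dividing `|G : N|`. -/
theorem degree_eq_mul_of_constituent (N : Subgroup G) [hN : N.Normal] [Fintype N] {χ : G → ℂ}
    (hχ : IsIrrCharacter G χ) {ϑ : N → ℂ} (hϑ : IsIrrCharacter N ϑ)
    (hcon : classInner (fun n : N => χ n) ϑ ≠ 0) :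
    ∃ k : ℕ, χ 1 = (k : ℂ) * ϑ 1 ∧ k ∣ N.index := by
  classical
  set T : Subgroup G := Cfsg.Agent.Helper18.inertia N ϑ with hTdef
  have hNT : N ≤ T := Cfsg.Agent.Helper18.le_inertia N (isClassFunction_of_isIrrCharacter hϑ)
  letI : Fintype T := Fintype.ofFinite T
  have hT : ∀ g : G, g ∈ T ↔
      ∀ n : N, ϑ ⟨g * n * g⁻¹, hN.conj_mem (n : G) n.2 g⟩ = ϑ n := by
    intro g
    rw [hTdef, Cfsg.Agent.Helper18.mem_inertia, funext_iff]
    rfl
  obtain ⟨ψ, hψ, hind, hmult⟩ := Cfsg.Agent.S0854.result N ϑ hϑ T hT hNT χ hχ hcon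
  -- transport to the group `T`
  let E : N.subgroupOf T ≃* N := Subgroup.subgroupOfEquivOfLe hNT
  haveI : (N.subgroupOf T).Normal := Subgroup.normal_subgroupOf
  letI : Fintype (N.subgroupOf T) := Fintype.ofFinite _
  set ϑ' : N.subgroupOf T → ℂ := ϑ ∘ E with hϑ'
  have hϑ'irr : IsIrrCharacter (N.subgroupOf T) ϑ' := isIrrCharacter_comp_equiv E hϑ
  have hinv : ∀ t : T, conjFun (N.subgroupOf T) t ϑ' = ϑ' := by
    intro t
    funext n'
    rw [conjFun_apply]
    have ht : conjFun N (t : G) ϑ = ϑ := t.2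
    have := congrFun ht (E n')
    rw [conjFun_apply] at this
    show ϑ (E _) = ϑ (E n')
    rw [← this]
    congr 1
  have hres : (fun n' : N.subgroupOf T => ψ (n' : T)) =
      (fun n : N => ψ ⟨(n : G), hNT n.2⟩) ∘ E := by
    funext n'
    show ψ (n' : T) = ψ ⟨((E n' : N) : G), _⟩
    congr 1
  have hcon' : classInner (fun n' : N.subgroupOf T => ψ (n' : T)) ϑ' ≠ 0 := by
    rw [hres, hϑ', classInner_comp_equiv E, hmult]
    exact hcon
  obtain ⟨e, he, hediv⟩ := mult_dvd_index_of_invariant (N.subgroupOf T) hψ hϑ'irr hinv hcon'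
  refine ⟨T.index * e, ?_, ?_⟩
  · rw [← hind, indFun_one]
    have h1 := congrFun he 1
    have h2 : ψ 1 = (e : ℂ) * ϑ 1 := by
      have : ϑ' 1 = ϑ 1 := by
        show ϑ (E 1) = ϑ 1
        rw [map_one]
      rw [← this]
      exact h1
    rw [h2]
    push_cast
    ring
  · have : N.relIndex T * T.index = N.index := Subgroup.relIndex_mul_index hNT
    rw [← this, mul_comm]
    exact Nat.mul_dvd_mul_right hediv _

end General

end Cfsg.Agent.Helper5
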