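import Mathlib
import Cfsg.Agent.Lib.Helper20.SchDefs

/-!
# S4395, pieces SCH-GEN + SCH-IRR (helper5): `F = F_p[μ]`, so a `μ`-stable additive subgroup of `F`
is an `F`-subspace, hence `0` or `F`.
-/

set_option autoImplicit false
set_option linter.unusedSectionVars false
set_option linter.unusedVariables false
set_option linter.style.haveILetI false

namespace Cfsg.Agent.Helper20.Sch

universe u

variable {p q : ℕ} [Fact p.Prime] [Fact q.Prime]

section field

variable {a : ℕ} {F : Type*} [Field F] [Finite F]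

/-- SCH-GEN : `F = F_p[μ]`: a `μ`-stable additive subgroup is an `F`-subspace. -/
theorem smul_mem_of_invariant (hpq : p ≠ q) (ha : a = orderOf (p : ZMod q))
    (hF : Nat.card F = p ^ a) (μ : F) (hμ : orderOf μ = q)
    (S : AddSubgroup F) (hS : ∀ x ∈ S, μ * x ∈ S) (c : F) : ∀ x ∈ S, c * x ∈ S := by
  classical
  have hp : p.Prime := Fact.out
  have hq : q.Prime := Fact.out
  haveI : Fintype F := Fintype.ofFinite F
  have ha0 : a ≠ 0 := by
    intro h0
    rw [h0, pow_zero] at hF
    have : 1 < Nat.card F := Finite.one_lt_card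
    omega
  -- the characteristic
  haveI hchar : CharP F p := by
    obtain ⟨p', hp'⟩ := CharP.exists F
    haveI := hp'
    obtain ⟨n, hn1, hn2⟩ := FiniteField.card F p'
    rw [Fintype.card_eq_nat_card, hF] at hn2
    have h1 : p ∣ p' ^ (n : ℕ) := by rw [← hn2]; exact dvd_pow_self p ha0
    have h2 : p ∣ p' := hp.dvd_of_dvd_pow h1
    have h3 : p = p' := (Nat.prime_dvd_prime_iff_eq hp hn1).1 h2
    rw [h3]; exact hp'
  letI : Algebra (ZMod p) F := ZMod.algebra F p
  have hfr : Module.finrank (ZMod p) F = a := by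
    have h1 := Module.natCard_eq_pow_finrank (K := ZMod p) (V := F)
    rw [Nat.card_zmod, hF] at h1
    exact (Nat.pow_right_injective hp.two_le h1).symm
  have hμq : μ ^ q = 1 := by rw [← hμ]; exact pow_orderOf_eq_one μ
  have hμ0 : μ ≠ 0 := by
    rintro rfl
    rw [zero_pow hq.ne_zero] at hμq
    exact zero_ne_one hμq
  -- the subfield generated by `μ`
  have hμK : μ ∈ IntermediateField.adjoin (ZMod p) {μ} :=
    IntermediateField.mem_adjoin_simple_self (ZMod p) μ
  generalize hK : IntermediateField.adjoin (ZMod p) {μ} = K at hμK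
  haveI : Fintype K := Fintype.ofFinite K
  have hcardK : Nat.card K = p ^ Module.finrank (ZMod p) K := by
    rw [Module.natCard_eq_pow_finrank (K := ZMod p) (V := K), Nat.card_zmod]
  have hd0 : 0 < Module.finrank (ZMod p) K := Module.finrank_pos
  have h1 : (⟨μ, hμK⟩ : K) ^ (Fintype.card K - 1) = 1 :=
    FiniteField.pow_card_sub_one_eq_one _ (by
      intro h
      apply hμ0
      exact congrArg (fun x : K => (x : F)) h)
  have h2 : μ ^ (p ^ Module.finrank (ZMod p) K - 1) = 1 := by
    rw [Fintype.card_eq_nat_card, hcardK] at h1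
    have := congrArg (fun x : K => (x : F)) h1
    simpa using this
  have h3 : q ∣ p ^ Module.finrank (ZMod p) K - 1 := by
    rw [← hμ]; exact orderOf_dvd_of_pow_eq_one h2
  have h4 : (p : ZMod q) ^ Module.finrank (ZMod p) K = 1 := by
    have h5 : ((p ^ Module.finrank (ZMod p) K - 1 : ℕ) : ZMod q) = 0 :=
      (ZMod.natCast_eq_zero_iff _ _).2 h3
    rw [Nat.cast_sub (Nat.one_le_pow _ _ hp.pos), Nat.cast_pow, Nat.cast_one, sub_eq_zero] at h5
    exact h5
  have h5 : a ∣ Module.finrank (ZMod p) K := by
    rw [ha]; exact orderOf_dvd_of_pow_eq_one h4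
  have h6 : Module.finrank (ZMod p) K ≤ a := by
    rw [← hfr]
    exact Submodule.finrank_le K.toSubalgebra.toSubmodule
  have hda : Module.finrank (ZMod p) K = a := le_antisymm h6 (Nat.le_of_dvd hd0 h5)
  have hKtop : K.toSubalgebra.toSubmodule = ⊤ :=
    Submodule.eq_top_of_finrank_eq (by rw [hfr]; exact hda)
  -- the subalgebra of multipliers of `S`
  let R' : Subalgebra (ZMod p) F :=
    { carrier := {c | ∀ x ∈ S, c * x ∈ S}
      mul_mem' := by
        intro c d hc hd x hx
        rw [mul_assoc]
        exact hc _ (hd x hx)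
      add_mem' := by
        intro c d hc hd x hx
        rw [add_mul]
        exact S.add_mem (hc x hx) (hd x hx)
      algebraMap_mem' := by
        intro r x hx
        rw [← Algebra.smul_def]
        have h7 : r • x = (r.val : ℕ) • x := by
          conv_lhs => rw [← ZMod.natCast_zmod_val r]
          exact Nat.cast_smul_eq_nsmul (ZMod p) r.val x
        rw [h7]
        exact S.nsmul_mem hx _ }
  have hle : Algebra.adjoin (ZMod p) {μ} ≤ R' := by
    apply Algebra.adjoin_le
    intro y hy
    rw [Set.mem_singleton_iff] at hy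
    rw [hy]
    exact hS
  have hc : c ∈ Algebra.adjoin (ZMod p) {μ} := by
    rw [← IntermediateField.adjoin_simple_toSubalgebra_of_isAlgebraic
      (IsAlgebraic.of_finite (ZMod p) μ), hK]
    have h8 : c ∈ K.toSubalgebra.toSubmodule := by rw [hKtop]; trivial
    exact h8
  exact hle hc

/-- SCH-IRR (easy corollary of SCH-GEN) -/
theorem invariant_eq_bot_or_top (hpq : p ≠ q) (ha : a = orderOf (p : ZMod q))
    (hF : Nat.card F = p ^ a) (μ : F) (hμ : orderOf μ = q)
    (S : AddSubgroup F) (hS : ∀ x ∈ S, μ * x ∈ S) : S = ⊥ ∨ S = ⊤ := by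
  by_cases hbot : S = ⊥
  · exact Or.inl hbot
  · right
    obtain ⟨⟨x, hxS⟩, hx⟩ := (AddSubgroup.ne_bot_iff_exists_ne_zero).1 hbot
    have hx0 : x ≠ 0 := fun h => hx (Subtype.ext h)
    rw [eq_top_iff]
    intro y _
    have h1 := smul_mem_of_invariant hpq ha hF μ hμ S hS (y / x) x hxS
    rw [div_mul_cancel₀ y hx0] at h1
    exact h1

end field

end Cfsg.Agent.Helper20.Sch
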