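import Mathlib
import Cfsg.Agent.Lib.Helper26.S3805TRI
import Cfsg.Agent.Lib.Helper14.TC27Defs
import Cfsg.Agent.Lib.Helper14.TC27Core

/-!
# S3701 piece UNPACK3 (helper5): the hypotheses `Hyp T` and the configuration `Cfg T`
from an isomorphism of `N_G(T)` with a presented group `3³ : 2²`.
-/

set_option autoImplicit false
set_option linter.unusedSectionVars false
set_option linter.unusedVariables false

namespace Cfsg.Agent.Helper14.TC27

open Cfsg

universe u v

section Unpack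

variable {G : Type u} [Group G] [Finite G]

/-- a word in three pairwise commuting elements of order dividing 3 has order dividing 3 -/
theorem unpack3_word_pow {t1 t2 t3 : G} (h12 : Commute t1 t2) (h13 : Commute t1 t3)
    (h23 : Commute t2 t3) (o1 : t1 ^ 3 = 1) (o2 : t2 ^ 3 = 1) (o3 : t3 ^ 3 = 1) (i j k : ℕ) :
    (t1 ^ i * t2 ^ j * t3 ^ k) ^ 3 = 1 := by
  have hc : Commute (t1 ^ i * t2 ^ j) (t3 ^ k) := (h13.pow_pow i k).mul_left (h23.pow_pow j k)
  rw [hc.mul_pow, (h12.pow_pow i j).mul_pow, ← pow_mul, ← pow_mul, ← pow_mul, mul_comm i 3,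
    mul_comm j 3, mul_comm k 3, pow_mul, pow_mul, pow_mul, o1, o2, o3, one_pow, one_pow, one_pow,
    one_mul, one_mul]

/-- two words in three pairwise commuting elements commute -/
theorem unpack3_word_comm {t1 t2 t3 : G} (h12 : Commute t1 t2) (h13 : Commute t1 t3)
    (h23 : Commute t2 t3) (i j k i' j' k' : ℕ) :
    Commute (t1 ^ i * t2 ^ j * t3 ^ k) (t1 ^ i' * t2 ^ j' * t3 ^ k') := by
  have w1 : Commute (t1 ^ i * t2 ^ j * t3 ^ k) t1 :=
    (((Commute.refl t1).pow_left i).mul_left (h12.symm.pow_left j)).mul_left (h13.symm.pow_left k)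
  have w2 : Commute (t1 ^ i * t2 ^ j * t3 ^ k) t2 :=
    ((h12.pow_left i).mul_left ((Commute.refl t2).pow_left j)).mul_left (h23.symm.pow_left k)
  have w3 : Commute (t1 ^ i * t2 ^ j * t3 ^ k) t3 :=
    ((h13.pow_left i).mul_left (h23.pow_left j)).mul_left ((Commute.refl t3).pow_left k)
  exact ((w1.pow_right i').mul_right (w2.pow_right j')).mul_right (w3.pow_right k')

/-- PIECE UNPACK3: the hypotheses and the configuration. -/
theorem hyp_cfg_of_pres {K : Type v} [Group K] (P : Pres K) (T : Sylow 3 G) (hT : Nat.card (T : Subgroup G) = 27)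
    (e : ↥(Subgroup.normalizer ((T : Subgroup G) : Set G)) ≃* K)
    (hloc : ∀ t ∈ (T : Subgroup G), t ≠ 1 →
      Subgroup.centralizer ({t} : Set G) ≤ Subgroup.normalizer ((T : Subgroup G) : Set G)) :
    Hyp T ∧ Nonempty (Cfg T) := by
  classical
  set N := Subgroup.normalizer ((T : Subgroup G) : Set G) with hN
  let f : K →* G := N.subtype.comp e.symm.toMonoidHom
  have hf : Function.Injective f := by
    intro x y hxy
    have : (e.symm x : N) = e.symm y := Subtype.ext hxy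
    exact e.symm.injective this
  have hfN : ∀ x : K, f x ∈ N := fun x => (e.symm x).2
  have hfe : ∀ n : N, f (e n) = (n : G) := by
    intro n
    show ((e.symm (e n) : N) : G) = n
    rw [MulEquiv.symm_apply_apply]
  have r : Rel (f P.t1) (f P.t2) (f P.t3) (f P.a) (f P.b) := P.rel.map f hf
  have h12 : Commute (f P.t1) (f P.t2) := r.c12
  have h13 : Commute (f P.t1) (f P.t3) := r.c13
  have h23 : Commute (f P.t2) (f P.t3) := r.c23
  have m1 : f P.t1 ∈ (T : Subgroup G) :=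
    Cfsg.Agent.Helper8.S3805.TRI.mem_of_mem_normalizer T r.o1 (hfN _)
  have m2 : f P.t2 ∈ (T : Subgroup G) :=
    Cfsg.Agent.Helper8.S3805.TRI.mem_of_mem_normalizer T r.o2 (hfN _)
  have m3 : f P.t3 ∈ (T : Subgroup G) :=
    Cfsg.Agent.Helper8.S3805.TRI.mem_of_mem_normalizer T r.o3 (hfN _)
  -- the 27 words exhaust `T`
  let w : Fin 3 × Fin 3 × Fin 3 → ↥(T : Subgroup G) := fun x =>
    ⟨f P.t1 ^ (x.1 : ℕ) * f P.t2 ^ (x.2.1 : ℕ) * f P.t3 ^ (x.2.2 : ℕ),
      (T : Subgroup G).mul_mem ((T : Subgroup G).mul_mem ((T : Subgroup G).pow_mem m1 _)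
        ((T : Subgroup G).pow_mem m2 _)) ((T : Subgroup G).pow_mem m3 _)⟩
  have hwinj : Function.Injective w := by
    rintro ⟨i, j, k⟩ ⟨i', j', k'⟩ hxy
    have h := congrArg Subtype.val hxy
    obtain ⟨h1, h2, h3⟩ := r.inj i j k i' j' k' h
    rw [h1, h2, h3]
  have hwbij : Function.Bijective w := by
    apply hwinj.bijective_of_nat_card_le
    rw [hT]
    simp
  have gen : ∀ t ∈ (T : Subgroup G), ∃ i j k : Fin 3,
      t = f P.t1 ^ (i : ℕ) * f P.t2 ^ (j : ℕ) * f P.t3 ^ (k : ℕ) := by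
    intro t ht
    obtain ⟨⟨i, j, k⟩, hx⟩ := hwbij.2 ⟨t, ht⟩
    exact ⟨i, j, k, (congrArg Subtype.val hx).symm⟩
  refine ⟨⟨hT, ?_, ?_, hloc⟩, ⟨⟨f P.t1, f P.t2, f P.t3, f P.a, f P.b, r, m1, m2, m3, hfN _, hfN _,
    gen, ?_⟩⟩⟩
  · intro x hx
    obtain ⟨i, j, k, rfl⟩ := gen x hx
    exact unpack3_word_pow h12 h13 h23 r.o1 r.o2 r.o3 _ _ _
  · intro x hx y hy
    obtain ⟨i, j, k, rfl⟩ := gen x hx
    obtain ⟨i', j', k', rfl⟩ := gen y hy
    exact unpack3_word_comm h12 h13 h23 _ _ _ _ _ _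
  · intro n hn
    obtain ⟨i, j, k, e', f', hx⟩ := P.form (e ⟨n, hn⟩)
    refine ⟨i, j, k, e', f', ?_⟩
    have := congrArg f hx
    rw [hfe] at this
    simpa only [map_mul, map_pow] using this

end Unpack

end Cfsg.Agent.Helper14.TC27
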