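import Mathlib
import Cfsg.Agent.Lib.Helper5.Clifford
import Cfsg.Agent.Lib.Helper5.IndFun
import Cfsg.Agent.Lib.Helper24.OrbitSum
import Cfsg.Agent.Lib.Helper24.CharAlgebra
import Cfsg.Agent.S0874

/-!
# Towards Dade's theorem on extensions from `p`-elementary subgroups (helper5's shared library)
-/

set_option autoImplicit false

namespace Cfsg.Agent.Helper5

open Cfsg Cfsg.Agent.Helper24 Module
open scoped ComplexConjugate

universe u

section SumFormula

variable {G : Type u} [Group G] [Fintype G]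

/-- Summing an extension by zero over the whole group. -/
theorem sum_extendByZero (K : Subgroup G) [Fintype K] (θ : K → ℂ) :
    ∑ y : G, extendByZero K θ y = ∑ k : K, θ k := by
  have := sum_extendByZero_mul K θ (fun _ => (1 : ℂ))
  simpa using this

/-- The product of two extensions by zero is the extension by zero from the intersection. -/
theorem extendByZero_mul_extendByZero (N E : Subgroup G) (F : N → ℂ) (ψ : E → ℂ) (y : G) :
    extendByZero N F y * extendByZero E ψ y =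
      extendByZero (E ⊓ N) (fun d : ↥(E ⊓ N) => F ⟨d, d.2.2⟩ * ψ ⟨d, d.2.1⟩) y := by
  by_cases hN : y ∈ N
  · by_cases hE : y ∈ E
    · rw [extendByZero_of_mem N F y hN, extendByZero_of_mem E ψ y hE,
        extendByZero_of_mem (E ⊓ N) _ y ⟨hE, hN⟩]
    · rw [extendByZero_of_not_mem E ψ y hE, mul_zero,
        extendByZero_of_not_mem (E ⊓ N) _ y (fun h => hE h.1)]
  · rw [extendByZero_of_not_mem N F y hN, zero_mul,
      extendByZero_of_not_mem (E ⊓ N) _ y (fun h => hN h.2)]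

/-- Pairing a `G`-invariant function on the normal subgroup `N` with a function induced from
`E` only sees `E ⊓ N`. -/
theorem sum_mul_indFun_of_invariant (N E : Subgroup G) [hN : N.Normal] [Fintype N]
    [Fintype ↥(E ⊓ N)] (F : N → ℂ)
    (hF : ∀ (g : G) (n : N), F ⟨g * n * g⁻¹, hN.conj_mem (n : G) n.2 g⟩ = F n) (ψ : E → ℂ) :
    ∑ n : N, F n * indFun E ψ n =
      (Nat.card E : ℂ)⁻¹ * (Nat.card G : ℂ) *
        ∑ d : ↥(E ⊓ N), F ⟨d, d.2.2⟩ * ψ ⟨d, d.2.1⟩ := by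
  classical
  have h1 : ∀ x : G, ∑ n : N, F n * extendByZero E ψ (x⁻¹ * (n : G) * x) =
      ∑ d : ↥(E ⊓ N), F ⟨d, d.2.2⟩ * ψ ⟨d, d.2.1⟩ := by
    intro x
    have e1 : ∑ n : N, F n * extendByZero E ψ (x⁻¹ * (n : G) * x) =
        ∑ n : N, F n * extendByZero E ψ (n : G) := by
      refine Fintype.sum_equiv (MulAut.conjNormal x⁻¹ : MulAut N).toEquiv _ _ ?_
      intro n
      have hx : F ((MulAut.conjNormal x⁻¹ : MulAut N) n) = F n := by
        have := hF x⁻¹ n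
        rw [← this]
        congr 1
      show F n * _ = F ((MulAut.conjNormal x⁻¹ : MulAut N) n) * _
      rw [hx]
      congr 2
      show x⁻¹ * (n : G) * x = (((MulAut.conjNormal x⁻¹ : MulAut N) n : N) : G)
      rw [MulAut.conjNormal_apply, inv_inv]
    rw [e1, ← sum_extendByZero (E ⊓ N), ← sum_extendByZero_mul N F (extendByZero E ψ)]
    exact Finset.sum_congr rfl (fun y _ => extendByZero_mul_extendByZero N E F ψ y)
  have h2 : ∀ n : N, F n * indFun E ψ n =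
      (Nat.card E : ℂ)⁻¹ * ∑ x : G, F n * extendByZero E ψ (x⁻¹ * (n : G) * x) := by
    intro n
    show F n * ((Nat.card E : ℂ)⁻¹ * ∑ x : G, extendByZero E ψ (x⁻¹ * (n : G) * x)) = _
    rw [Finset.mul_sum, Finset.mul_sum, Finset.mul_sum]
    refine Finset.sum_congr rfl (fun x _ => ?_)
    ring
  rw [Finset.sum_congr rfl (fun n _ => h2 n), ← Finset.mul_sum, Finset.sum_comm,
    Finset.sum_congr rfl (fun x _ => h1 x), Finset.sum_const, Finset.card_univ, nsmul_eq_mul,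
    Nat.card_eq_fintype_card (α := G)]
  ring

/-- The index formula `|G| |E ∩ N| = |N| |E| |G : EN|`. -/
theorem card_mul_card_inf_eq (N E : Subgroup G) [hN : N.Normal] :
    Nat.card G * Nat.card ↥(E ⊓ N) = Nat.card N * Nat.card E * (E ⊔ N).index := by
  have h1 : Nat.card ↥(E ⊓ N) * (E ⊓ N).relIndex E = Nat.card E := by
    have := Subgroup.relIndex_mul_relIndex (⊥ : Subgroup G) (E ⊓ N) E bot_le inf_le_left
    rwa [Subgroup.relIndex_bot_left, Subgroup.relIndex_bot_left] at this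
  have h2 : (E ⊓ N).relIndex E = N.relIndex E := Subgroup.inf_relIndex_left E N
  have h3 : N.relIndex (E ⊔ N) = N.relIndex E := Subgroup.relIndex_sup_right E N
  have h4 : N.relIndex (E ⊔ N) * (E ⊔ N).index = N.index :=
    Subgroup.relIndex_mul_index le_sup_right
  have h5 : Nat.card N * N.index = Nat.card G := N.card_mul_index
  rw [← h5, ← h4, h3, ← h2, ← h1]
  ring

end SumFormula

section ConjInf

variable {G : Type u} [Group G]

/-- Conjugation by elements of `E` on `E ⊓ N`, for `N` normal. -/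
def conjInf (E N : Subgroup G) [hN : N.Normal] : E →* MulAut ↥(E ⊓ N) where
  toFun g :=
    { toFun := fun x => ⟨g * x * g⁻¹,
        ⟨E.mul_mem (E.mul_mem g.2 x.2.1) (E.inv_mem g.2), hN.conj_mem x x.2.2 g⟩⟩
      invFun := fun x => ⟨g⁻¹ * x * g,
        ⟨E.mul_mem (E.mul_mem (E.inv_mem g.2) x.2.1) g.2, by
          have := hN.conj_mem x x.2.2 (g : G)⁻¹
          rwa [inv_inv] at this⟩⟩
      left_inv := fun x => by
        apply Subtype.ext
        show (g : G)⁻¹ * (g * x * (g : G)⁻¹) * g = x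
        group
      right_inv := fun x => by
        apply Subtype.ext
        show (g : G) * ((g : G)⁻¹ * x * g) * (g : G)⁻¹ = x
        group
      map_mul' := fun x y => by
        apply Subtype.ext
        show (g : G) * ((x : G) * y) * (g : G)⁻¹ = (g * x * (g : G)⁻¹) * (g * y * (g : G)⁻¹)
        group }
  map_one' := by
    ext x
    show ((1 : E) : G) * x * ((1 : E) : G)⁻¹ = x
    simp
  map_mul' := fun g h => by
    ext x
    show ((g * h : E) : G) * x * ((g * h : E) : G)⁻¹ = g * (h * x * (h : G)⁻¹) * (g : G)⁻¹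
    rw [Subgroup.coe_mul]
    group

theorem conjInf_apply_coe (E N : Subgroup G) [hN : N.Normal] (g : E) (x : ↥(E ⊓ N)) :
    ((conjInf E N g x : ↥(E ⊓ N)) : G) = g * x * (g : G)⁻¹ := rfl

/-- The action of `E` on the irreducible characters of `E ⊓ N`. -/
@[reducible] def irrActInf (E N : Subgroup G) [hN : N.Normal] :
    MulAction E (IrrCharacter ↥(E ⊓ N)) where
  smul g φ := ⟨φ.1 ∘ (conjInf E N g⁻¹), isIrrCharacter_comp_equiv (conjInf E N g⁻¹) φ.2⟩
  one_smul φ := Subtype.ext (by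
    show φ.1 ∘ (conjInf E N (1 : E)⁻¹) = φ.1
    rw [inv_one, map_one]
    rfl)
  mul_smul g h φ := Subtype.ext (by
    show φ.1 ∘ (conjInf E N (g * h)⁻¹) = (φ.1 ∘ (conjInf E N h⁻¹)) ∘ (conjInf E N g⁻¹)
    rw [mul_inv_rev, map_mul]
    rfl)

theorem irrActInf_smul_coe (E N : Subgroup G) [hN : N.Normal] (g : E)
    (φ : IrrCharacter ↥(E ⊓ N)) :
    ((irrActInf E N).smul g φ : IrrCharacter ↥(E ⊓ N)).1 = φ.1 ∘ (conjInf E N g⁻¹) := rfl

end ConjInf

section Orbit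

variable {G : Type u} [Group G] [Fintype G]

/-- Orbit counting: if `Θ`, `Ψ` are `E`-invariant characters of `D = E ⊓ N`, `E / D` is a
`p`-group and `[ΨΘ, Θ]` is prime to `p`, then `Θ` has an `E`-invariant irreducible constituent
of multiplicity prime to `p`. -/
theorem exists_invariant_constituent (p : ℕ) (hp : p.Prime) (E N : Subgroup G) [hN : N.Normal]
    [Fintype ↥(E ⊓ N)] (hrel : ∃ k, N.relIndex E = p ^ k)
    {Θ Ψ : ↥(E ⊓ N) → ℂ} (hΘ : IsCharacter ↥(E ⊓ N) Θ) (hΨ : IsCharacter ↥(E ⊓ N) Ψ)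
    (hΘinv : ∀ g : E, Θ ∘ (conjInf E N g) = Θ) (hΨinv : ∀ g : E, Ψ ∘ (conjInf E N g) = Ψ)
    (J : ℕ) (hJ : classInner (Ψ * Θ) Θ = J) (hpJ : ¬ p ∣ J) :
    ∃ φ : ↥(E ⊓ N) → ℂ, IsIrrCharacter ↥(E ⊓ N) φ ∧ (∀ g : E, φ ∘ (conjInf E N g) = φ) ∧
      ∃ m : ℕ, ¬ p ∣ m ∧ classInner Θ φ = m := by
  classical
  letI := irrFintype (G := ↥(E ⊓ N))
  letI := irrActInf E N
  have hsmul : ∀ (g : E) (φ : IrrCharacter ↥(E ⊓ N)), (g • φ).1 = φ.1 ∘ (conjInf E N g⁻¹) :=
    fun g φ => rfl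
  have ha : ∀ φ : IrrCharacter ↥(E ⊓ N), ∃ n : ℕ, classInner Θ φ.1 = n :=
    fun φ => classInner_char_nat hΘ (isCharacter_of_isIrrCharacter φ.2)
  choose a ha using ha
  have hb : ∀ φ φ' : IrrCharacter ↥(E ⊓ N), ∃ n : ℕ, classInner (Ψ * φ.1) φ'.1 = n :=
    fun φ φ' => classInner_char_nat (isCharacter_mul hΨ (isCharacter_of_isIrrCharacter φ.2))
      (isCharacter_of_isIrrCharacter φ'.2)
  choose b hb using hb
  have hdec : Θ = ∑ φ : IrrCharacter ↥(E ⊓ N), (a φ : ℂ) • φ.1 := by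
    conv_lhs => rw [(isCharacter_decomp hΘ).2]
    exact Finset.sum_congr rfl (fun φ _ => by rw [ha])
  have hI : (J : ℂ) = ∑ x : IrrCharacter ↥(E ⊓ N) × IrrCharacter ↥(E ⊓ N),
      ((a x.1 * a x.2 * b x.1 x.2 : ℕ) : ℂ) := by
    rw [← hJ]
    conv_lhs => rw [hdec]
    rw [Finset.mul_sum, classInner_sum_left, Fintype.sum_prod_type]
    refine Finset.sum_congr rfl (fun φ _ => ?_)
    rw [classInner_sum_right]
    refine Finset.sum_congr rfl (fun φ' _ => ?_)
    rw [mul_smul_comm, classInner_smul_left, classInner_smul_right, hb]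
    simp only [Complex.conj_natCast]
    push_cast
    ring
  -- invariance
  have hainv : ∀ (g : E) (φ : IrrCharacter ↥(E ⊓ N)), a (g • φ) = a φ := by
    intro g φ
    have h1 : classInner Θ (g • φ).1 = classInner Θ φ.1 := by
      rw [hsmul]
      conv_lhs => rw [← hΘinv g⁻¹]
      exact classInner_comp_equiv (conjInf E N g⁻¹) Θ φ.1
    rw [ha, ha] at h1
    exact_mod_cast h1
  have hbinv : ∀ (g : E) (φ φ' : IrrCharacter ↥(E ⊓ N)), b (g • φ) (g • φ') = b φ φ' := by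
    intro g φ φ'
    have h1 : classInner (Ψ * (g • φ).1) (g • φ').1 = classInner (Ψ * φ.1) φ'.1 := by
      rw [hsmul, hsmul]
      conv_lhs => rw [← hΨinv g⁻¹]
      exact classInner_comp_equiv (conjInf E N g⁻¹) (Ψ * φ.1) φ'.1
    rw [hb, hb] at h1
    exact_mod_cast h1
  -- the inner elements act trivially
  have hstab : ∀ (x : IrrCharacter ↥(E ⊓ N) × IrrCharacter ↥(E ⊓ N)),
      (E ⊓ N).subgroupOf E ≤ MulAction.stabilizer E x := by
    intro x g hg
    rw [MulAction.mem_stabilizer_iff]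
    have hfix : ∀ φ : IrrCharacter ↥(E ⊓ N), g • φ = φ := by
      intro φ
      apply Subtype.ext
      rw [hsmul]
      funext y
      have hcf := isClassFunction_of_isIrrCharacter φ.2
      let d : ↥(E ⊓ N) := ⟨(g : G), hg⟩
      have := hcf y d⁻¹
      rw [← this]
      show φ.1 (conjInf E N g⁻¹ y) = φ.1 (d⁻¹ * y * d⁻¹⁻¹)
      congr 1
    exact Prod.ext (hfix x.1) (hfix x.2)
  obtain ⟨k, hk⟩ := hrel
  have hm : ∀ x : IrrCharacter ↥(E ⊓ N) × IrrCharacter ↥(E ⊓ N),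
      x ∉ MulAction.fixedPoints E (IrrCharacter ↥(E ⊓ N) × IrrCharacter ↥(E ⊓ N)) →
      p ∣ Nat.card (MulAction.orbit E x) := by
    intro x hx
    have h1 : Nat.card (MulAction.orbit E x) ∣ p ^ k := by
      rw [Nat.card_coe_set_eq, ← MulAction.index_stabilizer, ← hk,
        ← Subgroup.inf_relIndex_left E N]
      exact Subgroup.index_dvd_of_le (hstab x)
    obtain ⟨j, -, hj⟩ := (Nat.dvd_prime_pow hp).mp h1
    rcases Nat.eq_zero_or_pos j with rfl | hjpos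
    · exfalso
      apply hx
      haveI : Fintype (MulAction.orbit E x) := Fintype.ofFinite _
      rw [MulAction.mem_fixedPoints_iff_card_orbit_eq_one, ← Nat.card_eq_fintype_card, hj,
        pow_zero]
    · rw [hj]
      exact dvd_pow_self p hjpos.ne'
  have key := sum_modEq_sum_fixedPoints (H := E)
    (α := IrrCharacter ↥(E ⊓ N) × IrrCharacter ↥(E ⊓ N)) p
    (fun x => a x.1 * a x.2 * b x.1 x.2)
    (by
      intro g x
      show a (g • x).1 * a (g • x).2 * b (g • x).1 (g • x).2 = _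
      rw [Prod.smul_fst, Prod.smul_snd, hainv, hainv, hbinv])
    hm
  have hJsum : J = ∑ x : IrrCharacter ↥(E ⊓ N) × IrrCharacter ↥(E ⊓ N),
      a x.1 * a x.2 * b x.1 x.2 := by
    have : (J : ℂ) = ((∑ x : IrrCharacter ↥(E ⊓ N) × IrrCharacter ↥(E ⊓ N),
      a x.1 * a x.2 * b x.1 x.2 : ℕ) : ℂ) := by
      rw [hI]
      push_cast
      rfl
    exact_mod_cast this
  rw [← hJsum] at key
  by_contra hcon
  push_neg at hcon
  apply hpJ
  rw [Nat.dvd_iff_mod_eq_zero, key, ← Nat.dvd_iff_mod_eq_zero]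
  apply Finset.dvd_sum
  intro x hx
  rw [Finset.mem_filter] at hx
  have hxfix := hx.2
  have hφinv : ∀ g : E, x.1.1 ∘ (conjInf E N g) = x.1.1 := by
    intro g
    have h1 : g⁻¹ • x = x := hxfix g⁻¹
    have h2 : g⁻¹ • x.1 = x.1 := congrArg Prod.fst h1
    have h3 := congrArg Subtype.val h2
    rw [hsmul, inv_inv] at h3
    exact h3
  have := hcon x.1.1 x.1.2 hφinv (a x.1)
  by_contra hnd
  have hnd' : ¬ p ∣ a x.1 := by
    intro hd
    apply hnd
    exact Dvd.dvd.mul_right (Dvd.dvd.mul_right hd _) _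
  exact this hnd' (ha x.1)

end Orbit

section Main

variable {G : Type u} [Group G] [Fintype G]

/-- The weighted pairing of an induced function against `|ϑ|²`. -/
theorem pairing_indFun (N : Subgroup G) [hN : N.Normal] [Fintype N] {ϑ : N → ℂ}
    (hinv : ∀ (g : G) (n : N), ϑ ⟨g * n * g⁻¹, hN.conj_mem (n : G) n.2 g⟩ = ϑ n)
    (E : Subgroup G) [Fintype ↥(E ⊓ N)] (ψ : E → ℂ) (c : ℂ) :
    (Nat.card N : ℂ)⁻¹ * ∑ n : N, (ϑ n * conj (ϑ n)) * ((c • indFun E ψ) n) =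
      c * ((E ⊔ N).index : ℂ) *
        classInner ((fun d : ↥(E ⊓ N) => ψ ⟨d, d.2.1⟩) * (fun d : ↥(E ⊓ N) => ϑ ⟨d, d.2.2⟩))
          (fun d : ↥(E ⊓ N) => ϑ ⟨d, d.2.2⟩) := by
  have h1 : ∑ n : N, (ϑ n * conj (ϑ n)) * ((c • indFun E ψ) n) =
      c * ∑ n : N, (ϑ n * conj (ϑ n)) * indFun E ψ n := by
    rw [Finset.mul_sum]
    refine Finset.sum_congr rfl (fun n _ => ?_)
    rw [Pi.smul_apply, smul_eq_mul]
    ring
  have hF : ∀ (g : G) (n : N),
      (fun n : N => ϑ n * conj (ϑ n)) ⟨g * n * g⁻¹, hN.conj_mem (n : G) n.2 g⟩ =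
        (fun n : N => ϑ n * conj (ϑ n)) n := by
    intro g n
    simp only
    rw [hinv g n]
  rw [h1, sum_mul_indFun_of_invariant N E (fun n : N => ϑ n * conj (ϑ n)) hF ψ]
  have hcard := card_mul_card_inf_eq N E
  have hcardC : (Nat.card G : ℂ) * (Nat.card ↥(E ⊓ N) : ℂ) =
      (Nat.card N : ℂ) * (Nat.card E : ℂ) * ((E ⊔ N).index : ℂ) := by exact_mod_cast hcard
  have hN0 : (Nat.card N : ℂ) ≠ 0 := by exact_mod_cast (Nat.card_pos (α := N)).ne'
  have hE0 : (Nat.card E : ℂ) ≠ 0 := by exact_mod_cast (Nat.card_pos (α := E)).ne'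
  have hD0 : (Nat.card ↥(E ⊓ N) : ℂ) ≠ 0 := by
    exact_mod_cast (Nat.card_pos (α := ↥(E ⊓ N))).ne'
  have hidx : ((E ⊔ N).index : ℂ) = (Nat.card G : ℂ) * (Nat.card ↥(E ⊓ N) : ℂ) *
      (Nat.card N : ℂ)⁻¹ * (Nat.card E : ℂ)⁻¹ := by
    rw [hcardC]
    field_simp
  unfold classInner
  rw [hidx]
  have hsum : ∑ d : ↥(E ⊓ N), (fun n : N => ϑ n * conj (ϑ n)) ⟨d, d.2.2⟩ * ψ ⟨d, d.2.1⟩ =
      ∑ g : ↥(E ⊓ N), ((fun d : ↥(E ⊓ N) => ψ ⟨d, d.2.1⟩) *
        (fun d : ↥(E ⊓ N) => ϑ ⟨d, d.2.2⟩)) g * conj (ϑ ⟨g, g.2.2⟩) := by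
    refine Finset.sum_congr rfl (fun d _ => ?_)
    simp only [Pi.mul_apply]
    ring
  rw [hsum]
  field_simp

/-- First half of Dade's theorem: some `p`-elementary `E` with `EN = G` has `[ψϑ, ϑ]` prime to
`p` on `E ⊓ N`, for a character `ψ` of `E`. -/
theorem dade_exists (p : ℕ) (hp : p.Prime) (N : Subgroup G) [hN : N.Normal]
    (hind : ∃ k : ℕ, N.index = p ^ k) {ϑ : N → ℂ} (hϑ : IsIrrCharacter N ϑ)
    (hinv : ∀ (g : G) (n : N), ϑ ⟨g * n * g⁻¹, hN.conj_mem (n : G) n.2 g⟩ = ϑ n) :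
    ∃ (E : Subgroup G) (ψ : E → ℂ), IsElementary p E ∧ IsCharacter E ψ ∧ E ⊔ N = ⊤ ∧
      ∀ [Fintype ↥(E ⊓ N)] (J : ℕ),
        classInner ((fun d : ↥(E ⊓ N) => ψ ⟨d, d.2.1⟩) * (fun d : ↥(E ⊓ N) => ϑ ⟨d, d.2.2⟩))
          (fun d : ↥(E ⊓ N) => ϑ ⟨d, d.2.2⟩) = J → ¬ p ∣ J := by
  classical
  letI : Fintype N := Fintype.ofFinite N
  obtain ⟨m₀, l, hm₀, hl, hsum⟩ := Cfsg.Agent.S0874.result (G := G) p hp
  obtain ⟨k, hk⟩ := hind
  by_contra hcon
  push_neg at hcon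
  let Φ : (G → ℂ) → ℂ := fun f => (Nat.card N : ℂ)⁻¹ * ∑ n : N, (ϑ n * conj (ϑ n)) * f n
  have hΦadd : ∀ f g : G → ℂ, Φ (f + g) = Φ f + Φ g := by
    intro f g
    simp only [Φ, Pi.add_apply, mul_add, Finset.sum_add_distrib]
  have hΦzero : Φ 0 = 0 := by
    simp [Φ]
  have hN0 : (Nat.card N : ℂ) ≠ 0 := by exact_mod_cast (Nat.card_pos (α := N)).ne'
  have hΦconst : Φ (fun _ => (m₀ : ℂ)) = m₀ := by
    have h1 : classInner ϑ ϑ = 1 := by rw [irr_orthogonality hϑ hϑ, if_pos rfl]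
    unfold classInner at h1
    simp only [Φ]
    rw [← Finset.sum_mul, ← mul_assoc, h1, one_mul]
  have hterm : ∀ t ∈ l, ∃ z : ℤ,
      Φ ((t.2.2 : ℂ) • indFun t.1 t.2.1) = (p : ℂ) * z := by
    intro t ht
    obtain ⟨hE, hψ⟩ := hl t ht
    letI : Fintype ↥(t.1 ⊓ N) := Fintype.ofFinite _
    letI := irrFintype (G := ↥(t.1 ⊓ N))
    have hpair := pairing_indFun N hinv t.1 t.2.1 (t.2.2 : ℂ)
    have hψD : IsCharacter ↥(t.1 ⊓ N) (fun d : ↥(t.1 ⊓ N) => t.2.1 ⟨d, d.2.1⟩) :=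
      isCharacter_comp (Subgroup.inclusion (inf_le_left : t.1 ⊓ N ≤ t.1)) hψ
    have hϑD : IsCharacter ↥(t.1 ⊓ N) (fun d : ↥(t.1 ⊓ N) => ϑ ⟨d, d.2.2⟩) :=
      isCharacter_comp (Subgroup.inclusion (inf_le_right : t.1 ⊓ N ≤ N))
        (isCharacter_of_isIrrCharacter hϑ)
    obtain ⟨J, hJ⟩ := classInner_char_nat (isCharacter_mul hψD hϑD) hϑD
    have hΦt : Φ ((t.2.2 : ℂ) • indFun t.1 t.2.1) =
        (t.2.2 : ℂ) * ((t.1 ⊔ N).index : ℂ) * (J : ℂ) := by
      rw [← hJ, ← hpair]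
    rw [hΦt]
    by_cases htop : t.1 ⊔ N = ⊤
    · obtain ⟨inst', J', hJ', hpJ'⟩ := hcon t.1 t.2.1 hE hψ htop
      have hJJ' : J = J' := by
        have : (J : ℂ) = (J' : ℂ) := by
          rw [← hJ, ← hJ']
          congr
          exact Subsingleton.elim _ _
        exact_mod_cast this
      obtain ⟨q, hq⟩ := hpJ'
      refine ⟨t.2.2 * ((t.1 ⊔ N).index : ℤ) * q, ?_⟩
      rw [hJJ', hq]
      push_cast
      ring
    · have hdvd : (t.1 ⊔ N).index ∣ p ^ k := by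
        rw [← hk]
        exact Subgroup.index_dvd_of_le le_sup_right
      obtain ⟨j, -, hj⟩ := (Nat.dvd_prime_pow hp).mp hdvd
      have hjpos : j ≠ 0 := by
        rintro rfl
        rw [pow_zero] at hj
        exact htop (Subgroup.index_eq_one.mp hj)
      obtain ⟨q, hq⟩ : p ∣ (t.1 ⊔ N).index := by
        rw [hj]
        exact dvd_pow_self p hjpos
      refine ⟨t.2.2 * q * J, ?_⟩
      rw [hq]
      push_cast
      ring
  have hlist : ∀ l' : List ((E : Subgroup G) × ((E → ℂ) × ℤ)), (∀ t ∈ l', t ∈ l) →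
      ∃ Z : ℤ, Φ ((l'.map fun t => (t.2.2 : ℂ) • indFun t.1 t.2.1).sum) = (p : ℂ) * Z := by
    intro l'
    induction l' with
    | nil =>
      intro _
      exact ⟨0, by simp [hΦzero]⟩
    | cons t l'' ih =>
      intro hsub
      obtain ⟨Z, hZ⟩ := ih (fun s hs => hsub s (List.mem_cons_of_mem _ hs))
      obtain ⟨z, hz⟩ := hterm t (hsub t List.mem_cons_self)
      refine ⟨z + Z, ?_⟩
      rw [List.map_cons, List.sum_cons, hΦadd, hz, hZ]
      push_cast
      ring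
  obtain ⟨Z, hZ⟩ := hlist l (fun t ht => ht)
  rw [← hsum, hΦconst] at hZ
  apply hm₀
  refine ⟨Z, ?_⟩
  exact_mod_cast hZ

end Main

end Cfsg.Agent.Helper5
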