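import Mathlib
import Cfsg.Agent.S0163
import Cfsg.Agent.S0164
import Cfsg.Agent.Lib.Helper8.CharExtra
import Cfsg.Agent.Lib.Helper8.IndFun
import Cfsg.Agent.Lib.Helper5.Dade
import Cfsg.Agent.Lib.Helper24.Gagola
import Cfsg.Agent.Lib.Helper18.BrauerQE
import Cfsg.Agent.Lib.Helper8.InnerExtra

/-!
# The Brauer–Suzuki transfer theorem (helper5's shared library)

Isaacs, Theorem 8.22: a Hall subgroup `H` controlling its own fusion, into which every elementary
subgroup of order dividing `|H|` can be conjugated, has a normal complement.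
-/

set_option autoImplicit false

universe u

namespace Cfsg.Agent.Helper5.BS

open Cfsg Cfsg.Agent.Helper24 Cfsg.Agent.Helper18

open scoped ComplexConjugate

/-- The data of the Brauer–Suzuki configuration: `s` is an exponent with `s ≡ 1 mod |H|` and
`s ≡ 0 mod |G : H|`. -/
structure Hyp (G : Type u) [Group G] (H : Subgroup G) where
  s : ℕ
  hm : ∀ g : G, (g ^ s) ^ Nat.card H = 1
  hfix : ∀ u : G, u ^ Nat.card H = 1 → u ^ s = u
  hker : ∀ g : G, g ^ H.index = 1 → g ^ s = 1
  hconj : ∀ u : G, u ^ Nat.card H = 1 → ∃ c : G, c * u * c⁻¹ ∈ H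
  hfus : ∀ x ∈ H, ∀ y ∈ H, IsConj x y → ∃ h ∈ H, h * x * h⁻¹ = y
  hcop : Nat.Coprime (Nat.card H) H.index
  helem : ∀ (E : Subgroup G) (p : ℕ), p.Prime → IsElementary p E → Nat.card E ∣ Nat.card H →
    ∃ g : G, E.map (MulAut.conj g).toMonoidHom ≤ H

section Tilde

variable {G : Type u} [Group G] {H : Subgroup G} (D : Hyp G H)

theorem Hyp.hH [Finite G] (h : G) (hh : h ∈ H) : h ^ D.s = h := by
  apply D.hfix
  have := pow_card_eq_one' (G := ↥H) (x := ⟨h, hh⟩)
  exact congrArg Subtype.val this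

/-- A conjugating element taking the `π`-part of `g` into `H`. -/
noncomputable def Hyp.cj (g : G) : G := Classical.choose (D.hconj (g ^ D.s) (D.hm g))

theorem Hyp.cj_mem (g : G) : D.cj g * g ^ D.s * (D.cj g)⁻¹ ∈ H :=
  Classical.choose_spec (D.hconj (g ^ D.s) (D.hm g))

/-- The extension of a function on `H` to `G` through the `π`-part. -/
noncomputable def Hyp.tilde (ϑ : H → ℂ) : G → ℂ :=
  fun g => ϑ ⟨D.cj g * g ^ D.s * (D.cj g)⁻¹, D.cj_mem g⟩

theorem Hyp.tilde_eq {ϑ : H → ℂ} (hϑ : IsClassFunction H ϑ) (g c : G)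
    (hc : c * g ^ D.s * c⁻¹ ∈ H) : D.tilde ϑ g = ϑ ⟨c * g ^ D.s * c⁻¹, hc⟩ := by
  have hconj : IsConj (D.cj g * g ^ D.s * (D.cj g)⁻¹) (c * g ^ D.s * c⁻¹) := by
    rw [isConj_iff]
    refine ⟨c * (D.cj g)⁻¹, ?_⟩
    group
  obtain ⟨h, hh, hxy⟩ := D.hfus _ (D.cj_mem g) _ hc hconj
  have h1 := hϑ ⟨D.cj g * g ^ D.s * (D.cj g)⁻¹, D.cj_mem g⟩ ⟨h, hh⟩
  show ϑ ⟨D.cj g * g ^ D.s * (D.cj g)⁻¹, D.cj_mem g⟩ = _
  rw [← h1]
  congr 1
  exact Subtype.ext hxy

theorem Hyp.tilde_classFunction {ϑ : H → ℂ} (hϑ : IsClassFunction H ϑ) :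
    IsClassFunction G (D.tilde ϑ) := by
  intro g x
  have h1 : (x * g * x⁻¹) ^ D.s = x * g ^ D.s * x⁻¹ := conj_pow
  have hc : (D.cj g * x⁻¹) * (x * g * x⁻¹) ^ D.s * (D.cj g * x⁻¹)⁻¹ ∈ H := by
    rw [h1]
    have : D.cj g * x⁻¹ * (x * g ^ D.s * x⁻¹) * (D.cj g * x⁻¹)⁻¹ =
        D.cj g * g ^ D.s * (D.cj g)⁻¹ := by group
    rw [this]
    exact D.cj_mem g
  rw [D.tilde_eq hϑ (x * g * x⁻¹) (D.cj g * x⁻¹) hc]
  show _ = ϑ ⟨D.cj g * g ^ D.s * (D.cj g)⁻¹, D.cj_mem g⟩
  congr 1
  apply Subtype.ext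
  show D.cj g * x⁻¹ * (x * g * x⁻¹) ^ D.s * (D.cj g * x⁻¹)⁻¹ = _
  rw [h1]
  group

theorem Hyp.tilde_restrict [Finite G] {ϑ : H → ℂ} (hϑ : IsClassFunction H ϑ) (h : H) :
    D.tilde ϑ (h : G) = ϑ h := by
  have hc : (1 : G) * (h : G) ^ D.s * (1 : G)⁻¹ ∈ H := by
    rw [D.hH h h.2]
    simp
  rw [D.tilde_eq hϑ (h : G) 1 hc]
  congr 1
  apply Subtype.ext
  show (1 : G) * (h : G) ^ D.s * (1 : G)⁻¹ = h
  rw [D.hH h h.2]
  simp

theorem Hyp.tilde_one [Finite G] {ϑ : H → ℂ} (hϑ : IsClassFunction H ϑ) :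
    D.tilde ϑ 1 = ϑ 1 := D.tilde_restrict hϑ 1

theorem Hyp.tilde_mul (α β : H → ℂ) : D.tilde (α * β) = D.tilde α * D.tilde β := rfl

theorem Hyp.tilde_add (α β : H → ℂ) : D.tilde (α + β) = D.tilde α + D.tilde β := rfl

theorem Hyp.tilde_sub (α β : H → ℂ) : D.tilde (α - β) = D.tilde α - D.tilde β := rfl

theorem Hyp.tilde_conj (α : H → ℂ) :
    D.tilde (fun h => conj (α h)) = fun g => conj (D.tilde α g) := rfl

theorem Hyp.tilde_const (c : ℂ) : D.tilde (fun _ : H => c) = fun _ => c := rfl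

/-- `g ^ s = 1` exactly when all `ϑ̃` take their value at `1`. -/
theorem Hyp.tilde_of_pow_eq_one [Finite G] {ϑ : H → ℂ} (hϑ : IsClassFunction H ϑ) (g : G)
    (hg : g ^ D.s = 1) : D.tilde ϑ g = ϑ 1 := by
  have hc : (1 : G) * g ^ D.s * (1 : G)⁻¹ ∈ H := by
    rw [hg]
    simp
  rw [D.tilde_eq hϑ g 1 hc]
  congr 1
  apply Subtype.ext
  show (1 : G) * g ^ D.s * (1 : G)⁻¹ = 1
  rw [hg]
  simp

end Tilde

section Elementary

variable {G : Type u} [Group G] [Finite G] {H : Subgroup G} (D : Hyp G H)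

/-- A subgroup of exponent dividing `|H|` has order dividing `|H|`. -/
theorem card_dvd_of_pow_eq_one (hcop : Nat.Coprime (Nat.card H) H.index) (A : Subgroup G)
    (hA : ∀ a ∈ A, a ^ Nat.card H = 1) : Nat.card A ∣ Nat.card H := by
  have h1 : Nat.card A ∣ Nat.card H * H.index := by
    rw [H.card_mul_index]
    exact Subgroup.card_subgroup_dvd_card A
  refine Nat.Coprime.dvd_of_dvd_mul_right ?_ h1
  by_contra hnc
  obtain ⟨q, hq, hqA, hqn⟩ := Nat.Prime.not_coprime_iff_dvd.1 hnc
  haveI : Fact q.Prime := ⟨hq⟩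
  obtain ⟨x, hx⟩ := exists_prime_orderOf_dvd_card' q hqA
  have h2 : (x : G) ^ Nat.card H = 1 := hA x x.2
  have h3 : orderOf (x : G) = q := by rw [Subgroup.orderOf_coe, hx]
  have h4 : q ∣ Nat.card H := by
    rw [← h3]
    exact orderOf_dvd_of_pow_eq_one h2
  have h5 : q ∣ Nat.gcd (Nat.card H) H.index := Nat.dvd_gcd h4 hqn
  rw [hcop] at h5
  exact hq.one_lt.ne' (Nat.dvd_one.1 h5)

/-- The power map `e ↦ e ^ s` is multiplicative on an elementary subgroup. -/
theorem Hyp.pow_mul_of_elementary (E : Subgroup G) (p : ℕ) (hp : p.Prime)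
    (hE : IsElementary p E) (e e' : E) :
    ((e * e' : E) : G) ^ D.s = (e : G) ^ D.s * (e' : G) ^ D.s := by
  haveI : Fact p.Prime := ⟨hp⟩
  obtain ⟨x, hxc, hxp, k, hk⟩ := hE
  obtain ⟨P⟩ : Nonempty (Sylow p E) := inferInstance
  have hCcen : Subgroup.zpowers x ≤ Subgroup.center E := by
    rw [Subgroup.zpowers_le]
    exact hxc
  haveI : (Subgroup.zpowers x).Normal := normal_of_le_center hCcen
  have hsup : Subgroup.zpowers x ⊔ (P : Subgroup E) = ⊤ := sup_sylow_eq_top _ hk P
  -- the power map on `P`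
  have hP : (∀ y ∈ (P : Subgroup E), y ^ D.s = y) ∨ (∀ y ∈ (P : Subgroup E), y ^ D.s = 1) := by
    have hord : ∀ y ∈ (P : Subgroup E), ∃ j : ℕ, orderOf ((y : E) : G) ∣ p ^ j := by
      intro y hy
      obtain ⟨j, hj⟩ := P.isPGroup' ⟨y, hy⟩
      refine ⟨j, ?_⟩
      apply orderOf_dvd_of_pow_eq_one
      have h1 : (y : E) ^ p ^ j = 1 := congrArg Subtype.val hj
      exact_mod_cast congrArg Subtype.val h1
    have hdvd : ∀ y : E, orderOf (y : G) ∣ Nat.card H * H.index := by
      intro y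
      rw [H.card_mul_index]
      exact orderOf_dvd_natCard _
    by_cases hpm : p ∣ Nat.card H
    · left
      intro y hy
      obtain ⟨j, hj⟩ := hord y hy
      have hcop : Nat.Coprime p H.index := by
        rw [Nat.Prime.coprime_iff_not_dvd hp]
        intro h
        have h5 : p ∣ Nat.gcd (Nat.card H) H.index := Nat.dvd_gcd hpm h
        rw [D.hcop] at h5
        exact hp.one_lt.ne' (Nat.dvd_one.1 h5)
      have h1 : Nat.Coprime (orderOf (y : G)) H.index :=
        Nat.Coprime.coprime_dvd_left hj (Nat.Coprime.pow_left j hcop)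
      have h2 : orderOf (y : G) ∣ Nat.card H := Nat.Coprime.dvd_of_dvd_mul_right h1 (hdvd y)
      have h3 : (y : G) ^ Nat.card H = 1 := orderOf_dvd_iff_pow_eq_one.1 h2
      apply Subtype.ext
      rw [Subgroup.coe_pow]
      exact D.hfix _ h3
    · right
      intro y hy
      obtain ⟨j, hj⟩ := hord y hy
      have hcop : Nat.Coprime p (Nat.card H) := (Nat.Prime.coprime_iff_not_dvd hp).2 hpm
      have h1 : Nat.Coprime (orderOf (y : G)) (Nat.card H) :=
        Nat.Coprime.coprime_dvd_left hj (Nat.Coprime.pow_left j hcop)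
      have h2 : orderOf (y : G) ∣ H.index := Nat.Coprime.dvd_of_dvd_mul_left h1 (hdvd y)
      have h3 : (y : G) ^ H.index = 1 := orderOf_dvd_iff_pow_eq_one.1 h2
      apply Subtype.ext
      rw [Subgroup.coe_pow]
      exact D.hker _ h3
  have hPmul : ∀ y ∈ (P : Subgroup E), ∀ y' ∈ (P : Subgroup E),
      (y * y') ^ D.s = y ^ D.s * y' ^ D.s := by
    intro y hy y' hy'
    rcases hP with h | h
    · rw [h _ ((P : Subgroup E).mul_mem hy hy'), h y hy, h y' hy']
    · rw [h _ ((P : Subgroup E).mul_mem hy hy'), h y hy, h y' hy', one_mul]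
  -- decompose
  have hdec : ∀ e : E, ∃ z ∈ Subgroup.zpowers x, ∃ y ∈ (P : Subgroup E), e = z * y := by
    intro e
    have he : e ∈ ((Subgroup.zpowers x ⊔ (P : Subgroup E) : Subgroup E) : Set E) := by
      rw [hsup]
      trivial
    rw [Subgroup.normal_mul] at he
    obtain ⟨z, hz, y, hy, rfl⟩ := Set.mem_mul.1 he
    exact ⟨z, hz, y, hy, rfl⟩
  obtain ⟨z, hz, y, hy, rfl⟩ := hdec e
  obtain ⟨z', hz', y', hy', rfl⟩ := hdec e'
  have hzc : ∀ w : E, Commute z w := fun w =>
    (Subgroup.mem_center_iff.1 (hCcen hz) w).symm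
  have hz'c : ∀ w : E, Commute z' w := fun w =>
    (Subgroup.mem_center_iff.1 (hCcen hz') w).symm
  have key : (z * y * (z' * y')) ^ D.s = (z * y) ^ D.s * (z' * y') ^ D.s := by
    have h1 : z * y * (z' * y') = (z * z') * (y * y') := by
      rw [mul_assoc, ← mul_assoc y, ← (hz'c y).eq, mul_assoc, ← mul_assoc]
    rw [h1, ((hzc _).mul_left (hz'c _)).mul_pow, (hzc z').mul_pow, hPmul y hy y' hy',
      (hzc y).mul_pow, (hz'c y').mul_pow]
    have h2 : Commute (z' ^ D.s) (y ^ D.s) := ((hz'c y).pow_left _).pow_right _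
    rw [mul_assoc, mul_assoc, ← mul_assoc (z' ^ D.s), h2.eq, mul_assoc]
  have := congrArg (fun w : E => (w : G)) key
  simpa using this

/-- On an elementary subgroup, `ϑ̃` is the pull-back of `ϑ` along a homomorphism to `H`. -/
theorem Hyp.exists_hom_of_elementary (E : Subgroup G) (p : ℕ) (hp : p.Prime)
    (hE : IsElementary p E) :
    ∃ f : E →* H, ∀ ϑ : H → ℂ, IsClassFunction H ϑ → (fun e : E => D.tilde ϑ e) = ϑ ∘ f := by
  let powHom : E →* G :=
    { toFun := fun e => (e : G) ^ D.s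
      map_one' := by simp
      map_mul' := fun e e' => D.pow_mul_of_elementary E p hp hE e e' }
  let A : Subgroup G := powHom.range
  have hAE : A ≤ E := by
    rintro _ ⟨e, rfl⟩
    exact E.pow_mem e.2 _
  have hAel : IsElementary p A := by
    have h1 : IsElementary p ↥(A.subgroupOf E) := isElementary_subgroup hp hE (A.subgroupOf E)
    exact isElementary_of_mulEquiv (Subgroup.subgroupOfEquivOfLe hAE) h1
  have hAcard : Nat.card A ∣ Nat.card H := by
    apply card_dvd_of_pow_eq_one D.hcop A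
    rintro _ ⟨e, rfl⟩
    exact D.hm e
  obtain ⟨c, hc⟩ := D.helem A p hp hAel hAcard
  have hmem : ∀ e : E, c * (e : G) ^ D.s * c⁻¹ ∈ H := by
    intro e
    apply hc
    exact ⟨(e : G) ^ D.s, ⟨e, rfl⟩, rfl⟩
  let f : E →* H :=
    { toFun := fun e => ⟨c * (e : G) ^ D.s * c⁻¹, hmem e⟩
      map_one' := by
        apply Subtype.ext
        simp
      map_mul' := fun e e' => by
        apply Subtype.ext
        show c * ((e * e' : E) : G) ^ D.s * c⁻¹ =
          (c * (e : G) ^ D.s * c⁻¹) * (c * (e' : G) ^ D.s * c⁻¹)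
        rw [D.pow_mul_of_elementary E p hp hE e e']
        group }
  refine ⟨f, fun ϑ hϑ => ?_⟩
  funext e
  exact D.tilde_eq hϑ (e : G) c (hmem e)

end Elementary

section Push

variable {E H : Type u} [Group E] [Group H] [Fintype E] [Fintype H]

/-- Pushing a linear character forward along a homomorphism: the adjoint of pull-back. -/
theorem exists_pushforward (f : E →* H) (lam : E →* ℂˣ) :
    ∃ Ψ : H → ℂ, IsCharacter H Ψ ∧ ∀ α : H → ℂ, IsClassFunction H α →
      classInner (fun e : E => ((lam e : ℂˣ) : ℂ)) (α ∘ f) = classInner Ψ α := by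
  classical
  by_cases hker : f.ker ≤ lam.ker
  · -- the linear character descends to the range
    have hker' : f.rangeRestrict.ker ≤ lam.ker := by
      rw [MonoidHom.ker_rangeRestrict]
      exact hker
    let lam' : f.range →* ℂˣ :=
      f.rangeRestrict.liftOfSurjective f.rangeRestrict_surjective ⟨lam, hker'⟩
    have hlam' : ∀ e : E, lam' (f.rangeRestrict e) = lam e := fun e =>
      MonoidHom.liftOfRightInverse_comp_apply _ _ _ ⟨lam, hker'⟩ e
    haveI : Fintype f.range := Fintype.ofFinite _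
    refine ⟨indFun f.range (fun q => ((lam' q : ℂˣ) : ℂ)),
      isCharacter_indFun _ (isCharacter_of_isIrrCharacter (isIrrCharacter_of_monoidHom lam')),
      fun α hα => ?_⟩
    rw [frobenius_reciprocity f.range _ hα]
    unfold classInner
    have h1 : ∑ e : E, ((lam e : ℂˣ) : ℂ) * conj ((α ∘ f) e) =
        ∑ e : E, (fun q : f.range => ((lam' q : ℂˣ) : ℂ) * conj (α q)) (f.rangeRestrict e) := by
      refine Finset.sum_congr rfl fun e _ => ?_
      show _ = ((lam' (f.rangeRestrict e) : ℂˣ) : ℂ) * conj (α (f.rangeRestrict e))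
      rw [hlam']
      rfl
    have h1' := Cfsg.Agent.Helper8.sum_comp_surjective_hom f.rangeRestrict
      f.rangeRestrict_surjective (fun q : f.range => ((lam' q : ℂˣ) : ℂ) * conj (α q))
    rw [h1, h1']
    have h2 : Nat.card E = Nat.card f.rangeRestrict.ker * Nat.card f.range := by
      rw [MonoidHom.ker_rangeRestrict, ← Subgroup.index_ker f, Subgroup.card_mul_index]
    rw [h2]
    have h3 : (Nat.card f.rangeRestrict.ker : ℂ) ≠ 0 := by
      have : Nat.card f.rangeRestrict.ker ≠ 0 := Nat.card_pos.ne'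
      exact_mod_cast this
    have h4 : (Nat.card f.range : ℂ) ≠ 0 := by
      have : Nat.card f.range ≠ 0 := Nat.card_pos.ne'
      exact_mod_cast this
    push_cast
    field_simp
  · -- the sum vanishes
    refine ⟨0, isCharacter_zero, fun α _ => ?_⟩
    rw [classInner_zero_left]
    obtain ⟨b, hb, hb'⟩ := SetLike.not_le_iff_exists.1 hker
    have hb1 : f b = 1 := MonoidHom.mem_ker.1 hb
    have hb2 : ((lam b : ℂˣ) : ℂ) ≠ 1 := by
      intro h
      apply hb'
      rw [MonoidHom.mem_ker]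
      exact Units.ext h
    unfold classInner
    set S := ∑ e : E, ((lam e : ℂˣ) : ℂ) * conj ((α ∘ f) e) with hS
    have h1 : S = ((lam b : ℂˣ) : ℂ) * S := by
      rw [hS, Finset.mul_sum]
      rw [← Equiv.sum_comp (Equiv.mulRight b)]
      refine Finset.sum_congr rfl fun e _ => ?_
      simp only [Equiv.coe_mulRight, Function.comp_apply, map_mul, hb1, mul_one, Units.val_mul]
      ring
    have h2 : (1 - ((lam b : ℂˣ) : ℂ)) * S = 0 := by
      rw [sub_mul, one_mul, ← h1, sub_self]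
    rcases mul_eq_zero.1 h2 with h | h
    · exact absurd (sub_eq_zero.1 h).symm hb2
    · rw [h, mul_zero]

end Push

section Main

variable {G : Type u} [Group G] [Fintype G] {H : Subgroup G} [Fintype H] (D : Hyp G H)

open Classical

theorem Hyp.tilde_isGenChar {ϑ : H → ℂ} (hϑ : IsCharacter H ϑ) :
    IsGeneralizedCharacter G (D.tilde ϑ) := by
  have hcf := isClassFunction_of_isCharacter hϑ
  refine Cfsg.Agent.S0164.result (D.tilde ϑ) (D.tilde_classFunction hcf) (fun E p hp hE => ?_)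
  obtain ⟨f, hf⟩ := D.exists_hom_of_elementary E p hp hE
  rw [hf ϑ hcf]
  exact isGenChar_of_isCharacter (isCharacter_comp f hϑ)

/-- Every member of the Brauer span has an adjoint generalized character on `H`. -/
theorem Hyp.exists_adjoint {F : G → ℂ} (hF : F ∈ brauerSpan G) :
    ∃ Ψ : H → ℂ, IsGeneralizedCharacter H Ψ ∧ ∀ α : H → ℂ, IsClassFunction H α →
      classInner F (D.tilde α) = classInner Ψ α := by
  unfold brauerSpan at hF
  induction hF using AddSubgroup.closure_induction with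
  | mem F hF =>
    obtain ⟨E, lam, ⟨p, hp, hEl⟩, rfl⟩ := hF
    haveI : Fintype E := Fintype.ofFinite E
    obtain ⟨f, hf⟩ := D.exists_hom_of_elementary E p hp hEl
    obtain ⟨Ψ, hΨ, hΨ'⟩ := exists_pushforward f lam
    refine ⟨Ψ, isGenChar_of_isCharacter hΨ, fun α hα => ?_⟩
    rw [frobenius_reciprocity E _ (D.tilde_classFunction hα), hf α hα]
    exact hΨ' α hα
  | zero =>
    exact ⟨0, isGenChar_zero, fun α _ => by rw [classInner_zero_left, classInner_zero_left]⟩
  | add a b _ _ ha hb =>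
    obtain ⟨Ψa, h1, h2⟩ := ha
    obtain ⟨Ψb, h3, h4⟩ := hb
    exact ⟨Ψa + Ψb, isGenChar_add h1 h3, fun α hα => by
      rw [classInner_add_left, classInner_add_left, h2 α hα, h4 α hα]⟩
  | neg a _ ha =>
    obtain ⟨Ψa, h1, h2⟩ := ha
    exact ⟨-Ψa, isGenChar_neg h1, fun α hα => by
      rw [Cfsg.Agent.Helper8.classInner_neg_left, Cfsg.Agent.Helper8.classInner_neg_left,
        h2 α hα]⟩

/-- The indicator function of the class of `h₀`. -/
noncomputable def ind (h₀ : H) : H → ℂ := fun h => if IsConj h h₀ then 1 else 0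

theorem ind_classFunction (h₀ : H) : IsClassFunction H (ind h₀) := by
  intro g x
  unfold ind
  have h1 : IsConj (x * g * x⁻¹) h₀ ↔ IsConj g h₀ := by
    have h2 : IsConj g (x * g * x⁻¹) := isConj_iff.2 ⟨x, rfl⟩
    exact ⟨fun h => h2.trans h, fun h => h2.symm.trans h⟩
  simp only [h1]

theorem classInner_ind {Ψ : H → ℂ} (hΨ : IsClassFunction H Ψ) (h₀ : H) :
    classInner Ψ (ind h₀) = (Nat.card H : ℂ)⁻¹ *
      (((Finset.univ.filter (fun h : H => IsConj h h₀)).card : ℂ) * Ψ h₀) := by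
  unfold classInner
  congr 1
  have h1 : ∀ h : H, Ψ h * conj (ind h₀ h) = if IsConj h h₀ then Ψ h₀ else 0 := by
    intro h
    unfold ind
    split_ifs with hc
    · obtain ⟨x, hx⟩ := isConj_iff.1 hc
      rw [map_one, mul_one, ← hx, hΨ h x]
    · rw [map_zero, mul_zero]
  rw [Finset.sum_congr rfl (fun h _ => h1 h), ← Finset.sum_filter, Finset.sum_const,
    nsmul_eq_mul]

theorem Hyp.classInner_tilde_ind (h₀ : H) :
    classInner (fun _ : G => (1 : ℂ)) (D.tilde (ind h₀)) = (Nat.card G : ℂ)⁻¹ *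
      ((Finset.univ.filter (fun g : G => D.tilde (ind h₀) g = 1)).card : ℂ) := by
  unfold classInner
  congr 1
  have h1 : ∀ g : G, (1 : ℂ) * conj (D.tilde (ind h₀) g) =
      if D.tilde (ind h₀) g = 1 then 1 else 0 := by
    intro g
    have h2 : D.tilde (ind h₀) g = 1 ∨ D.tilde (ind h₀) g = 0 := by
      show ind h₀ _ = 1 ∨ ind h₀ _ = 0
      unfold ind
      split_ifs
      · left; rfl
      · right; rfl
    rcases h2 with h2 | h2
    · rw [if_pos h2, h2, map_one, mul_one]
    · rw [if_neg (by rw [h2]; exact zero_ne_one), h2, map_zero, mul_zero]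
  rw [Finset.sum_congr rfl (fun g _ => h1 g), ← Finset.sum_filter, Finset.sum_const,
    nsmul_eq_mul, mul_one]

theorem classInner_one_one (X : Type u) [Group X] [Fintype X] :
    classInner (fun _ : X => (1 : ℂ)) (fun _ : X => (1 : ℂ)) = 1 := by
  unfold classInner
  simp only [map_one, mul_one, Finset.sum_const, Finset.card_univ, nsmul_eq_mul]
  rw [← Nat.card_eq_fintype_card]
  have : (Nat.card X : ℂ) ≠ 0 := by
    have : Nat.card X ≠ 0 := Nat.card_pos.ne'
    exact_mod_cast this
  field_simp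

/-- The adjoint of the principal character is the principal character. -/
theorem Hyp.classInner_one_tilde {α : H → ℂ} (hα : IsClassFunction H α) :
    classInner (fun _ : G => (1 : ℂ)) (D.tilde α) = classInner (fun _ : H => (1 : ℂ)) α := by
  obtain ⟨Ψ, hΨ, hadj⟩ :=
    D.exists_adjoint (Cfsg.Agent.S0163.genChar_mem_brauerSpan_top isGenChar_one)
  have hΨcf := Cfsg.Agent.Helper8.isClassFunction_of_isGeneralizedCharacter hΨ
  have hint : ∀ h : H, IsIntegral ℤ (Ψ h) := by
    obtain ⟨χ, ψ, hχ, hψ, rfl⟩ := hΨ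
    intro h
    exact IsIntegral.sub (isIntegral_of_isCharacter hχ h) (isIntegral_of_isCharacter hψ h)
  have hG : (Nat.card G : ℂ) ≠ 0 := by
    have : Nat.card G ≠ 0 := Nat.card_pos.ne'
    exact_mod_cast this
  have hH : (Nat.card H : ℂ) ≠ 0 := by
    have : Nat.card H ≠ 0 := Nat.card_pos.ne'
    exact_mod_cast this
  have hnat : ∀ h₀ : H, ∃ m : ℕ, 1 ≤ m ∧ Ψ h₀ = m := by
    intro h₀
    have h1 := hadj (ind h₀) (ind_classFunction h₀)
    rw [D.classInner_tilde_ind, classInner_ind hΨcf] at h1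
    set N := (Finset.univ.filter (fun g : G => D.tilde (ind h₀) g = 1)).card with hN
    set c := (Finset.univ.filter (fun h : H => IsConj h h₀)).card with hc
    have hcpos : 0 < c := by
      rw [hc, Finset.card_pos]
      exact ⟨h₀, Finset.mem_filter.2 ⟨Finset.mem_univ _, IsConj.refl _⟩⟩
    have hNpos : 0 < N := by
      rw [hN, Finset.card_pos]
      refine ⟨(h₀ : G), Finset.mem_filter.2 ⟨Finset.mem_univ _, ?_⟩⟩
      rw [D.tilde_restrict (ind_classFunction h₀)]
      unfold ind
      rw [if_pos (IsConj.refl _)]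
    have hc0 : (c : ℂ) ≠ 0 := by exact_mod_cast hcpos.ne'
    have h2 : Ψ h₀ = ((N * Nat.card H : ℕ) : ℂ) / ((Nat.card G * c : ℕ) : ℂ) := by
      push_cast
      field_simp
      field_simp at h1
      linear_combination -h1
    have hb : Nat.card G * c ≠ 0 := Nat.mul_ne_zero Nat.card_pos.ne' hcpos.ne'
    have h3 : Nat.card G * c ∣ N * Nat.card H := by
      apply dvd_of_isIntegral_div hb
      rw [← h2]
      exact hint h₀
    obtain ⟨m, hm⟩ := h3
    refine ⟨m, ?_, ?_⟩
    · rcases Nat.eq_zero_or_pos m with h | h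
      · rw [h, mul_zero] at hm
        exact absurd hm (Nat.mul_ne_zero hNpos.ne' Nat.card_pos.ne')
      · exact h
    · rw [h2, hm]
      have : ((Nat.card G * c : ℕ) : ℂ) ≠ 0 := by exact_mod_cast hb
      rw [Nat.cast_mul (Nat.card G * c) m]
      field_simp
  choose m hm1 hm2 using hnat
  have hsum : ∑ h : H, Ψ h = Nat.card H := by
    have h1 := hadj (fun _ => 1) (fun _ _ => rfl)
    rw [D.tilde_const, classInner_one_one] at h1
    unfold classInner at h1
    simp only [map_one, mul_one] at h1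
    field_simp at h1
    exact h1.symm
  have hsum' : ∑ h : H, m h = ∑ _h : H, 1 := by
    have : ((∑ h : H, m h : ℕ) : ℂ) = ((∑ _h : H, 1 : ℕ) : ℂ) := by
      push_cast
      rw [← Finset.sum_congr rfl (fun h _ => hm2 h), hsum]
      simp [Nat.card_eq_fintype_card]
    exact_mod_cast this
  have hall : ∀ h : H, m h = 1 := by
    intro h
    have := (Finset.sum_eq_sum_iff_of_le (s := Finset.univ) (f := fun _ : H => 1) (g := m)
      (fun i _ => hm1 i)).1 hsum'.symm h (Finset.mem_univ _)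
    exact this.symm
  have hΨ1 : Ψ = fun _ => 1 := by
    funext h
    rw [hm2 h, hall h, Nat.cast_one]
  rw [hadj α hα, hΨ1]

/-- The map `ϑ ↦ ϑ̃` is an isometry. -/
theorem Hyp.classInner_tilde {α β : H → ℂ} (hα : IsClassFunction H α)
    (hβ : IsClassFunction H β) :
    classInner (D.tilde α) (D.tilde β) = classInner α β := by
  have hγ : IsClassFunction H (fun h => conj (α h) * β h) := by
    intro g x
    show conj (α _) * β _ = _
    rw [hα g x, hβ g x]
  have h1 := D.classInner_one_tilde hγ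
  have h2 : classInner (fun _ : G => (1 : ℂ)) (D.tilde (fun h => conj (α h) * β h)) =
      classInner (D.tilde α) (D.tilde β) := by
    unfold classInner
    congr 1
    refine Finset.sum_congr rfl fun g _ => ?_
    show 1 * conj (conj (D.tilde α g) * D.tilde β g) = _
    rw [one_mul, map_mul, Complex.conj_conj]
  have h3 : classInner (fun _ : H => (1 : ℂ)) (fun h => conj (α h) * β h) = classInner α β := by
    unfold classInner
    congr 1
    refine Finset.sum_congr rfl fun g _ => ?_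
    rw [one_mul, map_mul, Complex.conj_conj]
  rw [← h2, h1, h3]

theorem Hyp.tilde_irr {ϑ : H → ℂ} (hϑ : IsIrrCharacter H ϑ) : IsIrrCharacter G (D.tilde ϑ) := by
  have hc := isCharacter_of_isIrrCharacter hϑ
  have hcf := isClassFunction_of_isCharacter hc
  have hnorm : classInner (D.tilde ϑ) (D.tilde ϑ) = 1 := by
    rw [D.classInner_tilde hcf hcf, irr_orthogonality hϑ hϑ, if_pos rfl]
  rcases Cfsg.Agent.Helper8.genChar_norm_one (D.tilde_isGenChar hc) hnorm with h | h
  · exact h
  · exfalso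
    obtain ⟨n, hn, hn'⟩ := irr_one_eq h
    obtain ⟨k, hk, hk'⟩ := irr_one_eq hϑ
    have h1 : (-D.tilde ϑ) 1 = -ϑ 1 := by
      show -(D.tilde ϑ 1) = _
      rw [D.tilde_one hcf]
    rw [h1, hk'] at hn'
    have h2 : ((k + n : ℕ) : ℂ) = 0 := by
      push_cast
      linear_combination -hn'
    have h3 : k + n = 0 := by exact_mod_cast h2
    omega

end Main

section Complement

variable {G : Type u} [Group G] [Fintype G] {H : Subgroup G} [Fintype H]

open Classical

/-- An element on which all irreducible characters take their degree is trivial. -/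
theorem eq_one_of_forall_irr {X : Type u} [Group X] [Fintype X] (x : X)
    (hx : ∀ ϑ : IrrCharacter X, (ϑ : X → ℂ) x = (ϑ : X → ℂ) 1) : x = 1 := by
  letI : Fintype (IrrCharacter X) := irrFintype
  by_contra hne
  have h1 := second_orthogonality' (G := X) x 1
  have h2 := second_orthogonality' (G := X) 1 1
  rw [if_neg (by rw [isConj_one_right]; exact hne)] at h1
  rw [if_pos (IsConj.refl _)] at h2
  rw [Finset.sum_congr rfl (fun ϑ _ => by rw [hx ϑ])] at h1
  rw [h1] at h2
  have : Nat.card (Subgroup.centralizer ({(1 : X)} : Set X)) ≠ 0 := Nat.card_pos.ne'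
  exact this (by exact_mod_cast h2.symm)

/-- **Brauer–Suzuki**: `H` has a normal complement. -/
theorem Hyp.exists_complement (D : Hyp G H) : ∃ K : Subgroup G, K.Normal ∧ K ⊔ H = ⊤ ∧ K ⊓ H = ⊥ := by
  have hch : ∀ ϑ : IrrCharacter H, IsCharacter G (D.tilde (ϑ : H → ℂ)) := fun ϑ =>
    isCharacter_of_isIrrCharacter (D.tilde_irr ϑ.2)
  have hcf : ∀ ϑ : IrrCharacter H, IsClassFunction H (ϑ : H → ℂ) := fun ϑ =>
    isClassFunction_of_isIrrCharacter ϑ.2
  let K : Subgroup G := ⨅ ϑ : IrrCharacter H, charKer (hch ϑ)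
  have hKmem : ∀ g : G, g ∈ K ↔ ∀ ϑ : IrrCharacter H,
      D.tilde (ϑ : H → ℂ) g = (ϑ : H → ℂ) 1 := by
    intro g
    simp only [K, Subgroup.mem_iInf, mem_charKer]
    refine forall_congr' fun ϑ => ?_
    rw [D.tilde_one (hcf ϑ)]
  haveI hKn : K.Normal := by
    haveI : ∀ ϑ : IrrCharacter H, (charKer (hch ϑ)).Normal := fun ϑ => charKer_normal _
    exact Subgroup.normal_iInf_normal this
  have hinf : K ⊓ H = ⊥ := by
    rw [eq_bot_iff]
    intro g hg
    obtain ⟨hgK, hgH⟩ := Subgroup.mem_inf.1 hg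
    rw [Subgroup.mem_bot]
    have h1 : (⟨g, hgH⟩ : H) = 1 := by
      apply eq_one_of_forall_irr
      intro ϑ
      rw [← D.tilde_restrict (hcf ϑ) ⟨g, hgH⟩]
      exact (hKmem g).1 hgK ϑ
    exact congrArg Subtype.val h1
  -- counting the elements with trivial `π`-part
  have hG : (Nat.card G : ℂ) ≠ 0 := by
    have : Nat.card G ≠ 0 := Nat.card_pos.ne'
    exact_mod_cast this
  have hH : (Nat.card H : ℂ) ≠ 0 := by
    have : Nat.card H ≠ 0 := Nat.card_pos.ne'
    exact_mod_cast this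
  set S : Finset G := Finset.univ.filter (fun g : G => D.tilde (ind (1 : H)) g = 1) with hS
  have hcount : S.card * Nat.card H = Nat.card G := by
    have h1 := D.classInner_one_tilde (ind_classFunction (1 : H))
    rw [D.classInner_tilde_ind, classInner_ind (fun _ _ => rfl)] at h1
    have h2 : (Finset.univ.filter (fun h : H => IsConj h 1)) = {1} := by
      ext h
      simp [isConj_one_left]
    rw [h2, Finset.card_singleton, Nat.cast_one, mul_one, ← hS] at h1
    have h3 : ((S.card * Nat.card H : ℕ) : ℂ) = (Nat.card G : ℂ) := by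
      push_cast
      field_simp at h1
      linear_combination h1
    exact_mod_cast h3
  have hSK : ∀ g ∈ S, g ∈ K := by
    intro g hg
    have hg1 : D.tilde (ind (1 : H)) g = 1 := (Finset.mem_filter.1 hg).2
    have hg2 : g ^ D.s = 1 := by
      have h3 : ind (1 : H) ⟨D.cj g * g ^ D.s * (D.cj g)⁻¹, D.cj_mem g⟩ = 1 := hg1
      unfold ind at h3
      split_ifs at h3 with hc
      · rw [isConj_one_left] at hc
        have h4 : D.cj g * g ^ D.s * (D.cj g)⁻¹ = 1 := congrArg Subtype.val hc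
        have h5 : g ^ D.s = (D.cj g)⁻¹ * (D.cj g * g ^ D.s * (D.cj g)⁻¹) * D.cj g := by group
        rw [h5, h4]
        group
      · exact absurd h3 zero_ne_one
    rw [hKmem]
    intro ϑ
    exact D.tilde_of_pow_eq_one (hcf ϑ) g hg2
  have hle : S.card ≤ Nat.card K := by
    have h1 : Nat.card S = S.card := by
      rw [Nat.card_eq_fintype_card, Fintype.card_coe]
    rw [← h1]
    exact Nat.card_le_card_of_injective (fun g : S => (⟨g.1, hSK g.1 g.2⟩ : K))
      (fun a b hab => Subtype.ext (congrArg (fun k : K => (k : G)) hab))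
  refine ⟨K, hKn, ?_, hinf⟩
  have h1 := Cfsg.Agent.Helper5.card_mul_card_inf_eq K H
  rw [inf_comm, hinf, Subgroup.card_bot, mul_one] at h1
  have h2 : (H ⊔ K).index = 1 := by
    have hpos : 0 < (H ⊔ K).index := Nat.pos_of_ne_zero Subgroup.index_ne_zero_of_finite
    have h3 : Nat.card K * Nat.card H * (H ⊔ K).index ≤ Nat.card K * Nat.card H := by
      rw [← h1, ← hcount]
      exact Nat.mul_le_mul_right _ hle
    have h4 : 0 < Nat.card K * Nat.card H := Nat.mul_pos Nat.card_pos Nat.card_pos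
    have h5 : (H ⊔ K).index ≤ 1 := by
      by_contra hcon
      push_neg at hcon
      have : Nat.card K * Nat.card H * 2 ≤ Nat.card K * Nat.card H * (H ⊔ K).index :=
        Nat.mul_le_mul_left _ hcon
      omega
    omega
  rw [sup_comm]
  exact Subgroup.index_eq_one.1 h2

end Complement

end Cfsg.Agent.Helper5.BS
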