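import Mathlib
import Cfsg.Prelude.Def_Classical
import Cfsg.Agent.Lib.Helper15.S74Defs
import Cfsg.Agent.Lib.Helper2.SpCenter

/-!
# S2474 piece S74-PSPLIFT (helper5, for helper15): an element of order `N` of `PSp` is represented
by a matrix whose first power in the centre `{1, negOne}` is the `N`-th.
-/

set_option autoImplicit false

namespace Cfsg.Agent.Helper15.S74

universe u

variable {F : Type u} [Field F]

/-- a power of a lift is central iff the power of the image is trivial -/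
theorem s74_psplift_aux (n : ℕ) (A : Matrix.symplecticGroup (Fin n) F) (j : ℕ) :
    (QuotientGroup.mk A : Cfsg.PSp n F) ^ j = 1 ↔
      A ^ j ∈ Subgroup.center (Matrix.symplecticGroup (Fin n) F) := by
  have h : ((QuotientGroup.mk A : Cfsg.PSp n F) ^ j) =
      (QuotientGroup.mk (A ^ j) : Cfsg.PSp n F) := rfl
  rw [h]
  exact QuotientGroup.eq_one_iff _

/-- PIECE S74-PSPLIFT -/
theorem psp_lift (n : ℕ) (hn : 1 ≤ n) (x : Cfsg.PSp n F) (N : ℕ) (hx : orderOf x = N) :
    ∃ A : Matrix.symplecticGroup (Fin n) F,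
      (A ^ N = 1 ∨ A ^ N = Cfsg.Agent.Helper2.Sp.negOne (Fin n) F) ∧
      ∀ j : ℕ, 0 < j → j < N →
        A ^ j ≠ 1 ∧ A ^ j ≠ Cfsg.Agent.Helper2.Sp.negOne (Fin n) F := by
  have hne : Nonempty (Fin n) := ⟨⟨0, hn⟩⟩
  obtain ⟨A, rfl⟩ := QuotientGroup.mk_surjective x
  refine ⟨A, ?_, ?_⟩
  · have h1 : (QuotientGroup.mk A : Cfsg.PSp n F) ^ N = 1 := by
      rw [← hx]
      exact pow_orderOf_eq_one _
    exact (Cfsg.Agent.Helper2.Sp.mem_center_iff _).1 ((s74_psplift_aux n A N).1 h1)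
  · intro j hj0 hjN
    have hnot : ¬ (QuotientGroup.mk A : Cfsg.PSp n F) ^ j = 1 := by
      intro h
      have hd : N ∣ j := by
        rw [← hx]
        exact orderOf_dvd_of_pow_eq_one h
      exact absurd (Nat.le_of_dvd hj0 hd) (by omega)
    rw [s74_psplift_aux, Cfsg.Agent.Helper2.Sp.mem_center_iff] at hnot
    exact ⟨fun h => hnot (Or.inl h), fun h => hnot (Or.inr h)⟩

end Cfsg.Agent.Helper15.S74
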