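import Mathlib
import Cfsg.Agent.Lib.Helper5.S74XDefs

/-!
# S2474 T4: elements of prescribed order in a finite field (copy of helper27's piece S74X-GAMMA,
`Lib/Helper27/S74XGAMMA.lean`, under a fresh name: the original name `exists_orderOf_eq_of_dvd`
is also declared by the T3 piece `Lib/Helper3/S74OCYC.lean`, and the final `S2474` imports both
sides).
-/

set_option autoImplicit false

namespace Cfsg.Agent.Helper15.S74

universe v

/-- PIECE S74X-GAMMA (proof by helper27) -/
theorem s74x_exists_orderOf_eq_of_dvd {K : Type v} [Field K] [Fintype K] (N : ℕ)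
    (hN : N ∣ Fintype.card K - 1) :
    ∃ γ : K, γ ≠ 0 ∧ orderOf γ = N ∧ ∀ m : ℕ, N = 2 * m → γ ^ m = -1 := by
  classical
  have hcard : 1 < Fintype.card K := Fintype.one_lt_card
  have hpos : 0 < Fintype.card K - 1 := by omega
  have hNpos : 0 < N := Nat.pos_of_dvd_of_pos hN hpos
  obtain ⟨ζ, hζ⟩ := IsCyclic.exists_generator (α := Kˣ)
  have hordζ : orderOf ζ = Fintype.card K - 1 := by
    rw [orderOf_eq_card_of_forall_mem_zpowers hζ, Nat.card_eq_fintype_card, Fintype.card_units]
  obtain ⟨e, he⟩ := hN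
  have hepos : e ≠ 0 := by
    rintro rfl
    omega
  have hord : orderOf (ζ ^ e) = N := by
    rw [orderOf_pow_of_dvd hepos (by rw [hordζ, he]; exact Dvd.intro_left N rfl), hordζ, he]
    exact Nat.mul_div_cancel _ (Nat.pos_of_ne_zero hepos)
  refine ⟨((ζ ^ e : Kˣ) : K), Units.ne_zero _, by rw [orderOf_units, hord], ?_⟩
  intro m hm
  have hordK : orderOf (((ζ ^ e : Kˣ) : K)) = N := by rw [orderOf_units, hord]
  set γ : K := ((ζ ^ e : Kˣ) : K) with hγ
  have hmpos : 0 < m := by omega
  have h1 : γ ^ m * γ ^ m = 1 := by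
    rw [← pow_add, ← two_mul, ← hm, ← hordK]
    exact pow_orderOf_eq_one γ
  have h2 : γ ^ m ≠ 1 := by
    apply pow_ne_one_of_lt_orderOf (by omega)
    rw [hordK]
    omega
  rcases mul_self_eq_one_iff.mp h1 with h | h
  · exact absurd h h2
  · exact h

end Cfsg.Agent.Helper15.S74
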