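import Mathlib
import Cfsg.Prelude.Def_Classical
import Cfsg.Agent.Lib.Helper15.S74Defs
import Cfsg.Agent.Lib.Helper15.S62Asm6
import Cfsg.Agent.Lib.Helper5.S74XDefs
import Cfsg.Agent.Lib.Helper5.S74XGamma2
import Cfsg.Agent.Lib.Helper27.S74XPLUSK
import Cfsg.Agent.Lib.Helper11.S74XMINUSK
import Cfsg.Agent.Lib.Helper2.S74XPAD
import Cfsg.Agent.Lib.Helper25.S74XODDNEG
import Cfsg.Agent.Lib.Helper22.S74XPROD
import Cfsg.Agent.Lib.Helper7.S74XTRANSFER2
import Cfsg.Agent.Lib.Helper28.S74XPSPORD2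

/-!
# S2474 T4 (helper5, for helper15): `ex_PSp`

If `Phi q p n r s` holds then `r * s` is an element order of `PSp n F` (`q = card F` odd, `n ≥ 3`).
Leaves: pieces S74X-* (helper2, helper7, helper11, helper22, helper25, helper27, helper28); this file
is the glue (all glue names carry the prefix `s74x_`).  See `plans/S2474_T4_plan.md`.
-/

set_option autoImplicit false
set_option linter.style.haveILetI false

namespace Cfsg.Agent.Helper15.S74

universe v v₁ v₂ u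

/-! ## Glue (helper5) -/

section glue

variable {F : Type u} [Field F]

/-- padding with a trivial block on the left -/
theorem s74x_modN_mono (k n N : ℕ) (hkn : k ≤ n) (h : ModN.{v, u} F k N) :
    ModN.{max u v, u} F n N := by
  have h1 := modN_prod (n - k) k 1 N (mod_pad (F := F) (n - k)) h
  rwa [Nat.lcm_one_left, Nat.sub_add_cancel hkn] at h1

/-- the trivial model has no power equal to `-1` in positive dimension -/
theorem s74x_modN_pad (h2 : (2 : F) ≠ 0) (k : ℕ) (hk : 1 ≤ k) : ModN.{u, u} F k 1 :=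
  modN_of_odd h2 k 1 hk odd_one (mod_pad k)

/-- an order of a model isometry no power of which is `-1` is an element order of `PSp` -/
theorem s74x_exists_PSp_of_modN (n N : ℕ) (hn : 1 ≤ n) (h : ModN.{v, u} F n N) :
    ∃ x : Cfsg.PSp n F, orderOf x = N := by
  obtain ⟨U, i1, i2, ω, g, ⟨hfin, hdim, halt, hnd, hiso⟩, hord, hneg⟩ := h
  haveI := hfin
  obtain ⟨A, hA, hAneg⟩ := S62.exists_symplectic_of_model ω g halt hnd n hdim hiso
  exact ⟨QuotientGroup.mk A, by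
    rw [S62.orderOf_mk_PSp n hn A (fun j => hAneg j (hneg j)), hA, hord]⟩

/-- half the order of a model isometry with `g ^ m = -1` is an element order of `PSp` -/
theorem s74x_exists_PSp_of_modZ (n m : ℕ) (hn : 1 ≤ n) (hm : 0 < m) (h : ModZ.{v, u} F n m) :
    ∃ x : Cfsg.PSp n F, orderOf x = m := by
  obtain ⟨U, i1, i2, ω, g, ⟨hfin, hdim, halt, hnd, hiso⟩, hord, hneg⟩ := h
  haveI := hfin
  obtain ⟨A, hA, hAneg⟩ := exists_symplectic_of_model_neg ω g halt hnd n hdim hiso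
  exact ⟨QuotientGroup.mk A,
    orderOf_mk_PSp_of_neg n hn A m hm (by rw [hA, hord]) (hAneg m hneg)⟩

variable [Fintype F]

/-- the extension of degree `m` of `F` -/
theorem s74x_exists_ext (p : ℕ) [Fact p.Prime] [CharP F p] (m : ℕ) (hm : 1 ≤ m) :
    ∃ (K : Type) (_ : Field K) (_ : Algebra F K) (_ : Fintype K),
      Module.finrank F K = m ∧ Fintype.card K = Fintype.card F ^ m := by
  haveI : NeZero m := ⟨by omega⟩
  letI : Fintype (FiniteField.Extension F p m) := Fintype.ofFinite _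
  refine ⟨FiniteField.Extension F p m, inferInstance, inferInstance, inferInstance,
    FiniteField.finrank_extension F p m, ?_⟩
  rw [Fintype.card_eq_nat_card, FiniteField.natCard_extension F p m, Nat.card_eq_fintype_card]

/-- the split block: any `N ∣ q ^ d - 1` in dimension `2d` -/
theorem s74x_modB_plus (p : ℕ) [Fact p.Prime] [CharP F p] (d N : ℕ) (hd : 1 ≤ d) (hN : N ∣ Fintype.card F ^ d - 1) :
    ModB.{0, u} F d N := by
  obtain ⟨K, iK, iA, iF, hdim, hcard⟩ := s74x_exists_ext (F := F) p d hd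
  obtain ⟨γ, hγ0, hγ, hγm⟩ := s74x_exists_orderOf_eq_of_dvd (K := K) N (by rw [hcard]; exact hN)
  obtain ⟨ω, g, halt, hnd, hiso, hord, hneg⟩ := plus_block (F := F) γ hγ0
  refine ⟨K × K, inferInstance, inferInstance, ω, g, ⟨inferInstance, ?_, halt, hnd, hiso⟩,
    by rw [hord, hγ], fun m hm x => hneg m (hγm m hm) x⟩
  rw [Module.finrank_prod, hdim]
  omega

/-- `q ^ (2 * d) - 1 = (q ^ d + 1) * (q ^ d - 1)` -/
theorem s74x_pow_two_mul_sub_one (q d : ℕ) : q ^ (2 * d) - 1 = (q ^ d + 1) * (q ^ d - 1) := by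
  have h := Nat.sq_sub_sq (q ^ d) 1
  rw [one_pow, ← pow_mul'] at h
  exact h

/-- the non-split block: any `N ∣ q ^ d + 1` in dimension `2d`, `q` odd -/
theorem s74x_modB_minus (p : ℕ) [Fact p.Prime] [CharP F p] (hp2 : p ≠ 2) (d N : ℕ) (hd : 1 ≤ d) (hN : N ∣ Fintype.card F ^ d + 1) :
    ModB.{0, u} F d N := by
  obtain ⟨K, iK, iA, iF, hdim, hcard⟩ := s74x_exists_ext (F := F) p (2 * d) (by omega)
  have hdvd : N ∣ Fintype.card K - 1 := by
    rw [hcard, s74x_pow_two_mul_sub_one]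
    exact Dvd.dvd.mul_right hN _
  obtain ⟨γ, hγ0, hγ, hγm⟩ := s74x_exists_orderOf_eq_of_dvd (K := K) N hdvd
  have hγpow : γ ^ (Fintype.card F ^ d + 1) = 1 :=
    orderOf_dvd_iff_pow_eq_one.mp (hγ ▸ hN)
  obtain ⟨ω, g, halt, hnd, hiso, hord, hneg⟩ := minus_block (F := F) p hp2 d hd hdim γ hγpow
  exact ⟨K, inferInstance, inferInstance, ω, g, ⟨inferInstance, hdim, halt, hnd, hiso⟩,
    by rw [hord, hγ], fun m hm x => hneg m (hγm m hm) x⟩

omit [Fintype F] in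
/-- the unipotent block -/
theorem s74x_modN_unip (p : ℕ) [Fact p.Prime] [CharP F p] (hp2 : p ≠ 2) : ModN.{u, u} F 1 p := by
  obtain ⟨ω, g, halt, hnd, hiso, hord, hneg⟩ :=
    S62.exists_f2 (F := F) p (S62.two_ne_zero_of_char p hp2)
  exact ⟨Fin 2 → F, inferInstance, inferInstance, ω, g,
    ⟨inferInstance, by simp, halt, hnd, hiso⟩, hord, hneg⟩

/-- a block of order `N` whenever `N ∣ q ^ d - 1` or `N ∣ q ^ d + 1` -/
theorem s74x_modB_of_dvd (p : ℕ) [Fact p.Prime] [CharP F p] (hp2 : p ≠ 2) (d N : ℕ) (hd : 1 ≤ d)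
    (h : N ∣ Fintype.card F ^ d - 1 ∨ N ∣ Fintype.card F ^ d + 1) : ModB.{0, u} F d N := by
  rcases h with h | h
  · exact s74x_modB_plus p d N hd h
  · exact s74x_modB_minus p hp2 d N hd h

/-- a prime dividing `q ^ (2 * d) - 1` divides one of the two factors -/
theorem s74x_prime_dvd_split (q d t : ℕ) (ht : t.Prime) (h : t ∣ q ^ (2 * d) - 1) :
    t ∣ q ^ d - 1 ∨ t ∣ q ^ d + 1 := by
  rw [s74x_pow_two_mul_sub_one] at h
  exact (ht.dvd_mul.mp h).symm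

end glue

/-! ## The cases of `Phi` -/

section cases

variable {F : Type u} [Field F] [Fintype F]

/-- `q ^ d - 1` and `q ^ d + 1` are even, `q` odd -/
theorem s74x_two_dvd_pow_sub_add (q d : ℕ) (hq : Odd q) : 2 ∣ q ^ d - 1 ∧ 2 ∣ q ^ d + 1 := by
  have h : Odd (q ^ d) := hq.pow
  rcases h with ⟨j, hj⟩
  constructor <;> omega

/-- case `{p, t}`: `t ∣ q ^ (2 * d) - 1` with `d ≤ n - 1` -/
theorem s74x_ex_case_B (p : ℕ) [Fact p.Prime] [CharP F p] (hp2 : p ≠ 2) (n : ℕ) (hn : 3 ≤ n)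
    (t : ℕ) (ht : t.Prime) (htp : t ≠ p) (h : Small (Fintype.card F) t (n - 1)) :
    ∃ x : Cfsg.PSp n F, orderOf x = p * t := by
  have hp : p.Prime := Fact.out
  obtain ⟨d, hd1, hdn, hdvd⟩ := h
  have hM : Mod.{0, u} F d t :=
    (s74x_modB_of_dvd p hp2 d t hd1 (s74x_prime_dvd_split _ d t ht hdvd)).mod
  have h1 := modN_prod d 1 t p hM (s74x_modN_unip (F := F) p hp2)
  rw [((Nat.coprime_primes ht hp).mpr htp).lcm_eq_mul] at h1
  have h2 := s74x_modN_mono (d + 1) n (t * p) (by omega) h1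
  obtain ⟨x, hx⟩ := s74x_exists_PSp_of_modN n (t * p) (by omega) h2
  exact ⟨x, by rw [hx, mul_comm]⟩

/-- case `{2, t}`, `t ∣ q ^ (2 * d) - 1` with `d ≤ n - 1` -/
theorem s74x_ex_case_C1 (p : ℕ) [Fact p.Prime] [CharP F p] (hp2 : p ≠ 2) (n : ℕ) (hn : 3 ≤ n)
    (t : ℕ) (ht : t.Prime) (ht2 : t ≠ 2) (h : Small (Fintype.card F) t (n - 1)) :
    ∃ x : Cfsg.PSp n F, orderOf x = 2 * t := by
  obtain ⟨hqodd, -, -⟩ := S62.card_odd (F := F) p hp2
  obtain ⟨d, hd1, hdn, hdvd⟩ := h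
  have hcop : Nat.Coprime 2 t := (Nat.coprime_primes Nat.prime_two ht).mpr (Ne.symm ht2)
  have h2t : 2 * t ∣ Fintype.card F ^ d - 1 ∨ 2 * t ∣ Fintype.card F ^ d + 1 := by
    obtain ⟨e1, e2⟩ := s74x_two_dvd_pow_sub_add (Fintype.card F) d hqodd
    rcases s74x_prime_dvd_split _ d t ht hdvd with h | h
    · exact Or.inl (hcop.mul_dvd_of_dvd_of_dvd e1 h)
    · exact Or.inr (hcop.mul_dvd_of_dvd_of_dvd e2 h)
  have hM : Mod.{0, u} F d (2 * t) := (s74x_modB_of_dvd p hp2 d (2 * t) hd1 h2t).mod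
  have h1 := modN_prod d (n - d) (2 * t) 1 hM
    (s74x_modN_pad (S62.two_ne_zero_of_char p hp2) (n - d) (by omega))
  rw [Nat.lcm_one_right, Nat.add_sub_cancel' (by omega : d ≤ n)] at h1
  exact s74x_exists_PSp_of_modN n (2 * t) (by omega) h1

/-- case `{2, t}`, `t ∣ q ^ n ∓ 1` and `4 ∣ q ^ n ∓ 1` -/
theorem s74x_ex_case_C23 (p : ℕ) [Fact p.Prime] [CharP F p] (hp2 : p ≠ 2) (n : ℕ) (hn : 3 ≤ n)
    (t : ℕ) (ht : t.Prime) (ht2 : t ≠ 2)
    (h : (t ∣ Fintype.card F ^ n - 1 ∧ 4 ∣ Fintype.card F ^ n - 1) ∨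
      (t ∣ Fintype.card F ^ n + 1 ∧ 4 ∣ Fintype.card F ^ n + 1)) :
    ∃ x : Cfsg.PSp n F, orderOf x = 2 * t := by
  have hcop : Nat.Coprime 4 t := by
    have h2 : Nat.Coprime 2 t := (Nat.coprime_primes Nat.prime_two ht).mpr (Ne.symm ht2)
    have : (4 : ℕ) = 2 ^ 2 := by norm_num
    rw [this]
    exact Nat.Coprime.pow_left 2 h2
  have h4t : 2 * (2 * t) ∣ Fintype.card F ^ n - 1 ∨ 2 * (2 * t) ∣ Fintype.card F ^ n + 1 := by
    have e : 2 * (2 * t) = 4 * t := by ring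
    rw [e]
    rcases h with ⟨h1, h2⟩ | ⟨h1, h2⟩
    · exact Or.inl (hcop.mul_dvd_of_dvd_of_dvd h2 h1)
    · exact Or.inr (hcop.mul_dvd_of_dvd_of_dvd h2 h1)
  have hM : ModZ.{0, u} F n (2 * t) := (s74x_modB_of_dvd p hp2 n (2 * (2 * t)) (by omega) h4t).modZ
  exact s74x_exists_PSp_of_modZ n (2 * t) (by omega) (by have := ht.pos; omega) hM

/-- case `r`, `s` odd: the first alternative of `PhiA` -/
theorem s74x_ex_case_A1 (p : ℕ) [Fact p.Prime] [CharP F p] (hp2 : p ≠ 2) (n : ℕ) (hn : 3 ≤ n)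
    (r s : ℕ) (hr : r.Prime) (hs : s.Prime) (hrs : r ≠ s) (hs2 : s ≠ 2) (a b : ℕ) (ha : 1 ≤ a)
    (hb : 1 ≤ b) (hab : a + b ≤ n) (h1 : r ∣ Fintype.card F ^ (2 * a) - 1)
    (h2 : s ∣ Fintype.card F ^ (2 * b) - 1) :
    ∃ x : Cfsg.PSp n F, orderOf x = r * s := by
  have hMr : Mod.{0, u} F a r := (s74x_modB_of_dvd p hp2 a r ha (s74x_prime_dvd_split _ a r hr h1)).mod
  have hMs : Mod.{0, u} F b s := (s74x_modB_of_dvd p hp2 b s hb (s74x_prime_dvd_split _ b s hs h2)).mod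
  have hNs : ModN.{0, u} F b s :=
    modN_of_odd (S62.two_ne_zero_of_char p hp2) b s hb (hs.odd_of_ne_two hs2) hMs
  have h3 := modN_prod a b r s hMr hNs
  rw [((Nat.coprime_primes hr hs).mpr hrs).lcm_eq_mul] at h3
  exact s74x_exists_PSp_of_modN n (r * s) (by omega) (s74x_modN_mono (a + b) n (r * s) hab h3)

/-- case `r`, `s` odd: the second alternative of `PhiA` -/
theorem s74x_ex_case_A2 (p : ℕ) [Fact p.Prime] [CharP F p] (hp2 : p ≠ 2) (n : ℕ) (hn : 3 ≤ n)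
    (r s : ℕ) (hr : r.Prime) (hs : s.Prime) (hr2 : r ≠ 2) (hs2 : s ≠ 2) (d : ℕ) (hd : 1 ≤ d)
    (hdn : d ≤ n)
    (h : r * s ∣ Fintype.card F ^ d - 1 ∨ r * s ∣ Fintype.card F ^ d + 1) :
    ∃ x : Cfsg.PSp n F, orderOf x = r * s := by
  have hM : Mod.{0, u} F d (r * s) := (s74x_modB_of_dvd p hp2 d (r * s) hd h).mod
  have hN : ModN.{0, u} F d (r * s) :=
    modN_of_odd (S62.two_ne_zero_of_char p hp2) d (r * s) hd
      ((hr.odd_of_ne_two hr2).mul (hs.odd_of_ne_two hs2)) hM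
  exact s74x_exists_PSp_of_modN n (r * s) (by omega) (s74x_modN_mono d n (r * s) hdn hN)

/-- `2 ∣ q ^ 2 - 1`, so `2` is `Small` -/
theorem s74x_small_two (p : ℕ) [Fact p.Prime] [CharP F p] (hp2 : p ≠ 2) (n : ℕ) (hn : 3 ≤ n) :
    Small (Fintype.card F) 2 (n - 1) := by
  obtain ⟨hqodd, -, -⟩ := S62.card_odd (F := F) p hp2
  refine ⟨1, le_refl 1, by omega, ?_⟩
  have h : Odd (Fintype.card F ^ (2 * 1)) := hqodd.pow
  rcases h with ⟨j, hj⟩
  omega

/-- the criterion for `2 * t` -/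
theorem s74x_ex_case_C (p : ℕ) [Fact p.Prime] [CharP F p] (hp2 : p ≠ 2) (n : ℕ) (hn : 3 ≤ n)
    (t : ℕ) (ht : t.Prime) (ht2 : t ≠ 2) (h : PhiC (Fintype.card F) n t) :
    ∃ x : Cfsg.PSp n F, orderOf x = 2 * t := by
  rcases h with h | h | h
  · exact s74x_ex_case_C1 p hp2 n hn t ht ht2 h
  · exact s74x_ex_case_C23 p hp2 n hn t ht ht2 (Or.inl h)
  · exact s74x_ex_case_C23 p hp2 n hn t ht ht2 (Or.inr h)

/-- T4 in existential form -/
theorem s74x_ex_PSp_aux (p : ℕ) [Fact p.Prime] [CharP F p] (hp2 : p ≠ 2) (n : ℕ) (hn : 3 ≤ n)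
    (r s : ℕ) (hr : r.Prime) (hs : s.Prime) (hrs : r ≠ s)
    (h : Phi (Fintype.card F) p n r s) : ∃ x : Cfsg.PSp n F, orderOf x = r * s := by
  rcases h with ⟨h1, h2⟩ | ⟨h1, h2⟩ | ⟨h1, h2, h3, h4⟩ | ⟨h1, h2, h3, h4⟩ | ⟨h1, h2, h3, h4, h5⟩
  · have hsp : s ≠ p := fun e => hrs (h1.trans e.symm)
    have hsm : Small (Fintype.card F) s (n - 1) := by
      rcases h2 with h2 | h2
      · rw [h2]; exact s74x_small_two p hp2 n hn
      · exact h2
    obtain ⟨x, hx⟩ := s74x_ex_case_B p hp2 n hn s hs hsp hsm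
    exact ⟨x, by rw [hx, h1]⟩
  · have hrp : r ≠ p := fun e => hrs (e.trans h1.symm)
    have hsm : Small (Fintype.card F) r (n - 1) := by
      rcases h2 with h2 | h2
      · rw [h2]; exact s74x_small_two p hp2 n hn
      · exact h2
    obtain ⟨x, hx⟩ := s74x_ex_case_B p hp2 n hn r hr hrp hsm
    exact ⟨x, by rw [hx, h1, mul_comm]⟩
  · have hs2 : s ≠ 2 := fun e => hrs (h3.trans e.symm)
    obtain ⟨x, hx⟩ := s74x_ex_case_C p hp2 n hn s hs hs2 h4
    exact ⟨x, by rw [hx, h3]⟩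
  · have hr2 : r ≠ 2 := fun e => hrs (e.trans h3.symm)
    obtain ⟨x, hx⟩ := s74x_ex_case_C p hp2 n hn r hr hr2 h4
    exact ⟨x, by rw [hx, h3, mul_comm]⟩
  · rcases h5 with ⟨a, b, ha, hb, hab, hra, hsb⟩ | ⟨d, hd1, hdn, hd⟩
    · exact s74x_ex_case_A1 p hp2 n hn r s hr hs hrs h4 a b ha hb hab hra hsb
    · exact s74x_ex_case_A2 p hp2 n hn r s hr hs h3 h4 d hd1 hdn hd

end cases

/-- T4 -/
theorem ex_PSp {F : Type u} [Field F] [Fintype F] (p : ℕ) [Fact p.Prime] [CharP F p]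
    (hp2 : p ≠ 2) (n : ℕ) (hn : 3 ≤ n) (r s : ℕ) (hr : r.Prime) (hs : s.Prime) (hrs : r ≠ s)
    (h : Phi (Fintype.card F) p n r s) :
    r * s ∈ Set.range (orderOf : Cfsg.PSp n F → ℕ) := by
  obtain ⟨x, hx⟩ := s74x_ex_PSp_aux p hp2 n hn r s hr hs hrs h
  exact ⟨x, hx⟩

end Cfsg.Agent.Helper15.S74
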