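import Mathlib
import Cfsg.Agent.Lib.Helper15.S64Defs

/-! S3664 piece S64-INTW (helper5 for helper15): a nonzero intertwiner out of an irreducible matrix
is invertible. -/

set_option autoImplicit false
set_option linter.unusedSectionVars false
set_option linter.unusedVariables false

namespace Cfsg.Agent.Helper15.S64

open Matrix Cfsg.Agent.Helper2 Cfsg.Agent.Helper2.Sz

variable {F : Type*} [Field F] [Fintype F] (S : SzData F 1)
  (hF : Fintype.card F = 2 ^ (2 * 1 + 1))

/-- PIECE S64-INTW -/
theorem isUnit_of_intertwine {M B X : Matrix (Fin 4) (Fin 4) F} {p : ℕ}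
    (h : IrrMat.IrrData M p) (hX : M * X = X * B) (hX0 : X ≠ 0) : IsUnit X := by
  set W : Submodule F (Fin 4 → F) := LinearMap.range (Matrix.mulVecLin X) with hW
  have hinv : IrrMat.Inv M W := by
    rintro v ⟨w, rfl⟩
    refine ⟨B *ᵥ w, ?_⟩
    rw [Matrix.mulVecLin_apply, Matrix.mulVecLin_apply, Matrix.mulVec_mulVec, Matrix.mulVec_mulVec,
      hX]
  have hfix : ∀ v ∈ W, M *ᵥ v = v → v = 0 := by
    intro v _ hMv
    have h1 := IrrMat.geomSum_mulVec_of_fix hMv p
    rw [IrrMat.geomSum_eq_zero h, Matrix.zero_mulVec] at h1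
    rcases smul_eq_zero.1 h1.symm with h0 | h0
    · exact absurd h0 h.cast_ne
    · exact h0
  rcases IrrMat.finrank_eq_zero_or_four h hinv hfix with hk | hk
  · exfalso
    apply hX0
    ext i j
    have hv : X *ᵥ (Pi.single j 1) ∈ W := ⟨Pi.single j 1, rfl⟩
    rw [hk, Submodule.mem_bot] at hv
    have := congrFun hv i
    rw [Matrix.mulVec_single_one] at this
    exact this
  · rw [← Matrix.mulVec_surjective_iff_isUnit]
    intro v
    have hv : v ∈ W := by rw [hk]; exact Submodule.mem_top
    obtain ⟨w, hw⟩ := hv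
    exact ⟨w, hw⟩

end Cfsg.Agent.Helper15.S64
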