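import Mathlib
import Cfsg.Agent.Lib.Helper23.BG10A
import Cfsg.Agent.Lib.Helper7.BG121a
import Cfsg.Agent.Lib.Helper19.PGroupBasic

/-!
# Nonabelian `p`-subgroups of a minimal simple group of odd order are uniqueness subgroups

(helper5) The statement of S1422, derived from the statements of S1350, S1403, S1417, S1423
(taken as hypotheses for the group `G`).
-/

set_option autoImplicit false

namespace Cfsg.Agent.Helper5.BG1222

open Cfsg Subgroup
open Cfsg.Agent.Helper23.BG10
open scoped commutatorElement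

universe u

variable {G : Type u} [Group G] [Finite G]

/-- statement of S1350 for `G` -/
def H1350 (G : Type u) [Group G] : Prop :=
  ∀ (M : Subgroup G), IsCoatom M →
    Cfsg.IsPiHallOf (Cfsg.sigma M) (Cfsg.sigmaCore M) M ∧ Cfsg.IsPiHall (Cfsg.sigma M) (Cfsg.sigmaCore M) ∧
      ∀ N : Subgroup G, M ≤ Subgroup.normalizer (N : Set G) → Cfsg.IsPiHallOf (Cfsg.sigma M) N M →
        N = Cfsg.sigmaCore M

/-- the part of the statement of S1417 used here: Sylow `p`-subgroups of `M` are abelian for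
`p ∈ τ₂(M)` -/
def H1417 (G : Type u) [Group G] : Prop :=
  ∀ (M : Subgroup G), IsCoatom M → ∀ (p : ℕ) [Fact p.Prime], p ∈ Cfsg.tau2 M → ∀ (A : Subgroup G),
    (A ≤ M ∧ Cfsg.IsElementaryAbelian p A ∧ Nat.card A = p ^ 2) →
    ∀ P : Sylow p M, IsMulCommutative (P : Subgroup M)

/-- the part of the statement of S1423 used here -/
def H1423 (G : Type u) [Group G] : Prop :=
  ∀ (M : Subgroup G), IsCoatom M → ∀ (p : ℕ) [Fact p.Prime], p ∈ Cfsg.sigma M → ∀ (X : Subgroup G),
    X ≤ M → Nat.card X = p → X ≤ ⁅Cfsg.sigmaCore M, Cfsg.sigmaCore M⁆ →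
    (Subgroup.centralizer (X : Set G) ≤ M ∧
      ∀ L : Subgroup G, IsCoatom L → Subgroup.centralizer (X : Set G) ≤ L → L = M)

omit [Finite G] in
theorem comm_of_le_commutative {P : Subgroup G} {M : Subgroup G} (hPM : P ≤ M) {S : Subgroup ↥M}
    (hS : IsMulCommutative ↥S) (hPS : P.subgroupOf M ≤ S) : IsMulCommutative ↥P := by
  refine ⟨⟨fun a b => ?_⟩⟩
  have ha : (⟨a.1, hPM a.2⟩ : ↥M) ∈ S := hPS (by rw [mem_subgroupOf]; exact a.2)
  have hb : (⟨b.1, hPM b.2⟩ : ↥M) ∈ S := hPS (by rw [mem_subgroupOf]; exact b.2)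
  have h := hS.is_comm.comm ⟨_, ha⟩ ⟨_, hb⟩
  have h2 := congrArg (fun z : ↥S => ((z : ↥M) : G)) h
  exact Subtype.ext h2

/-- a nonabelian `p`-subgroup of a maximal subgroup `M` forces `p ∈ σ(M)` -/
theorem mem_sigma_of_nonabelian (hG : IsMinSimpleOddOrder G) (hU : UniqThm G) (h17 : H1417 G)
    {M : Subgroup G} (hM : IsCoatom M) {p : ℕ} [Fact p.Prime] {P : Subgroup G} (hP : IsPGroup p P)
    (hPna : ¬ IsMulCommutative P) (hPM : P ≤ M) : p ∈ sigma M := by
  have hp : p.Prime := Fact.out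
  by_contra hns
  -- `p` is odd
  have hP1 : P ≠ ⊥ := by
    rintro rfl
    apply hPna
    exact ⟨⟨fun a b => by
      have ha : a = 1 := Subtype.ext (Subgroup.mem_bot.mp a.2)
      have hb : b = 1 := Subtype.ext (Subgroup.mem_bot.mp b.2)
      rw [ha, hb]⟩⟩
  have hpd : p ∣ Nat.card G := by
    haveI : Nontrivial ↥P := (Subgroup.nontrivial_iff_ne_bot P).mpr hP1
    obtain ⟨n, hn0, hn⟩ := hP.nontrivial_iff_card.mp inferInstance
    have : p ∣ Nat.card ↥P := by rw [hn]; exact dvd_pow_self _ (ne_of_gt hn0)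
    exact this.trans (Subgroup.card_subgroup_dvd_card P)
  have hodd : Odd p := by
    rcases hp.eq_two_or_odd' with h2 | h2
    · exfalso
      rw [h2] at hpd
      exact (Nat.not_even_iff_odd.mpr hG.1) (even_iff_two_dvd.mpr hpd)
    · exact h2
  by_cases h1 : PRankLE p 1 ↥M
  · -- rank one: cyclic
    have h1P : PRankLE p 1 ↥P :=
      Cfsg.Agent.Helper7.BG12.pRankLE_of_injective (Subgroup.inclusion hPM)
        (Subgroup.inclusion_injective hPM) h1
    have hc : IsCyclic ↥P := Cfsg.Agent.Helper7.BG12.isCyclic_of_pRankLE_one hodd hP h1P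
    apply hPna
    exact ⟨⟨fun a b => by
      letI := hc.commGroup
      exact mul_comm a b⟩⟩
  · by_cases h2 : PRankLE p 2 ↥M
    · -- rank two: Sylow subgroups abelian
      have ht : p ∈ tau2 M := ⟨hp, hns, h2, h1⟩
      obtain ⟨A, hAM, hAe, hAc⟩ := exists_elemAb_sq h2 h1
      have hPp : IsPGroup p ↥(P.subgroupOf M) := hP.comap_subtype
      obtain ⟨S, hS⟩ := hPp.exists_le_sylow
      exact hPna (comm_of_le_commutative hPM (h17 M hM p ht A ⟨hAM, hAe, hAc⟩ S) hS)
    · exact hns (alpha_subset_sigma hG hU hM ⟨hp, h2⟩)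

/-- a `p`-subgroup of `M` with `p ∈ σ(M)` lies in `M_σ`, given that `M_σ` is a Hall subgroup -/
theorem le_sigmaCore_of_isPGroup {M : Subgroup G}
    (hH : IsPiHallOf (sigma M) (sigmaCore M) M) {p : ℕ} [Fact p.Prime] (hpσ : p ∈ sigma M)
    {P : Subgroup G} (hP : IsPGroup p P) (hPM : P ≤ M) : P ≤ sigmaCore M := by
  have hp : p.Prime := Fact.out
  have h3 : (sigmaCore M).relIndex M = (piCore (sigma M) ↥M).index := by
    unfold sigmaCore relIndex subgroupOf
    rw [comap_map_eq_self_of_injective M.subtype_injective]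
  have hnd : ¬ p ∣ (piCore (sigma M) ↥M).index := by
    rw [← h3]
    exact hH.2.2 p hp hpσ
  have hPp : IsPGroup p ↥(P.subgroupOf M) := hP.comap_subtype
  obtain ⟨k, hk⟩ := hPp.exists_card_eq
  have hcop : (Nat.card ↥(P.subgroupOf M)).Coprime (piCore (sigma M) ↥M).index := by
    rw [hk]
    exact Nat.Coprime.pow_left k ((Nat.Prime.coprime_iff_not_dvd hp).mpr hnd)
  have hle := Cfsg.Agent.Helper7.BG12.le_of_coprime_card_index (piCore (sigma M) ↥M)
    (P.subgroupOf M) hcop
  intro x hx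
  unfold sigmaCore
  exact ⟨⟨x, hPM hx⟩, hle (by rw [mem_subgroupOf]; exact hx), rfl⟩

/-- a nonabelian `p`-group has an element of order `p` in `P' ∩ Z(P)` -/
theorem exists_central_commutator {p : ℕ} [Fact p.Prime] {P : Subgroup G} (hP : IsPGroup p P)
    (hPna : ¬ IsMulCommutative P) :
    ∃ x : G, x ∈ ⁅P, P⁆ ∧ x ∈ centralizer (P : Set G) ∧ orderOf x = p := by
  have hne : _root_.commutator ↥P ≠ ⊥ := by
    intro h
    apply hPna
    refine ⟨⟨fun a b => ?_⟩⟩
    have : (⁅a, b⁆ : ↥P) ∈ _root_.commutator ↥P := by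
      rw [_root_.commutator_def]
      exact commutator_mem_commutator (mem_top a) (mem_top b)
    rw [h, mem_bot, commutatorElement_eq_one_iff_mul_comm] at this
    exact this
  have hW := Cfsg.Agent.Helper19.normal_inf_center_ne_bot hP (_root_.commutator ↥P) hne
  have hWp : IsPGroup p ↥(_root_.commutator ↥P ⊓ center ↥P) := hP.to_subgroup _
  haveI : Nontrivial ↥(_root_.commutator ↥P ⊓ center ↥P) :=
    (Subgroup.nontrivial_iff_ne_bot _).mpr hW
  obtain ⟨n, hn0, hn⟩ := hWp.nontrivial_iff_card.mp inferInstance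
  have hd : p ∣ Nat.card ↥(_root_.commutator ↥P ⊓ center ↥P) := by
    rw [hn]; exact dvd_pow_self _ (ne_of_gt hn0)
  obtain ⟨w, hw⟩ := exists_prime_orderOf_dvd_card' p hd
  refine ⟨((w : ↥P) : G), ?_, ?_, ?_⟩
  · have h1 : (w : ↥P) ∈ _root_.commutator ↥P := w.2.1
    have h2 : ((w : ↥P) : G) ∈ (_root_.commutator ↥P).map P.subtype := ⟨_, h1, rfl⟩
    have hmap : (_root_.commutator ↥P).map P.subtype = ⁅P, P⁆ := by
      rw [_root_.commutator_def, map_commutator, ← MonoidHom.range_eq_map, Subgroup.range_subtype]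
    rw [hmap] at h2
    exact h2
  · have h1 : (w : ↥P) ∈ center ↥P := w.2.2
    rw [mem_center_iff] at h1
    rw [mem_centralizer_iff]
    intro y hy
    have := h1 ⟨y, hy⟩
    exact congrArg (fun z : ↥P => (z : G)) this
  · rw [Subgroup.orderOf_coe, Subgroup.orderOf_coe, hw]

/-- the statement of S1422 from the statements of S1350, S1403, S1417, S1423 -/
theorem nonabelian_inUniqueMaximal (hG : IsMinSimpleOddOrder G) (hU : UniqThm G) (h50 : H1350 G)
    (h17 : H1417 G) (h23 : H1423 G) (p : ℕ) [Fact p.Prime] (P : Subgroup G) (hP : IsPGroup p P)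
    (hPna : ¬ IsMulCommutative P) : InUniqueMaximal P := by
  have hp : p.Prime := Fact.out
  obtain ⟨x, hxc, hxz, hxo⟩ := exists_central_commutator hP hPna
  have hXc : Nat.card ↥(zpowers x) = p := by rw [Nat.card_zpowers, hxo]
  -- key: every maximal subgroup over `P` is the unique one over `C_G(x)`
  have key : ∀ M : Subgroup G, IsCoatom M → P ≤ M →
      (centralizer ((zpowers x : Subgroup G) : Set G) ≤ M ∧
        ∀ L : Subgroup G, IsCoatom L → centralizer ((zpowers x : Subgroup G) : Set G) ≤ L → L = M) := by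
    intro M hM hPM
    have hpσ : p ∈ sigma M := mem_sigma_of_nonabelian hG hU h17 hM hP hPna hPM
    have hPσ : P ≤ sigmaCore M := le_sigmaCore_of_isPGroup (h50 M hM).1 hpσ hP hPM
    have hxP : x ∈ P := by
      have h1 : ⁅P, P⁆ ≤ P := by
        rw [commutator_le]
        intro a ha b hb
        exact P.mul_mem (P.mul_mem (P.mul_mem ha hb) (P.inv_mem ha)) (P.inv_mem hb)
      exact h1 hxc
    have hXM : zpowers x ≤ M := by
      rw [zpowers_le]
      exact hPM hxP
    have hXd : zpowers x ≤ ⁅sigmaCore M, sigmaCore M⁆ := by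
      rw [zpowers_le]
      exact commutator_mono hPσ hPσ hxc
    exact h23 M hM p hpσ (zpowers x) hXM hXc hXd
  have hPC : P ≤ centralizer ((zpowers x : Subgroup G) : Set G) := by
    intro y hy
    rw [mem_centralizer_iff]
    intro z hz
    obtain ⟨k, rfl⟩ := mem_zpowers_iff.mp hz
    have h1 : x * y = y * x := by
      rw [mem_centralizer_iff] at hxz
      exact (hxz y hy).symm
    exact ((Commute.zpow_left (show Commute x y from h1) k).eq)
  have hPtop : P ≠ ⊤ := Cfsg.Agent.Helper14.BGTrans.ne_top_of_isPGroup hG hP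
  obtain ⟨M, hM, hPM⟩ := (eq_top_or_exists_le_coatom P).resolve_left hPtop
  refine ⟨M, ⟨hM, hPM⟩, ?_⟩
  rintro L ⟨hL, hPL⟩
  exact (key M hM hPM).2 L hL (key L hL hPL).1

end Cfsg.Agent.Helper5.BG1222
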