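import Mathlib

/-!
# S0720, piece PRIMNE (helper5): the core argument, for an abstract invariant hermitian idempotent kernel
-/

set_option autoImplicit false

namespace Cfsg.Agent.Helper22.W2P.PRIMNE

open scoped ComplexConjugate

universe u v

variable {G : Type u} [Group G] {Ω : Type v} [Fintype Ω] [MulAction G Ω]

/-- the relation "the columns of `k` at `x` and `x'` agree up to sign". -/
def Rel (k : Ω → Ω → ℂ) (x x' : Ω) : Prop :=
  (∀ z, k z x = k z x') ∨ (∀ z, k z x = -k z x')

theorem rel_refl (k : Ω → Ω → ℂ) (x : Ω) : Rel k x x := Or.inl fun _ => rfl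

theorem rel_symm {k : Ω → Ω → ℂ} {x x' : Ω} (h : Rel k x x') : Rel k x' x := by
  rcases h with h | h
  · exact Or.inl fun z => (h z).symm
  · exact Or.inr fun z => by rw [h z, neg_neg]

theorem rel_trans {k : Ω → Ω → ℂ} {x x' x'' : Ω} (h : Rel k x x') (h' : Rel k x' x'') :
    Rel k x x'' := by
  rcases h with h | h <;> rcases h' with h' | h'
  · exact Or.inl fun z => by rw [h z, h' z]
  · exact Or.inr fun z => by rw [h z, h' z]
  · exact Or.inr fun z => by rw [h z, h' z]
  · exact Or.inl fun z => by rw [h z, h' z, neg_neg]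

theorem rel_smul {k : Ω → Ω → ℂ} (hsmul : ∀ (g : G) (x y : Ω), k (g • x) (g • y) = k x y)
    (g : G) {x x' : Ω} (h : Rel k x x') : Rel k (g • x) (g • x') := by
  have key : ∀ z y, k z (g • y) = k (g⁻¹ • z) y := by
    intro z y
    have := hsmul g (g⁻¹ • z) y
    rwa [smul_inv_smul] at this
  rcases h with h | h
  · exact Or.inl fun z => by rw [key, key, h]
  · exact Or.inr fun z => by rw [key, key, h]

/-- the class of `a₀` is a block. -/
theorem isBlock_rel {k : Ω → Ω → ℂ}
    (hsmul : ∀ (g : G) (x y : Ω), k (g • x) (g • y) = k x y) (a₀ : Ω) :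
    MulAction.IsBlock G {x : Ω | Rel k x a₀} := by
  rw [MulAction.isBlock_iff_smul_eq_of_mem]
  intro g a ha hga
  simp only [Set.mem_setOf_eq] at ha hga
  have h1 : Rel k (g • a₀) a₀ := rel_trans (rel_symm (rel_smul hsmul g ha)) hga
  ext x
  rw [Set.mem_smul_set_iff_inv_smul_mem]
  simp only [Set.mem_setOf_eq]
  constructor
  · intro h
    have h2 := rel_smul hsmul g h
    rw [smul_inv_smul] at h2
    exact rel_trans h2 h1
  · intro h
    have h2 : Rel k x (g • a₀) := rel_trans h (rel_symm h1)
    have h3 := rel_smul hsmul g⁻¹ h2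
    rwa [inv_smul_smul] at h3

/-- the core of PRIMNE. -/
theorem core (hprim : MulAction.IsPreprimitive G Ω) (k : Ω → Ω → ℂ)
    (hsmul : ∀ (g : G) (x y : Ω), k (g • x) (g • y) = k x y)
    (hmul : ∀ x y : Ω, ∑ z, k x z * k z y = k x y)
    (hconj : ∀ x y : Ω, k y x = conj (k x y))
    (hdiag : ∀ x : Ω, k x x = 1 / 2) (hcard : 2 < Fintype.card Ω)
    (a₀ y : Ω) (hy : y ≠ a₀) : k a₀ y ≠ -1 / 2 := by
  intro hk
  have hhalf : conj ((1 : ℂ) / 2) = 1 / 2 := by
    have : ((1 : ℂ) / 2) = ((1 / 2 : ℝ) : ℂ) := by push_cast; ring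
    rw [this, Complex.conj_ofReal]
  have hk' : k y a₀ = -1 / 2 := by
    rw [hconj a₀ y, hk, neg_div, map_neg, hhalf]
  -- the columns at `a₀` and `y` are opposite
  have hsum : ∑ z, (k z a₀ + k z y) * conj (k z a₀ + k z y) = 0 := by
    have e : ∀ z, (k z a₀ + k z y) * conj (k z a₀ + k z y) =
        k a₀ z * k z a₀ + k y z * k z a₀ + k a₀ z * k z y + k y z * k z y := by
      intro z
      rw [map_add, ← hconj z a₀, ← hconj z y]; ring
    rw [Finset.sum_congr rfl (fun z _ => e z)]
    simp only [Finset.sum_add_distrib]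
    rw [hmul, hmul, hmul, hmul, hdiag, hdiag, hk, hk']
    norm_num
  have hzero : ∀ z, k z a₀ + k z y = 0 := by
    intro z
    have hnn : ∀ z ∈ (Finset.univ : Finset Ω),
        0 ≤ ((k z a₀ + k z y) * conj (k z a₀ + k z y)).re := by
      intro z _
      rw [Complex.mul_conj]
      simp [Complex.normSq_nonneg]
    have hre : ∑ z, ((k z a₀ + k z y) * conj (k z a₀ + k z y)).re = 0 := by
      rw [← Complex.re_sum, hsum]; rfl
    have := (Finset.sum_eq_zero_iff_of_nonneg hnn).1 hre z (Finset.mem_univ z)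
    rw [Complex.mul_conj] at this
    have h2 : Complex.normSq (k z a₀ + k z y) = 0 := by exact_mod_cast this
    exact Complex.normSq_eq_zero.1 h2
  have hrel : Rel k y a₀ := Or.inr fun z => by
    have := hzero z
    linear_combination this
  -- the class of `a₀` is a nontrivial block, hence everything
  have hB := hprim.isTrivialBlock_of_isBlock (isBlock_rel hsmul a₀ (k := k))
  have hall : ∀ x : Ω, Rel k x a₀ := by
    rcases hB with hB | hB
    · exfalso
      exact hy (hB (show y ∈ {x : Ω | Rel k x a₀} from hrel)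
        (show a₀ ∈ {x : Ω | Rel k x a₀} from rel_refl k a₀))
    · intro x
      have : x ∈ {x : Ω | Rel k x a₀} := by rw [hB]; exact Set.mem_univ x
      exact this
  -- all entries of the column at `a₀` have absolute value `1/2`
  have habs : ∀ x : Ω, k a₀ x * k x a₀ = 1 / 4 := by
    intro x
    have hx : k x a₀ = 1 / 2 ∨ k x a₀ = -(1 / 2) := by
      rcases hall x with h | h
      · left; rw [← h x, hdiag]
      · right; rw [← hdiag x, h x, neg_neg]
    have hc : k a₀ x = conj (k x a₀) := hconj x a₀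
    rcases hx with h | h
    · rw [hc, h, hhalf]; norm_num
    · rw [hc, h, map_neg, hhalf]; norm_num
  have h1 := hmul a₀ a₀
  rw [Finset.sum_congr rfl (fun x _ => habs x), Finset.sum_const, Finset.card_univ, hdiag,
    nsmul_eq_mul] at h1
  have h2 : (Fintype.card Ω : ℂ) = 2 := by linear_combination 4 * h1
  have h3 : Fintype.card Ω = 2 := by exact_mod_cast h2
  omega

end Cfsg.Agent.Helper22.W2P.PRIMNE
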