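import Mathlib
import Cfsg.Agent.Lib.Helper22.W2PDefs
import Cfsg.Agent.Lib.Helper24.CharComplete
import Cfsg.Agent.Lib.Helper20.W2PKER
import Cfsg.Agent.Lib.Helper24.W2PMULT
import Cfsg.Agent.Lib.Helper5.W2PPRIMNECore

/-!
# S0720, piece PRIMNE (helper5)
-/

set_option autoImplicit false
set_option linter.unusedSectionVars false

namespace Cfsg.Agent.Helper22.W2P

open Cfsg Cfsg.Agent.Helper22.PermCent Cfsg.Agent.Helper24

open scoped ComplexConjugate

universe u v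

variable {G : Type u} [Group G] [Fintype G] {Ω : Type v} [Fintype Ω] [DecidableEq Ω]
  [MulAction G Ω]

variable {p : ℕ} [Fact p.Prime] {π : G} {χ₁ ψ ψ' : G → ℂ}

/-- PIECE PRIMNE (F9). -/
theorem prim_ne (C : Ctx2 Ω p π χ₁ ψ ψ') (hΩ : Fintype.card Ω = 2 * p) (a₀ y : Ω) (hy : y ≠ a₀) :
    K χ₁ a₀ y ≠ -1 / 2 := by
  have hpp : p.Prime := Fact.out
  haveI : MulAction.IsPretransitive G Ω := C.prim.toIsPretransitive
  obtain ⟨h1, -, -, -, -⟩ := ctx_mult C hΩ
  have hp0 : (p : ℂ) ≠ 0 := by exact_mod_cast hpp.pos.ne'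
  refine PRIMNE.core C.prim (K χ₁)
    (fun g x y => K_smul (isClassFunction_of_isIrrCharacter C.irr₁) g x y)
    (fun x y => by rw [K_mul C.irr₁ C.irr₁, if_pos rfl])
    (fun x y => K_conj C.irr₁ x y)
    (fun x => by
      rw [K_diag C.irr₁ h1, C.deg₁, hΩ]
      push_cast
      field_simp)
    (by rw [hΩ]; have := hpp.two_le; omega) a₀ y hy

end Cfsg.Agent.Helper22.W2P
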