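import Mathlib
import Cfsg.Agent.Lib.Helper16.SpUDefs

/-!
# S2316, piece SPU-REV (helper5): block-reversing permutations
-/

set_option autoImplicit false
set_option linter.unusedSectionVars false
set_option linter.unusedVariables false

namespace Cfsg.Agent.Helper16.SpU

open Matrix Cfsg.Agent.Helper6.SpN Cfsg.Agent.Helper13.SpBN

section comb
variable {m : ℕ} (A : Set (Fin m))

/-- auxiliary induction for `rev_lt` -/
theorem spu_rev_aux (ρ : Equiv.Perm (Fin m ⊕ Fin m))
    (hinv : ∀ a b, key b = key a + 1 → lnk A (key a) → key (ρ b) < key (ρ a))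
    (c : Fin m ⊕ Fin m) :
    ∀ (k : ℕ) (d : Fin m ⊕ Fin m), key d = key c + k + 1 → blk A c d → key (ρ d) < key (ρ c) := by
  intro k
  induction k with
  | zero =>
    intro d hd hcd
    have hl : lnk A (key c) := by
      apply hcd (key c)
      · rw [min_eq_left (by omega)]
      · rw [max_eq_right (by omega)]; omega
    exact hinv c d (by omega) hl
  | succ k ih =>
    intro d hd hcd
    have hdlt := key_lt d
    obtain ⟨e, he⟩ := exists_key_eq (m := m) (k := key c + k + 1) (by omega)
    have hce : blk A c e := blk_of_between A hcd le_rfl (by omega) (by omega)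
    have h1 : key (ρ e) < key (ρ c) := ih e he hce
    have hl : lnk A (key e) := by
      apply hcd (key e)
      · rw [min_eq_left (by omega)]; omega
      · rw [max_eq_right (by omega)]; omega
    have h2 : key (ρ d) < key (ρ e) := hinv e d (by omega) hl
    omega

/-- PIECE SPU-REV (1): inverting every linked adjacent pair reverses each block. -/
theorem rev_lt (ρ : Equiv.Perm (Fin m ⊕ Fin m))
    (hinv : ∀ a b, key b = key a + 1 → lnk A (key a) → key (ρ b) < key (ρ a))
    {c d : Fin m ⊕ Fin m} (hcd : blk A c d) (hlt : key c < key d) : key (ρ d) < key (ρ c) := by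
  exact spu_rev_aux A ρ hinv c (key d - key c - 1) d (by omega) hcd

/-- PIECE SPU-REV (2): the inversions at the simple roots of `A` give the inversions at all linked
adjacent pairs. -/
theorem hinv_of_desc (ρ : Equiv.Perm (Fin m ⊕ Fin m)) (hng : ∀ a, ρ (ng a) = ng (ρ a))
    (hdesc : ∀ i ∈ A, key (ρ (rb i)) < key (ρ (ra i))) :
    ∀ a b, key b = key a + 1 → lnk A (key a) → key (ρ b) < key (ρ a) := by
  intro a b hab hl
  obtain ⟨hlt, i, hiA, hi⟩ := hl
  have hd := hdesc i hiA
  unfold lidx at hi
  by_cases hk : key a < m
  · rw [if_pos hk] at hi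
    have ha : a = ra i := key_injective (by rw [key_ra]; exact hi.symm)
    have hb : b = rb i := key_injective (by rw [key_rb, hab, hi])
    rw [ha, hb]
    exact hd
  · rw [if_neg hk] at hi
    have ha : ng a = rb i := key_injective (by rw [key_ng, key_rb]; omega)
    have hb : ng b = ra i := key_injective (by rw [key_ng, key_ra]; omega)
    have ha' : a = ng (rb i) := by rw [← ha, ng_ng]
    have hb' : b = ng (ra i) := by rw [← hb, ng_ng]
    rw [ha', hb', hng, hng, key_ng, key_ng]
    have h1 := key_lt (ρ (rb i))
    have h2 := key_lt (ρ (ra i))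
    omega

end comb

end Cfsg.Agent.Helper16.SpU
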