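import Mathlib
import Cfsg.Agent.Lib.Helper16.TC648Defs
import Cfsg.Agent.Lib.Helper16.TC648Core

/-!
# S3702 piece INTJ (helper5): the multiplicity of `1_J` in `χ|_J`
-/

set_option autoImplicit false
set_option linter.unusedSectionVars false
set_option linter.unusedVariables false

namespace Cfsg.Agent.Helper16.TC648

open Cfsg Cfsg.Agent.Helper24
open scoped ComplexConjugate

universe u

section Pieces

variable {G : Type u} [Group G]

/-- the homomorphism `ZMod 3 → G`, `i ↦ t^i`, for `t^3 = 1` -/
def intj_pow (t : G) (ht : t ^ 3 = 1) : Multiplicative (ZMod 3) →* G :=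
  MonoidHom.mk' (fun x => t ^ (Multiplicative.toAdd x).val) (by
    intro a b
    show t ^ (Multiplicative.toAdd a + Multiplicative.toAdd b).val = _
    rw [ZMod.val_add, ← pow_eq_pow_mod _ ht, pow_add])

theorem intj_pow_apply (t : G) (ht : t ^ 3 = 1) (x : Multiplicative (ZMod 3)) :
    intj_pow t ht x = t ^ (Multiplicative.toAdd x).val := rfl

/-- the model homomorphism `(ZMod 3)³ → G` onto the words -/
def intj_hom (C : Cfg G) :
    (Multiplicative (ZMod 3) × Multiplicative (ZMod 3)) × Multiplicative (ZMod 3) →* G :=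
  MonoidHom.noncommCoprod
    (MonoidHom.noncommCoprod (intj_pow C.t1 C.rel.o1) (intj_pow C.t2 C.rel.o2)
      (fun a b => by
        rw [intj_pow_apply, intj_pow_apply]
        exact (show Commute C.t1 C.t2 from C.rel.c12).pow_pow _ _))
    (intj_pow C.t3 C.rel.o3)
    (fun ab c => by
      rw [MonoidHom.noncommCoprod_apply, intj_pow_apply, intj_pow_apply, intj_pow_apply]
      exact ((show Commute C.t1 C.t3 from C.rel.c13).pow_pow _ _).mul_left
        ((show Commute C.t2 C.t3 from C.rel.c23).pow_pow _ _))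

theorem intj_hom_apply (C : Cfg G) (i j k : Fin 3) :
    intj_hom C ((Multiplicative.ofAdd (i : ZMod 3), Multiplicative.ofAdd (j : ZMod 3)),
      Multiplicative.ofAdd (k : ZMod 3)) = C.wJ i j k := by
  unfold intj_hom Cfg.wJ
  rw [MonoidHom.noncommCoprod_apply, MonoidHom.noncommCoprod_apply]
  rfl

/-- PIECE INTJ: the multiplicity of `1_J` in `χ|_J` -/
theorem int_J (C : Cfg G) {χ : G → ℂ} (hχ : IsCharacter G χ) :
    ∃ n : ℕ, (n : ℂ) * 27 = ∑ i : Fin 3, ∑ j : Fin 3, ∑ k : Fin 3, χ (C.wJ i j k) := by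
  classical
  let M := (Multiplicative (ZMod 3) × Multiplicative (ZMod 3)) × Multiplicative (ZMod 3)
  let _ : Fintype (IrrCharacter M) := irrFintype
  have hc : IsCharacter M (χ ∘ intj_hom C) := isCharacter_comp (intj_hom C) hχ
  have h1 : IsCharacter M (fun _ => (1 : ℂ)) := isCharacter_of_isIrrCharacter isIrrCharacter_one
  obtain ⟨n, hn⟩ := classInner_char_nat hc h1
  refine ⟨n, ?_⟩
  unfold classInner at hn
  have hM : Nat.card M = 27 := by
    rw [Nat.card_eq_fintype_card]
    simp [M, Fintype.card_prod, ZMod.card]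
  rw [hM] at hn
  have e1 : ∑ x : M, χ (intj_hom C x) = (n : ℂ) * 27 := by
    rw [← hn]
    simp only [Function.comp_apply, map_one, mul_one]
    push_cast
    field_simp
  rw [← e1]
  rw [Fintype.sum_prod_type, Fintype.sum_prod_type]
  have key : ∀ f : Multiplicative (ZMod 3) → ℂ,
      ∑ a : Multiplicative (ZMod 3), f a = ∑ i : Fin 3, f (Multiplicative.ofAdd (i : ZMod 3)) := by
    intro f
    exact Fintype.sum_equiv (Multiplicative.toAdd) _ _ (fun a => rfl)
  rw [key]
  refine Finset.sum_congr rfl fun i _ => ?_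
  rw [key]
  refine Finset.sum_congr rfl fun j _ => ?_
  rw [key]
  refine Finset.sum_congr rfl fun k _ => ?_
  rw [intj_hom_apply]

end Pieces

end Cfsg.Agent.Helper16.TC648
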