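import Mathlib
import Cfsg.Agent.Lib.Helper10.EODefs
import Cfsg.Agent.Lib.Helper5.EOSTAR2
import Cfsg.Agent.Lib.Helper4.AOP2C

/-!
# AO-P2A (S2262, helper17; piece by helper5): `ν = μ * μ^σ` for an involutive field automorphism `σ`
and a monic `μ` with `star μ = μ^σ`: `ν` is monic, self-reciprocal and `σ`-invariant.
-/

set_option autoImplicit false

namespace Cfsg.Agent.Helper17.AO

open Polynomial Matrix
open Cfsg.Agent.Helper10.EO (star)

section poly
variable {F : Type*} [Field F]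

/-- `σ ∘ σ = id` for an involutive automorphism -/
theorem ao_p2a_comp (σ : RingAut F) (hσ2 : σ ^ 2 = 1) :
    (σ : F →+* F).comp (σ : F →+* F) = RingHom.id F := by
  ext x
  have h : (σ ^ 2) x = x := by rw [hσ2]; rfl
  rw [pow_two] at h
  exact h

/-- mapping twice along an involutive automorphism -/
theorem ao_p2a_map_map (σ : RingAut F) (hσ2 : σ ^ 2 = 1) (μ : F[X]) :
    (μ.map (σ : F →+* F)).map (σ : F →+* F) = μ := by
  rw [Polynomial.map_map, ao_p2a_comp σ hσ2, Polynomial.map_id]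

/-- AO-P2A -/
theorem nu_props (σ : RingAut F) (hσ2 : σ ^ 2 = 1) (μ : F[X]) (hμ : μ.Monic)
    (h0 : μ.coeff 0 ≠ 0) (hstar : star μ = μ.map (σ : F →+* F)) :
    (μ * μ.map (σ : F →+* F)).Monic ∧ (μ * μ.map (σ : F →+* F)).coeff 0 ≠ 0 ∧
      star (μ * μ.map (σ : F →+* F)) = μ * μ.map (σ : F →+* F) ∧
      (μ * μ.map (σ : F →+* F)).map (σ : F →+* F) = μ * μ.map (σ : F →+* F) ∧
      (μ * μ.map (σ : F →+* F)).natDegree = 2 * μ.natDegree := by
  have hμσ : (μ.map (σ : F →+* F)).Monic := hμ.map _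
  have h0σ : (μ.map (σ : F →+* F)).coeff 0 ≠ 0 := by
    rw [Polynomial.coeff_map]
    intro h
    apply h0
    have h' : (σ : F →+* F) (μ.coeff 0) = (σ : F →+* F) 0 := by rw [h, map_zero]
    exact (σ : F →+* F).injective h'
  refine ⟨hμ.mul hμσ, ?_, ?_, ?_, ?_⟩
  · rw [Polynomial.mul_coeff_zero]
    exact mul_ne_zero h0 h0σ
  · rw [Cfsg.Agent.Helper10.EO.star_mul_irreducible.1 μ _ h0 h0σ, star_map, hstar,
      ao_p2a_map_map σ hσ2, mul_comm]
  · rw [Polynomial.map_mul, ao_p2a_map_map σ hσ2, mul_comm]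
  · rw [hμ.natDegree_mul hμσ, Polynomial.natDegree_map, two_mul]

end poly

end Cfsg.Agent.Helper17.AO
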