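import Mathlib

/-!
# Auxiliary lemmas in characteristic `p` (helper5): orbit sums and fixed vectors of `p`-groups
-/

set_option autoImplicit false

namespace Cfsg.Agent.Helper5.Green

universe u v

section OrbitSum

variable {p : ℕ} [Fact p.Prime] {K : Type*} [CommRing K]

/-- **Fixed-point congruence in characteristic `p`**: the sum of an invariant function over a
finite set on which a `p`-group acts vanishes as soon as the function vanishes at the fixed
points. -/
theorem sum_eq_zero_of_invariant (hp : (p : K) = 0) {Q : Type*} [Group Q]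
    (hQ : IsPGroup p Q) {X : Type*} [Fintype X] [MulAction Q X] (f : X → K)
    (hinv : ∀ (q : Q) (x : X), f (q • x) = f x)
    (hfix : ∀ x, (∀ q : Q, q • x = x) → f x = 0) :
    ∑ x, f x = 0 := by
  classical
  have h1 : ∑ x, f x = ∑ ω : Quotient (MulAction.orbitRel Q X),
      ∑ x ∈ Finset.univ.filter (fun x => (Quotient.mk (MulAction.orbitRel Q X) x) = ω), f x := by
    rw [Finset.sum_fiberwise]
  rw [h1]
  apply Finset.sum_eq_zero
  intro ω _
  induction ω using Quotient.inductionOn with
  | h x₀ =>
    have hmem : ∀ x, x ∈ Finset.univ.filter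
        (fun x => (Quotient.mk (MulAction.orbitRel Q X) x) =
          Quotient.mk (MulAction.orbitRel Q X) x₀) ↔ x ∈ MulAction.orbit Q x₀ := by
      intro x
      rw [Finset.mem_filter, Quotient.eq]
      simp only [Finset.mem_univ, true_and]
      exact MulAction.orbitRel_apply
    have hval : ∀ x ∈ Finset.univ.filter
        (fun x => (Quotient.mk (MulAction.orbitRel Q X) x) =
          Quotient.mk (MulAction.orbitRel Q X) x₀), f x = f x₀ := by
      intro x hx
      obtain ⟨q, rfl⟩ := (hmem x).1 hx
      exact hinv q x₀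
    rw [Finset.sum_congr rfl hval, Finset.sum_const, nsmul_eq_mul]
    have hcard : (Finset.univ.filter
        (fun x => (Quotient.mk (MulAction.orbitRel Q X) x) =
          Quotient.mk (MulAction.orbitRel Q X) x₀)).card = Nat.card (MulAction.orbit Q x₀) := by
      rw [Nat.card_eq_fintype_card, Fintype.card_of_subtype]
      exact hmem
    rw [hcard]
    obtain ⟨k, hk⟩ := hQ.card_orbit x₀
    rw [hk]
    rcases k with _ | k
    · rw [pow_zero, Nat.cast_one, one_mul]
      apply hfix
      intro q
      rw [pow_zero] at hk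
      have hsub := (Nat.card_eq_one_iff_unique.1 hk).1
      have := @Subsingleton.elim _ hsub
        (⟨q • x₀, MulAction.mem_orbit _ _⟩ : MulAction.orbit Q x₀)
        ⟨x₀, MulAction.mem_orbit_self _⟩
      exact congrArg Subtype.val this
    · rw [Nat.cast_pow, pow_succ, hp, mul_zero, zero_mul]

variable {G : Type u} [Group G] [Fintype G]

/-- Conjugation version: a function on `G` invariant under conjugation by the `p`-subgroup `Q`
has the same sum as its restriction to the centralizer of `Q`. -/
theorem sum_eq_sum_fixed (hp : (p : K) = 0) (Q : Subgroup G) (hQ : IsPGroup p Q) (F : G → K)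
    (hinv : ∀ q ∈ Q, ∀ y : G, F (q * y * q⁻¹) = F y) :
    ∑ y, F y = ∑ y, (open Classical in if (∀ q ∈ Q, q * y * q⁻¹ = y) then F y else 0) := by
  classical
  letI : MulAction Q G := MulAction.compHom G ((MulAut.conj : G →* MulAut G).comp Q.subtype)
  have hsmul : ∀ (q : Q) (x : G), q • x = (q : G) * x * (q : G)⁻¹ := fun q x => rfl
  have hfixinv : ∀ (q' : Q) (y : G), (∀ q ∈ Q, q * (q' • y) * q⁻¹ = q' • y) ↔
      (∀ q ∈ Q, q * y * q⁻¹ = y) := by
    intro q' y
    rw [hsmul]
    constructor
    · intro h q hq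
      have h1 := h ((q' : G) * q * (q' : G)⁻¹) (Q.mul_mem (Q.mul_mem q'.2 hq) (Q.inv_mem q'.2))
      have h2 : (q' : G) * (q * y * q⁻¹) * (q' : G)⁻¹ = (q' : G) * y * (q' : G)⁻¹ := by
        rw [← h1]
        group
      exact mul_left_cancel (mul_right_cancel h2)
    · intro h q hq
      have h1 := h ((q' : G)⁻¹ * q * (q' : G)) (Q.mul_mem (Q.mul_mem (Q.inv_mem q'.2) hq) q'.2)
      have e1 : q * ((q' : G) * y * (q' : G)⁻¹) * q⁻¹ =
          (q' : G) * (((q' : G)⁻¹ * q * (q' : G)) * y * ((q' : G)⁻¹ * q * (q' : G))⁻¹) *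
            (q' : G)⁻¹ := by group
      rw [e1, h1]
  have h0 : ∑ y, (F y - (if (∀ q ∈ Q, q * y * q⁻¹ = y) then F y else 0)) = 0 := by
    apply sum_eq_zero_of_invariant hp hQ
    · intro q y
      have hF : F (q • y) = F y := by
        rw [hsmul]
        exact hinv q q.2 y
      by_cases hy : ∀ q ∈ Q, q * y * q⁻¹ = y
      · rw [if_pos hy, if_pos ((hfixinv q y).2 hy), hF]
      · rw [if_neg hy, if_neg (fun h => hy ((hfixinv q y).1 h)), hF]
    · intro y hy
      have hy' : ∀ q ∈ Q, q * y * q⁻¹ = y := by
        intro q hq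
        have := hy ⟨q, hq⟩
        rw [hsmul] at this
        exact this
      rw [if_pos hy', sub_self]
  rw [Finset.sum_sub_distrib, sub_eq_zero] at h0
  exact h0

end OrbitSum

section FixedVector

variable {p : ℕ} [Fact p.Prime] {K : Type*} [Field K]

/-- `K` has characteristic `p`. -/
theorem charP_of_cast_eq_zero (hp : (p : K) = 0) : CharP K p := by
  obtain ⟨q, hq⟩ := CharP.exists K
  have hdvd : q ∣ p := (CharP.cast_eq_zero_iff K q p).1 hp
  rcases (Nat.dvd_prime (Fact.out : p.Prime)).1 hdvd with h | h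
  · exact absurd h (CharP.char_ne_one K q)
  · rwa [h] at hq

variable {R : Type u} [Group R] [Finite R] {E : Type v} [AddCommGroup E] [Module K E]

/-- For `g` in a `p`-group acting linearly in characteristic `p`, the operator `ρ g - 1` is
nilpotent. -/
theorem exists_pow_sub_one_eq_zero (hp : (p : K) = 0) (hR : IsPGroup p R)
    (ρ : R →* (E →ₗ[K] E)) (g : R) : ∃ n : ℕ, (ρ g - 1) ^ n = 0 := by
  haveI : CharP K p := charP_of_cast_eq_zero hp
  obtain ⟨k, hk⟩ := hR g
  refine ⟨p ^ k, ?_⟩
  have hpoly : ((Polynomial.X : Polynomial K) - 1) ^ p ^ k = Polynomial.X ^ p ^ k - 1 := by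
    rw [sub_pow_char_pow, one_pow]
  have h := congrArg (Polynomial.aeval (ρ g)) hpoly
  simp only [map_pow, map_sub, Polynomial.aeval_X, map_one] at h
  rw [h, ← map_pow, hk, map_one, sub_self]

/-- **Fixed vectors**: a finite `p`-group acting linearly on a nonzero vector space in
characteristic `p` fixes a nonzero vector.  Version relative to a subgroup, by induction. -/
theorem exists_fixed_vector_aux (hp : (p : K) = 0) (hR : IsPGroup p R)
    (ρ : R →* (E →ₗ[K] E)) :
    ∀ (n : ℕ) (R' : Subgroup R), Nat.card R - Nat.card R' ≤ n →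
      (∃ w : E, w ≠ 0 ∧ ∀ r ∈ R', ρ r w = w) → ∃ w : E, w ≠ 0 ∧ ∀ r : R, ρ r w = w := by
  intro n
  induction n with
  | zero =>
    intro R' hcard ⟨w, hw, hfix⟩
    have hle : Nat.card R ≤ Nat.card R' := by omega
    have htop : R' = ⊤ := Subgroup.eq_top_of_le_card R' hle
    exact ⟨w, hw, fun r => hfix r (by rw [htop]; exact Subgroup.mem_top r)⟩
  | succ n ih =>
    intro R' hcard ⟨w, hw, hfix⟩
    by_cases htop : R' = ⊤
    · exact ⟨w, hw, fun r => hfix r (by rw [htop]; exact Subgroup.mem_top r)⟩
    haveI : Group.IsNilpotent R := hR.isNilpotent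
    have hnc : NormalizerCondition R := normalizerCondition_of_isNilpotent
    have hlt := hnc R' (lt_top_iff_ne_top.2 htop)
    obtain ⟨g, hgN, hgR'⟩ := SetLike.exists_of_lt hlt
    obtain ⟨N, hN⟩ := exists_pow_sub_one_eq_zero hp hR ρ g
    -- the fixed space of `R'` is stable under `ρ g`
    have hstab : ∀ v : E, (∀ r ∈ R', ρ r v = v) → ∀ r ∈ R', ρ r (ρ g v) = ρ g v := by
      intro v hv r hr
      have h1 : g⁻¹ * r * g ∈ R' := by
        have := (Subgroup.mem_normalizer_iff.1 (Subgroup.inv_mem _ hgN) r).1 hr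
        simpa using this
      have h2 : r * g = g * (g⁻¹ * r * g) := by group
      calc ρ r (ρ g v) = (ρ r * ρ g) v := rfl
        _ = ρ (r * g) v := by rw [map_mul]
        _ = ρ (g * (g⁻¹ * r * g)) v := by rw [h2]
        _ = (ρ g * ρ (g⁻¹ * r * g)) v := by rw [map_mul]
        _ = ρ g (ρ (g⁻¹ * r * g) v) := rfl
        _ = ρ g v := by rw [hv _ h1]
    have hstab' : ∀ j : ℕ, ∀ r ∈ R', ρ r (((ρ g - 1) ^ j) w) = ((ρ g - 1) ^ j) w := by
      intro j
      induction j with
      | zero =>
        intro r hr
        simpa using hfix r hr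
      | succ j ihj =>
        intro r hr
        rw [pow_succ', Module.End.mul_apply, LinearMap.sub_apply, Module.End.one_apply, map_sub,
          hstab _ ihj r hr, ihj r hr]
    -- the last nonzero iterate
    have hex : ∃ j : ℕ, ((ρ g - 1) ^ j) w = 0 := ⟨N, by rw [hN]; rfl⟩
    classical
    obtain ⟨j, hj0, hjmin⟩ : ∃ j : ℕ, ((ρ g - 1) ^ j) w = 0 ∧
        ∀ i < j, ((ρ g - 1) ^ i) w ≠ 0 :=
      ⟨Nat.find hex, Nat.find_spec hex, fun i hi => Nat.find_min hex hi⟩
    have hjpos : j ≠ 0 := by
      rintro rfl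
      apply hw
      simpa using hj0
    obtain ⟨i, rfl⟩ := Nat.exists_eq_succ_of_ne_zero hjpos
    set w' := ((ρ g - 1) ^ i) w with hw'
    have hw'0 : w' ≠ 0 := hjmin i (Nat.lt_succ_self i)
    have hgw' : ρ g w' = w' := by
      have : (ρ g - 1) w' = 0 := by
        rw [hw', ← Module.End.mul_apply, ← pow_succ']
        exact hj0
      rw [LinearMap.sub_apply, Module.End.one_apply, sub_eq_zero] at this
      exact this
    -- the stabilizer of `w'`
    let S : Subgroup R :=
      { carrier := {r | ρ r w' = w'}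
        mul_mem' := by
          intro a b ha hb
          show ρ (a * b) w' = w'
          rw [map_mul, Module.End.mul_apply, hb, ha]
        one_mem' := by
          show ρ 1 w' = w'
          rw [map_one, Module.End.one_apply]
        inv_mem' := by
          intro a ha
          show ρ a⁻¹ w' = w'
          have h1 : ρ a⁻¹ (ρ a w') = w' := by
            rw [← Module.End.mul_apply, ← map_mul, inv_mul_cancel, map_one, Module.End.one_apply]
          rw [ha] at h1
          exact h1 }
    have hR'S : R' ≤ S := fun r hr => hstab' i r hr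
    have hgS : g ∈ S := hgw'
    have hsup : R' ⊔ Subgroup.zpowers g ≤ S := sup_le hR'S ((Subgroup.zpowers_le).2 hgS)
    have hlt' : R' < R' ⊔ Subgroup.zpowers g := by
      refine lt_of_le_of_ne le_sup_left ?_
      intro heq
      apply hgR'
      rw [heq]
      exact (le_sup_right : Subgroup.zpowers g ≤ R' ⊔ Subgroup.zpowers g)
        (Subgroup.mem_zpowers g)
    have hcardlt : Nat.card R' < Nat.card (R' ⊔ Subgroup.zpowers g : Subgroup R) := by
      apply Set.Finite.card_lt_card (Set.toFinite _)
      exact hlt'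
    have hcardle : Nat.card (R' ⊔ Subgroup.zpowers g : Subgroup R) ≤ Nat.card R :=
      Subgroup.card_le_card_group _
    apply ih (R' ⊔ Subgroup.zpowers g) (by omega)
    exact ⟨w', hw'0, fun r hr => hsup hr⟩

/-- **Fixed vectors**: a finite `p`-group acting linearly on a nonzero vector space in
characteristic `p` fixes a nonzero vector. -/
theorem exists_fixed_vector (hp : (p : K) = 0) (hR : IsPGroup p R)
    (ρ : R →* (E →ₗ[K] E)) (hE : ∃ w : E, w ≠ 0) : ∃ w : E, w ≠ 0 ∧ ∀ r : R, ρ r w = w := by
  obtain ⟨w, hw⟩ := hE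
  apply exists_fixed_vector_aux hp hR ρ (Nat.card R) ⊥ (Nat.sub_le _ _)
  refine ⟨w, hw, ?_⟩
  intro r hr
  rw [Subgroup.mem_bot.1 hr, map_one, Module.End.one_apply]

/-- Fixed vectors inside an invariant nonzero subspace. -/
theorem exists_fixed_vector_mem (hp : (p : K) = 0) (hR : IsPGroup p R)
    (ρ : R →* (E →ₗ[K] E)) (W : Submodule K E) (hW : ∀ (r : R), ∀ w ∈ W, ρ r w ∈ W)
    (hne : ∃ w ∈ W, w ≠ 0) : ∃ w ∈ W, w ≠ 0 ∧ ∀ r : R, ρ r w = w := by
  let ρW : R →* (W →ₗ[K] W) :=
    { toFun := fun r => (ρ r).restrict (hW r)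
      map_one' := by
        apply LinearMap.ext
        intro w
        apply Subtype.ext
        rw [LinearMap.restrict_coe_apply, map_one]
        rfl
      map_mul' := by
        intro a b
        apply LinearMap.ext
        intro w
        apply Subtype.ext
        rw [LinearMap.restrict_coe_apply, map_mul, Module.End.mul_apply, Module.End.mul_apply,
          LinearMap.restrict_coe_apply, LinearMap.restrict_coe_apply] }
  obtain ⟨w, hwW, hw0⟩ := hne
  have hE : ∃ w' : W, w' ≠ 0 := ⟨⟨w, hwW⟩, fun h => hw0 (congrArg Subtype.val h)⟩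
  obtain ⟨w', hw'0, hfix⟩ := exists_fixed_vector hp hR ρW hE
  refine ⟨(w' : E), w'.2, fun h => hw'0 (Subtype.ext h), ?_⟩
  intro r
  have h1 := congrArg Subtype.val (hfix r)
  rw [show ρW r = (ρ r).restrict (hW r) from rfl, LinearMap.restrict_coe_apply] at h1
  exact h1

end FixedVector

section Cosets

variable {H : Type u} [Group H] [Fintype H]

/-- Decomposition of a sum over a finite group along the left cosets of a subgroup. -/
theorem sum_eq_sum_cosets (R : Subgroup H) [Fintype R] [Fintype (H ⧸ R)] {A : Type*}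
    [AddCommMonoid A] (g : H → A) :
    ∑ x, g x = ∑ q : H ⧸ R, ∑ v : R, g (Quotient.out q * (v : H)) := by
  classical
  rw [← Finset.sum_fiberwise (s := Finset.univ) (g := fun x : H => (x : H ⧸ R)) (f := g)]
  apply Finset.sum_congr rfl
  intro q _
  symm
  apply Finset.sum_bij (fun (v : R) _ => Quotient.out q * (v : H))
  · intro v _
    rw [Finset.mem_filter]
    refine ⟨Finset.mem_univ _, ?_⟩
    rw [QuotientGroup.mk_mul_of_mem _ v.2]
    exact QuotientGroup.out_eq' q
  · intro v₁ _ v₂ _ h
    exact Subtype.ext (mul_left_cancel h)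
  · intro x hx
    rw [Finset.mem_filter] at hx
    have h1 : (Quotient.out q)⁻¹ * x ∈ R := by
      rw [← QuotientGroup.eq, QuotientGroup.out_eq', hx.2]
    exact ⟨⟨_, h1⟩, Finset.mem_univ _, by simp⟩
  · intro v _
    rfl

end Cosets

section CentralIdem

variable {p : ℕ} [Fact p.Prime] {K : Type*} [Field K] {H : Type u} [Group H] [Fintype H]

/-- **A nonzero central idempotent is not annihilated by the sum of a `p`-subgroup**: if `f` is
a nonzero class function on `H` with values in a field of characteristic `p`, idempotent for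
convolution, and `R` is a `p`-subgroup, then `f` has nonzero sum over some left coset of `R`. -/
theorem exists_coset_sum_ne_zero (hp : (p : K) = 0) (R : Subgroup H) [Fintype R]
    (hR : IsPGroup p R) (f : H → K) (hcl : ∀ x c : H, f (x * c * x⁻¹) = f c)
    (hidem : ∀ c, ∑ a, f a * f (a⁻¹ * c) = f c) (hne : ∃ c, f c ≠ 0) :
    ∃ c : H, ∑ v : R, f (c * (v : H)) ≠ 0 := by
  classical
  by_contra hneg
  push Not at hneg
  -- the ideal generated by `f`
  let V : Submodule K (H → K) :=
    { carrier := {u | ∀ c, ∑ a, f a * u (a⁻¹ * c) = u c}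
      add_mem' := by
        intro u₁ u₂ h₁ h₂ c
        simp only [Pi.add_apply, mul_add, Finset.sum_add_distrib]
        rw [h₁ c, h₂ c]
      zero_mem' := by
        intro c
        simp
      smul_mem' := by
        intro t u hu c
        simp only [Pi.smul_apply, smul_eq_mul]
        rw [← hu c, Finset.mul_sum]
        apply Finset.sum_congr rfl
        intro a _
        ring }
  let ρ : R →* ((H → K) →ₗ[K] (H → K)) :=
    { toFun := fun v => LinearMap.funLeft K K (fun c : H => c * (v : H))
      map_one' := by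
        apply LinearMap.ext
        intro u
        funext c
        simp [LinearMap.funLeft_apply]
      map_mul' := by
        intro a b
        apply LinearMap.ext
        intro u
        funext c
        simp [LinearMap.funLeft_apply, Module.End.mul_apply, mul_assoc] }
  have hρ : ∀ (v : R) (u : H → K) (c : H), ρ v u c = u (c * (v : H)) := fun v u c => rfl
  have hVstab : ∀ (v : R), ∀ u ∈ V, ρ v u ∈ V := by
    intro v u hu c
    have h1 := hu (c * (v : H))
    rw [hρ]
    rw [← h1]
    apply Finset.sum_congr rfl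
    intro a _
    rw [hρ, mul_assoc]
  have hfV : f ∈ V := hidem
  have hf0 : f ≠ 0 := by
    obtain ⟨c, hc⟩ := hne
    intro h
    apply hc
    rw [h]
    rfl
  obtain ⟨u, huV, hu0, hfix⟩ := exists_fixed_vector_mem hp hR ρ V hVstab ⟨f, hfV, hf0⟩
  have hinv : ∀ (c : H) (v : R), u (c * (v : H)) = u c := by
    intro c v
    have := congrFun (hfix v) c
    rw [hρ] at this
    exact this
  apply hu0
  funext c
  rw [Pi.zero_apply, ← huV c]
  -- reindex `a = c * x⁻¹`
  have h1 : ∑ a, f a * u (a⁻¹ * c) = ∑ x, f (c * x⁻¹) * u x := by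
    symm
    apply Fintype.sum_equiv ((Equiv.inv H).trans (Equiv.mulLeft c))
    intro x
    simp only [Equiv.trans_apply, Equiv.inv_apply, Equiv.coe_mulLeft]
    congr 2
    group
  rw [h1, sum_eq_sum_cosets R]
  apply Finset.sum_eq_zero
  intro q _
  have h2 : ∀ v : R, f (c * (Quotient.out q * (v : H))⁻¹) * u (Quotient.out q * (v : H)) =
      u (Quotient.out q) * f ((Quotient.out q)⁻¹ * c * ((v⁻¹ : R) : H)) := by
    intro v
    rw [hinv, mul_comm]
    congr 1
    have := hcl (Quotient.out q)⁻¹ (c * (Quotient.out q * (v : H))⁻¹)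
    rw [← this]
    congr 1
    simp only [Subgroup.coe_inv]
    group
  rw [Finset.sum_congr rfl (fun v _ => h2 v), ← Finset.mul_sum]
  have h3 : ∑ v : R, f ((Quotient.out q)⁻¹ * c * ((v⁻¹ : R) : H)) =
      ∑ v : R, f ((Quotient.out q)⁻¹ * c * (v : H)) :=
    Fintype.sum_equiv (Equiv.inv R) _ _ (fun v => rfl)
  rw [h3, hneg, mul_zero]

end CentralIdem

end Cfsg.Agent.Helper5.Green
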