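import Mathlib

/-!
# S2522 (Lev) infrastructure (helper5): the LU recursion step

`LevP n g x0 y0`: `g = B ∘ C` with `(B-1)^n = 0 = (C-1)^n`, `(B-1)^(n-1) x0 ≠ 0`, `y0 ∘ (C-1)^(n-1) ≠ 0`.

For `e : V`, `φ : V →ₗ[K] K` with `φ e = 1 = φ (g e)`, on `W = ker φ`:
* `levChild g e φ hge : W →ₗ[K] W`, `w ↦ g w - φ (g w) • g e`;
* `levX g e φ he hge : W`, the vector `g e - e`;
* `levY g φ : W →ₗ[K] K`, `w ↦ φ (g w)`.

`lev_step`: `LevP m (child) (levX) (levY)`, `φ x0 ≠ 0`, `y0 e ≠ 0`, `1 ≤ m` imply `LevP (m+1) g x0 y0`.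
-/

set_option autoImplicit false

namespace Cfsg.Agent.Helper5.Lev

variable {K V : Type*} [Field K] [AddCommGroup V] [Module K V]

/-- the induction predicate -/
def LevP (n : ℕ) (g : V →ₗ[K] V) (x0 : V) (y0 : V →ₗ[K] K) : Prop :=
  ∃ B C : V →ₗ[K] V, g = B ∘ₗ C ∧ (B - 1) ^ n = 0 ∧ (C - 1) ^ n = 0 ∧
    ((B - 1) ^ (n - 1)) x0 ≠ 0 ∧ y0 ∘ₗ ((C - 1) ^ (n - 1)) ≠ 0

variable (g : V →ₗ[K] V) (e : V) (φ : V →ₗ[K] K)

/-- the projection onto `ker φ` along `e` -/
def levProj (he : φ e = 1) : V →ₗ[K] LinearMap.ker φ where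
  toFun v := ⟨v - φ v • e, by rw [LinearMap.mem_ker]; simp [he]⟩
  map_add' v w := by
    apply Subtype.ext
    simp only [map_add, add_smul, Submodule.coe_add]
    abel
  map_smul' c v := by
    apply Subtype.ext
    simp only [map_smul, smul_eq_mul, RingHom.id_apply, Submodule.coe_smul, smul_sub, mul_smul]

@[simp] theorem levProj_coe (he : φ e = 1) (v : V) :
    ((levProj e φ he v : LinearMap.ker φ) : V) = v - φ v • e := rfl

/-- the child `w ↦ g w - φ (g w) • g e` on `ker φ` -/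
def levChild (hge : φ (g e) = 1) : LinearMap.ker φ →ₗ[K] LinearMap.ker φ where
  toFun w := ⟨g (w : V) - φ (g (w : V)) • g e, by rw [LinearMap.mem_ker]; simp [hge]⟩
  map_add' v w := by
    apply Subtype.ext
    simp only [Submodule.coe_add, map_add, add_smul]
    abel
  map_smul' c v := by
    apply Subtype.ext
    simp only [Submodule.coe_smul, map_smul, smul_eq_mul, RingHom.id_apply, smul_sub, mul_smul]

@[simp] theorem levChild_coe (hge : φ (g e) = 1) (w : LinearMap.ker φ) :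
    ((levChild g e φ hge w : LinearMap.ker φ) : V) = g (w : V) - φ (g (w : V)) • g e := rfl

/-- the child constraint vector `g e - e` -/
def levX (he : φ e = 1) (hge : φ (g e) = 1) : LinearMap.ker φ :=
  ⟨g e - e, by simp [LinearMap.mem_ker, he, hge]⟩

@[simp] theorem levX_coe (he : φ e = 1) (hge : φ (g e) = 1) :
    ((levX g e φ he hge : LinearMap.ker φ) : V) = g e - e := rfl

/-- the child constraint functional `w ↦ φ (g w)` -/
def levY : LinearMap.ker φ →ₗ[K] K := (φ ∘ₗ g) ∘ₗ (LinearMap.ker φ).subtype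

@[simp] theorem levY_apply (w : LinearMap.ker φ) : levY g φ w = φ (g (w : V)) := rfl

/-- **the LU recursion step** -/
theorem lev_step (m : ℕ) (hm : 1 ≤ m) (he : φ e = 1) (hge : φ (g e) = 1) (x0 : V)
    (y0 : V →ₗ[K] K) (hx0 : φ x0 ≠ 0) (hy0 : y0 e ≠ 0)
    (h : LevP m (levChild g e φ hge) (levX g e φ he hge) (levY g φ)) :
    LevP (m + 1) g x0 y0 := by
  let ι : LinearMap.ker φ →ₗ[K] V := (LinearMap.ker φ).subtype
  let p : V →ₗ[K] LinearMap.ker φ := levProj e φ he
  let x' : LinearMap.ker φ := levX g e φ he hge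
  let y' : LinearMap.ker φ →ₗ[K] K := levY g φ
  obtain ⟨B1, C1, hg1, hB1, hC1, hx, hy⟩ := h
  have hιv : ∀ w : LinearMap.ker φ, ι w = (w : V) := fun w => rfl
  have hφι : ∀ w : LinearMap.ker φ, φ (ι w) = 0 := fun w => LinearMap.mem_ker.mp w.2
  have hpι : ∀ w : LinearMap.ker φ, p (ι w) = w := by
    intro w
    apply Subtype.ext
    show ((levProj e φ he (ι w) : LinearMap.ker φ) : V) = w
    rw [levProj_coe, hφι]
    simp [hιv]
  have hpe : p e = 0 := by
    apply Subtype.ext
    show ((levProj e φ he e : LinearMap.ker φ) : V) = ((0 : LinearMap.ker φ) : V)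
    rw [levProj_coe, he]
    simp
  have hdec : ∀ v : V, v = φ v • e + ι (p v) := by
    intro v
    show v = φ v • e + ((levProj e φ he v : LinearMap.ker φ) : V)
    rw [levProj_coe]
    abel
  have hιinj : Function.Injective ι := Submodule.subtype_injective _
  have hιx : ι x' = g e - e := rfl
  have hy'v : ∀ w : LinearMap.ker φ, y' w = φ (g (ι w)) := fun w => rfl
  -- the two factors
  let B : V →ₗ[K] V := φ.smulRight (g e) + ι ∘ₗ B1 ∘ₗ p
  let C : V →ₗ[K] V := (φ + y' ∘ₗ p).smulRight e + ι ∘ₗ C1 ∘ₗ p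
  have hBv : ∀ v, B v = φ v • g e + ι (B1 (p v)) := fun v => by simp [B]
  have hCv : ∀ v, C v = (φ v + y' (p v)) • e + ι (C1 (p v)) := fun v => by simp [C]
  have hφC : ∀ v, φ (C v) = φ v + y' (p v) := by
    intro v
    rw [hCv, map_add, map_smul, he, hφι]
    simp
  have hpC : ∀ v, p (C v) = C1 (p v) := by
    intro v
    rw [hCv, map_add, map_smul, hpe, hpι]
    simp
  have hg1v : ∀ w : LinearMap.ker φ, ι (B1 (C1 w)) = g (ι w) - φ (g (ι w)) • g e := by
    intro w
    have := congrArg (fun f : LinearMap.ker φ →ₗ[K] LinearMap.ker φ => ((f w : LinearMap.ker φ) : V)) hg1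
    simp only [LinearMap.comp_apply] at this
    rw [hιv, ← this, levChild_coe]
    rfl
  have hBC : g = B ∘ₗ C := by
    apply LinearMap.ext
    intro v
    rw [LinearMap.comp_apply, hBv, hφC, hpC, hg1v, hy'v]
    conv_lhs => rw [hdec v]
    rw [map_add, map_smul, add_smul]
    abel
  -- the nilpotent part of `B`
  let u : V →ₗ[K] LinearMap.ker φ := φ.smulRight x' + (B1 - 1) ∘ₗ p
  have huv : ∀ v, u v = φ v • x' + (B1 - 1) (p v) := fun v => by simp [u]
  have hNv : ∀ v, (B - 1) v = ι (u v) := by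
    intro v
    rw [huv, map_add, map_smul, hιx, LinearMap.sub_apply, Module.End.one_apply, hBv,
      LinearMap.sub_apply, Module.End.one_apply, map_sub]
    have h := hdec v
    calc φ v • g e + ι (B1 (p v)) - v
        = φ v • g e + ι (B1 (p v)) - (φ v • e + ι (p v)) := by rw [← h]
      _ = φ v • (g e - e) + (ι (B1 (p v)) - ι (p v)) := by rw [smul_sub]; abel
  have hNι : ∀ w : LinearMap.ker φ, (B - 1) (ι w) = ι ((B1 - 1) w) := by
    intro w
    rw [hNv, huv, hφι, hpι]
    simp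
  have hNpowι : ∀ (k : ℕ) (w : LinearMap.ker φ), ((B - 1) ^ k) (ι w) = ι (((B1 - 1) ^ k) w) := by
    intro k
    induction k with
    | zero => intro w; simp
    | succ k ih =>
      intro w
      rw [pow_succ, Module.End.mul_apply, hNι, ih, pow_succ, Module.End.mul_apply]
  have hNpow : ∀ (k : ℕ) (v : V), ((B - 1) ^ (k + 1)) v = ι (((B1 - 1) ^ k) (u v)) := by
    intro k v
    rw [pow_succ, Module.End.mul_apply, hNv, hNpowι]
  have hBnil : (B - 1) ^ (m + 1) = 0 := by
    apply LinearMap.ext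
    intro v
    rw [hNpow, hB1]
    simp
  have hBx0 : ((B - 1) ^ (m + 1 - 1)) x0 ≠ 0 := by
    obtain ⟨k, rfl⟩ : ∃ k, m = k + 1 := ⟨m - 1, by omega⟩
    rw [Nat.add_sub_cancel, hNpow, huv, map_add, map_smul]
    have h0 : ((B1 - 1) ^ k) ((B1 - 1) (p x0)) = 0 := by
      rw [← Module.End.mul_apply, ← pow_succ, hB1]
      simp
    rw [h0, add_zero]
    intro hcon
    have h1 : φ x0 • ((B1 - 1) ^ k) x' = 0 := by
      apply hιinj
      rw [hcon]
      simp
    rcases smul_eq_zero.mp h1 with h2 | h2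
    · exact hx0 h2
    · apply hx
      simpa using h2
  -- the nilpotent part of `C`
  have hMv : ∀ v, (C - 1) v = y' (p v) • e + ι ((C1 - 1) (p v)) := by
    intro v
    rw [LinearMap.sub_apply, Module.End.one_apply, hCv, LinearMap.sub_apply, Module.End.one_apply,
      map_sub]
    have h := hdec v
    calc (φ v + y' (p v)) • e + ι (C1 (p v)) - v
        = (φ v + y' (p v)) • e + ι (C1 (p v)) - (φ v • e + ι (p v)) := by rw [← h]
      _ = y' (p v) • e + (ι (C1 (p v)) - ι (p v)) := by rw [add_smul]; abel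
  have hMe : (C - 1) e = 0 := by
    rw [hMv, hpe]
    simp
  have hMpowι : ∀ (k : ℕ) (w : LinearMap.ker φ), ((C - 1) ^ (k + 1)) (ι w) =
      y' (((C1 - 1) ^ k) w) • e + ι (((C1 - 1) ^ (k + 1)) w) := by
    intro k
    induction k with
    | zero =>
      intro w
      rw [pow_one, hMv, hpι]
      simp
    | succ k ih =>
      intro w
      rw [pow_succ', Module.End.mul_apply, ih, map_add, map_smul, hMe, smul_zero, zero_add, hMv,
        hpι, ← Module.End.mul_apply, ← pow_succ']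
  have hMpow : ∀ (k : ℕ) (v : V), ((C - 1) ^ (k + 1)) v = ((C - 1) ^ (k + 1)) (ι (p v)) := by
    intro k v
    rw [pow_succ, Module.End.mul_apply, Module.End.mul_apply]
    congr 1
    rw [hMv, hMv, hpι]
  have hCnil : (C - 1) ^ (m + 1) = 0 := by
    apply LinearMap.ext
    intro v
    rw [hMpow, hMpowι, hC1, pow_succ, hC1]
    simp
  have hCy0 : y0 ∘ₗ ((C - 1) ^ (m + 1 - 1)) ≠ 0 := by
    obtain ⟨k, rfl⟩ : ∃ k, m = k + 1 := ⟨m - 1, by omega⟩
    rw [Nat.add_sub_cancel] at hy ⊢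
    intro hcon
    apply hy
    apply LinearMap.ext
    intro w
    have h1 := congrArg (fun f : V →ₗ[K] K => f (ι w)) hcon
    simp only [LinearMap.comp_apply, LinearMap.zero_apply] at h1
    rw [hMpowι, hC1] at h1
    simp only [LinearMap.zero_apply, map_zero, add_zero, map_smul, smul_eq_mul] at h1
    rcases mul_eq_zero.mp h1 with h2 | h2
    · exact h2
    · exact absurd h2 hy0
  exact ⟨B, C, hBC, hBnil, hCnil, hBx0, hCy0⟩

/-- the bottom of the recursion: on any space, `g = 1` satisfies `LevP 1`. -/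
theorem lev_base_one (g : V →ₗ[K] V) (hg : g = 1) (x0 : V) (y0 : V →ₗ[K] K) (hx0 : x0 ≠ 0)
    (hy0 : y0 ≠ 0) : LevP 1 g x0 y0 := by
  refine ⟨1, 1, ?_, ?_, ?_, ?_, ?_⟩
  · rw [hg]; rfl
  · simp
  · simp
  · simpa using hx0
  · intro h
    apply hy0
    apply LinearMap.ext
    intro v
    have := congrArg (fun f : V →ₗ[K] K => f v) h
    simpa using this

end Cfsg.Agent.Helper5.Lev
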