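import Mathlib
import Cfsg.Agent.Lib.Helper18.LevDefs
import Cfsg.Agent.Lib.Helper5.LevStep

/-!
# S2522 piece LEV-REC (helper5): `base_one`, `rec_step`

Wrappers of `Cfsg.Agent.Helper5.Lev.lev_base_one` / `lev_step` (file `LevStep.lean`) for the
definitions of `Cfsg/Agent/Lib/Helper18/LevDefs.lean`.
-/

set_option autoImplicit false

namespace Cfsg.Agent.Helper18.Lev

open Module

universe u v

section pieces
variable {K : Type u} [Field K] {V : Type v} [AddCommGroup V] [Module K V]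

/-- `PP` is the predicate `LevP` of `Helper5/LevStep.lean`. -/
theorem rec_PP_iff (n : ℕ) (g : V →ₗ[K] V) (x0 : V) (y0 : V →ₗ[K] K) :
    PP n g x0 y0 ↔ Cfsg.Agent.Helper5.Lev.LevP n g x0 y0 := Iff.rfl

/-- PIECE LEV-REC (1). -/
theorem base_one (x0 : V) (y0 : V →ₗ[K] K) (hx : x0 ≠ 0) (hy : y0 ≠ 0) :
    PP 1 (LinearMap.id : V →ₗ[K] V) x0 y0 := by
  rw [rec_PP_iff]
  exact Cfsg.Agent.Helper5.Lev.lev_base_one LinearMap.id rfl x0 y0 hx hy

theorem rec_child_eq (g : V →ₗ[K] V) (e : V) (φ : V →ₗ[K] K) (hge : φ (g e) = 1) :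
    child g e φ = Cfsg.Agent.Helper5.Lev.levChild g e φ hge := by
  apply LinearMap.ext
  intro w
  apply Subtype.ext
  rw [child_coe' g e φ hge, Cfsg.Agent.Helper5.Lev.levChild_coe]

theorem rec_childX_eq (g : V →ₗ[K] V) (e : V) (φ : V →ₗ[K] K) (he : φ e = 1)
    (hge : φ (g e) = 1) : childX g e φ = Cfsg.Agent.Helper5.Lev.levX g e φ he hge := by
  apply Subtype.ext
  rw [childX_coe' g e φ he hge, Cfsg.Agent.Helper5.Lev.levX_coe]

theorem rec_childY_eq (g : V →ₗ[K] V) (φ : V →ₗ[K] K) :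
    childY g φ = Cfsg.Agent.Helper5.Lev.levY g φ := rfl

/-- PIECE LEV-REC (2). -/
theorem rec_step (n : ℕ) (hn : 1 ≤ n) (g : V →ₗ[K] V) (e : V) (φ : V →ₗ[K] K)
    (he : φ e = 1) (hge : φ (g e) = 1) (x0 : V) (y0 : V →ₗ[K] K) (hx0 : φ x0 ≠ 0)
    (hy0 : y0 e ≠ 0) (h : PP n (child g e φ) (childX g e φ) (childY g φ)) :
    PP (n + 1) g x0 y0 := by
  rw [rec_PP_iff] at h ⊢
  rw [rec_child_eq g e φ hge, rec_childX_eq g e φ he hge, rec_childY_eq] at h
  exact Cfsg.Agent.Helper5.Lev.lev_step g e φ n hn he hge x0 y0 hx0 hy0 h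

end pieces

end Cfsg.Agent.Helper18.Lev
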