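import Mathlib

/-!
# S2522 (Lev) infrastructure (helper5): regular unipotent matrices are conjugate to `J`

* `lev_chain_indep`: if `N ^ n = 0` and `N ^ (n-1) v ≠ 0` then `v, N v, …, N^(n-1) v` are linearly
  independent.
* `lev_bridge`: a matrix `B` with `(B - 1) ^ n = 0` and `(B - 1) ^ (n-1) *ᵥ v ≠ 0` is
  `x * J * x⁻¹` for the standard regular unipotent `J` of the statement S2522.
-/

set_option autoImplicit false

namespace Cfsg.Agent.Helper5.Lev

open Matrix

/-- the nilpotent chain `v, N v, …, N^(n-1) v` is linearly independent -/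
theorem lev_chain_indep {K V : Type*} [Field K] [AddCommGroup V] [Module K V]
    (N : V →ₗ[K] V) (n : ℕ) (hN : N ^ n = 0) (v : V) (hv : (N ^ (n - 1)) v ≠ 0) :
    LinearIndependent K (fun j : Fin n => (N ^ (j : ℕ)) v) := by
  rw [Fintype.linearIndependent_iff]
  intro a ha
  have key : ∀ m : ℕ, ∀ j : Fin n, (j : ℕ) < m → a j = 0 := by
    intro m
    induction m with
    | zero => intro j hj; omega
    | succ m ih =>
      intro j hj
      by_cases hjm : (j : ℕ) < m
      · exact ih j hjm
      · have hjm' : (j : ℕ) = m := by omega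
        have hjn : (j : ℕ) < n := j.2
        have h1 := congrArg (fun w => (N ^ (n - 1 - m)) w) ha
        simp only [map_sum, map_smul, map_zero] at h1
        have h2 : ∀ i : Fin n, a i • (N ^ (n - 1 - m)) ((N ^ (i : ℕ)) v) =
            if i = j then a j • (N ^ (n - 1)) v else 0 := by
          intro i
          split_ifs with hij
          · subst hij
            rw [← Module.End.mul_apply, ← pow_add]
            have : n - 1 - m + (i : ℕ) = n - 1 := by omega
            rw [this]
          · rcases lt_or_gt_of_ne (fun h => hij (Fin.ext h)) with hlt | hgt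
            · rw [ih i (by omega)]; simp
            · rw [← Module.End.mul_apply, ← pow_add]
              have : n - 1 - m + (i : ℕ) = n + ((i : ℕ) - m - 1) := by omega
              rw [this, pow_add, hN]; simp
        rw [Finset.sum_congr rfl (fun i _ => h2 i)] at h1
        simp only [Finset.sum_ite_eq', Finset.mem_univ, if_true] at h1
        rcases smul_eq_zero.mp h1 with h | h
        · exact h
        · exact absurd h hv
  intro j
  exact key (j + 1) j (by omega)

/-- powers of a matrix acting on vectors, through `toLin'` -/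
theorem lev_toLin_pow {K : Type*} [Field K] {n : ℕ} (N : Matrix (Fin n) (Fin n) K) (k : ℕ)
    (v : Fin n → K) : ((Matrix.toLin' N) ^ k) v = (N ^ k).mulVec v := by
  induction k generalizing v with
  | zero => simp
  | succ k ih =>
    rw [pow_succ, Module.End.mul_apply, ih, Matrix.toLin'_apply, Matrix.mulVec_mulVec, ← pow_succ]

/-- the sum defining a column of `X * J` -/
theorem lev_sum_J {K : Type*} [Field K] {n : ℕ} (f : Fin n → K) (j : Fin n) :
    (∑ k : Fin n, f k * (if k = j then (1 : K) else if j.val = k.val + 1 then 1 else 0)) =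
      f j + (if h : 1 ≤ j.val then f ⟨j.val - 1, by omega⟩ else 0) := by
  have h1 : ∀ k : Fin n, f k * (if k = j then (1 : K) else if j.val = k.val + 1 then 1 else 0) =
      (if k = j then f k else 0) + (if j.val = k.val + 1 then f k else 0) := by
    intro k
    by_cases hkj : k = j
    · subst hkj
      simp
    · simp [hkj]
  rw [Finset.sum_congr rfl (fun k _ => h1 k), Finset.sum_add_distrib]
  congr 1
  · simp
  · split_ifs with h
    · rw [Finset.sum_eq_single (⟨j.val - 1, by omega⟩ : Fin n)]
      · rw [if_pos]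
        show j.val = j.val - 1 + 1
        omega
      · intro b _ hb
        rw [if_neg]
        intro hjb
        apply hb
        apply Fin.ext
        show b.val = j.val - 1
        omega
      · intro h'; exact absurd (Finset.mem_univ _) h'
    · apply Finset.sum_eq_zero
      intro k _
      rw [if_neg]
      omega

/-- **Bridge**: a regular unipotent matrix (given by `(B-1)^n = 0`, `(B-1)^(n-1) *ᵥ v ≠ 0`) is
conjugate in `GL` to the matrix `J` of S2522. -/
theorem lev_bridge {K : Type*} [Field K] (n : ℕ) (J : GL (Fin n) K)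
    (hJ : ∀ i j : Fin n, (J : Matrix (Fin n) (Fin n) K) i j =
      if i = j then 1 else if j.val = i.val + 1 then 1 else 0)
    (B : Matrix (Fin n) (Fin n) K) (hB : (B - 1) ^ n = 0) (v : Fin n → K)
    (hv : ((B - 1) ^ (n - 1)).mulVec v ≠ 0) :
    ∃ x : GL (Fin n) K, B = (x : Matrix (Fin n) (Fin n) K) * (J : Matrix (Fin n) (Fin n) K) *
      ((x⁻¹ : GL (Fin n) K) : Matrix (Fin n) (Fin n) K) := by
  set N : Matrix (Fin n) (Fin n) K := B - 1 with hNdef
  have hBN : B = 1 + N := by rw [hNdef]; abel
  -- the columns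
  let c : Fin n → (Fin n → K) := fun j => (N ^ (n - (j.val + 1))).mulVec v
  let X : Matrix (Fin n) (Fin n) K := Matrix.of (fun i j => c j i)
  -- independence
  have hind0 : LinearIndependent K (fun j : Fin n => ((Matrix.toLin' N) ^ (j : ℕ)) v) := by
    apply lev_chain_indep (Matrix.toLin' N) n
    · apply LinearMap.ext
      intro w
      rw [lev_toLin_pow, hB]
      simp
    · rw [lev_toLin_pow]
      exact hv
  have hind : LinearIndependent K X.col := by
    have h1 := hind0.comp (Fin.rev : Fin n → Fin n) Fin.rev_injective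
    convert h1 using 1
    funext j
    funext i
    simp only [Function.comp, Matrix.col, Fin.val_rev, lev_toLin_pow]
    rfl
  have hunit : IsUnit X := Matrix.linearIndependent_cols_iff_isUnit.mp hind
  -- the intertwining relation
  have hrel : B * X = X * (J : Matrix (Fin n) (Fin n) K) := by
    ext i j
    rw [Matrix.mul_apply, Matrix.mul_apply]
    have hR : (∑ k : Fin n, X i k * (J : Matrix (Fin n) (Fin n) K) k j) =
        c j i + (if h : 1 ≤ j.val then c ⟨j.val - 1, by omega⟩ i else 0) := by
      have := lev_sum_J (fun k => X i k) j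
      rw [show (c j i) = (fun k => X i k) j from rfl,
        show (if h : 1 ≤ j.val then c ⟨j.val - 1, by omega⟩ i else 0) =
          (if h : 1 ≤ j.val then (fun k => X i k) ⟨j.val - 1, by omega⟩ else 0) from rfl, ← this]
      apply Finset.sum_congr rfl
      intro k _
      rw [hJ]
    rw [hR]
    have hL : (∑ k : Fin n, B i k * X k j) = (B.mulVec (c j)) i := by
      simp only [Matrix.mulVec, dotProduct]
      rfl
    rw [hL, hBN, Matrix.add_mulVec, Matrix.one_mulVec]
    simp only [Pi.add_apply]
    congr 1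
    have hN1 : N.mulVec (c j) = (N ^ (n - (j.val + 1) + 1)).mulVec v := by
      simp only [c]
      rw [Matrix.mulVec_mulVec, ← pow_succ']
    rw [hN1]
    split_ifs with h
    · simp only [c]
      have : n - (j.val + 1) + 1 = n - (j.val - 1 + 1) := by
        have := j.2
        omega
      rw [this]
    · have hj0 : j.val = 0 := by omega
      have : n - (j.val + 1) + 1 = n := by
        have := j.2
        omega
      rw [this, hB]
      simp
  refine ⟨hunit.unit, ?_⟩
  have hXX : X * ((hunit.unit⁻¹ : GL (Fin n) K) : Matrix (Fin n) (Fin n) K) = 1 := by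
    have := hunit.unit.mul_inv
    exact this
  have hcoe : ((hunit.unit : GL (Fin n) K) : Matrix (Fin n) (Fin n) K) = X := rfl
  rw [hcoe, ← hrel, Matrix.mul_assoc, hXX, Matrix.mul_one]

/-- final step, matrix form: `g = B * C` with `B`, `C` regular unipotent gives the conclusion of
S2522. -/
theorem lev_final {K : Type*} [Field K] (n : ℕ) (J g : GL (Fin n) K)
    (hJ : ∀ i j : Fin n, (J : Matrix (Fin n) (Fin n) K) i j =
      if i = j then 1 else if j.val = i.val + 1 then 1 else 0)
    (B C : Matrix (Fin n) (Fin n) K) (hg : (g : Matrix (Fin n) (Fin n) K) = B * C)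
    (hB : (B - 1) ^ n = 0) (vB : Fin n → K) (hvB : ((B - 1) ^ (n - 1)).mulVec vB ≠ 0)
    (hC : (C - 1) ^ n = 0) (vC : Fin n → K) (hvC : ((C - 1) ^ (n - 1)).mulVec vC ≠ 0) :
    ∃ x y : GL (Fin n) K, g = (x * J * x⁻¹) * (y * J * y⁻¹) := by
  obtain ⟨x, hx⟩ := lev_bridge n J hJ B hB vB hvB
  obtain ⟨y, hy⟩ := lev_bridge n J hJ C hC vC hvC
  refine ⟨x, y, ?_⟩
  apply Units.ext
  rw [hg, hx, hy]
  simp [Units.val_mul]

/-- final step, linear-map form on `Fin n → K`: if `toLin' g = B ∘ C` with `(B-1)^n = 0`,
`(B-1)^(n-1) vB ≠ 0`, `(C-1)^n = 0`, `(C-1)^(n-1) vC ≠ 0`, then the conclusion of S2522 holds. -/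
theorem lev_final_lin {K : Type*} [Field K] (n : ℕ) (J g : GL (Fin n) K)
    (hJ : ∀ i j : Fin n, (J : Matrix (Fin n) (Fin n) K) i j =
      if i = j then 1 else if j.val = i.val + 1 then 1 else 0)
    (B C : (Fin n → K) →ₗ[K] (Fin n → K))
    (hg : Matrix.toLin' (g : Matrix (Fin n) (Fin n) K) = B ∘ₗ C)
    (hB : (B - 1) ^ n = 0) (vB : Fin n → K) (hvB : ((B - 1) ^ (n - 1)) vB ≠ 0)
    (hC : (C - 1) ^ n = 0) (vC : Fin n → K) (hvC : ((C - 1) ^ (n - 1)) vC ≠ 0) :
    ∃ x y : GL (Fin n) K, g = (x * J * x⁻¹) * (y * J * y⁻¹) := by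
  have hsub : ∀ f : (Fin n → K) →ₗ[K] (Fin n → K),
      Matrix.toLin' (LinearMap.toMatrix' f - 1) = f - 1 := by
    intro f
    rw [map_sub, Matrix.toLin'_toMatrix', Matrix.toLin'_one]
    rfl
  have hpow : ∀ (f : (Fin n → K) →ₗ[K] (Fin n → K)) (k : ℕ) (v : Fin n → K),
      ((LinearMap.toMatrix' f - 1) ^ k).mulVec v = ((f - 1) ^ k) v := by
    intro f k v
    rw [← lev_toLin_pow, hsub]
  have hzero : ∀ (f : (Fin n → K) →ₗ[K] (Fin n → K)), (f - 1) ^ n = 0 →
      (LinearMap.toMatrix' f - 1) ^ n = 0 := by
    intro f hf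
    apply Matrix.toLin'.injective
    apply LinearMap.ext
    intro v
    rw [Matrix.toLin'_apply, hpow, hf]
    simp
  apply lev_final n J g hJ (LinearMap.toMatrix' B) (LinearMap.toMatrix' C) ?_ (hzero B hB) vB ?_
    (hzero C hC) vC ?_
  · apply Matrix.toLin'.injective
    rw [hg, Matrix.toLin'_mul, Matrix.toLin'_toMatrix', Matrix.toLin'_toMatrix']
  · rw [hpow]; exact hvB
  · rw [hpow]; exact hvC

end Cfsg.Agent.Helper5.Lev
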