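import Mathlib

/-!
# Definitions for the "projective cover of the trivial module" argument (S4427)

`LocData p`: a local domain `O` inside `ℂ` with `p` in its maximal ideal over which every monic
polynomial splits (realised by a valuation subring of `ℂ`).
`Pm R g`: permutation matrix of left translation by `g` on `G`; `IsLInv M`: the matrix `M`
commutes with all left translations.
-/

namespace Cfsg.Agent.Helper5.Pim

open Polynomial

/-- A local domain inside `ℂ`, with `p` a non-unit, over which all monic polynomials split. -/
structure LocData (p : ℕ) where
  /-- the ring -/
  O : Type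
  [instCR : CommRing O]
  [instDom : IsDomain O]
  [instLoc : IsLocalRing O]
  /-- the embedding into the complex numbers -/
  φ : O →+* ℂ
  φ_inj : Function.Injective φ
  p_mem : (p : O) ∈ IsLocalRing.maximalIdeal O
  splits : ∀ f : O[X], f.Monic → ∃ s : Multiset O, f = (s.map fun a => (X - C a : O[X])).prod

attribute [instance] LocData.instCR LocData.instDom LocData.instLoc

section Mat

variable {G : Type*} [Group G] [Fintype G] [DecidableEq G]

/-- Permutation matrix of left translation by `g`: `(Pm R g).mulVec v i = v (g⁻¹ * i)`. -/
def Pm (R : Type*) [CommRing R] (g : G) : Matrix G G R :=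
  fun i j => if i = g * j then 1 else 0

/-- `M` is invariant under simultaneous left translation of both indices (equivalently, commutes
with all `Pm R g`). -/
def IsLInv {R : Type*} (M : Matrix G G R) : Prop :=
  ∀ g i j : G, M (g * i) (g * j) = M i j

/-- The averaging idempotent of a subgroup `H` (with `c = |H|⁻¹`): entry `c` where `i⁻¹ j ∈ H`. -/
noncomputable def eH {R : Type*} [CommRing R] (H : Subgroup G) (c : R) : Matrix G G R :=
  open scoped Classical in fun i j => if i⁻¹ * j ∈ H then c else 0

/-- The subspace of `G → ℂ` cut out by the matrix `A` (the range of `A` acting on column vectors). -/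
def subV (A : Matrix G G ℂ) : Submodule ℂ (G → ℂ) := LinearMap.range (Matrix.toLin' A)

end Mat

end Cfsg.Agent.Helper5.Pim
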