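import Mathlib
import Cfsg.Agent.Lib.Helper24.CharCentral
import Cfsg.Agent.Lib.Helper24.CharAlgebra
import Cfsg.Agent.Lib.Helper23.Schur

/-!
# Averaging characters over a normal subgroup (helper5's shared library)

For `K ◁ M` and a character `χ` of `M`, the average `g ↦ |K|⁻¹ ∑_{k ∈ K} χ (g k)` is the part of
`χ` whose constituents contain `K` in their kernel. We prove that both parts are characters, that
they are orthogonal, and that a nonzero character has norm at least one.
-/

set_option autoImplicit false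

universe u

namespace Cfsg.Agent.Helper5

open Cfsg Cfsg.Agent.Helper24
open scoped ComplexConjugate

section Avg

variable {M : Type u} [Group M] [Fintype M]

/-- The average of `f` over right translates by elements of `K`. -/
noncomputable def avgK (K : Subgroup M) [Fintype K] (f : M → ℂ) : M → ℂ :=
  fun g => (Nat.card K : ℂ)⁻¹ * ∑ k : K, f (g * k)

theorem avgK_apply (K : Subgroup M) [Fintype K] (f : M → ℂ) (g : M) :
    avgK K f g = (Nat.card K : ℂ)⁻¹ * ∑ k : K, f (g * k) := rfl

theorem avgK_mul_right (K : Subgroup M) [Fintype K] (f : M → ℂ) (g : M) (k : K) :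
    avgK K f (g * k) = avgK K f g := by
  rw [avgK_apply, avgK_apply]
  congr 1
  refine Fintype.sum_equiv (Equiv.mulLeft k) _ _ ?_
  intro k'
  simp [mul_assoc]

theorem avgK_of_invariant (K : Subgroup M) [Fintype K] (f : M → ℂ)
    (hf : ∀ (g : M) (k : K), f (g * k) = f g) : avgK K f = f := by
  funext g
  rw [avgK_apply]
  simp only [hf, Finset.sum_const, Finset.card_univ, nsmul_eq_mul]
  have hK0 : (Nat.card K : ℂ) ≠ 0 := by exact_mod_cast (Nat.card_pos (α := K)).ne'
  rw [← Nat.card_eq_fintype_card, ← mul_assoc, inv_mul_cancel₀ hK0, one_mul]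

theorem avgK_avgK (K : Subgroup M) [Fintype K] (f : M → ℂ) :
    avgK K (avgK K f) = avgK K f :=
  avgK_of_invariant K _ (avgK_mul_right K f)

theorem avgK_add (K : Subgroup M) [Fintype K] (f₁ f₂ : M → ℂ) :
    avgK K (f₁ + f₂) = avgK K f₁ + avgK K f₂ := by
  funext g
  simp only [avgK_apply, Pi.add_apply, Finset.sum_add_distrib, mul_add]

theorem avgK_smul (K : Subgroup M) [Fintype K] (c : ℂ) (f : M → ℂ) :
    avgK K (c • f) = c • avgK K f := by
  funext g
  simp only [avgK_apply, Pi.smul_apply, smul_eq_mul, ← Finset.mul_sum]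
  ring

theorem avgK_zero (K : Subgroup M) [Fintype K] : avgK K (0 : M → ℂ) = 0 := by
  funext g
  simp [avgK_apply]

theorem avgK_sub (K : Subgroup M) [Fintype K] (f₁ f₂ : M → ℂ) :
    avgK K (f₁ - f₂) = avgK K f₁ - avgK K f₂ := by
  funext g
  simp only [avgK_apply, Pi.sub_apply, Finset.sum_sub_distrib, mul_sub]

theorem avgK_sum (K : Subgroup M) [Fintype K] {ι : Type*} (s : Finset ι) (f : ι → M → ℂ) :
    avgK K (∑ i ∈ s, f i) = ∑ i ∈ s, avgK K (f i) := by
  classical
  induction s using Finset.induction_on with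
  | empty => simp [avgK_zero]
  | insert a s ha ih => rw [Finset.sum_insert ha, Finset.sum_insert ha, avgK_add, ih]

/-- For an irreducible character the average over a normal subgroup is a scalar multiple. -/
theorem avgK_irr_eq (K : Subgroup M) [hK : K.Normal] [Fintype K] {ψ : M → ℂ}
    (hψ : IsIrrCharacter M ψ) (g : M) :
    avgK K ψ g = ψ g * (avgK K ψ 1 / ψ 1) := by
  have h1 : ∀ y : M, ∑ k : K, ψ (g * (y * (k : M) * y⁻¹)) = ∑ k : K, ψ (g * k) := by
    intro y
    refine Fintype.sum_equiv (MulAut.conjNormal y : MulAut K).toEquiv _ _ ?_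
    intro k
    simp [MulAut.conjNormal_apply]
  have h2 : ∑ y : M, ∑ k : K, ψ (g * (y * (k : M) * y⁻¹)) =
      (Nat.card M : ℂ) * ∑ k : K, ψ (g * k) := by
    rw [Finset.sum_congr rfl (fun y _ => h1 y), Finset.sum_const, Finset.card_univ,
      nsmul_eq_mul, Nat.card_eq_fintype_card]
  have h3 : ∑ y : M, ∑ k : K, ψ (g * (y * (k : M) * y⁻¹)) =
      (Nat.card M : ℂ) * (ψ g * ((∑ k : K, ψ k) / ψ 1)) := by
    rw [Finset.sum_comm]
    have h5 : ∀ k : K, ∑ y : M, ψ (g * (y * (k : M) * y⁻¹)) =
        (Nat.card M : ℂ) * ψ g * ψ k / ψ 1 := fun k => sum_char_mul_conj hψ g (k : M)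
    rw [Finset.sum_congr rfl (fun k _ => h5 k)]
    rw [Finset.sum_div, Finset.mul_sum, Finset.mul_sum]
    refine Finset.sum_congr rfl (fun k _ => ?_)
    ring
  have hM0 : (Nat.card M : ℂ) ≠ 0 := by exact_mod_cast (Nat.card_pos (α := M)).ne'
  have h4 : ∑ k : K, ψ (g * k) = ψ g * ((∑ k : K, ψ k) / ψ 1) :=
    mul_left_cancel₀ hM0 (h2.symm.trans h3)
  rw [avgK_apply, avgK_apply, h4]
  simp only [one_mul]
  ring

/-- For an irreducible character the average over a normal subgroup is the character or zero. -/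
theorem avgK_irr (K : Subgroup M) [hK : K.Normal] [Fintype K] {ψ : M → ℂ}
    (hψ : IsIrrCharacter M ψ) : avgK K ψ = ψ ∨ avgK K ψ = 0 := by
  set s : ℂ := avgK K ψ 1 / ψ 1 with hs
  have h1 : avgK K ψ = s • ψ := by
    funext g
    rw [avgK_irr_eq K hψ g, Pi.smul_apply, smul_eq_mul, mul_comm]
  have h2 := avgK_avgK K ψ
  rw [h1, avgK_smul, h1, smul_smul] at h2
  have h3 := congrFun h2 1
  simp only [Pi.smul_apply, smul_eq_mul] at h3
  have h0 := Cfsg.Agent.Helper23.irr_one_ne_zero ψ hψ
  have h4 : s * s = s := mul_right_cancel₀ h0 h3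
  have h5 : s * (s - 1) = 0 := by rw [mul_sub, h4, mul_one, sub_self]
  rcases mul_eq_zero.mp h5 with h | h
  · right
    rw [h1, h, zero_smul]
  · left
    rw [h1, sub_eq_zero.mp h, one_smul]

/-- Both the average of a character over a normal subgroup and the remaining part are
characters. -/
theorem isCharacter_avgK (K : Subgroup M) [hK : K.Normal] [Fintype K] {χ : M → ℂ}
    (hχ : IsCharacter M χ) : IsCharacter M (avgK K χ) ∧ IsCharacter M (χ - avgK K χ) := by
  classical
  letI := irrFintype (G := M)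
  obtain ⟨hc, hdecomp⟩ := isCharacter_decomp hχ
  choose c hc using hc
  have h1 : χ = ∑ ψ : IrrCharacter M, (c ψ : ℂ) • (ψ : M → ℂ) := by
    conv_lhs => rw [hdecomp]
    exact Finset.sum_congr rfl (fun ψ _ => by rw [hc ψ])
  have h2 : avgK K χ = ∑ ψ : IrrCharacter M, (c ψ : ℂ) • avgK K (ψ : M → ℂ) := by
    conv_lhs => rw [h1]
    rw [avgK_sum]
    exact Finset.sum_congr rfl (fun ψ _ => avgK_smul K _ _)
  constructor
  · rw [h2]
    apply isCharacter_sum
    intro ψ _
    apply isCharacter_natCast_smul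
    rcases avgK_irr K ψ.2 with h | h
    · rw [h]
      exact isCharacter_of_isIrrCharacter ψ.2
    · rw [h]
      exact isCharacter_zero
  · have h3 : χ - avgK K χ =
        ∑ ψ : IrrCharacter M, (c ψ : ℂ) • ((ψ : M → ℂ) - avgK K (ψ : M → ℂ)) := by
      conv_lhs => rw [h2]
      conv_lhs => rw [h1]
      rw [← Finset.sum_sub_distrib]
      exact Finset.sum_congr rfl (fun ψ _ => (smul_sub _ _ _).symm)
    rw [h3]
    apply isCharacter_sum
    intro ψ _
    apply isCharacter_natCast_smul
    rcases avgK_irr K ψ.2 with h | h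
    · rw [h, sub_self]
      exact isCharacter_zero
    · rw [h, sub_zero]
      exact isCharacter_of_isIrrCharacter ψ.2

/-- The averaged part and the remaining part are orthogonal. -/
theorem sum_avgK_mul_conj_sub (K : Subgroup M) [Fintype K] (χ : M → ℂ) :
    ∑ g : M, avgK K χ g * conj ((χ - avgK K χ) g) = 0 := by
  set a := avgK K χ with ha
  set b := χ - avgK K χ with hb
  have hb0 : avgK K b = 0 := by
    rw [hb, avgK_sub, avgK_avgK, sub_self]
  have h1 : ∀ k : K, ∑ g : M, a g * conj (b g) = ∑ g : M, a g * conj (b (g * k)) := by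
    intro k
    rw [← Equiv.sum_comp (Equiv.mulRight (k : M)) (fun g => a g * conj (b g))]
    refine Finset.sum_congr rfl (fun g _ => ?_)
    simp only [Equiv.coe_mulRight]
    rw [ha, avgK_mul_right]
  have hK0 : (Nat.card K : ℂ) ≠ 0 := by exact_mod_cast (Nat.card_pos (α := K)).ne'
  have h2 : (Nat.card K : ℂ) * ∑ g : M, a g * conj (b g) = 0 := by
    have : (Nat.card K : ℂ) * ∑ g : M, a g * conj (b g) =
        ∑ k : K, ∑ g : M, a g * conj (b (g * k)) := by
      rw [← Finset.sum_congr rfl (fun k _ => h1 k), Finset.sum_const, Finset.card_univ,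
        nsmul_eq_mul, Nat.card_eq_fintype_card]
    rw [this, Finset.sum_comm]
    apply Finset.sum_eq_zero
    intro g _
    rw [← Finset.mul_sum, ← map_sum]
    have h3 := congrFun hb0 g
    rw [avgK_apply, Pi.zero_apply] at h3
    have h4 : ∑ k : K, b (g * k) = 0 := by
      rcases mul_eq_zero.mp h3 with h | h
      · exact absurd (inv_eq_zero.mp h) hK0
      · exact h
    rw [h4, map_zero, mul_zero]
  rcases mul_eq_zero.mp h2 with h | h
  · exact absurd h hK0
  · exact h

/-- Pythagoras for the decomposition `χ = avg + (χ - avg)`. -/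
theorem sum_normSq_avgK_split (K : Subgroup M) [Fintype K] (χ : M → ℂ) :
    ∑ g : M, Complex.normSq (χ g) =
      ∑ g : M, Complex.normSq (avgK K χ g) + ∑ g : M, Complex.normSq ((χ - avgK K χ) g) := by
  have h0 := sum_avgK_mul_conj_sub K χ
  have h1 : ∀ g : M, Complex.normSq (χ g) =
      Complex.normSq (avgK K χ g) + Complex.normSq ((χ - avgK K χ) g) +
        2 * (avgK K χ g * conj ((χ - avgK K χ) g)).re := by
    intro g
    have : χ g = avgK K χ g + (χ - avgK K χ) g := by
      simp
    conv_lhs => rw [this]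
    rw [Complex.normSq_add]
  rw [Finset.sum_congr rfl (fun g _ => h1 g), Finset.sum_add_distrib, Finset.sum_add_distrib,
    ← Finset.mul_sum, ← Complex.re_sum, h0]
  simp

/-- A nonzero character has squared norm at least the group order. -/
theorem card_le_sum_normSq {χ : M → ℂ} (hχ : IsCharacter M χ) (hne : χ ≠ 0) :
    (Nat.card M : ℝ) ≤ ∑ g : M, Complex.normSq (χ g) := by
  classical
  letI := irrFintype (G := M)
  obtain ⟨m, hm⟩ := classInner_char_nat hχ hχ
  have hm0 : m ≠ 0 := by
    rintro rfl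
    apply hne
    apply classInner_self_eq_zero
    rw [hm]
    simp
  have hM0 : (Nat.card M : ℂ) ≠ 0 := by exact_mod_cast (Nat.card_pos (α := M)).ne'
  unfold classInner at hm
  have h1 : ∑ g : M, χ g * conj (χ g) = (Nat.card M : ℂ) * m := by
    rw [← hm]
    field_simp
  have h2 : ((∑ g : M, Complex.normSq (χ g) : ℝ) : ℂ) = ((Nat.card M * m : ℝ) : ℂ) := by
    push_cast
    rw [← h1]
    refine Finset.sum_congr rfl (fun g _ => ?_)
    rw [Complex.mul_conj]
  have h3 : ∑ g : M, Complex.normSq (χ g) = (Nat.card M : ℝ) * m := by exact_mod_cast h2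
  rw [h3]
  have : (1 : ℝ) ≤ m := by exact_mod_cast Nat.one_le_iff_ne_zero.mpr hm0
  nlinarith [(Nat.cast_nonneg (Nat.card M) : (0 : ℝ) ≤ Nat.card M)]

end Avg

end Cfsg.Agent.Helper5
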