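import Mathlib
import Cfsg.Agent.Lib.Helper5.AvgNormal
import Cfsg.Agent.Lib.Helper5.CenterDvd
import Cfsg.Agent.Lib.Helper5.CharCenter

/-!
# A degree bound from a trivial-intersection type hypothesis (helper5's shared library)

Let `H` be an abelian subgroup of `G` with `H ∩ Z(G) = 1` such that the centralizer of every
noncentral element meets at most one conjugate of `H` nontrivially. If `χ ∈ Irr(G)` does not
contain `H` in its kernel then `χ(1)² > |H| [χ_H, 1_H]²`.
-/

set_option autoImplicit false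

universe u

namespace Cfsg.Agent.Helper5

open Cfsg Cfsg.Agent.Helper24
open scoped ComplexConjugate

section Counting

variable {G : Type u} [Group G] [Fintype G]

theorem card_filter_le_card (M : Subgroup G) (P : G → Prop) [DecidablePred P]
    (h : ∀ x₀ x, P x₀ → P x → x₀⁻¹ * x ∈ M) :
    (Finset.univ.filter P).card ≤ Nat.card M := by
  classical
  rcases (Finset.univ.filter P).eq_empty_or_nonempty with he | ⟨x₀, hx₀⟩
  · rw [he]
    simp
  · rw [Finset.mem_filter] at hx₀
    letI : Fintype M := Fintype.ofFinite M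
    rw [Nat.card_eq_fintype_card, ← Fintype.card_subtype]
    apply Fintype.card_le_of_injective
      (fun x : {x // P x} => (⟨x₀⁻¹ * x, h x₀ x hx₀.2 x.2⟩ : M))
    intro a b hab
    apply Subtype.ext
    have := congrArg Subtype.val hab
    simpa using this

/-- Double counting over conjugates. -/
theorem card_mul_sum_le_of_conj (M : Subgroup G) (N : G → ℝ) (hN0 : ∀ g, 0 ≤ N g)
    (hNc : ∀ g x : G, N (x * g * x⁻¹) = N g) (P P' : G → Prop) [DecidablePred P]
    [DecidablePred P']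
    (h1 : ∀ g x₀ x : G, P (x₀⁻¹ * g * x₀) → P (x⁻¹ * g * x) → x₀⁻¹ * x ∈ M)
    (h2 : ∀ g x : G, P (x⁻¹ * g * x) → P' g) :
    (Nat.card G : ℝ) * ∑ g ∈ Finset.univ.filter P, N g ≤
      (Nat.card M : ℝ) * ∑ g ∈ Finset.univ.filter P', N g := by
  classical
  have e1 : (Nat.card G : ℝ) * ∑ g ∈ Finset.univ.filter P, N g =
      ∑ x : G, ∑ g : G, if P (x⁻¹ * g * x) then N g else 0 := by
    rw [Nat.card_eq_fintype_card, ← Finset.card_univ, ← nsmul_eq_mul, ← Finset.sum_const]
    refine Finset.sum_congr rfl (fun x _ => ?_)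
    rw [Finset.sum_filter]
    refine Fintype.sum_equiv (MulAut.conj x).toEquiv _ _ ?_
    intro g
    have h3 : x⁻¹ * ((MulAut.conj x).toEquiv g) * x = g := by
      show x⁻¹ * (x * g * x⁻¹) * x = g
      group
    have h4 : N ((MulAut.conj x).toEquiv g) = N g := hNc g x
    rw [h3, h4]
  rw [e1, Finset.sum_comm]
  have e2 : ∀ g, ∑ x : G, (if P (x⁻¹ * g * x) then N g else 0) =
      ((Finset.univ.filter fun x => P (x⁻¹ * g * x)).card : ℝ) * N g := by
    intro g
    rw [← Finset.sum_filter, Finset.sum_const, nsmul_eq_mul]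
  rw [Finset.sum_congr rfl (fun g _ => e2 g), Finset.mul_sum, Finset.sum_filter]
  apply Finset.sum_le_sum
  intro g _
  split_ifs with hg
  · apply mul_le_mul_of_nonneg_right _ (hN0 g)
    exact_mod_cast card_filter_le_card M _ (fun x₀ x => h1 g x₀ x)
  · have : (Finset.univ.filter fun x => P (x⁻¹ * g * x)) = ∅ := by
      rw [Finset.filter_eq_empty_iff]
      intro x _ hx
      exact hg (h2 g x hx)
    rw [this]
    simp

end Counting

section GroupLemmas

variable {G : Type u} [Group G]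

theorem centralizer_inf_map_ne_bot (H : Subgroup G) (g x h : G) (hh : h ∈ H) (h1 : h ≠ 1)
    (hc : h * (x⁻¹ * g * x) = (x⁻¹ * g * x) * h) :
    Subgroup.centralizer ({g} : Set G) ⊓ H.map (MulAut.conj x).toMonoidHom ≠ ⊥ := by
  intro hbot
  have hmem : x * h * x⁻¹ ∈
      Subgroup.centralizer ({g} : Set G) ⊓ H.map (MulAut.conj x).toMonoidHom := by
    refine Subgroup.mem_inf.mpr ⟨?_, ⟨h, hh, rfl⟩⟩
    rw [Subgroup.mem_centralizer_iff]
    intro y hy
    rw [Set.mem_singleton_iff] at hy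
    subst hy
    have h2 : x * (h * (x⁻¹ * y * x)) * x⁻¹ = x * ((x⁻¹ * y * x) * h) * x⁻¹ := by rw [hc]
    calc y * (x * h * x⁻¹) = x * ((x⁻¹ * y * x) * h) * x⁻¹ := by group
      _ = x * (h * (x⁻¹ * y * x)) * x⁻¹ := h2.symm
      _ = x * h * x⁻¹ * y := by group
  rw [hbot, Subgroup.mem_bot] at hmem
  apply h1
  have h3 : h = x⁻¹ * (x * h * x⁻¹) * x := by group
  rw [h3, hmem]
  group

theorem inv_mul_mem_normalizer_of_map_eq (H : Subgroup G) (x₀ x : G)
    (heq : H.map (MulAut.conj x₀).toMonoidHom = H.map (MulAut.conj x).toMonoidHom) :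
    x₀⁻¹ * x ∈ Subgroup.normalizer (H : Set G) := by
  rw [Subgroup.mem_normalizer_iff]
  intro h
  constructor
  · intro hh
    have h1 : x * h * x⁻¹ ∈ H.map (MulAut.conj x₀).toMonoidHom := by
      rw [heq]
      exact ⟨h, hh, rfl⟩
    obtain ⟨h', hh', he⟩ := h1
    have he' : x₀ * h' * x₀⁻¹ = x * h * x⁻¹ := he
    have h2 : x₀⁻¹ * x * h * (x₀⁻¹ * x)⁻¹ = h' := by
      calc x₀⁻¹ * x * h * (x₀⁻¹ * x)⁻¹ = x₀⁻¹ * (x * h * x⁻¹) * x₀ := by group
        _ = x₀⁻¹ * (x₀ * h' * x₀⁻¹) * x₀ := by rw [he']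
        _ = h' := by group
    rw [h2]
    exact hh'
  · intro hh
    have h1 : x * h * x⁻¹ ∈ H.map (MulAut.conj x).toMonoidHom := by
      rw [← heq]
      refine ⟨x₀⁻¹ * x * h * (x₀⁻¹ * x)⁻¹, hh, ?_⟩
      show x₀ * (x₀⁻¹ * x * h * (x₀⁻¹ * x)⁻¹) * x₀⁻¹ = x * h * x⁻¹
      group
    obtain ⟨h'', hh'', he⟩ := h1
    have he' : x * h'' * x⁻¹ = x * h * x⁻¹ := he
    have h2 : h'' = h := mul_left_cancel (mul_right_cancel he')
    rw [← h2]
    exact hh''

theorem mul_eq_conj_of_fpf [Finite G] (H : Subgroup G) (g : G)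
    (hg : g ∈ Subgroup.normalizer (H : Set G))
    (hfpf : ∀ h ∈ H, h * g = g * h → h = 1) (h : G) (hh : h ∈ H) :
    ∃ k ∈ H, g * h = k⁻¹ * g * k := by
  have hnorm : ∀ k, k ∈ H → g⁻¹ * k * g ∈ H :=
    fun k hk => (Subgroup.mem_normalizer_iff''.mp hg k).mp hk
  let φ : H → H := fun k =>
    ⟨g⁻¹ * (k : G)⁻¹ * g * k, H.mul_mem (hnorm _ (H.inv_mem k.2)) k.2⟩
  have hinj : Function.Injective φ := by
    intro a b hab
    have h1 : g⁻¹ * (a : G)⁻¹ * g * a = g⁻¹ * (b : G)⁻¹ * g * b := congrArg Subtype.val hab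
    have h3 : (a : G)⁻¹ * g * a = (b : G)⁻¹ * g * b := by
      have h5 := congrArg (fun t => g * t) h1
      simpa [mul_assoc] using h5
    have h2 : ((b : G) * (a : G)⁻¹) * g = g * ((b : G) * (a : G)⁻¹) := by
      calc (b : G) * (a : G)⁻¹ * g = b * ((a : G)⁻¹ * g * a) * (a : G)⁻¹ := by group
        _ = b * ((b : G)⁻¹ * g * b) * (a : G)⁻¹ := by rw [h3]
        _ = g * (b * (a : G)⁻¹) := by group
    have h4 := hfpf _ (H.mul_mem b.2 (H.inv_mem a.2)) h2
    apply Subtype.ext
    rw [mul_inv_eq_one] at h4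
    exact h4.symm
  have hsurj : Function.Surjective φ := Finite.injective_iff_surjective.mp hinj
  obtain ⟨k, hk⟩ := hsurj ⟨h, hh⟩
  refine ⟨k, k.2, ?_⟩
  have h1 : g⁻¹ * (k : G)⁻¹ * g * k = h := congrArg Subtype.val hk
  rw [← h1]
  group

end GroupLemmas

section SumLemmas

variable {G : Type u} [Group G] [Fintype G]

theorem sum_subgroup_filter_le (M : Subgroup G) [Fintype M] (f : G → ℝ) (hf : ∀ g, 0 ≤ f g)
    (Q : G → Prop) [DecidablePred Q] :
    ∑ g ∈ (Finset.univ : Finset M).filter (fun g : M => Q (g : G)), f g ≤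
      ∑ g ∈ (Finset.univ : Finset G).filter Q, f g := by
  classical
  have h1 := Finset.sum_map ((Finset.univ : Finset M).filter (fun g : M => Q (g : G)))
    (Function.Embedding.subtype (· ∈ M)) f
  have h2 : ∑ g ∈ (Finset.univ : Finset M).filter (fun g : M => Q (g : G)), f g =
      ∑ x ∈ Finset.map (Function.Embedding.subtype (· ∈ M))
        ((Finset.univ : Finset M).filter (fun g : M => Q (g : G))), f x := h1.symm
  rw [h2]
  apply Finset.sum_le_sum_of_subset_of_nonneg
  · intro x hx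
    rw [Finset.mem_map] at hx
    obtain ⟨y, hy, rfl⟩ := hx
    rw [Finset.mem_filter] at hy ⊢
    exact ⟨Finset.mem_univ _, hy.2⟩
  · intro x _ _
    exact hf x

open Classical in
theorem sum_filter_center_normSq {χ : G → ℂ} (hχ : IsIrrCharacter G χ) :
    ∑ g ∈ (Finset.univ : Finset G).filter (· ∈ Subgroup.center G), Complex.normSq (χ g) =
      (Nat.card (Subgroup.center G) : ℝ) * Complex.normSq (χ 1) := by
  classical
  obtain ⟨d, hd0, hd⟩ := irr_one_eq hχ
  have h1 : ∀ g ∈ (Finset.univ : Finset G).filter (· ∈ Subgroup.center G),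
      Complex.normSq (χ g) = Complex.normSq (χ 1) := by
    intro g hg
    rw [Finset.mem_filter] at hg
    have h2 := irr_central_normSq hχ g hg.2
    rw [Complex.mul_conj, hd] at h2
    have h3 : ((Complex.normSq (χ g) : ℝ) : ℂ) = ((d * d : ℝ) : ℂ) := by
      rw [h2]
      push_cast
      ring
    have h4 : Complex.normSq (χ g) = (d : ℝ) * d := by exact_mod_cast h3
    rw [h4, hd]
    simp [Complex.normSq_apply]
  rw [Finset.sum_congr rfl h1, Finset.sum_const, nsmul_eq_mul]
  congr 1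
  rw [Nat.card_eq_fintype_card, Fintype.card_subtype]

theorem sum_normSq_irr {χ : G → ℂ} (hχ : IsIrrCharacter G χ) :
    ∑ g : G, Complex.normSq (χ g) = (Nat.card G : ℝ) := by
  have h1 := sum_mul_conj_irr hχ
  have h2 : ((∑ g : G, Complex.normSq (χ g) : ℝ) : ℂ) = ((Nat.card G : ℝ) : ℂ) := by
    push_cast
    rw [← h1]
    refine Finset.sum_congr rfl (fun g _ => ?_)
    rw [Complex.mul_conj]
  exact_mod_cast h2

end SumLemmas

section Main

variable {G : Type u} [Group G] [Fintype G]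

open Classical in
/-- The degree bound `|H| · |[χ_H, 1_H]|² < χ(1)²`. -/
theorem normSq_degree_gt (H : Subgroup G) [Fintype H]
    (hab : ∀ a ∈ H, ∀ b ∈ H, a * b = b * a) (hZ : H ⊓ Subgroup.center G = ⊥)
    (hone : ∀ g : G, g ∉ Subgroup.center G → ∀ a b : G,
      Subgroup.centralizer ({g} : Set G) ⊓ H.map (MulAut.conj a).toMonoidHom ≠ ⊥ →
      Subgroup.centralizer ({g} : Set G) ⊓ H.map (MulAut.conj b).toMonoidHom ≠ ⊥ →
      H.map (MulAut.conj a).toMonoidHom = H.map (MulAut.conj b).toMonoidHom)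
    {χ : G → ℂ} (hχ : IsIrrCharacter G χ) (hker : ∃ h ∈ H, χ h ≠ χ 1) :
    (Nat.card H : ℝ) * Complex.normSq ((Nat.card H : ℂ)⁻¹ * ∑ h : H, χ h) <
      Complex.normSq (χ 1) := by
  set Z : Subgroup G := Subgroup.center G with hZdef
  set M : Subgroup G := Subgroup.normalizer (H : Set G) with hMdef
  have hHM : H ≤ M := Subgroup.le_normalizer
  have hZM : Z ≤ M := Subgroup.center_le_normalizer _
  letI : Fintype M := Fintype.ofFinite M
  let K : Subgroup M := H.subgroupOf M
  haveI hKn : K.Normal := Subgroup.normal_in_normalizer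
  letI : Fintype K := Fintype.ofFinite K
  have hχc : IsCharacter G χ := isCharacter_of_isIrrCharacter hχ
  have hcf : IsClassFunction G χ := isClassFunction_of_isIrrCharacter hχ
  let χM : M → ℂ := fun g => χ g
  have hχM : IsCharacter M χM := isCharacter_restrict M hχc
  obtain ⟨hχ₀c, hχ₁c⟩ := isCharacter_avgK K hχM
  set c : ℂ := (Nat.card H : ℂ)⁻¹ * ∑ h : H, χ h with hc
  have hH0 : (Nat.card H : ℂ) ≠ 0 := by exact_mod_cast (Nat.card_pos (α := H)).ne'
  -- the formula for the average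
  have hχ₀ : ∀ g : M, avgK K χM g = (Nat.card H : ℂ)⁻¹ * ∑ h : H, χ ((g : G) * h) := by
    intro g
    rw [avgK_apply]
    let e := Subgroup.subgroupOfEquivOfLe hHM
    congr 1
    · rw [Nat.card_congr e.toEquiv]
    · exact Fintype.sum_equiv e.toEquiv (fun k : K => χM (g * k))
        (fun h : H => χ ((g : G) * h)) (fun k => rfl)
  let A : G → Prop := fun g => ∃ h ∈ H, h ≠ 1 ∧ h * g = g * h
  -- fixed-point-free elements
  have hE3 : ∀ g : M, ¬ A (g : G) → avgK K χM g = χM g := by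
    intro g hg
    rw [hχ₀ g]
    have hfpf : ∀ h ∈ H, h * (g : G) = g * h → h = 1 := by
      intro h hh hcomm
      by_contra h1
      exact hg ⟨h, hh, h1, hcomm⟩
    have h2 : ∀ h : H, χ ((g : G) * h) = χ g := by
      intro h
      obtain ⟨k, -, hk⟩ := mul_eq_conj_of_fpf H (g : G) g.2 hfpf h h.2
      rw [hk]
      have := hcf (g : G) k⁻¹
      rwa [inv_inv] at this
    rw [Finset.sum_congr rfl (fun h _ => h2 h), Finset.sum_const, Finset.card_univ,
      nsmul_eq_mul, ← Nat.card_eq_fintype_card, ← mul_assoc, inv_mul_cancel₀ hH0, one_mul]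
  -- the non-averaged part is nonzero
  have hE2 : χM - avgK K χM ≠ 0 := by
    intro h0
    obtain ⟨h, hh, hne⟩ := hker
    apply hne
    have h1 : χM = avgK K χM := sub_eq_zero.mp h0
    have h2 : χM ⟨h, hHM hh⟩ = avgK K χM ⟨h, hHM hh⟩ := congrFun h1 _
    have h3 : avgK K χM ((1 : M) * ((⟨⟨h, hHM hh⟩, Subgroup.mem_subgroupOf.mpr hh⟩ : K) : M)) =
        avgK K χM 1 := avgK_mul_right K χM 1 _
    rw [one_mul] at h3
    have h4 : avgK K χM 1 = χM 1 := (congrFun h1 1).symm
    show χM ⟨h, hHM hh⟩ = χM 1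
    rw [h2, ← h4]
    exact h3
  have hS1 := card_le_sum_normSq hχ₁c hE2
  have hsplit := sum_normSq_avgK_split K χM
  -- values on `H Z`
  obtain ⟨d, hd0, hd⟩ := irr_one_eq hχ
  have hD : Complex.normSq (χ 1) = (d : ℝ) * d := by
    rw [hd]
    simp [Complex.normSq_apply]
  have hDpos : 0 < Complex.normSq (χ 1) := by
    rw [hD]
    have : (0 : ℝ) < d := by exact_mod_cast hd0
    positivity
  have hcentral : ∀ z ∈ Z, Complex.normSq (χ z) = Complex.normSq (χ 1) := by
    intro z hz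
    have h2 := irr_central_normSq hχ z hz
    rw [Complex.mul_conj, hd] at h2
    have h3 : ((Complex.normSq (χ z) : ℝ) : ℂ) = ((d * d : ℝ) : ℂ) := by
      rw [h2]
      push_cast
      ring
    have h4 : Complex.normSq (χ z) = (d : ℝ) * d := by exact_mod_cast h3
    rw [h4, hD]
  have hHZval : ∀ (h : H) (z : Z),
      Complex.normSq (avgK K χM ⟨(h : G) * z, M.mul_mem (hHM h.2) (hZM z.2)⟩) =
        Complex.normSq c := by
    intro h z
    rw [hχ₀]
    have h1 : ∀ k : H, χ ((h : G) * z * k) = χ z / χ 1 * χ ((h * k : H) : G) := by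
      intro k
      have hz := Subgroup.mem_center_iff.mp z.2 (h : G)
      have : (h : G) * z * k = z * ((h : G) * k) := by
        rw [hz, mul_assoc]
      rw [this]
      exact Cfsg.Agent.Helper23.irr_central_mul χ hχ z z.2 _
    have h2 : ∑ k : H, χ ((h * k : H) : G) = ∑ k : H, χ k :=
      Fintype.sum_equiv (Equiv.mulLeft h) _ _ (fun k => rfl)
    simp only [] at *
    rw [Finset.sum_congr rfl (fun k _ => h1 k), ← Finset.mul_sum, h2]
    have h3 : (Nat.card H : ℂ)⁻¹ * (χ z / χ 1 * ∑ k : H, χ k) = χ z / χ 1 * c := by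
      rw [hc]
      ring
    rw [h3, Complex.normSq_mul, Complex.normSq_div, hcentral z z.2, div_self hDpos.ne', one_mul]
  -- membership of `H Z` in `A`
  obtain ⟨h₀, hh₀, hne₀⟩ := hker
  have hh₀1 : h₀ ≠ 1 := by
    rintro rfl
    exact hne₀ rfl
  have hHZA : ∀ (h : H) (z : Z), A ((h : G) * z) := by
    intro h z
    refine ⟨h₀, hh₀, hh₀1, ?_⟩
    have hz := Subgroup.mem_center_iff.mp z.2 h₀
    rw [← mul_assoc, hab h₀ hh₀ h h.2, mul_assoc, hz, ← mul_assoc]
  -- injectivity of `(h, z) ↦ h z`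
  have hinj : Function.Injective
      (fun p : H × Z => (⟨(p.1 : G) * p.2, M.mul_mem (hHM p.1.2) (hZM p.2.2)⟩ : M)) := by
    intro p q hpq
    have h1 : (p.1 : G) * p.2 = (q.1 : G) * q.2 := congrArg Subtype.val hpq
    have h2 : (q.1 : G)⁻¹ * p.1 = (q.2 : G) * (p.2 : G)⁻¹ := by
      rw [eq_mul_inv_iff_mul_eq, mul_assoc, h1, inv_mul_cancel_left]
    have h3 : (q.1 : G)⁻¹ * p.1 ∈ H ⊓ Subgroup.center G := by
      refine ⟨H.mul_mem (H.inv_mem q.1.2) p.1.2, ?_⟩
      rw [h2]
      exact Z.mul_mem q.2.2 (Z.inv_mem p.2.2)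
    rw [hZ, Subgroup.mem_bot] at h3
    have h4 : (p.1 : G) = q.1 := by
      rw [inv_mul_eq_one] at h3
      exact h3.symm
    have h5 : (p.2 : G) = q.2 := by
      rw [h4] at h1
      exact mul_left_cancel h1
    exact Prod.ext (Subtype.ext h4) (Subtype.ext h5)
  letI : Fintype Z := Fintype.ofFinite Z
  -- lower bound for the averaged part on `A`
  have hE4 : (Nat.card H : ℝ) * (Nat.card Z : ℝ) * Complex.normSq c ≤
      ∑ g ∈ (Finset.univ : Finset M).filter (fun g : M => A (g : G)),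
        Complex.normSq (avgK K χM g) := by
    have h1 : ∑ p : H × Z, Complex.normSq (avgK K χM
        ⟨(p.1 : G) * p.2, M.mul_mem (hHM p.1.2) (hZM p.2.2)⟩) =
        (Nat.card H : ℝ) * (Nat.card Z : ℝ) * Complex.normSq c := by
      rw [Finset.sum_congr rfl (fun p _ => hHZval p.1 p.2), Finset.sum_const, Finset.card_univ,
        Fintype.card_prod, nsmul_eq_mul, Nat.card_eq_fintype_card, Nat.card_eq_fintype_card]
      push_cast
      ring
    rw [← h1]
    have h2 := Finset.sum_map (Finset.univ : Finset (H × Z)) ⟨_, hinj⟩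
      (fun g : M => Complex.normSq (avgK K χM g))
    have h3 : ∑ p : H × Z, Complex.normSq (avgK K χM
        ⟨(p.1 : G) * p.2, M.mul_mem (hHM p.1.2) (hZM p.2.2)⟩) =
        ∑ g ∈ Finset.map ⟨_, hinj⟩ (Finset.univ : Finset (H × Z)),
          Complex.normSq (avgK K χM g) := h2.symm
    rw [h3]
    apply Finset.sum_le_sum_of_subset_of_nonneg
    · intro g hg
      rw [Finset.mem_map] at hg
      obtain ⟨p, -, rfl⟩ := hg
      rw [Finset.mem_filter]
      exact ⟨Finset.mem_univ _, hHZA p.1 p.2⟩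
    · intro g _ _
      exact Complex.normSq_nonneg _
  -- splitting the sums over `M` according to `A`
  have hsplitA : ∀ f : M → ℝ, ∑ g : M, f g =
      ∑ g ∈ (Finset.univ : Finset M).filter (fun g : M => A (g : G)), f g +
        ∑ g ∈ (Finset.univ : Finset M).filter (fun g : M => ¬ A (g : G)), f g := by
    intro f
    rw [Finset.sum_filter_add_sum_filter_not]
  have hnotA : ∑ g ∈ (Finset.univ : Finset M).filter (fun g : M => ¬ A (g : G)),
      Complex.normSq (χM g) =
      ∑ g ∈ (Finset.univ : Finset M).filter (fun g : M => ¬ A (g : G)),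
        Complex.normSq (avgK K χM g) := by
    refine Finset.sum_congr rfl (fun g hg => ?_)
    rw [Finset.mem_filter] at hg
    rw [hE3 g hg.2]
  -- the part of `A` inside and outside the centre
  let N : G → ℝ := fun g => Complex.normSq (χ g)
  have hN0 : ∀ g, 0 ≤ N g := fun g => Complex.normSq_nonneg _
  have hsplitZ : ∑ g ∈ (Finset.univ : Finset M).filter (fun g : M => A (g : G)), N g =
      ∑ g ∈ (Finset.univ : Finset M).filter (fun g : M => (g : G) ∈ Z ∧ A (g : G)), N g +
      ∑ g ∈ (Finset.univ : Finset M).filter (fun g : M => (g : G) ∉ Z ∧ A (g : G)), N g := by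
    rw [← Finset.sum_filter_add_sum_filter_not
      ((Finset.univ : Finset M).filter (fun g : M => A (g : G))) (fun g : M => (g : G) ∈ Z)]
    congr 1
    · apply Finset.sum_congr _ (fun _ _ => rfl)
      ext g
      simp only [Finset.mem_filter, Finset.mem_univ, true_and]
      tauto
    · apply Finset.sum_congr _ (fun _ _ => rfl)
      ext g
      simp only [Finset.mem_filter, Finset.mem_univ, true_and]
      tauto
  have hE5 : ∑ g ∈ (Finset.univ : Finset M).filter (fun g : M => (g : G) ∈ Z ∧ A (g : G)), N g ≤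
      (Nat.card Z : ℝ) * Complex.normSq (χ 1) := by
    refine le_trans (sum_subgroup_filter_le M N hN0 (fun g => g ∈ Z ∧ A g)) ?_
    rw [← sum_filter_center_normSq hχ]
    apply Finset.sum_le_sum_of_subset_of_nonneg
    · intro g hg
      rw [Finset.mem_filter] at hg ⊢
      exact ⟨hg.1, hg.2.1⟩
    · intro g _ _
      exact hN0 g
  have hNc : ∀ g x : G, N (x * g * x⁻¹) = N g := by
    intro g x
    show Complex.normSq (χ (x * g * x⁻¹)) = Complex.normSq (χ g)
    rw [hcf g x]
  have hcount := card_mul_sum_le_of_conj M N hN0 hNc (fun g => g ∉ Z ∧ A g) (fun g => g ∉ Z)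
    (by
      intro g x₀ x hP₀ hP
      have hgZ : g ∉ Z := by
        intro hg
        apply hP.1
        have := Subgroup.mem_center_iff.mp hg x
        rw [mul_assoc, ← this, inv_mul_cancel_left]
        exact hg
      obtain ⟨h₁, hh₁, hne₁, hc₁⟩ := hP₀.2
      obtain ⟨h₂, hh₂, hne₂, hc₂⟩ := hP.2
      exact inv_mul_mem_normalizer_of_map_eq H x₀ x
        (hone g hgZ x₀ x (centralizer_inf_map_ne_bot H g x₀ h₁ hh₁ hne₁ hc₁)
          (centralizer_inf_map_ne_bot H g x h₂ hh₂ hne₂ hc₂)))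
    (by
      intro g x hP hg
      apply hP.1
      have := Subgroup.mem_center_iff.mp hg x
      rw [mul_assoc, ← this, inv_mul_cancel_left]
      exact hg)
  have hnotZ : ∑ g ∈ (Finset.univ : Finset G).filter (fun g => g ∉ Z), N g =
      (Nat.card G : ℝ) - (Nat.card Z : ℝ) * Complex.normSq (χ 1) := by
    have h1 := Finset.sum_filter_add_sum_filter_not (Finset.univ : Finset G) (fun g => g ∈ Z) N
    rw [sum_normSq_irr hχ, sum_filter_center_normSq hχ] at h1
    linarith
  have hE6 : (Nat.card G : ℝ) *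
      ∑ g ∈ (Finset.univ : Finset M).filter (fun g : M => (g : G) ∉ Z ∧ A (g : G)), N g ≤
      (Nat.card M : ℝ) * ((Nat.card G : ℝ) - (Nat.card Z : ℝ) * Complex.normSq (χ 1)) := by
    rw [← hnotZ]
    refine le_trans ?_ hcount
    apply mul_le_mul_of_nonneg_left _ (Nat.cast_nonneg _)
    exact sum_subgroup_filter_le M N hN0 (fun g => g ∉ Z ∧ A g)
  -- combine
  have h1 := hsplitA (fun g => Complex.normSq (χM g))
  have h2 := hsplitA (fun g => Complex.normSq (avgK K χM g))
  have hGpos : (0 : ℝ) < Nat.card G := by exact_mod_cast Nat.card_pos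
  have hMpos : (0 : ℝ) < Nat.card M := by exact_mod_cast Nat.card_pos
  have hZpos : (0 : ℝ) < Nat.card Z := by exact_mod_cast Nat.card_pos
  have hHpos : (0 : ℝ) < Nat.card H := by exact_mod_cast Nat.card_pos
  set SA := ∑ g ∈ (Finset.univ : Finset M).filter (fun g : M => A (g : G)),
    Complex.normSq (χM g) with hSA
  set S0A := ∑ g ∈ (Finset.univ : Finset M).filter (fun g : M => A (g : G)),
    Complex.normSq (avgK K χM g) with hS0A
  set SZ := ∑ g ∈ (Finset.univ : Finset M).filter (fun g : M => (g : G) ∈ Z ∧ A (g : G)), N g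
    with hSZ
  set SnZ := ∑ g ∈ (Finset.univ : Finset M).filter (fun g : M => (g : G) ∉ Z ∧ A (g : G)), N g
    with hSnZ
  have hSAeq : SA = SZ + SnZ := hsplitZ
  have key : SA = S0A + ∑ g : M, Complex.normSq ((χM - avgK K χM) g) := by
    rw [h1, h2, hnotA] at hsplit
    linarith
  have hfinal : (Nat.card G : ℝ) * ((Nat.card H : ℝ) * (Nat.card Z : ℝ) * Complex.normSq c) ≤
      (Nat.card Z : ℝ) * Complex.normSq (χ 1) * ((Nat.card G : ℝ) - Nat.card M) := by
    have h3 : (Nat.card H : ℝ) * (Nat.card Z : ℝ) * Complex.normSq c + Nat.card M ≤ SZ + SnZ := by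
      rw [← hSAeq, key]
      linarith
    have h4 : (Nat.card G : ℝ) * ((Nat.card H : ℝ) * (Nat.card Z : ℝ) * Complex.normSq c +
        Nat.card M) ≤ (Nat.card G : ℝ) * (SZ + SnZ) :=
      mul_le_mul_of_nonneg_left h3 hGpos.le
    have h5 : (Nat.card G : ℝ) * SZ ≤
        (Nat.card G : ℝ) * ((Nat.card Z : ℝ) * Complex.normSq (χ 1)) :=
      mul_le_mul_of_nonneg_left hE5 hGpos.le
    nlinarith
  have hlt : (Nat.card Z : ℝ) * Complex.normSq (χ 1) * ((Nat.card G : ℝ) - Nat.card M) <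
      (Nat.card Z : ℝ) * Complex.normSq (χ 1) * (Nat.card G : ℝ) := by
    apply mul_lt_mul_of_pos_left _ (mul_pos hZpos hDpos)
    linarith
  have h6 : (Nat.card G : ℝ) * (Nat.card Z : ℝ) *
      ((Nat.card H : ℝ) * Complex.normSq c) < (Nat.card G : ℝ) * (Nat.card Z : ℝ) *
        Complex.normSq (χ 1) := by
    calc (Nat.card G : ℝ) * (Nat.card Z : ℝ) * ((Nat.card H : ℝ) * Complex.normSq c)
        = (Nat.card G : ℝ) * ((Nat.card H : ℝ) * (Nat.card Z : ℝ) * Complex.normSq c) := by ring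
      _ ≤ (Nat.card Z : ℝ) * Complex.normSq (χ 1) * ((Nat.card G : ℝ) - Nat.card M) := hfinal
      _ < (Nat.card Z : ℝ) * Complex.normSq (χ 1) * (Nat.card G : ℝ) := hlt
      _ = (Nat.card G : ℝ) * (Nat.card Z : ℝ) * Complex.normSq (χ 1) := by ring
  exact lt_of_mul_lt_mul_left h6 (mul_pos hGpos hZpos).le

/-- For a character of an abelian group, the degree is at most the norm. -/
theorem le_classInner_self_of_comm {H : Type u} [Group H] [Fintype H]
    (hcomm : ∀ a b : H, a * b = b * a) {φ : H → ℂ} (hφ : IsCharacter H φ) (d t : ℕ)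
    (hd : φ 1 = d) (ht : classInner φ φ = t) : d ≤ t := by
  classical
  letI := irrFintype (G := H)
  obtain ⟨hm, hdec⟩ := isCharacter_decomp hφ
  choose m hm using hm
  have h1 : (d : ℂ) = ((∑ lam : IrrCharacter H, m lam : ℕ) : ℂ) := by
    rw [← hd]
    conv_lhs => rw [hdec]
    rw [Finset.sum_apply]
    push_cast
    refine Finset.sum_congr rfl (fun lam _ => ?_)
    rw [Pi.smul_apply, hm lam, irr_one_eq_charDegree lam.2, charDegree_eq_one_of_comm hcomm lam.2]
    simp
  have h2 : (t : ℂ) = ((∑ lam : IrrCharacter H, m lam * m lam : ℕ) : ℂ) := by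
    rw [← ht, classInner_eq_sum_mul (isClassFunction_of_isCharacter hφ)]
    push_cast
    refine Finset.sum_congr rfl (fun lam _ => ?_)
    rw [hm lam, Complex.conj_natCast]
  have h1' : d = ∑ lam : IrrCharacter H, m lam := by exact_mod_cast h1
  have h2' : t = ∑ lam : IrrCharacter H, m lam * m lam := by exact_mod_cast h2
  rw [h1', h2']
  exact Finset.sum_le_sum (fun lam _ => Nat.le_mul_self _)

open Classical in
/-- The second degree bound: `|H| < (1 + χ(1))²` when `H` lies in no proper normal subgroup. -/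
theorem card_lt_one_add_degree_sq (H : Subgroup G) [Fintype H]
    (hab : ∀ a ∈ H, ∀ b ∈ H, a * b = b * a) (hZ : H ⊓ Subgroup.center G = ⊥)
    (hone : ∀ g : G, g ∉ Subgroup.center G → ∀ a b : G,
      Subgroup.centralizer ({g} : Set G) ⊓ H.map (MulAut.conj a).toMonoidHom ≠ ⊥ →
      Subgroup.centralizer ({g} : Set G) ⊓ H.map (MulAut.conj b).toMonoidHom ≠ ⊥ →
      H.map (MulAut.conj a).toMonoidHom = H.map (MulAut.conj b).toMonoidHom)
    {χ : G → ℂ} (hχ : IsIrrCharacter G χ) (d : ℕ) (hd : χ 1 = d) (hd1 : d ≠ 1)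
    (hnorm : ∀ M : Subgroup G, M.Normal → H ≤ M → M = ⊤) :
    (Nat.card H : ℝ) < (1 + (d : ℝ)) ^ 2 := by
  letI := irrFintype (G := G)
  letI := irrFintype (G := H)
  have hχc : IsCharacter G χ := isCharacter_of_isIrrCharacter hχ
  have hd0 : 0 < d := by
    obtain ⟨n, hn0, hn⟩ := irr_one_eq hχ
    have : (d : ℂ) = n := by rw [← hd, hn]
    have : d = n := by exact_mod_cast this
    rw [this]
    exact hn0
  have hd2 : 2 ≤ d := by omega
  -- the character `χ \bar χ`
  set Θ : G → ℂ := χ * (fun g => conj (χ g)) with hΘ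
  have hΘc : IsCharacter G Θ := isCharacter_mul hχc (isCharacter_conj hχc)
  obtain ⟨hb, hdec⟩ := isCharacter_decomp hΘc
  choose b hb using hb
  -- multiplicities of the principal character of `H`, and degrees
  have hcc : ∀ ψ : IrrCharacter G, ∃ n : ℕ,
      classInner (fun h : H => (ψ : G → ℂ) h) (fun _ => (1 : ℂ)) = n := fun ψ =>
    classInner_char_nat (isCharacter_restrict H (isCharacter_of_isIrrCharacter ψ.2))
      isCharacter_one
  choose cc hcc using hcc
  have hdd : ∀ ψ : IrrCharacter G, ∃ n : ℕ, 0 < n ∧ (ψ : G → ℂ) 1 = n := fun ψ => irr_one_eq ψ.2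
  choose dd hdd0 hdd using hdd
  -- (I1) degrees
  have hI1 : ∑ ψ : IrrCharacter G, b ψ * dd ψ = d * d := by
    have h1 : Θ 1 = ((d * d : ℕ) : ℂ) := by
      rw [hΘ, Pi.mul_apply, hd, Complex.conj_natCast]
      push_cast
      ring
    have h2 : Θ 1 = ((∑ ψ : IrrCharacter G, b ψ * dd ψ : ℕ) : ℂ) := by
      conv_lhs => rw [hdec]
      rw [Finset.sum_apply]
      push_cast
      refine Finset.sum_congr rfl (fun ψ _ => ?_)
      rw [Pi.smul_apply, hb ψ, hdd ψ, smul_eq_mul]
    have : ((∑ ψ : IrrCharacter G, b ψ * dd ψ : ℕ) : ℂ) = ((d * d : ℕ) : ℂ) := by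
      rw [← h1, h2]
    exact_mod_cast this
  -- (I2) multiplicities on `H`
  obtain ⟨t, ht⟩ := classInner_char_nat (isCharacter_restrict H hχc) (isCharacter_restrict H hχc)
  have hdt : d ≤ t := by
    refine le_classInner_self_of_comm (fun a b => Subtype.ext (hab a a.2 b b.2))
      (isCharacter_restrict H hχc) d t hd ht
  have hI2 : ∑ ψ : IrrCharacter G, b ψ * cc ψ = t := by
    have h1 : classInner (fun h : H => Θ h) (fun _ => (1 : ℂ)) = t := by
      rw [← ht]
      unfold classInner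
      congr 1
      refine Finset.sum_congr rfl (fun h _ => ?_)
      show χ h * conj (χ h) * conj (1 : ℂ) = χ h * conj (χ h)
      simp
    have h2 : classInner (fun h : H => Θ h) (fun _ => (1 : ℂ)) =
        ((∑ ψ : IrrCharacter G, b ψ * cc ψ : ℕ) : ℂ) := by
      have h3 : (fun h : H => Θ h) =
          ∑ ψ : IrrCharacter G, (b ψ : ℂ) • (fun h : H => (ψ : G → ℂ) h) := by
        funext h
        have := congrFun hdec h
        rw [this, Finset.sum_apply, Finset.sum_apply]
        refine Finset.sum_congr rfl (fun ψ _ => ?_)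
        rw [hb ψ]
        rfl
      rw [h3, classInner_sum_left]
      push_cast
      refine Finset.sum_congr rfl (fun ψ _ => ?_)
      rw [classInner_smul_left, hcc ψ]
    have : ((∑ ψ : IrrCharacter G, b ψ * cc ψ : ℕ) : ℂ) = (t : ℂ) := by rw [← h2, h1]
    exact_mod_cast this
  -- the principal character
  set ψ₁ : IrrCharacter G := principalChar G with hψ₁
  have hb1 : b ψ₁ = 1 := by
    have h1 : classInner Θ (ψ₁ : G → ℂ) = 1 := by
      have h2 : classInner Θ (ψ₁ : G → ℂ) = classInner χ χ := by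
        unfold classInner
        congr 1
        refine Finset.sum_congr rfl (fun g _ => ?_)
        show χ g * conj (χ g) * conj (1 : ℂ) = χ g * conj (χ g)
        simp
      rw [h2, irr_orthogonality hχ hχ, if_pos rfl]
    have : (b ψ₁ : ℂ) = 1 := by rw [← hb ψ₁, h1]
    exact_mod_cast this
  have hcc1 : cc ψ₁ = 1 := by
    have h1 : classInner (fun h : H => (ψ₁ : G → ℂ) h) (fun _ => (1 : ℂ)) = 1 := by
      have := irr_orthogonality (isIrrCharacter_one (G := H)) (isIrrCharacter_one (G := H))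
      rw [if_pos rfl] at this
      exact this
    have : (cc ψ₁ : ℂ) = 1 := by rw [← hcc ψ₁, h1]
    exact_mod_cast this
  have hdd1 : dd ψ₁ = 1 := by
    have : (dd ψ₁ : ℂ) = 1 := by
      rw [← hdd ψ₁]
      rfl
    exact_mod_cast this
  -- nonprincipal characters do not contain `H` in their kernel
  have hnonpr : ∀ ψ : IrrCharacter G, ψ ≠ ψ₁ → ∃ h ∈ H, (ψ : G → ℂ) h ≠ (ψ : G → ℂ) 1 := by
    intro ψ hψ
    by_contra hcon
    push_neg at hcon
    have hψc := isCharacter_of_isIrrCharacter ψ.2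
    have hle : H ≤ charKer hψc := fun h hh => (mem_charKer hψc h).mpr (hcon h hh)
    have htop := hnorm (charKer hψc) (charKer_normal hψc) hle
    have hconst : ∀ g : G, (ψ : G → ℂ) g = (ψ : G → ℂ) 1 := by
      intro g
      have : g ∈ charKer hψc := by
        rw [htop]
        trivial
      exact (mem_charKer hψc g).mp this
    apply hψ
    have h1 : classInner (ψ : G → ℂ) (ψ₁ : G → ℂ) = (ψ : G → ℂ) 1 := by
      unfold classInner
      have h2 : ∀ g : G, (ψ : G → ℂ) g * conj ((ψ₁ : G → ℂ) g) = (ψ : G → ℂ) 1 := by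
        intro g
        rw [hconst g]
        show (ψ : G → ℂ) 1 * conj (1 : ℂ) = _
        simp
      rw [Finset.sum_congr rfl (fun g _ => h2 g), Finset.sum_const, Finset.card_univ,
        nsmul_eq_mul, ← Nat.card_eq_fintype_card]
      have hG0 : (Nat.card G : ℂ) ≠ 0 := by exact_mod_cast (Nat.card_pos (α := G)).ne'
      rw [← mul_assoc, inv_mul_cancel₀ hG0, one_mul]
    have h3 := irr_orthogonality ψ.2 ψ₁.2
    rw [h1] at h3
    by_contra hne
    have hne' : (ψ : G → ℂ) ≠ (ψ₁ : G → ℂ) := fun h => hne (Subtype.ext h)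
    rw [if_neg hne'] at h3
    exact Cfsg.Agent.Helper23.irr_one_ne_zero _ ψ.2 h3
  -- the strict inequality for nonprincipal characters
  set s : ℝ := Real.sqrt (Nat.card H) with hs
  have hs0 : 0 ≤ s := Real.sqrt_nonneg _
  have hs2 : s * s = (Nat.card H : ℝ) := Real.mul_self_sqrt (Nat.cast_nonneg _)
  have hterm : ∀ ψ : IrrCharacter G, ψ ≠ ψ₁ → s * (cc ψ : ℝ) < (dd ψ : ℝ) := by
    intro ψ hψ
    have h1 := normSq_degree_gt H hab hZ hone ψ.2 (hnonpr ψ hψ)
    have h2 : (Nat.card H : ℂ)⁻¹ * ∑ h : H, (ψ : G → ℂ) h = (cc ψ : ℂ) := by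
      rw [← hcc ψ]
      unfold classInner
      congr 1
      refine Finset.sum_congr rfl (fun h _ => ?_)
      simp
    rw [h2, hdd ψ] at h1
    simp only [Complex.normSq_natCast] at h1
    have hdpos : (0 : ℝ) < dd ψ := by exact_mod_cast hdd0 ψ
    have hc0 : (0 : ℝ) ≤ cc ψ := Nat.cast_nonneg _
    by_contra hcon
    push_neg at hcon
    have h3 : (dd ψ : ℝ) * dd ψ ≤ (s * cc ψ) * (s * cc ψ) :=
      mul_le_mul hcon hcon hdpos.le (mul_nonneg hs0 hc0)
    have h4 : (s * cc ψ) * (s * cc ψ) = (Nat.card H : ℝ) * ((cc ψ : ℝ) * cc ψ) := by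
      rw [← hs2]
      ring
    linarith
  -- sums over the nonprincipal characters
  have hsum1 : ∑ ψ ∈ Finset.univ.erase ψ₁, ((b ψ : ℝ) * dd ψ) = (d : ℝ) * d - 1 := by
    have h1 := Finset.add_sum_erase Finset.univ (fun ψ => ((b ψ : ℝ) * dd ψ))
      (Finset.mem_univ ψ₁)
    have h2 : ∑ ψ : IrrCharacter G, ((b ψ : ℝ) * dd ψ) = (d : ℝ) * d := by
      exact_mod_cast hI1
    rw [h2, hb1, hdd1] at h1
    push_cast at h1
    linarith
  have hsum2 : ∑ ψ ∈ Finset.univ.erase ψ₁, ((b ψ : ℝ) * cc ψ) = (t : ℝ) - 1 := by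
    have h1 := Finset.add_sum_erase Finset.univ (fun ψ => ((b ψ : ℝ) * cc ψ))
      (Finset.mem_univ ψ₁)
    have h2 : ∑ ψ : IrrCharacter G, ((b ψ : ℝ) * cc ψ) = (t : ℝ) := by
      exact_mod_cast hI2
    rw [h2, hb1, hcc1] at h1
    push_cast at h1
    linarith
  have hdR : (2 : ℝ) ≤ d := by exact_mod_cast hd2
  have hpos : 0 < ∑ ψ ∈ Finset.univ.erase ψ₁, ((b ψ : ℝ) * dd ψ - s * ((b ψ : ℝ) * cc ψ)) := by
    have hnn : ∀ ψ ∈ Finset.univ.erase ψ₁,
        0 ≤ (b ψ : ℝ) * dd ψ - s * ((b ψ : ℝ) * cc ψ) := by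
      intro ψ hψ
      have h1 := hterm ψ (Finset.ne_of_mem_erase hψ)
      have h2 : (0 : ℝ) ≤ b ψ := Nat.cast_nonneg _
      nlinarith
    have hex : ∃ ψ ∈ Finset.univ.erase ψ₁, b ψ ≠ 0 := by
      by_contra hcon
      push_neg at hcon
      have : ∑ ψ ∈ Finset.univ.erase ψ₁, ((b ψ : ℝ) * dd ψ) = 0 := by
        apply Finset.sum_eq_zero
        intro ψ hψ
        rw [hcon ψ hψ]
        simp
      rw [hsum1] at this
      nlinarith
    obtain ⟨ψ, hψ, hbψ⟩ := hex
    apply Finset.sum_pos' hnn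
    refine ⟨ψ, hψ, ?_⟩
    have h1 := hterm ψ (Finset.ne_of_mem_erase hψ)
    have h2 : (1 : ℝ) ≤ b ψ := by exact_mod_cast Nat.one_le_iff_ne_zero.mpr hbψ
    nlinarith
  rw [Finset.sum_sub_distrib, ← Finset.mul_sum, hsum1, hsum2] at hpos
  have htR : (d : ℝ) ≤ t := by exact_mod_cast hdt
  have h5 : s * ((d : ℝ) - 1) < ((d : ℝ) - 1) * (d + 1) := by
    have : s * ((d : ℝ) - 1) ≤ s * ((t : ℝ) - 1) := by
      apply mul_le_mul_of_nonneg_left _ hs0
      linarith
    nlinarith
  have h6 : s < (d : ℝ) + 1 := by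
    have hd1' : (0 : ℝ) < (d : ℝ) - 1 := by linarith
    by_contra hcon
    push_neg at hcon
    have : ((d : ℝ) - 1) * (d + 1) ≤ s * ((d : ℝ) - 1) := by
      rw [mul_comm s]
      exact mul_le_mul_of_nonneg_left hcon hd1'.le
    linarith
  rw [← hs2]
  nlinarith

end Main

end Cfsg.Agent.Helper5
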