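import Mathlib
import Cfsg.Agent.Lib.Helper5.Clifford
import Cfsg.Agent.Lib.Helper5.CharCenter
import Cfsg.Agent.Lib.Helper18.CliffordCorr
import Cfsg.Agent.Lib.Helper5.TIBound

/-!
# The "going down" theorem for abelian chief factors (helper5's shared library)

Isaacs, Theorem 6.18: if `K / L` is an abelian chief factor of `G` and `ϑ ∈ Irr(K)` is
`G`-invariant, then `ϑ_L` is irreducible, or `ϑ_L = e φ` with `e² = |K : L|`, or `ϑ_L` is a sum of
`|K : L|` distinct irreducible characters.
-/

set_option autoImplicit false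

universe u

namespace Cfsg.Agent.Helper5

open Cfsg Cfsg.Agent.Helper24 Cfsg.Agent.Helper18
open scoped ComplexConjugate

section CliffordDecomp

variable {G : Type u} [Group G] [Fintype G]

/-- **Clifford's theorem**: the restriction of an irreducible character to a normal subgroup is a
multiple of the sum of the distinct conjugates of a constituent. -/
theorem clifford_decomp (N : Subgroup G) [hN : N.Normal] [Fintype N] {χ : G → ℂ}
    (hχ : IsIrrCharacter G χ) {ϑ : N → ℂ} (hϑ : IsIrrCharacter N ϑ)
    (hcon : classInner (fun n : N => χ n) ϑ ≠ 0) :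
    ∃ F : Finset (N → ℂ), (∀ φ ∈ F, IsIrrCharacter N φ) ∧
      F.card = (inertia N ϑ).index ∧
      (fun n : N => χ n) = classInner (fun n : N => χ n) ϑ • ∑ φ ∈ F, φ := by
  classical
  letI : Fintype (IrrCharacter N) := irrFintype
  set e := classInner (fun n : N => χ n) ϑ with he
  set S : Set (IrrCharacter N) := {φ : IrrCharacter N | ∃ g : G, conjFun N g ϑ = (φ : N → ℂ)}
    with hS
  have hχN : IsCharacter N (fun n : N => χ n) :=
    isCharacter_restrict N (isCharacter_of_isIrrCharacter hχ)
  have hcf := isClassFunction_of_isIrrCharacter hχ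
  obtain ⟨-, hdec⟩ := isCharacter_decomp hχN
  have hcoef : ∀ ψ : IrrCharacter N, classInner (fun n : N => χ n) (ψ : N → ℂ) =
      if ψ ∈ S then e else 0 := by
    intro ψ
    split_ifs with hψ
    · obtain ⟨g, hg⟩ := hψ
      rw [← hg, classInner_restrict_conjFun N g hcf ϑ]
    · by_contra hne
      obtain ⟨x, hx⟩ := clifford_conj N hχ hϑ ψ.2 hcon hne
      exact hψ ⟨x, hx⟩
  set F0 : Finset (IrrCharacter N) := Finset.univ.filter (fun ψ : IrrCharacter N => ψ ∈ S)
    with hF0
  have h3 : F0.card = (inertia N ϑ).index := by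
    rw [← card_conjugates N hϑ, Set.ncard_eq_toFinset_card']
    congr 1
    ext ψ
    simp [hS, hF0]
  refine ⟨F0.map ⟨Subtype.val, Subtype.val_injective⟩, ?_, ?_, ?_⟩
  · intro φ hφ
    rw [Finset.mem_map] at hφ
    obtain ⟨ψ, -, rfl⟩ := hφ
    exact ψ.2
  · rw [Finset.card_map, h3]
  · rw [Finset.sum_map]
    conv_lhs => rw [hdec]
    simp only [hcoef]
    rw [Finset.smul_sum, hF0, Finset.sum_filter]
    refine Finset.sum_congr rfl (fun ψ _ => ?_)
    split_ifs with hψ
    · rfl
    · rw [zero_smul]

end CliffordDecomp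

section RestrictNorm

variable {K : Type u} [Group K] [Fintype K]

/-- The norm of the restriction of an irreducible character to a subgroup is at most the index,
with equality when the character vanishes off the subgroup. -/
theorem classInner_restrict_self_le (L : Subgroup K) [Fintype L] {ϑ : K → ℂ}
    (hϑ : IsIrrCharacter K ϑ) :
    ∃ m : ℕ, classInner (fun l : L => ϑ l) (fun l : L => ϑ l) = m ∧ m ≤ L.index ∧
      ((∀ k, k ∉ L → ϑ k = 0) → m = L.index) := by
  classical
  letI := irrFintype (G := L)
  have hϑL : IsCharacter L (fun l : L => ϑ l) :=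
    isCharacter_restrict L (isCharacter_of_isIrrCharacter hϑ)
  obtain ⟨m, hm⟩ := classInner_char_nat hϑL hϑL
  have hL0 : (Nat.card L : ℂ) ≠ 0 := by exact_mod_cast (Nat.card_pos (α := L)).ne'
  have h1 : ∑ l : L, ϑ l * conj (ϑ l) = (Nat.card L : ℂ) * m := by
    rw [← hm]
    unfold classInner
    field_simp
  have h2 : ∑ l : L, Complex.normSq (ϑ l) = (Nat.card L : ℝ) * m := by
    have : ((∑ l : L, Complex.normSq (ϑ l) : ℝ) : ℂ) = ((Nat.card L * m : ℝ) : ℂ) := by
      push_cast
      rw [← h1]
      refine Finset.sum_congr rfl (fun l _ => ?_)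
      rw [Complex.mul_conj]
    exact_mod_cast this
  have h3 : ∑ k : K, Complex.normSq (ϑ k) =
      ∑ l : L, Complex.normSq (ϑ l) +
        ∑ k ∈ Finset.univ.filter (fun k : K => ¬ k ∈ L), Complex.normSq (ϑ k) := by
    rw [← Finset.sum_filter_add_sum_filter_not Finset.univ (fun k : K => k ∈ L)]
    congr 1
    exact Finset.sum_subtype (Finset.univ.filter (fun k : K => k ∈ L)) (by simp)
      (fun k => Complex.normSq (ϑ k))
  have h4 := sum_normSq_irr hϑ
  have hcard : (Nat.card K : ℝ) = (Nat.card L : ℝ) * L.index := by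
    exact_mod_cast (L.card_mul_index).symm
  have hLpos : (0 : ℝ) < Nat.card L := by exact_mod_cast Nat.card_pos
  have hnn : 0 ≤ ∑ k ∈ Finset.univ.filter (fun k : K => ¬ k ∈ L), Complex.normSq (ϑ k) :=
    Finset.sum_nonneg (fun k _ => Complex.normSq_nonneg _)
  refine ⟨m, hm, ?_, ?_⟩
  · have h5 : (Nat.card L : ℝ) * m ≤ (Nat.card L : ℝ) * L.index := by
      rw [← h2, ← hcard, ← h4, h3]
      linarith
    have h6 : (m : ℝ) ≤ L.index := le_of_mul_le_mul_left h5 hLpos
    exact_mod_cast h6
  · intro hv
    have h0 : ∑ k ∈ Finset.univ.filter (fun k : K => ¬ k ∈ L), Complex.normSq (ϑ k) = 0 := by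
      apply Finset.sum_eq_zero
      intro k hk
      rw [Finset.mem_filter] at hk
      rw [hv k hk.2]
      simp
    have h5 : (Nat.card L : ℝ) * m = (Nat.card L : ℝ) * L.index := by
      rw [← h2, ← hcard, ← h4, h3, h0, add_zero]
    have h6 : (m : ℝ) = L.index := mul_left_cancel₀ hLpos.ne' h5
    exact_mod_cast h6

end RestrictNorm

section LinearTwist

open scoped commutatorElement

open Classical in
/-- Column orthogonality for the characters of a finite commutative group. -/
theorem sum_monoidHom_apply {A : Type*} [CommGroup A] [Finite A] [Fintype (A →* ℂˣ)] (a : A) :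
    ∑ lam : A →* ℂˣ, ((lam a : ℂˣ) : ℂ) = if a = 1 then (Nat.card A : ℂ) else 0 := by
  haveI : NeZero (Monoid.exponent A) := ⟨Monoid.exponent_ne_zero_of_finite⟩
  split_ifs with h
  · subst h
    simp only [map_one, Units.val_one, Finset.sum_const, Finset.card_univ, nsmul_eq_mul, mul_one]
    rw [← Nat.card_eq_fintype_card, CommGroup.card_monoidHom_of_hasEnoughRootsOfUnity A ℂ]
  · obtain ⟨φ, hφ⟩ := CommGroup.exists_apply_ne_one_of_hasEnoughRootsOfUnity A ℂ h
    have h1 : ∑ lam : A →* ℂˣ, ((lam a : ℂˣ) : ℂ) =
        ((φ a : ℂˣ) : ℂ) * ∑ lam : A →* ℂˣ, ((lam a : ℂˣ) : ℂ) := by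
      rw [Finset.mul_sum]
      refine (Fintype.sum_equiv (Equiv.mulLeft φ) _ _ ?_).symm
      intro lam
      simp [MonoidHom.mul_apply]
    have h2 : ((φ a : ℂˣ) : ℂ) ≠ 1 := fun h => hφ (Units.ext h)
    have h3 : (1 - ((φ a : ℂˣ) : ℂ)) * ∑ lam : A →* ℂˣ, ((lam a : ℂˣ) : ℂ) = 0 := by
      rw [sub_mul, one_mul, ← h1, sub_self]
    rcases mul_eq_zero.mp h3 with h4 | h4
    · exact absurd (sub_eq_zero.mp h4).symm h2
    · exact h4

variable {K : Type u} [Group K] [Fintype K]

/-- The linear character of `K` attached to a homomorphism of `K ⧸ L`. -/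
noncomputable def twistFun (L : Subgroup K) [L.Normal] (lam : (K ⧸ L) →* ℂˣ) : K → ℂ :=
  fun k => ((lam (QuotientGroup.mk k) : ℂˣ) : ℂ)

theorem twistFun_apply (L : Subgroup K) [L.Normal] (lam : (K ⧸ L) →* ℂˣ) (k : K) :
    twistFun L lam k = ((lam (QuotientGroup.mk k) : ℂˣ) : ℂ) := rfl

theorem isCharacter_twistFun (L : Subgroup K) [L.Normal] (lam : (K ⧸ L) →* ℂˣ) :
    IsCharacter K (twistFun L lam) ∧ twistFun L lam 1 = 1 := by
  constructor
  · exact isCharacter_of_isIrrCharacter
      (isIrrCharacter_of_monoidHom (lam.comp (QuotientGroup.mk' L)))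
  · simp [twistFun_apply]

open Classical in
/-- The norm of the restriction of `ϑ` to `L`, for `K / L` abelian, counts the linear characters
`λ` of `K / L` with `λ ϑ = ϑ`. -/
theorem classInner_restrict_self_eq_card (L : Subgroup K) [hL : L.Normal] [Fintype L]
    (hab : commutator K ≤ L) [Fintype ((K ⧸ L) →* ℂˣ)] {ϑ : K → ℂ} (hϑ : IsIrrCharacter K ϑ) :
    classInner (fun l : L => ϑ l) (fun l : L => ϑ l) =
      ((Finset.univ.filter (fun lam : (K ⧸ L) →* ℂˣ => ϑ * twistFun L lam = ϑ)).card : ℂ) := by
  letI : CommGroup (K ⧸ L) :=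
    { (inferInstance : Group (K ⧸ L)) with
      mul_comm := by
        intro a b
        induction a using QuotientGroup.induction_on with
        | H a =>
          induction b using QuotientGroup.induction_on with
          | H b =>
            rw [← QuotientGroup.mk_mul, ← QuotientGroup.mk_mul, QuotientGroup.eq]
            apply hab
            rw [commutator_def]
            have : (a * b)⁻¹ * (b * a) = ⁅b⁻¹, a⁻¹⁆ := by
              rw [commutatorElement_def]
              group
            rw [this]
            exact Subgroup.commutator_mem_commutator (Subgroup.mem_top _) (Subgroup.mem_top _) }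
  letI := irrFintype (G := K)
  have hirr : ∀ lam : (K ⧸ L) →* ℂˣ, IsIrrCharacter K (ϑ * twistFun L lam) := fun lam =>
    isIrrCharacter_mul_linear hϑ (isCharacter_twistFun L lam).1 (isCharacter_twistFun L lam).2
  have h1 : ∀ lam : (K ⧸ L) →* ℂˣ, classInner ϑ (ϑ * twistFun L lam) =
      if ϑ * twistFun L lam = ϑ then 1 else 0 := by
    intro lam
    rw [irr_orthogonality hϑ (hirr lam)]
    by_cases h : ϑ * twistFun L lam = ϑ
    · rw [if_pos h, if_pos h.symm]
    · rw [if_neg h, if_neg (fun h' => h h'.symm)]
  have h2 : ∑ lam : (K ⧸ L) →* ℂˣ, classInner ϑ (ϑ * twistFun L lam) =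
      ((Finset.univ.filter (fun lam : (K ⧸ L) →* ℂˣ => ϑ * twistFun L lam = ϑ)).card : ℂ) := by
    rw [Finset.sum_congr rfl (fun lam _ => h1 lam), Finset.sum_ite, Finset.sum_const_zero,
      add_zero, Finset.sum_const, nsmul_eq_mul, mul_one]
  rw [← h2]
  unfold classInner
  rw [← Finset.mul_sum, Finset.sum_comm]
  have h3 : ∀ k : K, ∑ lam : (K ⧸ L) →* ℂˣ, ϑ k * conj ((ϑ * twistFun L lam) k) =
      if k ∈ L then (L.index : ℂ) * (ϑ k * conj (ϑ k)) else 0 := by
    intro k
    have h4 : ∀ lam : (K ⧸ L) →* ℂˣ, ϑ k * conj ((ϑ * twistFun L lam) k) =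
        ϑ k * conj (ϑ k) * conj (((lam (QuotientGroup.mk k) : ℂˣ) : ℂ)) := by
      intro lam
      rw [Pi.mul_apply, map_mul, twistFun_apply]
      ring
    rw [Finset.sum_congr rfl (fun lam _ => h4 lam), ← Finset.mul_sum, ← map_sum,
      sum_monoidHom_apply]
    by_cases hk : k ∈ L
    · rw [if_pos hk, if_pos ((QuotientGroup.eq_one_iff k).mpr hk)]
      rw [Complex.conj_natCast, Subgroup.index_eq_card]
      ring
    · rw [if_neg hk, if_neg (fun h => hk ((QuotientGroup.eq_one_iff k).mp h))]
      simp
  rw [Finset.sum_congr rfl (fun k _ => h3 k), ← Finset.sum_filter]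
  have h5 : ∑ k ∈ Finset.univ.filter (fun k : K => k ∈ L), (L.index : ℂ) * (ϑ k * conj (ϑ k)) =
      (L.index : ℂ) * ∑ l : L, ϑ l * conj (ϑ l) := by
    rw [← Finset.mul_sum]
    congr 1
    exact Finset.sum_subtype (Finset.univ.filter (fun k : K => k ∈ L)) (by simp)
      (fun k => ϑ k * conj (ϑ k))
  rw [h5]
  have hcard : (Nat.card K : ℂ) = (Nat.card L : ℂ) * L.index := by
    exact_mod_cast (L.card_mul_index).symm
  have hL0 : (Nat.card L : ℂ) ≠ 0 := by exact_mod_cast (Nat.card_pos (α := L)).ne'
  have hI0 : (L.index : ℂ) ≠ 0 := by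
    have : L.index ≠ 0 := Subgroup.index_ne_zero_of_finite
    exact_mod_cast this
  rw [hcard]
  field_simp

end LinearTwist

section GoingDown

variable {K : Type u} [Group K] [Fintype K]

open Classical in
/-- The norm of a sum of distinct irreducible characters is their number. -/
theorem classInner_sum_irr_self (F : Finset (K → ℂ)) (hF : ∀ φ ∈ F, IsIrrCharacter K φ) :
    classInner (∑ φ ∈ F, φ) (∑ φ ∈ F, φ) = (F.card : ℂ) := by
  rw [classInner_sum_left]
  have h1 : ∀ φ ∈ F, classInner φ (∑ ψ ∈ F, ψ) = 1 := by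
    intro φ hφ
    rw [classInner_sum_right]
    have h2 : ∀ ψ ∈ F, classInner φ ψ = if φ = ψ then 1 else 0 := fun ψ hψ =>
      irr_orthogonality (hF φ hφ) (hF ψ hψ)
    rw [Finset.sum_congr rfl h2, Finset.sum_ite_eq, if_pos hφ]
  rw [Finset.sum_congr rfl h1, Finset.sum_const, nsmul_eq_mul, mul_one]

/-- The restriction of an automorphism of `K` preserving `L`. -/
def restrictAut (L : Subgroup K) (β : MulAut K) (hβ : ∀ x, x ∈ L ↔ β x ∈ L) : L ≃* L where
  toFun l := ⟨β l, (hβ l).mp l.2⟩
  invFun l := ⟨β.symm l, (hβ _).mpr (by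
    have : β (β.symm (l : K)) = l := β.apply_symm_apply _
    rw [this]
    exact l.2)⟩
  left_inv l := Subtype.ext (β.symm_apply_apply _)
  right_inv l := Subtype.ext (β.apply_symm_apply _)
  map_mul' a b := Subtype.ext (map_mul β _ _)

open Classical in
/-- **Going down** (Isaacs 6.18), in an abstract form: `K / L` is abelian, `α` is a family of
automorphisms of `K` preserving `L` and `ϑ`, and no proper intermediate normal subgroup is
invariant under the family. -/
theorem going_down (L : Subgroup K) [hL : L.Normal] [Fintype L] (hab : commutator K ≤ L)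
    {ι : Type*} (α : ι → MulAut K) (hαL : ∀ i x, x ∈ L ↔ α i x ∈ L)
    (hchief : ∀ M : Subgroup K, M.Normal → (∀ i x, x ∈ M → α i x ∈ M) → L ≤ M →
      M = L ∨ M = ⊤)
    {ϑ : K → ℂ} (hϑ : IsIrrCharacter K ϑ) (hinv : ∀ i k, ϑ (α i k) = ϑ k) :
    IsIrrCharacter L (fun l : L => ϑ l) ∨
    (∃ (φ : L → ℂ) (e : ℕ), IsIrrCharacter L φ ∧ (fun l : L => ϑ l) = (e : ℂ) • φ ∧
      e ^ 2 = L.index) ∨
    (∃ F : Finset (L → ℂ), (∀ φ ∈ F, IsIrrCharacter L φ) ∧ F.card = L.index ∧
      (fun l : L => ϑ l) = ∑ φ ∈ F, φ) := by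
  letI := irrFintype (G := L)
  have hϑc := isCharacter_of_isIrrCharacter hϑ
  have hϑL : IsCharacter L (fun l : L => ϑ l) := isCharacter_restrict L hϑc
  have hne : (fun l : L => ϑ l) ≠ 0 := by
    intro h
    exact Cfsg.Agent.Helper23.irr_one_ne_zero ϑ hϑ (congrFun h 1)
  obtain ⟨φ, hφ, hcon⟩ := exists_constituent hϑL hne
  set T := inertia L φ with hT
  have hLT : L ≤ T := le_inertia L (isClassFunction_of_isIrrCharacter hφ)
  have hTn : T.Normal := Subgroup.Normal.of_commutator_le K (hab.trans hLT)
  have hTα : ∀ i x, x ∈ T → α i x ∈ T := by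
    intro i x hx
    set β := α i with hβ
    set βL := restrictAut L β (hαL i) with hβL
    have hφβ : IsIrrCharacter L (φ ∘ βL) := isIrrCharacter_comp_equiv βL hφ
    have hϑβ : (fun l : L => ϑ l) ∘ βL = fun l : L => ϑ l := by
      funext l
      exact hinv i l
    have hcon' : classInner (fun l : L => ϑ l) (φ ∘ βL) ≠ 0 := by
      have := classInner_comp_equiv βL (fun l : L => ϑ l) φ
      rw [hϑβ] at this
      rw [this]
      exact hcon
    obtain ⟨k₀, hk₀⟩ := clifford_conj L hϑ hφ hφβ hcon hcon'
    have h4 : conjFun L x (φ ∘ βL) = φ ∘ βL := by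
      rw [← hk₀, ← conjFun_mul]
      have h5 : k₀ * x = (k₀ * x * k₀⁻¹) * k₀ := by group
      have h6 : conjFun L (k₀ * x * k₀⁻¹) φ = φ :=
        (mem_inertia L φ _).mp (hTn.conj_mem x hx k₀)
      rw [h5, conjFun_mul, h6]
    rw [hT, mem_inertia]
    funext l
    rw [conjFun_apply]
    have h7 := congrFun h4 (βL.symm l)
    rw [conjFun_apply, Function.comp_apply, Function.comp_apply, MulEquiv.apply_symm_apply] at h7
    rw [← h7]
    congr 1
    apply Subtype.ext
    show β x * (l : K) * (β x)⁻¹ = β (x * ((βL.symm l : L) : K) * x⁻¹)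
    rw [map_mul, map_mul, map_inv]
    congr 2
    have : β ((βL.symm l : L) : K) = ((βL (βL.symm l) : L) : K) := rfl
    rw [this, MulEquiv.apply_symm_apply]
  rcases hchief T hTn hTα hLT with hTL | hTtop
  · -- the inertia group is `L`
    right
    right
    obtain ⟨F, hF, hFcard, hFsum⟩ := clifford_decomp L hϑ hφ hcon
    rw [← hT, hTL] at hFcard
    obtain ⟨e, he⟩ := classInner_char_nat hϑL (isCharacter_of_isIrrCharacter hφ)
    have he0 : e ≠ 0 := by
      rintro rfl
      apply hcon
      rw [he]
      simp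
    obtain ⟨m, hm, hmle, -⟩ := classInner_restrict_self_le L hϑ
    have hnorm : (m : ℂ) = ((e * e * F.card : ℕ) : ℂ) := by
      rw [← hm]
      conv_lhs => rw [hFsum]
      rw [classInner_smul_left, classInner_smul_right, classInner_sum_irr_self F hF, he]
      push_cast
      simp only [Complex.conj_natCast]
      ring
    have hnorm' : m = e * e * F.card := by exact_mod_cast hnorm
    have hidx : 0 < L.index := Nat.pos_of_ne_zero Subgroup.index_ne_zero_of_finite
    have he1 : e = 1 := by
      rw [hnorm', hFcard] at hmle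
      have h8 : e * e ≤ 1 := by
        by_contra h9
        push_neg at h9
        have : 2 * L.index ≤ e * e * L.index := Nat.mul_le_mul_right _ h9
        omega
      have h9 : 1 ≤ e := Nat.one_le_iff_ne_zero.mpr he0
      nlinarith
    refine ⟨F, hF, hFcard, ?_⟩
    rw [hFsum, he, he1]
    simp
  · -- the constituent is invariant
    have hφinv : ∀ k : K, conjFun L k φ = φ := by
      intro k
      have : k ∈ T := by
        rw [hTtop]
        trivial
      exact (mem_inertia L φ k).mp this
    obtain ⟨e, he0, he, hres⟩ := restrict_eq_smul_of_invariant L hϑ hφ hφinv hcon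
    have hnorm : classInner (fun l : L => ϑ l) (fun l : L => ϑ l) = ((e * e : ℕ) : ℂ) := by
      rw [hres, classInner_smul_left, classInner_smul_right, irr_orthogonality hφ hφ, if_pos rfl]
      push_cast
      simp only [Complex.conj_natCast]
      ring
    letI : Fintype ((K ⧸ L) →* ℂˣ) := Fintype.ofFinite _
    have hcount := classInner_restrict_self_eq_card L hab hϑ
    set V : Subgroup K := L ⊔ Subgroup.closure {k | ϑ k ≠ 0} with hV
    have hLV : L ≤ V := le_sup_left
    have hVn : V.Normal := Subgroup.Normal.of_commutator_le K (hab.trans hLV)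
    have hVα : ∀ i x, x ∈ V → α i x ∈ V := by
      intro i x hx
      have h1 : V.map (α i).toMonoidHom ≤ V := by
        rw [hV, Subgroup.map_sup, MonoidHom.map_closure]
        apply sup_le_sup
        · rintro _ ⟨l, hl, rfl⟩
          exact (hαL i l).mp hl
        · apply Subgroup.closure_mono
          rintro _ ⟨k, hk, rfl⟩
          show ϑ (α i k) ≠ 0
          rw [hinv i k]
          exact hk
      exact h1 ⟨x, hx, rfl⟩
    rcases hchief V hVn hVα hLV with hVL | hVtop
    · right
      left
      refine ⟨φ, e, hφ, hres, ?_⟩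
      have hv : ∀ k, k ∉ L → ϑ k = 0 := by
        intro k hk
        by_contra h
        apply hk
        rw [← hVL]
        exact Subgroup.mem_sup_right (Subgroup.subset_closure h)
      obtain ⟨m, hm, -, hmeq⟩ := classInner_restrict_self_le L hϑ
      have h1 := hmeq hv
      have h2 : ((e * e : ℕ) : ℂ) = (m : ℂ) := by rw [← hnorm, hm]
      have h3 : e * e = m := by exact_mod_cast h2
      rw [sq, h3, h1]
    · left
      have hfilter : Finset.univ.filter
          (fun lam : (K ⧸ L) →* ℂˣ => ϑ * twistFun L lam = ϑ) = {1} := by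
        ext lam
        simp only [Finset.mem_filter, Finset.mem_univ, true_and, Finset.mem_singleton]
        constructor
        · intro h
          have hker : V ≤ (lam.comp (QuotientGroup.mk' L)).ker := by
            rw [hV, sup_le_iff]
            constructor
            · intro l hl
              rw [MonoidHom.mem_ker, MonoidHom.comp_apply, QuotientGroup.mk'_apply,
                (QuotientGroup.eq_one_iff l).mpr hl, map_one]
            · rw [Subgroup.closure_le]
              intro k hk
              have h1 := congrFun h k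
              rw [Pi.mul_apply, twistFun_apply] at h1
              have h2 : ((lam (QuotientGroup.mk k) : ℂˣ) : ℂ) = 1 := by
                have h3 : ϑ k * ((lam (QuotientGroup.mk k) : ℂˣ) : ℂ) = ϑ k * 1 := by
                  rw [h1, mul_one]
                exact mul_left_cancel₀ hk h3
              show k ∈ (lam.comp (QuotientGroup.mk' L)).ker
              rw [MonoidHom.mem_ker, MonoidHom.comp_apply, QuotientGroup.mk'_apply]
              exact Units.ext h2
          apply MonoidHom.ext
          intro a
          induction a using QuotientGroup.induction_on with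
          | H k =>
            have h1 : k ∈ (lam.comp (QuotientGroup.mk' L)).ker := by
              apply hker
              rw [hVtop]
              trivial
            rw [MonoidHom.mem_ker, MonoidHom.comp_apply, QuotientGroup.mk'_apply] at h1
            rw [h1]
            simp
        · rintro rfl
          funext k
          simp [twistFun_apply]
      rw [hfilter, Finset.card_singleton] at hcount
      apply isIrrCharacter_of_classInner_self_eq_one hϑL
      rw [hcount]
      simp

end GoingDown

end Cfsg.Agent.Helper5
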