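import Mathlib
import Cfsg.Agent.S0857
import Cfsg.Agent.Lib.Helper18.MGroup
import Cfsg.Agent.Lib.Helper18.BrauerSpan
import Cfsg.Agent.Lib.Helper18.CliffordCorr

/-!
# Relative M-groups (helper5's shared library)

Isaacs, Theorem 6.22: if `G / N` is solvable and every chief factor of every subgroup between
`N` and `G` has nonsquare order, then every irreducible character of `G` is induced from an
irreducible character `ψ` of a subgroup `H ⊇ N` with `ψ_N` irreducible.
-/

set_option autoImplicit false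

universe u

namespace Cfsg.Agent.Helper5

open Cfsg Cfsg.Agent.Helper24 Cfsg.Agent.Helper18

section ChiefFactor

variable {G : Type u} [Group G] [Finite G]

/-- In a group with solvable quotient `G / N`, a normal subgroup `K > N` has
`[K, K] N < K`. -/
theorem commutator_sup_lt (N K : Subgroup G) [hN : N.Normal] [hK : K.Normal]
    (hsolv : Group.IsSolvable (G ⧸ N)) (hNK : N < K) : ⁅K, K⁆ ⊔ N < K := by
  have hle : ⁅K, K⁆ ⊔ N ≤ K := sup_le (Subgroup.commutator_le_left K K) hNK.le
  refine lt_of_le_of_ne hle ?_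
  intro heq
  set π := QuotientGroup.mk' N with hπ
  set Kb := K.map π with hKb
  have hKbne : Kb ≠ ⊥ := by
    intro h
    have h1 : K ≤ π.ker := (Subgroup.map_eq_bot_iff K).mp h
    rw [QuotientGroup.ker_mk'] at h1
    exact (not_le_of_gt hNK) h1
  have hcomm : ⁅Kb, Kb⁆ = Kb := by
    rw [hKb, ← Subgroup.map_commutator]
    conv_rhs => rw [← heq]
    rw [Subgroup.map_sup]
    have : N.map π = ⊥ := by
      rw [Subgroup.map_eq_bot_iff, QuotientGroup.ker_mk']
    rw [this, sup_bot_eq]
  have hder : ∀ n, Kb ≤ derivedSeries (G ⧸ N) n := by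
    intro n
    induction n with
    | zero => exact le_top
    | succ n ih =>
      rw [derivedSeries_succ, ← hcomm]
      exact Subgroup.commutator_mono ih ih
  obtain ⟨n, hn⟩ := (Group.isSolvable_def (G ⧸ N)).mp hsolv
  have := hder n
  rw [hn] at this
  exact hKbne (le_bot_iff.mp this)

/-- Existence of an abelian chief factor below `K`. -/
theorem exists_chief_abelian (N K : Subgroup G) [hN : N.Normal] [hK : K.Normal]
    (hsolv : Group.IsSolvable (G ⧸ N)) (hNK : N < K) :
    ∃ L : Subgroup G, L.Normal ∧ N ≤ L ∧ L < K ∧ ⁅K, K⁆ ≤ L ∧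
      ∀ M : Subgroup G, M.Normal → L ≤ M → M ≤ K → M = L ∨ M = K := by
  classical
  have h0 := commutator_sup_lt N K hsolv hNK
  let S := {L : Subgroup G // L.Normal ∧ ⁅K, K⁆ ⊔ N ≤ L ∧ L < K}
  haveI : Nonempty S := ⟨⟨⁅K, K⁆ ⊔ N, inferInstance, le_rfl, h0⟩⟩
  haveI : Finite S := Subtype.finite
  obtain ⟨L₀, hL₀⟩ := Finite.exists_max (fun L : S => Nat.card (L.1 : Subgroup G))
  refine ⟨L₀.1, L₀.2.1, le_sup_right.trans L₀.2.2.1, L₀.2.2.2, le_sup_left.trans L₀.2.2.1, ?_⟩
  intro M hMn hLM hMK
  rcases eq_or_lt_of_le hMK with h | h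
  · right
    exact h
  · left
    have h1 := hL₀ ⟨M, hMn, L₀.2.2.1.trans hLM, h⟩
    exact (Subgroup.eq_of_le_of_card_ge hLM h1).symm

end ChiefFactor

section Defs

/-- All chief factors of subgroups above `N` have nonsquare order. -/
def ChiefNonsquare (G : Type u) [Group G] (N : Subgroup G) : Prop :=
  ∀ (H K L : Subgroup G), N ≤ L → L < K → K ≤ H → (∀ h ∈ H, ∀ k ∈ K, h * k * h⁻¹ ∈ K) →
    (∀ h ∈ H, ∀ l ∈ L, h * l * h⁻¹ ∈ L) →
    (∀ M : Subgroup G, L ≤ M → M ≤ K → (∀ h ∈ H, ∀ m ∈ M, h * m * h⁻¹ ∈ M) → M = L ∨ M = K) →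
    ¬ IsSquare (L.relIndex K)

/-- `χ` is induced from a character of a subgroup above `N` restricting irreducibly to `N`. -/
def RelInduced (G : Type u) [Group G] [Fintype G] (N : Subgroup G) (χ : G → ℂ) : Prop :=
  ∃ (H : Subgroup G) (hNH : N ≤ H) (ψ : H → ℂ), IsIrrCharacter H ψ ∧ indFun H ψ = χ ∧
    IsIrrCharacter N (fun n : N => ψ ⟨(n : G), hNH n.2⟩)

variable {G : Type u} [Group G]

/-- The chief factor condition passes to subgroups containing `N`. -/
theorem ChiefNonsquare.subgroup {N : Subgroup G} (h : ChiefNonsquare G N) (T : Subgroup G)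
    (hNT : N ≤ T) : ChiefNonsquare T (N.subgroupOf T) := by
  intro H' K' L' hNL hLK hKH hHK hHL hmin
  have hinj : Function.Injective T.subtype := T.subtype_injective
  have key := h (H'.map T.subtype) (K'.map T.subtype) (L'.map T.subtype) ?_ ?_ ?_ ?_ ?_ ?_
  · rwa [Subgroup.relIndex_map_map_of_injective _ _ hinj] at key
  · intro n hn
    exact ⟨⟨n, hNT hn⟩, hNL (Subgroup.mem_subgroupOf.mpr hn), rfl⟩
  · exact (Subgroup.map_lt_map_iff_of_injective hinj).mpr hLK
  · exact Subgroup.map_mono hKH
  · rintro _ ⟨x, hx, rfl⟩ _ ⟨k, hk, rfl⟩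
    exact ⟨x * k * x⁻¹, hHK x hx k hk, by simp⟩
  · rintro _ ⟨x, hx, rfl⟩ _ ⟨l, hl, rfl⟩
    exact ⟨x * l * x⁻¹, hHL x hx l hl, by simp⟩
  · intro M hLM hMK hHM
    have hMT : M ≤ T := hMK.trans (Subgroup.map_subtype_le K')
    have hM : (M.subgroupOf T).map T.subtype = M := Subgroup.map_subgroupOf_eq_of_le hMT
    have h1 : L' ≤ M.subgroupOf T := by
      intro x hx
      rw [Subgroup.mem_subgroupOf]
      exact hLM ⟨x, hx, rfl⟩
    have h2 : M.subgroupOf T ≤ K' := by
      intro x hx
      rw [Subgroup.mem_subgroupOf] at hx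
      obtain ⟨y, hy, hyx⟩ := hMK hx
      have : y = x := Subtype.ext hyx
      rwa [← this]
    have h3 : ∀ x ∈ H', ∀ m ∈ M.subgroupOf T, x * m * x⁻¹ ∈ M.subgroupOf T := by
      intro x hx m hm
      rw [Subgroup.mem_subgroupOf] at hm ⊢
      have := hHM x ⟨x, hx, rfl⟩ m hm
      simpa using this
    rcases hmin (M.subgroupOf T) h1 h2 h3 with h4 | h4
    · left
      rw [← hM, h4]
    · right
      rw [← hM, h4]

/-- Solvability of the quotient passes to subgroups. -/
theorem isSolvable_quotient_subgroupOf (N T : Subgroup G) [N.Normal]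
    (hsolv : Group.IsSolvable (G ⧸ N)) : Group.IsSolvable (T ⧸ N.subgroupOf T) := by
  let f : T ⧸ N.subgroupOf T →* G ⧸ N :=
    QuotientGroup.map (N.subgroupOf T) N T.subtype (fun x hx => hx)
  have hf : Function.Injective f := by
    rw [injective_iff_map_eq_one]
    intro a ha
    induction a using QuotientGroup.induction_on with
    | H x =>
      have ha' : ((T.subtype x : G) : G ⧸ N) = 1 := ha
      rw [QuotientGroup.eq_one_iff] at ha' ⊢
      exact ha'
  haveI := hsolv
  exact Group.isSolvable_of_isSolvable_injective hf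

/-- A character induced from a relatively induced character of a subgroup is relatively
induced. -/
theorem RelInduced.of_subgroup [Fintype G] (N T : Subgroup G) [Fintype T] (hNT : N ≤ T)
    {χ : G → ℂ} {η : T → ℂ} (hη : indFun T η = χ) (h : RelInduced T (N.subgroupOf T) η) :
    RelInduced G N χ := by
  obtain ⟨H', hNH', ψ', hψ', hind, hres⟩ := h
  have hinj : Function.Injective T.subtype := T.subtype_injective
  let e : H' ≃* H'.map T.subtype := H'.equivMapOfInjective T.subtype hinj
  have hNH : N ≤ H'.map T.subtype := fun n hn =>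
    ⟨⟨n, hNT hn⟩, hNH' (Subgroup.mem_subgroupOf.mpr hn), rfl⟩
  have hmem : ∀ y : ↥(H'.map T.subtype),
      (⟨y.1, Subgroup.map_subtype_le H' y.2⟩ : T) ∈ H' := by
    intro y
    obtain ⟨x, hx, hxy⟩ := Subgroup.mem_map.mp y.2
    have : (⟨y.1, Subgroup.map_subtype_le H' y.2⟩ : T) = x := Subtype.ext hxy.symm
    rw [this]
    exact hx
  let ψ : ↥(H'.map T.subtype) → ℂ := fun y =>
    ψ' ⟨⟨y.1, Subgroup.map_subtype_le H' y.2⟩, hmem y⟩
  refine ⟨H'.map T.subtype, hNH, ψ, ?_, ?_, ?_⟩
  · have h1 : ψ = ψ' ∘ e.symm := by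
      funext y
      show ψ' ⟨⟨y.1, Subgroup.map_subtype_le H' y.2⟩, hmem y⟩ = ψ' (e.symm y)
      congr 1
      apply Subtype.ext
      apply Subtype.ext
      have h2 := congrArg Subtype.val (e.apply_symm_apply y)
      rw [Subgroup.coe_equivMapOfInjective_apply] at h2
      exact h2.symm
    rw [h1]
    exact isIrrCharacter_comp_equiv e.symm hψ'
  · rw [← hη, ← hind]
    exact (indFun_indFun_map T H' ψ').symm
  · let eN : N ≃* N.subgroupOf T := (Subgroup.subgroupOfEquivOfLe hNT).symm
    have h1 : (fun n : N => ψ ⟨(n : G), hNH n.2⟩) =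
        (fun n : N.subgroupOf T => ψ' ⟨(n : T), hNH' n.2⟩) ∘ eN := by
      funext n
      rfl
    rw [h1]
    exact isIrrCharacter_comp_equiv eN hres

end Defs

section Main

open Classical in
theorem relInduced_aux (n : ℕ) : ∀ (G : Type u) [Group G] [Fintype G] (N : Subgroup G)
    [N.Normal], Group.IsSolvable (G ⧸ N) → ChiefNonsquare G N → Nat.card G = n →
    ∀ χ : G → ℂ, IsIrrCharacter G χ → RelInduced G N χ := by
  induction n using Nat.strong_induction_on with
  | _ n ih =>
    intro G _ _ N hN hsolv hchief hcard χ hχ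
    have hχc := isCharacter_of_isIrrCharacter hχ
    have hcf := isClassFunction_of_isIrrCharacter hχ
    have htop : IsIrrCharacter (⊤ : Subgroup G) (fun k : (⊤ : Subgroup G) => χ k) :=
      isIrrCharacter_comp_equiv Subgroup.topEquiv hχ
    let S := {K : Subgroup G // K.Normal ∧ N ≤ K ∧ IsIrrCharacter K (fun k : K => χ k)}
    haveI : Nonempty S := ⟨⟨⊤, inferInstance, le_top, htop⟩⟩
    haveI : Finite S := Subtype.finite
    obtain ⟨K₀, hK₀⟩ := Finite.exists_min (fun K : S => Nat.card (K.1 : Subgroup G))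
    have hKn : K₀.1.Normal := K₀.2.1
    have hNK : N ≤ K₀.1 := K₀.2.2.1
    have hKirr : IsIrrCharacter K₀.1 (fun k : K₀.1 => χ k) := K₀.2.2.2
    set K : Subgroup G := K₀.1 with hKdef
    rcases eq_or_lt_of_le hNK with hNeq | hNlt
    · -- `χ_N` is irreducible
      refine ⟨⊤, le_top, fun k => χ k, htop, indFun_top hcf, ?_⟩
      have h1 : IsIrrCharacter N (fun k : N => χ k) := by
        rw [hNeq]
        exact hKirr
      exact h1
    · haveI := hKn
      obtain ⟨L, hLn, hNL, hLK, hab, hmin⟩ := exists_chief_abelian N K hsolv hNlt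
      haveI := hLn
      have hinvK : ∀ (g : G) (k : K),
          (fun k : K => χ k) ⟨g * k * g⁻¹, hKn.conj_mem (k : G) k.2 g⟩ = (fun k : K => χ k) k :=
        fun g k => hcf k g
      have h57 := Cfsg.Agent.S0857.result K L hLK (fun M hM h1 h2 => hmin M hM h1 h2) hab
        (fun k : K => χ k) hKirr hinvK
      rcases h57 with h | ⟨φ, e, hφ, hres, he⟩ | ⟨F, hF, hFcard, hFsum⟩
      · exfalso
        have h1 : Nat.card K ≤ Nat.card L := hK₀ ⟨L, hLn, hNL, h⟩
        exact (ne_of_lt hLK) (Subgroup.eq_of_le_of_card_ge hLK.le h1)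
      · exfalso
        refine hchief ⊤ K L hNL hLK le_top (fun h _ k hk => hKn.conj_mem k hk h)
          (fun h _ l hl => hLn.conj_mem l hl h) ?_ ⟨e, by rw [← he, sq]⟩
        intro M hLM hMK hM
        exact hmin M ⟨fun m hm g => hM g (Subgroup.mem_top g) m hm⟩ hLM hMK
      · have hχL : (fun x : L => χ x) = ∑ φ ∈ F, φ := hFsum
        have hrel : 1 < L.relIndex K := by
          have h0 : L.relIndex K ≠ 0 := by
            unfold Subgroup.relIndex
            exact Subgroup.index_ne_zero_of_finite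
          have h1 : L.relIndex K ≠ 1 := by
            intro h
            exact (not_le_of_gt hLK) (Subgroup.relIndex_eq_one.mp h)
          omega
        rw [← hFcard, Finset.one_lt_card] at hrel
        obtain ⟨φ₁, h₁, φ₂, h₂, hne⟩ := hrel
        letI : Fintype L := Fintype.ofFinite L
        have hinner : ∀ φ ∈ F, classInner (fun x : L => χ x) φ = 1 := by
          intro φ hφ
          rw [hχL, classInner_sum_left]
          have h2 : ∀ ψ ∈ F, classInner ψ φ = if ψ = φ then 1 else 0 := fun ψ hψ =>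
            irr_orthogonality (hF ψ hψ) (hF φ hφ)
          rw [Finset.sum_congr rfl h2, Finset.sum_ite_eq', if_pos hφ]
        have hcon1 : classInner (fun x : L => χ x) φ₁ ≠ 0 := by
          rw [hinner φ₁ h₁]
          exact one_ne_zero
        set T := inertia L φ₁ with hT
        have hLT : L ≤ T := le_inertia L (isClassFunction_of_isIrrCharacter (hF φ₁ h₁))
        have hTne : T ≠ ⊤ := by
          intro htop'
          have hφinv : ∀ g : G, conjFun L g φ₁ = φ₁ := by
            intro g
            have : g ∈ T := by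
              rw [htop']
              trivial
            exact (mem_inertia L φ₁ g).mp this
          obtain ⟨e, -, -, hres⟩ := restrict_eq_smul_of_invariant L hχ (hF φ₁ h₁) hφinv hcon1
          have h3 := hinner φ₂ h₂
          rw [hres, classInner_smul_left, irr_orthogonality (hF φ₁ h₁) (hF φ₂ h₂),
            if_neg hne, mul_zero] at h3
          exact zero_ne_one h3
        obtain ⟨η, hη, hind, -⟩ := clifford_correspondence L hχ (hF φ₁ h₁) hcon1
        letI : Fintype T := Fintype.ofFinite T
        have hcardT : Nat.card T < n := by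
          rw [← hcard]
          by_contra hge
          push_neg at hge
          exact hTne (Subgroup.eq_top_of_le_card T hge)
        have hNT : N ≤ T := hNL.trans hLT
        have h4 := ih (Nat.card T) hcardT T (N.subgroupOf T)
          (isSolvable_quotient_subgroupOf N T hsolv) (hchief.subgroup T hNT) rfl η hη
        exact RelInduced.of_subgroup N T hNT hind h4

end Main

end Cfsg.Agent.Helper5
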