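import Mathlib

/-!
# Counting elements of prime order when Sylow subgroups have prime order (helper5)
-/

set_option autoImplicit false

namespace Cfsg.Agent.Helper5

variable {G : Type*} [Group G]

/-- A subgroup of prime order containing `g ≠ 1` is `zpowers g`. -/
theorem eq_zpowers_of_card_prime {p : ℕ} (hp : p.Prime) (Q : Subgroup G) (hQ : Nat.card Q = p)
    {g : G} (hg : g ∈ Q) (hg1 : g ≠ 1) : Q = Subgroup.zpowers g := by
  haveI : Fact p.Prime := ⟨hp⟩
  haveI : Finite Q := Nat.finite_of_card_ne_zero (by rw [hQ]; exact hp.pos.ne')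
  have h1 : Subgroup.zpowers (⟨g, hg⟩ : Q) = ⊤ := by
    apply zpowers_eq_top_of_prime_card hQ
    intro h
    exact hg1 (congrArg Subtype.val h)
  apply le_antisymm
  · intro x hx
    have : (⟨x, hx⟩ : Q) ∈ Subgroup.zpowers (⟨g, hg⟩ : Q) := by rw [h1]; trivial
    obtain ⟨k, hk⟩ := Subgroup.mem_zpowers_iff.mp this
    rw [Subgroup.mem_zpowers_iff]
    refine ⟨k, ?_⟩
    have := congrArg Subtype.val hk
    simpa using this
  · rw [Subgroup.zpowers_le]; exact hg

theorem orderOf_eq_of_mem_of_card_prime {p : ℕ} (hp : p.Prime) (Q : Subgroup G)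
    (hQ : Nat.card Q = p) {g : G} (hg : g ∈ Q) (hg1 : g ≠ 1) : orderOf g = p := by
  rw [← Nat.card_zpowers, ← eq_zpowers_of_card_prime hp Q hQ hg hg1, hQ]

/-- If every Sylow `p`-subgroup has order `p`, the number of elements of order `p` is
`n_p * (p - 1)`. -/
theorem card_orderOf_eq_prime [Finite G] {p : ℕ} [Fact p.Prime]
    (hcard : ∀ P : Sylow p G, Nat.card (P : Subgroup G) = p) :
    Nat.card {g : G // orderOf g = p} = Nat.card (Sylow p G) * (p - 1) := by
  classical
  have hp : p.Prime := Fact.out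
  have key : ∀ g : G, orderOf g = p → ∃ Q : Sylow p G, g ∈ (Q : Subgroup G) := by
    intro g hg
    have hz : IsPGroup p (Subgroup.zpowers g) := by
      apply IsPGroup.of_card (n := 1)
      rw [Nat.card_zpowers, hg, pow_one]
    obtain ⟨Q, hQ⟩ := hz.exists_le_sylow
    exact ⟨Q, hQ (Subgroup.mem_zpowers g)⟩
  have hne : ∀ g : G, orderOf g = p → g ≠ 1 := by
    rintro g hg rfl
    rw [orderOf_one] at hg
    exact hp.one_lt.ne hg
  have huniq : ∀ (Q Q' : Sylow p G) (g : G), g ≠ 1 → g ∈ (Q : Subgroup G) →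
      g ∈ (Q' : Subgroup G) → Q = Q' := by
    intro Q Q' g hg1 h1 h2
    apply Sylow.ext
    rw [eq_zpowers_of_card_prime hp _ (hcard Q) h1 hg1,
      eq_zpowers_of_card_prime hp _ (hcard Q') h2 hg1]
  let e : {g : G // orderOf g = p} ≃ Σ Q : Sylow p G, {g : G // g ∈ (Q : Subgroup G) ∧ g ≠ 1} :=
    { toFun := fun g => ⟨Classical.choose (key g.1 g.2), g.1,
        Classical.choose_spec (key g.1 g.2), hne g.1 g.2⟩
      invFun := fun x => ⟨x.2.1, orderOf_eq_of_mem_of_card_prime hp _ (hcard x.1) x.2.2.1 x.2.2.2⟩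
      left_inv := fun g => rfl
      right_inv := by
        rintro ⟨Q, g, hg, hg1⟩
        have hQ : Classical.choose (key g
            (orderOf_eq_of_mem_of_card_prime hp _ (hcard Q) hg hg1)) = Q :=
          huniq _ _ g hg1 (Classical.choose_spec (key g
            (orderOf_eq_of_mem_of_card_prime hp _ (hcard Q) hg hg1))) hg
        apply Sigma.ext
        · exact hQ
        · simp only
          apply Subtype.heq_iff_coe_eq _ |>.mpr
          · rfl
          · intro x
            rw [hQ] }
  letI : Fintype (Sylow p G) := Fintype.ofFinite _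
  rw [Nat.card_congr e, Nat.card_sigma]
  have hfib : ∀ Q : Sylow p G, Nat.card {g : G // g ∈ (Q : Subgroup G) ∧ g ≠ 1} = p - 1 := by
    intro Q
    have h1 : Nat.card {g : G // g ∈ (Q : Subgroup G) ∧ g ≠ 1} =
        (((Q : Subgroup G) : Set G) \ {1}).ncard := by
      rw [← Nat.card_coe_set_eq]
      rfl
    have h2 : (((Q : Subgroup G) : Set G)).ncard = p := by
      rw [← Nat.card_coe_set_eq]
      exact hcard Q
    rw [h1, Set.ncard_diff_singleton_of_mem (Subgroup.one_mem _), h2]
  simp only [hfib]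
  rw [Finset.sum_const, Finset.card_univ, smul_eq_mul, Nat.card_eq_fintype_card]

end Cfsg.Agent.Helper5
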