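import Mathlib
import Cfsg.Agent.Lib.Helper20.W3Defs

/-! S3300 piece W3-EXCFIN (helper5): a 2-cycle of `v` on the block contradicts minimality
(adaptation of helper6's `exc_final`, Lib/Helper6/ABEXCFIN.lean, to a sign character). -/

set_option autoImplicit false
set_option linter.unusedSectionVars false
set_option linter.unusedVariables false

namespace Cfsg.Agent.Helper20.W3

open Cfsg.Agent.Helper8.XS Cfsg.Agent.Helper8.AB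

section block

variable {G : Type*} [Group G] [Finite G] {z : G} {H : Subgroup G}
  [Fintype (G ⧸ H)] {ψ : ↥H →* ℤˣ} {n : ℕ}

/-- PIECE W3-EXCFIN (adapt `exc_final`, Lib/Helper6/ABEXCFIN.lean; new hypothesis `hu1`). -/
theorem exc_finalP (gl : GlobP z H ψ n) (u : G) (Q : Subgroup G) (xs : XSp Q u)
    (v : G) (hvQ : ∀ x ∈ Q, v⁻¹ * x * v ∈ Q) (hvH : v ∈ H) (huH : u ∈ H) (hu1 : valH ψ u = 1)
    (k : ℕ) (hk : 1 ≤ k) (hvo : orderOf v = 2 ^ k) (hn : n = 2 ^ k)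
    (hexc : ∀ e ∈ Q, e ∉ H → v⁻¹ * e⁻¹ * v * e ∈ H → valH ψ (v⁻¹ * e⁻¹ * v * e) ≠ 1)
    (e : G) (he : e ∈ Q) (h1 : v⁻¹ * e⁻¹ * v * e ∉ H)
    (h2 : (v ^ 2)⁻¹ * e⁻¹ * v ^ 2 * e ∈ H) : False := by
  have hk1Q : v⁻¹ * e⁻¹ * v * e ∈ Q := Q.mul_mem (hvQ e⁻¹ (Q.inv_mem he)) he
  have hcQ : v⁻¹ * (v⁻¹ * e⁻¹ * v * e)⁻¹ * v ∈ Q := hvQ _ (Q.inv_mem hk1Q)
  have hcc := xs.hsq _ hcQ
  have hccH : (v⁻¹ * (v⁻¹ * e⁻¹ * v * e)⁻¹ * v) * (v⁻¹ * (v⁻¹ * e⁻¹ * v * e)⁻¹ * v) ∈ H := by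
    rcases hcc with h | h
    · rw [h]; exact H.one_mem
    · rw [h]; exact huH
  have hψcc : valH ψ
      ((v⁻¹ * (v⁻¹ * e⁻¹ * v * e)⁻¹ * v) * (v⁻¹ * (v⁻¹ * e⁻¹ * v * e)⁻¹ * v)) = 1 := by
    rcases hcc with h | h
    · rw [h]; exact valH_one _
    · rw [h]; exact hu1
  have hid : v⁻¹ * (v⁻¹ * e⁻¹ * v * e)⁻¹ * v * (v⁻¹ * e⁻¹ * v * e) =
      (v⁻¹ * (v⁻¹ * e⁻¹ * v * e)⁻¹ * v) * (v⁻¹ * (v⁻¹ * e⁻¹ * v * e)⁻¹ * v) *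
        ((v ^ 2)⁻¹ * e⁻¹ * v ^ 2 * e) := by
    group
  have hκH : v⁻¹ * (v⁻¹ * e⁻¹ * v * e)⁻¹ * v * (v⁻¹ * e⁻¹ * v * e) ∈ H := by
    rw [hid]; exact H.mul_mem hccH h2
  have hne := hexc _ hk1Q h1 hκH
  rw [hid, valH_mul _ hccH h2, hψcc, one_mul] at hne
  have hv2H : v ^ 2 ∈ H := H.pow_mem hvH 2
  have hwH : v ^ 2 * ((v ^ 2)⁻¹ * e⁻¹ * v ^ 2 * e) ∈ H := H.mul_mem hv2H h2
  have hweq : v ^ 2 * ((v ^ 2)⁻¹ * e⁻¹ * v ^ 2 * e) = e⁻¹ * v ^ 2 * e := by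
    group
  have hψv2 : valH ψ (v ^ 2) = 1 := by
    rw [pow_two]
    exact val_sq ψ hvH
  have hψw : valH ψ (v ^ 2 * ((v ^ 2)⁻¹ * e⁻¹ * v ^ 2 * e)) ≠ 1 := by
    rw [valH_mul _ hv2H h2, hψv2, one_mul]; exact hne
  have how : orderOf (v ^ 2 * ((v ^ 2)⁻¹ * e⁻¹ * v ^ 2 * e)) < n := by
    rw [hweq]
    have : e⁻¹ * v ^ 2 * e = MulAut.conj e⁻¹ (v ^ 2) := by simp
    rw [this, MulEquiv.orderOf_eq, hn]
    have hdvd : 2 ∣ orderOf v := by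
      rw [hvo]; exact dvd_pow_self 2 (by omega)
    rw [orderOf_pow_of_dvd (by norm_num) hdvd, hvo]
    exact Nat.div_lt_self (by positivity) (by norm_num)
  have hmin := gl.hmin ⟨_, hwH⟩ how
  rw [valH_of_mem _ hwH] at hψw
  exact hψw hmin

end block

end Cfsg.Agent.Helper20.W3
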