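import Mathlib
import Cfsg.Agent.Lib.Helper20.TCDefs
import Cfsg.Agent.Lib.Helper12.Small60
import Cfsg.Agent.S0496

/-!
# S3104 piece SOLVP (helper5): groups of order at most 1092 whose order is not divisible by
60, 168, 360, 504, 660, 1092 are solvable
-/

set_option autoImplicit false
set_option linter.unusedSectionVars false
set_option linter.unusedVariables false
set_option linter.style.haveILetI false

namespace Cfsg.Agent.Helper20.TC

open Cfsg

namespace SOLVP

theorem aux (n : ℕ) : ∀ (H : Type) [Group H] [Finite H],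
    Nat.card H = n → n ≤ 1092 → ¬ 60 ∣ n → ¬ 168 ∣ n → ¬ 360 ∣ n → ¬ 504 ∣ n → ¬ 660 ∣ n →
      ¬ 1092 ∣ n → Group.IsSolvable H := by
  induction n using Nat.strong_induction_on with
  | _ n ih =>
  intro H _ _ hn hle h1 h2 h3 h4 h5 h6
  by_cases hsub : Subsingleton H
  · exact inferInstance
  · haveI : Nontrivial H := not_subsingleton_iff_nontrivial.mp hsub
    by_cases hs : IsSimpleGroup H
    · by_cases hc : ∀ x y : H, x * y = y * x
      · exact Group.isSolvable_of_comm hc
      · exfalso
        have hnc : ¬ IsMulCommutative H := fun h => hc (fun x y => h.is_comm.comm x y)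
        have := Cfsg.Agent.S0496.result (G := H) hnc (by omega)
        rw [hn] at this
        rcases this with h | h | h | h | h | h
        · exact h1 (h ▸ dvd_rfl)
        · exact h2 (h ▸ dvd_rfl)
        · exact h3 (h ▸ dvd_rfl)
        · exact h4 (h ▸ dvd_rfl)
        · exact h5 (h ▸ dvd_rfl)
        · exact h6 (h ▸ dvd_rfl)
    · obtain ⟨N, hN, hb, ht⟩ := Cfsg.Agent.Helper12.Small60.exists_normal_of_not_simple hs
      haveI := hN
      have c1 := Cfsg.Agent.Helper12.Small60.card_lt_of_ne_top N ht
      have c2 := Cfsg.Agent.Helper12.Small60.card_quot_lt_of_ne_bot N hb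
      have d1 : Nat.card N ∣ n := hn ▸ Subgroup.card_subgroup_dvd_card N
      have d2 : Nat.card (H ⧸ N) ∣ n := hn ▸ Subgroup.card_quotient_dvd_card N
      exact Cfsg.Agent.Helper12.Small60.isSolvable_of_normal N
        (ih (Nat.card N) (by omega) N rfl (by omega)
          (fun h => h1 (h.trans d1)) (fun h => h2 (h.trans d1)) (fun h => h3 (h.trans d1))
          (fun h => h4 (h.trans d1)) (fun h => h5 (h.trans d1)) (fun h => h6 (h.trans d1)))
        (ih (Nat.card (H ⧸ N)) (by omega) (H ⧸ N) rfl (by omega)
          (fun h => h1 (h.trans d2)) (fun h => h2 (h.trans d2)) (fun h => h3 (h.trans d2))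
          (fun h => h4 (h.trans d2)) (fun h => h5 (h.trans d2)) (fun h => h6 (h.trans d2)))

end SOLVP

/-- PIECE SOLVP. -/
theorem solvSmall : SolvSmall := by
  intro H _ _ hle h1 h2 h3 h4 h5 h6
  exact SOLVP.aux (Nat.card H) H rfl hle h1 h2 h3 h4 h5 h6

end Cfsg.Agent.Helper20.TC
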