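import Mathlib
import Cfsg.Prelude.Def_Blocks
import Cfsg.Agent.Lib.Helper24.CharLinear
import Cfsg.Agent.Lib.Helper24.CharInduced
import Cfsg.Agent.Lib.Helper24.CharOrtho
import Cfsg.Agent.Lib.Helper24.CharComplete
import Cfsg.Agent.Lib.Helper10.BR996Defs
import Cfsg.Agent.Lib.Helper21.BTDefs
import Cfsg.Agent.Lib.Helper21.BHDefs
import Cfsg.Agent.Lib.Helper5.BRP0b
import Cfsg.Agent.Lib.Helper5.BR996ADAPT

/-!
# S4504, piece PLOCAL (helper5): the local data on a Sylow subgroup of prime order at the boundary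
`2 w + 1 = p`: two orbits of the automorphism, the partner exponent swaps them.
-/

set_option autoImplicit false
set_option linter.unusedSectionVars false
set_option linter.unusedVariables false
set_option linter.style.haveILetI false

namespace Cfsg.Agent.Helper21.BH

open scoped ComplexConjugate
open Cfsg Cfsg.Agent.Helper24 Cfsg.Agent.Helper10.BR996 Cfsg.Agent.Helper21.BT

universe u

namespace PLOCAL

section Abs

variable {A : Type u} [Group A] [Fintype A] [DecidableEq A] {p : ℕ}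

theorem orderOf_eq (hp : p.Prime) (hA : Nat.card A = p) (a : A) (ha : a ≠ 1) : orderOf a = p := by
  have h := orderOf_dvd_natCard a
  rw [hA] at h
  rcases (Nat.dvd_prime hp).1 h with h | h
  · exact absurd (orderOf_eq_one_iff.1 h) ha
  · exact h

theorem pow_ne (hp : p.Prime) (hA : Nat.card A = p) (u : ℕ) (hu1 : 1 ≤ u) (hup : u < p)
    (a : A) (ha : a ≠ 1) : a ^ u ≠ 1 := by
  intro h
  have h1 : orderOf a ∣ u := orderOf_dvd_of_pow_eq_one h
  rw [orderOf_eq hp hA a ha] at h1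
  have := Nat.le_of_dvd (by omega) h1
  omega

theorem exists_pow (hp : p.Prime) (hA : Nat.card A = p) (z : A) (hz : z ≠ 1) (a : A) :
    ∃ m : ℕ, z ^ m = a := by
  haveI : Fact p.Prime := ⟨hp⟩
  have h := mem_powers_of_prime_card (G := A) hA (g := z) (g' := a) hz
  exact Submonoid.mem_powers_iff a z |>.1 h

/-- invariance under `ν` gives invariance under its powers. -/
theorem inv_pow (ν : MulAut A) (f : A → ℂ) (hf : ∀ a, f (ν a) = f a) (k : ℕ) (a : A) :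
    f ((ν ^ k) a) = f a := by
  induction k with
  | zero => simp
  | succ k ih => rw [pow_succ', MulAut.mul_apply, hf, ih]

/-- the orbit sum is invariant under `ν`. -/
theorem th_nu (ν : MulAut A) (w : ℕ) (hν : ν ^ w = 1) (ψ : A → ℂ) (a : A) :
    ∑ k ∈ Finset.range w, ψ ((ν ^ k) (ν a)) = ∑ k ∈ Finset.range w, ψ ((ν ^ k) a) := by
  have h1 : ∀ k, (ν ^ k) (ν a) = (ν ^ (k + 1)) a := fun k => by rw [pow_succ, MulAut.mul_apply]
  simp_rw [h1]
  have h2 := Finset.sum_range_succ' (fun k => ψ ((ν ^ k) a)) w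
  have h3 := Finset.sum_range_succ (fun k => ψ ((ν ^ k) a)) w
  rw [h2] at h3
  simp only [hν, pow_zero] at h3
  exact add_right_cancel h3

/-- the `ν`-orbit of a nontrivial element has `w` elements. -/
theorem orbit_injOn (w : ℕ) (ν : MulAut A)
    (hfpf : ∀ k : ℕ, 0 < k → k < w → ∀ a : A, (ν ^ k) a = a → a = 1)
    (z : A) (hz : z ≠ 1) : Set.InjOn (fun k => (ν ^ k) z) (Finset.range w : Set ℕ) := by
  have key : ∀ j k : ℕ, j < k → k < w → (ν ^ j) z ≠ (ν ^ k) z := by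
    intro j k hjk hk h
    have h3 : (ν ^ (k - j)) ((ν ^ j) z) = (ν ^ j) z := by
      have : ν ^ (k - j) * ν ^ j = ν ^ k := by rw [← pow_add]; congr 1; omega
      rw [← MulAut.mul_apply, this, h]
    have h4 := hfpf (k - j) (by omega) (by omega) _ h3
    apply hz
    have : (ν ^ j) z = (ν ^ j) 1 := by rw [h4, map_one]
    exact (ν ^ j).injective this
  intro j hj k hk hjk
  have hj' : j < w := Finset.mem_range.1 (Finset.mem_coe.1 hj)
  have hk' : k < w := Finset.mem_range.1 (Finset.mem_coe.1 hk)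
  rcases Nat.lt_trichotomy j k with h | h | h
  · exact absurd hjk (key j k h hk')
  · exact h
  · exact absurd hjk.symm (key k j h hj')

/-- the two orbits partition the nontrivial elements. -/
theorem partition (hp : p.Prime) (hA : Nat.card A = p) (w : ℕ) (hpw : 2 * w + 1 = p) (hw : 1 ≤ w)
    (ν : MulAut A) (hνw : ν ^ w = 1)
    (hfpf : ∀ k : ℕ, 0 < k → k < w → ∀ a : A, (ν ^ k) a = a → a = 1)
    (z₁ z₂ : A) (hz₁ : z₁ ≠ 1) (hz₂ : z₂ ≠ 1) (hne : ∀ k : ℕ, (ν ^ k) z₁ ≠ z₂) :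
    (∀ f : A → ℂ, ∑ a ∈ Finset.univ.erase (1 : A), f a =
      ∑ k ∈ Finset.range w, f ((ν ^ k) z₁) + ∑ k ∈ Finset.range w, f ((ν ^ k) z₂)) ∧
    (∀ a : A, a ≠ 1 → (∃ k, a = (ν ^ k) z₁) ∨ (∃ k, a = (ν ^ k) z₂)) := by
  classical
  set O₁ : Finset A := (Finset.range w).image (fun k => (ν ^ k) z₁) with hO₁
  set O₂ : Finset A := (Finset.range w).image (fun k => (ν ^ k) z₂) with hO₂
  have hi₁ := orbit_injOn w ν hfpf z₁ hz₁
  have hi₂ := orbit_injOn w ν hfpf z₂ hz₂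
  have hc₁ : O₁.card = w := by rw [hO₁, Finset.card_image_of_injOn hi₁, Finset.card_range]
  have hc₂ : O₂.card = w := by rw [hO₂, Finset.card_image_of_injOn hi₂, Finset.card_range]
  have hdis : Disjoint O₁ O₂ := by
    rw [Finset.disjoint_left]
    intro a ha₁ ha₂
    obtain ⟨k, -, hk⟩ := Finset.mem_image.1 ha₁
    obtain ⟨l, -, hl⟩ := Finset.mem_image.1 ha₂
    apply hne ((w - 1) * l + k)
    have e1 : (ν ^ ((w - 1) * l + k)) z₁ = (ν ^ ((w - 1) * l)) ((ν ^ k) z₁) := by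
      rw [pow_add, MulAut.mul_apply]
    have e2 : (ν ^ ((w - 1) * l)) ((ν ^ l) z₂) = z₂ := by
      rw [← MulAut.mul_apply, ← pow_add]
      have : (w - 1) * l + l = w * l := by
        obtain ⟨w', rfl⟩ : ∃ w', w = w' + 1 := ⟨w - 1, by omega⟩
        simp; ring
      rw [this, pow_mul, hνw, one_pow, MulAut.one_apply]
    rw [e1]
    show (ν ^ ((w - 1) * l)) ((ν ^ k) z₁) = z₂
    have hk' : (ν ^ k) z₁ = a := hk
    have hl' : (ν ^ l) z₂ = a := hl
    rw [hk', ← hl', e2]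
  have hsub : O₁ ∪ O₂ ⊆ Finset.univ.erase (1 : A) := by
    intro a ha
    rw [Finset.mem_erase]
    refine ⟨?_, Finset.mem_univ _⟩
    rcases Finset.mem_union.1 ha with h | h
    · obtain ⟨k, -, hk⟩ := Finset.mem_image.1 h
      have hk' : (ν ^ k) z₁ = a := hk
      rw [← hk']
      intro h1
      apply hz₁
      have : (ν ^ k) z₁ = (ν ^ k) 1 := by rw [h1, map_one]
      exact (ν ^ k).injective this
    · obtain ⟨k, -, hk⟩ := Finset.mem_image.1 h
      have hk' : (ν ^ k) z₂ = a := hk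
      rw [← hk']
      intro h1
      apply hz₂
      have : (ν ^ k) z₂ = (ν ^ k) 1 := by rw [h1, map_one]
      exact (ν ^ k).injective this
  have hcard : (Finset.univ.erase (1 : A)).card ≤ (O₁ ∪ O₂).card := by
    rw [Finset.card_union_of_disjoint hdis, hc₁, hc₂, Finset.card_erase_of_mem (Finset.mem_univ _),
      Finset.card_univ, ← Nat.card_eq_fintype_card, hA]
    omega
  have heq : O₁ ∪ O₂ = Finset.univ.erase (1 : A) := Finset.eq_of_subset_of_card_le hsub hcard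
  refine ⟨fun f => ?_, fun a ha => ?_⟩
  · rw [← heq, Finset.sum_union hdis, hO₁, hO₂, Finset.sum_image hi₁, Finset.sum_image hi₂]
  · have : a ∈ O₁ ∪ O₂ := by
      rw [heq]; exact Finset.mem_erase.2 ⟨ha, Finset.mem_univ _⟩
    rcases Finset.mem_union.1 this with h | h
    · obtain ⟨k, -, hk⟩ := Finset.mem_image.1 h
      exact Or.inl ⟨k, hk.symm⟩
    · obtain ⟨k, -, hk⟩ := Finset.mem_image.1 h
      exact Or.inr ⟨k, hk.symm⟩


/-- the orbit sum of a nonprincipal character over the nontrivial elements. -/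
theorem sum_th (hp : p.Prime) (hA : Nat.card A = p) (w : ℕ) (ν : MulAut A)
    (ψ : IrrCharacter A) (hψ : ψ ≠ principalChar A) :
    ∑ a ∈ Finset.univ.erase (1 : A), ∑ k ∈ Finset.range w, (ψ : A → ℂ) ((ν ^ k) a) =
      -(w : ℂ) := by
  haveI : Fintype (IrrCharacter A) := Cfsg.Agent.Helper24.irrFintype
  rw [Finset.sum_comm]
  have h : ∀ k ∈ Finset.range w,
      ∑ a ∈ Finset.univ.erase (1 : A), (ψ : A → ℂ) ((ν ^ k) a) = -1 := by
    intro k _
    rw [Finset.sum_erase_eq_sub (Finset.mem_univ _), map_one]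
    have h1 : ∑ a : A, (ψ : A → ℂ) ((ν ^ k) a) = ∑ a : A, (ψ : A → ℂ) a :=
      Equiv.sum_comp ((ν ^ k : MulAut A) : A ≃* A).toEquiv _
    rw [h1, ADAPT.sum_irr_of_ne ψ hψ, Cfsg.Agent.Helper5.BRP0.irr_one hp hA ψ]
    ring
  rw [Finset.sum_congr rfl h]
  simp

/-- the square norm of the orbit sum. -/
theorem sum_sq (hp : p.Prime) (hA : Nat.card A = p) (w : ℕ) (ν : MulAut A)
    (hfpf : ∀ k : ℕ, 0 < k → k < w → ∀ a : A, (ν ^ k) a = a → a = 1)
    (ψ : IrrCharacter A) (hψ : ψ ≠ principalChar A) :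
    ∑ a : A, (∑ k ∈ Finset.range w, (ψ : A → ℂ) ((ν ^ k) a)) *
      conj (∑ k ∈ Finset.range w, (ψ : A → ℂ) ((ν ^ k) a)) = (p : ℂ) * (w : ℂ) := by
  classical
  letI : Fintype (IrrCharacter A) := Cfsg.Agent.Helper24.irrFintype
  have hinj : Set.InjOn (fun k => Cfsg.Agent.Helper5.BRP0.twist (ν ^ k) ψ)
      (Finset.range w : Set ℕ) := by
    have h := Cfsg.Agent.Helper5.BRP0.orbit_sum hp hA ν w hfpf ψ hψ
      ((Finset.range w).image (fun k => Cfsg.Agent.Helper5.BRP0.twist (ν ^ k) ψ)) (by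
        intro ψ'
        rw [Finset.mem_image]
        constructor
        · rintro ⟨k, hk, rfl⟩
          exact ⟨k, Finset.mem_range.1 hk, fun a => rfl⟩
        · rintro ⟨k, hk, h⟩
          refine ⟨k, Finset.mem_range.2 hk, ?_⟩
          apply Subtype.ext
          funext a
          rw [Cfsg.Agent.Helper5.BRP0.twist_apply, h a])
    exact Finset.card_image_iff.1 (by rw [h.1, Finset.card_range])
  have hexp : ∀ a : A, (∑ k ∈ Finset.range w, (ψ : A → ℂ) ((ν ^ k) a)) *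
      conj (∑ k ∈ Finset.range w, (ψ : A → ℂ) ((ν ^ k) a)) =
      ∑ k ∈ Finset.range w, ∑ l ∈ Finset.range w,
        (Cfsg.Agent.Helper5.BRP0.twist (ν ^ k) ψ : A → ℂ) a *
          conj ((Cfsg.Agent.Helper5.BRP0.twist (ν ^ l) ψ : A → ℂ) a) := by
    intro a
    rw [map_sum, Finset.sum_mul_sum]
    rfl
  simp_rw [hexp]
  rw [Finset.sum_comm]
  have hp0 : (p : ℂ) ≠ 0 := by exact_mod_cast hp.ne_zero
  have h2 : ∀ k ∈ Finset.range w, ∑ a : A, ∑ l ∈ Finset.range w,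
      (Cfsg.Agent.Helper5.BRP0.twist (ν ^ k) ψ : A → ℂ) a *
        conj ((Cfsg.Agent.Helper5.BRP0.twist (ν ^ l) ψ : A → ℂ) a) = (p : ℂ) := by
    intro k hk
    rw [Finset.sum_comm]
    have h3 : ∀ l ∈ Finset.range w, ∑ a : A,
        (Cfsg.Agent.Helper5.BRP0.twist (ν ^ k) ψ : A → ℂ) a *
          conj ((Cfsg.Agent.Helper5.BRP0.twist (ν ^ l) ψ : A → ℂ) a) =
        if k = l then (p : ℂ) else 0 := by
      intro l hl
      have h := irr_orthogonality' (Cfsg.Agent.Helper5.BRP0.twist (ν ^ k) ψ)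
        (Cfsg.Agent.Helper5.BRP0.twist (ν ^ l) ψ)
      unfold classInner at h
      rw [hA] at h
      have h' : ∑ a : A,
          (Cfsg.Agent.Helper5.BRP0.twist (ν ^ k) ψ : A → ℂ) a *
            conj ((Cfsg.Agent.Helper5.BRP0.twist (ν ^ l) ψ : A → ℂ) a) =
          (p : ℂ) * (if Cfsg.Agent.Helper5.BRP0.twist (ν ^ k) ψ =
            Cfsg.Agent.Helper5.BRP0.twist (ν ^ l) ψ then 1 else 0) := by
        rw [← h]; field_simp
      rw [h']
      by_cases hkl : k = l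
      · subst hkl; simp
      · have hne : Cfsg.Agent.Helper5.BRP0.twist (ν ^ k) ψ ≠
            Cfsg.Agent.Helper5.BRP0.twist (ν ^ l) ψ := fun h' =>
          hkl (hinj (Finset.mem_coe.2 hk) (Finset.mem_coe.2 hl) h')
        rw [if_neg hne, if_neg hkl]; simp
    rw [Finset.sum_congr rfl h3, Finset.sum_ite_eq, if_pos hk]
  rw [Finset.sum_congr rfl h2]
  simp
  ring

/-- the abstract statement on a group of order `p`. -/
theorem main (hp : p.Prime) (hA : Nat.card A = p) (w : ℕ) (hpw : 2 * w + 1 = p) (hw : 1 ≤ w)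
    (ν : MulAut A) (hνw : ν ^ w = 1)
    (hfpf : ∀ k : ℕ, 0 < k → k < w → ∀ a : A, (ν ^ k) a = a → a = 1)
    (ψ : IrrCharacter A) (hψ : ψ ≠ principalChar A)
    (θ : A → ℂ) (hθ : ∀ a, θ a = ∑ k ∈ Finset.range w, (ψ : A → ℂ) ((ν ^ k) a))
    (u : ℕ) (hu1 : 1 ≤ u) (hup : u < p)
    (hdisj : ∑ a : A, θ a * conj (θ (a ^ u)) = 0) :
    ∃ z₁ z₂ : A, z₁ ≠ 1 ∧ z₂ ≠ 1 ∧ z₂ = z₁ ^ u ∧ (∃ j : ℕ, z₂ ^ u = (ν ^ j) z₁) ∧
      (∀ f : A → ℂ, (∀ a, f (ν a) = f a) →
        ∑ a ∈ Finset.univ.erase (1 : A), f a = (w : ℂ) * (f z₁ + f z₂)) ∧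
      θ z₁ + θ z₂ = -1 ∧ θ z₁ * conj (θ z₁) + θ z₂ * conj (θ z₂) = (w : ℂ) + 1 := by
  haveI : Fintype (IrrCharacter A) := Cfsg.Agent.Helper24.irrFintype
  have hw0 : (w : ℂ) ≠ 0 := by exact_mod_cast (by omega : w ≠ 0)
  have hθν : ∀ a, θ (ν a) = θ a := fun a => by rw [hθ, hθ, th_nu ν w hνw]
  have hθ1 : θ 1 = (w : ℂ) := by
    rw [hθ]
    simp only [map_one, Cfsg.Agent.Helper5.BRP0.irr_one hp hA ψ]
    simp
  -- the exponent does not preserve an orbit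
  have key : ∀ x : A, x ≠ 1 → ∀ j : ℕ, (ν ^ j) x ≠ x ^ u := by
    intro x hx j h
    have hall : ∀ a : A, (ν ^ j) a = a ^ u := by
      intro a
      obtain ⟨m, rfl⟩ := exists_pow hp hA x hx a
      rw [map_pow, h, ← pow_mul, ← pow_mul, mul_comm]
    have hθu : ∀ a : A, θ (a ^ u) = θ a := fun a => by rw [← hall a, inv_pow ν θ hθν]
    simp_rw [hθu] at hdisj
    have hn : ∀ a : A, θ a * conj (θ a) = ((Complex.normSq (θ a) : ℝ) : ℂ) :=
      fun a => Complex.mul_conj _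
    simp_rw [hn] at hdisj
    rw [← Complex.ofReal_sum] at hdisj
    have h0 := Complex.ofReal_eq_zero.1 hdisj
    have h1 := (Finset.sum_eq_zero_iff_of_nonneg
      (fun a _ => Complex.normSq_nonneg (θ a))).1 h0 1 (Finset.mem_univ _)
    rw [Complex.normSq_eq_zero, hθ1] at h1
    exact hw0 h1
  obtain ⟨z₁, hz₁⟩ : ∃ z₁ : A, z₁ ≠ 1 := by
    have h1 : 1 < Nat.card A := by rw [hA]; exact hp.one_lt
    haveI : Nontrivial A := Finite.one_lt_card_iff_nontrivial.mp h1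
    exact exists_ne (1 : A)
  have hz₂ : z₁ ^ u ≠ 1 := pow_ne hp hA u hu1 hup z₁ hz₁
  obtain ⟨hsum, hmem⟩ := partition hp hA w hpw hw ν hνw hfpf z₁ (z₁ ^ u) hz₁ hz₂ (key z₁ hz₁)
  have hcls : ∀ f : A → ℂ, (∀ a, f (ν a) = f a) →
      ∑ a ∈ Finset.univ.erase (1 : A), f a = (w : ℂ) * (f z₁ + f (z₁ ^ u)) := by
    intro f hf
    rw [hsum f]
    simp only [inv_pow ν f hf, Finset.sum_const, Finset.card_range, nsmul_eq_mul]
    ring
  refine ⟨z₁, z₁ ^ u, hz₁, hz₂, rfl, ?_, hcls, ?_, ?_⟩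
  · have h3 : (z₁ ^ u) ^ u ≠ 1 := pow_ne hp hA u hu1 hup _ hz₂
    rcases hmem _ h3 with ⟨k, hk⟩ | ⟨k, hk⟩
    · exact ⟨k, hk⟩
    · exact absurd hk.symm (key _ hz₂ k)
  · have h1 := hcls θ hθν
    have h2 := sum_th hp hA w ν ψ hψ
    simp_rw [← hθ] at h2
    rw [h2] at h1
    have h3 : (w : ℂ) * (θ z₁ + θ (z₁ ^ u)) = (w : ℂ) * (-1) := by rw [← h1]; ring
    exact mul_left_cancel₀ hw0 h3
  · have hinv : ∀ a, (fun a => θ a * conj (θ a)) (ν a) = (fun a => θ a * conj (θ a)) a := by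
      intro a
      simp only [hθν]
    have h1 := hcls (fun a => θ a * conj (θ a)) hinv
    rw [Finset.sum_erase_eq_sub (Finset.mem_univ _)] at h1
    have h2 := sum_sq hp hA w ν hfpf ψ hψ
    simp_rw [← hθ] at h2
    try simp only [] at h1
    rw [h2, hθ1] at h1
    have hpc : (p : ℂ) = 2 * (w : ℂ) + 1 := by rw [← hpw]; push_cast; ring
    have h3 : (w : ℂ) * (θ z₁ * conj (θ z₁) + θ (z₁ ^ u) * conj (θ (z₁ ^ u))) =
        (w : ℂ) * ((w : ℂ) + 1) := by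
      rw [← h1, hpc]
      simp
      ring
    exact mul_left_cancel₀ hw0 h3

end Abs

end PLOCAL

section Chain

variable {G : Type u} [Group G] [Fintype G] (p : ℕ) [Fact p.Prime]

variable (P : Sylow p G)

local notation "𝒞" => Subgroup.centralizer ((P : Subgroup G) : Set G)
local notation "𝒩" => Subgroup.normalizer ((P : Subgroup G) : Set G)

/-- PIECE PLOCAL. -/
theorem plocal (hP : Nat.card P = p) (w : ℕ) (hpw : 2 * w + 1 = p) (hw : 1 ≤ w)
    (ν : MulAut (P : Subgroup G)) (hνf : ν ^ w = 1)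
    (hfpf : ∀ k : ℕ, 0 < k → k < w → ∀ a : (P : Subgroup G), (ν ^ k) a = a → a = 1)
    (hν4 : ∀ k : ℕ, ∃ t ∈ 𝒩, ∀ a : (P : Subgroup G),
      t * (a : G) * t⁻¹ = (((ν ^ k) a : (P : Subgroup G)) : G))
    (ζ ζ' : IrrCharacter G) (ψ : IrrCharacter (P : Subgroup G)) (hψ : ψ ≠ principalChar _)
    (hζ : ∀ a : (P : Subgroup G), (ζ : G → ℂ) (a : G) =
      ∑ k ∈ Finset.range w, (ψ : ↥(P : Subgroup G) → ℂ) ((ν ^ k) a))
    (u : ℕ) (hu1 : 1 ≤ u) (hup : u < p)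
    (hζ' : ∀ a : G, a ∈ (P : Subgroup G) → (ζ' : G → ℂ) a = (ζ : G → ℂ) (a ^ u))
    (hdisj : ∑ᶠ a : (P : Subgroup G), (ζ : G → ℂ) (a : G) * conj ((ζ' : G → ℂ) (a : G)) = 0) :
    ∃ z₁ z₂ : G, z₁ ∈ (P : Subgroup G) ∧ z₂ ∈ (P : Subgroup G) ∧ z₁ ≠ 1 ∧ z₂ ≠ 1 ∧
      (∀ F : G → ℂ, IsClassFunction G F → dsum (P : Subgroup G) F = (w : ℂ) * (F z₁ + F z₂)) ∧
      (ζ' : G → ℂ) z₁ = (ζ : G → ℂ) z₂ ∧ (ζ' : G → ℂ) z₂ = (ζ : G → ℂ) z₁ ∧
      (ζ : G → ℂ) z₁ + (ζ : G → ℂ) z₂ = -1 ∧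
      (ζ : G → ℂ) z₁ * conj ((ζ : G → ℂ) z₁) + (ζ : G → ℂ) z₂ * conj ((ζ : G → ℂ) z₂) =
        (w : ℂ) + 1 := by
  classical
  have hpp : p.Prime := Fact.out
  have hζc : IsClassFunction G (ζ : G → ℂ) := isClassFunction_of_isIrrCharacter ζ.2
  have hdisj' : ∑ a : (P : Subgroup G),
      (fun a : (P : Subgroup G) => (ζ : G → ℂ) (a : G)) a *
        conj ((fun a : (P : Subgroup G) => (ζ : G → ℂ) (a : G)) (a ^ u)) = 0 := by
    rw [finsum_eq_sum_of_fintype] at hdisj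
    rw [← hdisj]
    refine Finset.sum_congr rfl fun a _ => ?_
    rw [hζ' (a : G) a.2]
    simp
  obtain ⟨z₁, z₂, hz₁, hz₂, hz₂u, ⟨j, hj⟩, hcls, hsum, hsq⟩ :=
    PLOCAL.main hpp hP w hpw hw ν hνf hfpf ψ hψ
      (fun a : (P : Subgroup G) => (ζ : G → ℂ) (a : G)) hζ u hu1 hup hdisj'
  have hinvF : ∀ F : G → ℂ, IsClassFunction G F → ∀ (k : ℕ) (a : (P : Subgroup G)),
      F (((ν ^ k) a : (P : Subgroup G)) : G) = F (a : G) := by
    intro F hF k a
    obtain ⟨t, -, ht⟩ := hν4 k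
    rw [← ht a]
    exact hF (a : G) t
  have hz₂G : (z₂ : G) = (z₁ : G) ^ u := by rw [hz₂u]; simp
  refine ⟨(z₁ : G), (z₂ : G), z₁.2, z₂.2, ?_, ?_, ?_, ?_, ?_, hsum, hsq⟩
  · exact fun h => hz₁ (Subtype.ext h)
  · exact fun h => hz₂ (Subtype.ext h)
  · intro F hF
    rw [ADAPT.dsum_eq_sum_subtype]
    have h1 := hcls (fun a : (P : Subgroup G) => F (a : G)) (fun a => by
      have := hinvF F hF 1 a
      rwa [pow_one] at this)
    rw [← h1]
    rw [← Finset.sum_filter, Finset.filter_ne']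
  · rw [hζ' (z₁ : G) z₁.2, hz₂G]
  · rw [hζ' (z₂ : G) z₂.2]
    have h1 : ((z₂ : G)) ^ u = (((ν ^ j) z₁ : (P : Subgroup G)) : G) := by
      rw [← hj]; simp
    rw [h1, hinvF _ hζc j z₁]

end Chain

end Cfsg.Agent.Helper21.BH
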