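import Mathlib

/-! Upper-bound half for the Schur multiplier of a metacyclic group (piece for S3967). -/

namespace Cfsg.Agent.Helper5.SchurMetaU

open scoped commutatorElement

theorem geom_aux (r : ℕ) (hr : 0 < r) (n : ℕ) :
    (r - 1) * (∑ i ∈ Finset.range n, r ^ i) + 1 = r ^ n := by
  induction n with
  | zero => simp
  | succ k ih =>
    rw [Finset.sum_range_succ, mul_add, pow_succ]
    have h1 : r - 1 + 1 = r := Nat.sub_add_cancel hr
    calc (r - 1) * (∑ i ∈ Finset.range k, r ^ i) + (r - 1) * r ^ k + 1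
        = ((r - 1) * (∑ i ∈ Finset.range k, r ^ i) + 1) + (r - 1) * r ^ k := by ring
      _ = r ^ k + (r - 1) * r ^ k := by rw [ih]
      _ = (r - 1 + 1) * r ^ k := by ring
      _ = r ^ k * r := by rw [h1]; ring

theorem cpow {Γ : Type*} [Group Γ] (k x : Γ) (hk : ∀ g : Γ, k * g = g * k) (i j : ℕ) :
    (k * x ^ i) ^ j = k ^ j * x ^ (i * j) := by
  have hc : Commute k (x ^ i) := hk (x ^ i)
  rw [hc.mul_pow, ← pow_mul]

theorem comm_central {Γ : Type*} [Group Γ] (x y k1 k2 : Γ) (h1 : ∀ g, k1 * g = g * k1)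
    (h2 : ∀ g, k2 * g = g * k2) : ⁅x * k1, y * k2⁆ = ⁅x, y⁆ := by
  have hc1 : ∀ g, Commute k1 g := h1
  have hc2 : ∀ g, Commute k2 g := h2
  rw [commutatorElement_def, commutatorElement_def]
  have a1 : x * k1 * (y * k2) = x * y * (k1 * k2) := (hc1 y).mul_mul_mul_comm x k2
  have a2 : (x * k1)⁻¹ = x⁻¹ * k1⁻¹ := by
    rw [mul_inv_rev]; exact ((hc1 x).inv_left.inv_right).eq
  have a3 : (y * k2)⁻¹ = y⁻¹ * k2⁻¹ := by
    rw [mul_inv_rev]; exact ((hc2 y).inv_left.inv_right).eq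
  have a4 : x⁻¹ * k1⁻¹ * (y⁻¹ * k2⁻¹) = x⁻¹ * y⁻¹ * (k1⁻¹ * k2⁻¹) :=
    ((hc1 y).inv_left.inv_right).mul_mul_mul_comm x⁻¹ k2⁻¹
  have hK : Commute (k1 * k2) (x⁻¹ * y⁻¹) := (hc1 _).mul_left (hc2 _)
  calc x * k1 * (y * k2) * (x * k1)⁻¹ * (y * k2)⁻¹
      = x * y * (k1 * k2) * (x⁻¹ * k1⁻¹ * (y⁻¹ * k2⁻¹)) := by rw [a1, a2, a3, mul_assoc]
    _ = x * y * ((k1 * k2) * (x⁻¹ * y⁻¹)) * (k1⁻¹ * k2⁻¹) := by rw [a4]; simp only [mul_assoc]
    _ = x * y * ((x⁻¹ * y⁻¹) * (k1 * k2)) * (k1⁻¹ * k2⁻¹) := by rw [hK.eq]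
    _ = x * y * x⁻¹ * y⁻¹ * (k1 * k2 * (k1⁻¹ * k2⁻¹)) := by simp only [mul_assoc]
    _ = x * y * x⁻¹ * y⁻¹ := by
        have : k1 * k2 * (k1⁻¹ * k2⁻¹) = 1 := by
          rw [(hc1 k2).eq, mul_assoc, ← mul_assoc k1, mul_inv_cancel, one_mul, mul_inv_cancel]
        rw [this, mul_one]

theorem mem_normalizer_zpowers {Γ : Type*} [Group Γ] (g c : Γ)
    (h1 : g * c * g⁻¹ ∈ Subgroup.zpowers c) (h2 : g⁻¹ * c * g ∈ Subgroup.zpowers c) :
    g ∈ Subgroup.normalizer ((Subgroup.zpowers c : Subgroup Γ) : Set Γ) := by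
  rw [Subgroup.mem_normalizer_iff]
  intro h
  constructor
  · intro hh
    obtain ⟨j, rfl⟩ := Subgroup.mem_zpowers_iff.mp hh
    rw [← conj_zpow]
    exact Subgroup.zpow_mem _ h1 j
  · intro hh
    have e : h = g⁻¹ * (g * h * g⁻¹) * g := by group
    rw [e]
    obtain ⟨j, hj⟩ := Subgroup.mem_zpowers_iff.mp hh
    rw [← hj]
    have e2 : g⁻¹ * c ^ j * g = (g⁻¹ * c * g) ^ j := by
      have := conj_zpow (a := g⁻¹) (b := c) (i := j)
      simpa using this.symm
    rw [e2]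
    exact Subgroup.zpow_mem _ h2 j

theorem comm_of_closure_pair {Q : Type*} [Group Q] (x y : Q) (hxy : y * x = x * y)
    (hclos : Subgroup.closure ({x, y} : Set Q) = ⊤) : ∀ u v : Q, u * v = v * u := by
  have h1 : ({x, y} : Set Q) ⊆ Subgroup.centralizer ({x, y} : Set Q) := by
    intro z hz
    rw [SetLike.mem_coe, Subgroup.mem_centralizer_iff]
    intro w hw
    rcases hz with rfl | rfl <;> rcases hw with rfl | rfl
    · rfl
    · exact hxy
    · exact hxy.symm
    · rfl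
  have h2 : ∀ g : Q, g ∈ Subgroup.centralizer ({x, y} : Set Q) := by
    intro g
    have := (Subgroup.closure_le _).mpr h1
    rw [hclos] at this
    exact this (Subgroup.mem_top g)
  have h3 : ({x, y} : Set Q) ⊆ Subgroup.center Q := by
    intro z hz
    rw [SetLike.mem_coe, Subgroup.mem_center_iff]
    intro g
    exact ((Subgroup.mem_centralizer_iff.mp (h2 g)) z hz).symm
  have h4 : ∀ g : Q, g ∈ Subgroup.center Q := by
    intro g
    have := (Subgroup.closure_le _).mpr h3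
    rw [hclos] at this
    exact this (Subgroup.mem_top g)
  intro u v
  exact ((Subgroup.mem_center_iff.mp (h4 v)) u)

theorem stem_upper {G Γ : Type*} [Group G] [Group Γ] (σ : Γ →* G) (hs : Function.Surjective σ)
    (hc : σ.ker ≤ Subgroup.center Γ) (hk : σ.ker ≤ commutator Γ) (m n r t : ℕ) (hm : 0 < m)
    (hn : 0 < n) (hr : 0 < r) (a b : G) (hgen : Subgroup.closure ({a, b} : Set G) = ⊤)
    (ha : orderOf a = m) (hb : b ^ n = a ^ t) (hab : b * a * b⁻¹ = a ^ r) :
    ∃ c : Γ, σ.ker = Subgroup.zpowers (c ^ (m / Nat.gcd m (r - 1))) ∧ c ^ m = 1 ∧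
      c ^ (∑ i ∈ Finset.range n, r ^ i) = 1 ∧ c ^ t = 1 := by
  obtain ⟨α, hα⟩ := hs a
  obtain ⟨β, hβ⟩ := hs b
  have ham : a ^ m = 1 := by rw [← ha]; exact pow_orderOf_eq_one a
  have hr1 : r - 1 + 1 = r := Nat.sub_add_cancel hr
  have hcen : ∀ k ∈ σ.ker, ∀ g : Γ, k * g = g * k := fun k hk' g =>
    ((Subgroup.mem_center_iff.mp (hc hk')) g).symm
  -- Step 1: `Γ` is generated by `α, β`.
  have hL : Subgroup.closure ({α, β} : Set Γ) = ⊤ := by
    set L := Subgroup.closure ({α, β} : Set Γ) with hLdef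
    have hmap : L.map σ = ⊤ := by
      rw [hLdef, MonoidHom.map_closure, Set.image_pair, hα, hβ, hgen]
    have hdecomp : ∀ γ : Γ, ∃ l ∈ L, ∃ k ∈ σ.ker, γ = l * k := by
      intro γ
      have h1 : σ γ ∈ L.map σ := by rw [hmap]; trivial
      obtain ⟨l, hl, hlγ⟩ := Subgroup.mem_map.mp h1
      refine ⟨l, hl, l⁻¹ * γ, ?_, by group⟩
      rw [MonoidHom.mem_ker, map_mul, map_inv, hlγ, inv_mul_cancel]
    have hcomm_le : commutator Γ ≤ L := by
      rw [commutator_def, Subgroup.commutator_le]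
      intro g1 _ g2 _
      obtain ⟨l1, hl1, k1, hk1, rfl⟩ := hdecomp g1
      obtain ⟨l2, hl2, k2, hk2, rfl⟩ := hdecomp g2
      rw [comm_central l1 l2 k1 k2 (hcen k1 hk1) (hcen k2 hk2), commutatorElement_def]
      exact L.mul_mem (L.mul_mem (L.mul_mem hl1 hl2) (L.inv_mem hl1)) (L.inv_mem hl2)
    rw [eq_top_iff]
    intro γ _
    obtain ⟨l, hl, k, hk', rfl⟩ := hdecomp γ
    exact L.mul_mem hl (hcomm_le (hk hk'))
  -- Step 2: the elements `k3` and `c`.
  set k3 : Γ := β * α * β⁻¹ * (α ^ r)⁻¹ with hk3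
  have hk3K : k3 ∈ σ.ker := by
    rw [MonoidHom.mem_ker, hk3]
    simp only [map_mul, map_inv, map_pow, hα, hβ, hab]
    exact mul_inv_cancel _
  have hk3c := hcen k3 hk3K
  have hconj : β * α * β⁻¹ = k3 * α ^ r := by rw [hk3]; group
  set c : Γ := β * α * β⁻¹ * α⁻¹ with hcdef
  have hc_eq : c = k3 * α ^ (r - 1) := by
    rw [hcdef, hconj, mul_assoc]
    congr 1
    conv_lhs => rw [← hr1, pow_succ]
    group
  have hcpow : ∀ j : ℕ, c ^ j = k3 ^ j * α ^ ((r - 1) * j) := fun j => by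
    rw [hc_eq, cpow k3 α hk3c]
  have hconjpow : ∀ j : ℕ, β * α ^ j * β⁻¹ = k3 ^ j * α ^ (r * j) := fun j => by
    rw [← conj_pow, hconj, cpow k3 α hk3c]
  -- a cancellation principle
  have hcancel : ∀ j : ℕ, k3 ^ j * α ^ (r * j) = α ^ j → c ^ j = 1 := by
    intro j h
    rw [hcpow j]
    have e : r * j = (r - 1) * j + j := by
      conv_lhs => rw [← hr1]
      ring
    rw [e, pow_add, ← mul_assoc] at h
    exact mul_eq_right.mp h
  -- Step 4: `c ^ m = 1`.
  have hcm : c ^ m = 1 := by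
    apply hcancel
    have hαm : α ^ m ∈ σ.ker := by rw [MonoidHom.mem_ker, map_pow, hα, ham]
    rw [← hconjpow m, ← hcen _ hαm β, mul_assoc, mul_inv_cancel, mul_one]
  -- `k2` and Step 6: `c ^ t = 1`.
  set k2 : Γ := β ^ n * (α ^ t)⁻¹ with hk2
  have hk2K : k2 ∈ σ.ker := by
    rw [MonoidHom.mem_ker, hk2]
    simp only [map_mul, map_inv, map_pow, hα, hβ, hb]
    exact mul_inv_cancel _
  have hk2c := hcen k2 hk2K
  have hβn : β ^ n = k2 * α ^ t := by rw [hk2]; group
  have hct : c ^ t = 1 := by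
    apply hcancel
    rw [← hconjpow t]
    have h1 : β * (β ^ n) * β⁻¹ = β ^ n := by
      rw [← pow_succ', pow_succ, mul_assoc, mul_inv_cancel, mul_one]
    rw [hβn, ← mul_assoc, ← hk2c β, mul_assoc, mul_assoc] at h1
    have h2 := mul_left_cancel h1
    rw [← mul_assoc] at h2
    exact h2
  -- Step 5: `c ^ s = 1`.
  have hind : ∀ j : ℕ, β ^ j * α * (β ^ j)⁻¹
      = k3 ^ (∑ i ∈ Finset.range j, r ^ i) * α ^ (r ^ j) := by
    intro j
    induction j with
    | zero => simp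
    | succ j ih =>
      have e1 : β ^ (j + 1) * α * (β ^ (j + 1))⁻¹ = β * (β ^ j * α * (β ^ j)⁻¹) * β⁻¹ := by
        rw [pow_succ']; group
      have hkc : ∀ g : Γ, k3 ^ (∑ i ∈ Finset.range j, r ^ i) * g
          = g * k3 ^ (∑ i ∈ Finset.range j, r ^ i) := fun g =>
        (Commute.pow_left (hk3c g) _).eq
      rw [e1, ih, ← mul_assoc, ← hkc β, mul_assoc, mul_assoc, ← mul_assoc β, hconjpow,
        ← mul_assoc, ← pow_add, Finset.sum_range_succ, pow_succ, mul_comm r]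
  have hcs : c ^ (∑ i ∈ Finset.range n, r ^ i) = 1 := by
    rw [hcpow]
    have hcomm : Commute (β ^ n) α := by
      rw [hβn]
      exact Commute.mul_left (hk2c α) (Commute.pow_left (Commute.refl α) t)
    have h1 : β ^ n * α * (β ^ n)⁻¹ = α := by
      rw [hcomm.eq, mul_assoc, mul_inv_cancel, mul_one]
    rw [hind n] at h1
    have hg := geom_aux r hr n
    rw [← hg, pow_succ, ← mul_assoc] at h1
    exact mul_eq_right.mp h1
  -- normality of `zpowers c`
  have hcop : Nat.Coprime m r := by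
    have h1 : orderOf (a ^ r) = m := by
      rw [← hab]
      have := (MulAut.conj b).orderOf_eq a
      rw [MulAut.conj_apply] at this
      rw [this, ha]
    rw [orderOf_pow' a hr.ne', ha] at h1
    rcases Nat.div_eq_self.mp h1 with h | h
    · omega
    · exact h
  have hβc : β * c * β⁻¹ = c ^ r := by
    have e : β * c * β⁻¹ = k3 * (β * α ^ (r - 1) * β⁻¹) := by
      rw [hc_eq, ← mul_assoc, ← hk3c β, mul_assoc, mul_assoc, ← mul_assoc β]
    rw [e, hconjpow, hcpow, ← mul_assoc, ← pow_succ', hr1, mul_comm r]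
  obtain ⟨r', hr'⟩ : ∃ r' : ℕ, (c ^ r) ^ r' = c := by
    rcases Nat.lt_or_ge 1 m with h | h
    · obtain ⟨r', -, hr'⟩ := Nat.exists_mul_mod_eq_one_of_coprime hcop.symm h
      refine ⟨r', ?_⟩
      rw [← pow_mul, ← Nat.div_add_mod (r * r') m, hr', pow_add, pow_mul, hcm, one_pow, one_mul,
        pow_one]
    · have hm1 : m = 1 := by omega
      rw [hm1, pow_one] at hcm
      exact ⟨0, by rw [hcm]; simp⟩
  have hβc' : β⁻¹ * c * β = c ^ r' := by
    have h1 : β * c ^ r' * β⁻¹ = c := by rw [← conj_pow, hβc, hr']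
    calc β⁻¹ * c * β = β⁻¹ * (β * c ^ r' * β⁻¹) * β := by rw [h1]
      _ = c ^ r' := by group
  have hαc : α * c * α⁻¹ = c := by
    have : Commute α c := by
      rw [hc_eq]
      exact Commute.mul_right (hk3c α).symm (Commute.pow_right (Commute.refl α) _)
    rw [this.eq, mul_assoc, mul_inv_cancel, mul_one]
  set N : Subgroup Γ := Subgroup.zpowers c with hN
  have hαc' : α⁻¹ * c * α = c := by
    calc α⁻¹ * c * α = α⁻¹ * (α * c * α⁻¹) * α := by rw [hαc]
      _ = c := by group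
  have hNnorm : N.Normal := by
    rw [← Subgroup.normalizer_eq_top_iff, eq_top_iff, ← hL, Subgroup.closure_le]
    intro g hg
    rcases hg with rfl | rfl
    · apply mem_normalizer_zpowers
      · rw [hαc]; exact Subgroup.mem_zpowers c
      · rw [hαc']; exact Subgroup.mem_zpowers c
    · apply mem_normalizer_zpowers
      · rw [hβc]; exact Subgroup.npow_mem_zpowers c r
      · rw [hβc']; exact Subgroup.npow_mem_zpowers c r'
  have hcommN : commutator Γ ≤ N := by
    set π := QuotientGroup.mk' N with hπ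
    have hclos : Subgroup.closure ({π α, π β} : Set (Γ ⧸ N)) = ⊤ := by
      rw [← Set.image_pair, ← MonoidHom.map_closure, hL]
      exact Subgroup.map_top_of_surjective π (QuotientGroup.mk'_surjective N)
    have hπc : π c = 1 := (QuotientGroup.eq_one_iff c).mpr (Subgroup.mem_zpowers c)
    have hαβ : π β * π α = π α * π β := by
      rw [hcdef, map_mul, map_mul, map_mul, map_inv, map_inv, mul_inv_eq_one,
        mul_inv_eq_iff_eq_mul] at hπc
      exact hπc
    have hcomm := comm_of_closure_pair (π α) (π β) hαβ hclos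
    rw [commutator_def, Subgroup.commutator_le]
    intro g1 _ g2 _
    rw [← QuotientGroup.eq_one_iff, commutatorElement_def]
    change π (g1 * g2 * g1⁻¹ * g2⁻¹) = 1
    rw [map_mul, map_mul, map_mul, map_inv, map_inv, hcomm (π g1) (π g2), mul_assoc (π g2),
      mul_inv_cancel, mul_one, mul_inv_cancel]
  have hKN : σ.ker ≤ N := hk.trans hcommN
  -- Step 3
  have hσc : σ c = a ^ (r - 1) := by
    rw [hcdef]
    simp only [map_mul, map_inv, hα, hβ, hab]
    conv_lhs => rw [← hr1, pow_succ]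
    group
  set d := Nat.gcd m (r - 1) with hd
  have hdpos : 0 < d := Nat.gcd_pos_of_pos_left _ hm
  obtain ⟨m', hm'⟩ := Nat.gcd_dvd_left m (r - 1)
  obtain ⟨e, he⟩ := Nat.gcd_dvd_right m (r - 1)
  rw [← hd] at hm' he
  have hmd : m / d = m' := by rw [hm']; exact Nat.mul_div_cancel_left m' hdpos
  have hcop' : Nat.Coprime m' e := by
    have := Nat.coprime_div_gcd_div_gcd (m := m) (n := r - 1) (by rw [← hd]; exact hdpos)
    rw [← hd, hmd] at this
    have he' : (r - 1) / d = e := by rw [he]; exact Nat.mul_div_cancel_left e hdpos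
    rwa [he'] at this
  refine ⟨c, ?_, hcm, hcs, hct⟩
  rw [hmd]
  apply le_antisymm
  · intro k hkK
    obtain ⟨j, hj⟩ := Subgroup.mem_zpowers_iff.mp (hKN hkK)
    have h1 : σ k = 1 := MonoidHom.mem_ker.mp hkK
    rw [← hj, map_zpow, hσc, ← zpow_natCast, ← zpow_mul] at h1
    have h2 : (m : ℤ) ∣ ((r - 1 : ℕ) : ℤ) * j := by
      rw [← ha]; exact orderOf_dvd_iff_zpow_eq_one.mpr h1
    rw [hm', he] at h2
    push_cast at h2
    rw [mul_assoc] at h2
    have h3 : (m' : ℤ) ∣ (e : ℤ) * j :=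
      Int.dvd_of_mul_dvd_mul_left (by exact_mod_cast hdpos.ne') h2
    have h4 : (m' : ℤ) ∣ j :=
      (Nat.isCoprime_iff_coprime.mpr hcop').dvd_of_dvd_mul_left h3
    obtain ⟨q, hq⟩ := h4
    rw [Subgroup.mem_zpowers_iff]
    refine ⟨q, ?_⟩
    rw [← hj, hq, zpow_mul, zpow_natCast]
  · rw [Subgroup.zpowers_le, MonoidHom.mem_ker, map_pow, hσc, ← pow_mul, he]
    have : d * e * m' = m * e := by rw [hm']; ring
    rw [this, pow_mul, ham, one_pow]

end Cfsg.Agent.Helper5.SchurMetaU
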