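import Mathlib
import Cfsg.Agent.Lib.Helper5.TIAlgDefs
import Cfsg.Agent.Lib.Helper1.TIALGRALTCore
import Cfsg.Agent.Lib.Helper1.TIALGSEMI
import Cfsg.Agent.Lib.Helper7.TIALGARTIN
import Cfsg.Agent.Lib.Helper9.TIALGCOMM
import Cfsg.Agent.Lib.Helper22.TIALGFIELD
import Cfsg.Agent.Lib.Helper24.TIALGASSOC

/-!
# S1786 sub-project TI-ALG: assembly core (helper5)

`alg_field_core`: the statement of `alg_field_of_inverse_additive` (plans/S1786_SkelAlg.lean.txt), proved from the landed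
pieces TIALG-SEMI / RALT-core / ARTIN / COMM / ASSOC / FIELD, with the last open piece TIALG-LALT (`alg_left_alt`) as the
hypothesis `hLALT`.
-/

set_option autoImplicit false

namespace Cfsg.Agent.Helper26.TI

universe uU uA uV

/-- glue: commutativity and associativity from the two alternative laws. -/
theorem tialg_core_of_alt {D : Type*} [NonAssocRing D] [Finite D]
    (h2 : ∀ x : D, x + x = 0)
    (hnz : ∀ x y : D, x * y = 0 → x = 0 ∨ y = 0)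
    (hl : ∀ x y : D, x * (x * y) = x * x * y) (hr : ∀ x y : D, y * x * x = y * (x * x)) :
    (∀ x y : D, x * y = y * x) ∧ (∀ x y z : D, x * y * z = x * (y * z)) := by
  have hc : ∀ x y : D, x * y = y * x := fun x y =>
    alg_comm_of_artin hnz x y (fun u v w => alg_artin hl hr x y u v w)
  exact ⟨hc, alg_assoc_of_comm h2 hl hr hc⟩

/-- The target statement with `alg_left_alt` (piece TIALG-LALT) as a hypothesis. -/
theorem alg_field_core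
    (hLALT : ∀ {E : Type uV} [NonAssocRing E] [Finite E],
      (∀ x : E, x + x = 0) → (∀ x y : E, x * y = 0 → x = 0 ∨ y = 0) →
      (∀ x₁ x₂ : E, x₁ ≠ 0 → x₂ ≠ 0 →
        (∀ y₁ y₂ : E, x₁ * y₁ = x₂ * y₂ → y₁ + y₂ = 0) ∨
        (∃ x₃ : E, ∀ y₁ y₂ : E, x₁ * y₁ = x₂ * y₂ → x₃ * (y₁ + y₂) = x₁ * y₁)) →
      ∀ x y : E, x * (x * y) = x * x * y)
    {U : Type uU} {A : Type uA} {V : Type uV}
    [AddCommGroup U] [AddCommGroup A] [AddCommGroup V] [Finite V] [Nontrivial V]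
    (hUV : Nat.card U = Nat.card V) (hAV : Nat.card A = Nat.card V)
    (h2 : ∀ v : V, v + v = 0)
    (β : U →+ A →+ V)
    (hnd : ∀ u a, β u a = 0 → u = 0 ∨ a = 0)
    (hA : ∀ u₁ u₂ : U, u₁ ≠ 0 → u₂ ≠ 0 →
      (∀ a₁ a₂ : A, β u₁ a₁ = β u₂ a₂ → a₁ + a₂ = 0) ∨
      (∃ u₃ : U, ∀ a₁ a₂ : A, β u₁ a₁ = β u₂ a₂ → β u₃ (a₁ + a₂) = β u₁ a₁))
    (hU : ∀ a₁ a₂ : A, a₁ ≠ 0 → a₂ ≠ 0 →
      (∀ u₁ u₂ : U, β u₁ a₁ = β u₂ a₂ → u₁ + u₂ = 0) ∨
      (∃ a₃ : A, ∀ u₁ u₂ : U, β u₁ a₁ = β u₂ a₂ → β (u₁ + u₂) a₃ = β u₁ a₁)) :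
    ∃ (F : Type) (_ : Field F) (_ : Fintype F) (eU : U ≃+ F) (eA : A ≃+ F) (eV : V ≃+ F),
      ∀ u a, eV (β u a) = eU u * eA a := by
  obtain ⟨D, iD, iF, iN, eU, eA, eV, hmul, h2', hnz', hL', hR'⟩ :=
    alg_exists_semifield hUV hAV h2 β hnd hA hU
  have hl : ∀ x y : D, x * (x * y) = x * x * y := hLALT h2' hnz' hL'
  have hr : ∀ x y : D, y * x * x = y * (x * x) :=
    tialgralt_core (fun {E} _ _ => hLALT) h2' hnz' hR'
  obtain ⟨hc, ha⟩ := tialg_core_of_alt h2' hnz' hl hr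
  obtain ⟨F, iFF, iFT, e, he⟩ := alg_field_of_comm_assoc hnz' hc ha
  refine ⟨F, iFF, iFT, eU.trans e, eA.trans e, eV.trans e, fun u a => ?_⟩
  simp only [AddEquiv.trans_apply, hmul, he]

end Cfsg.Agent.Helper26.TI
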