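import Mathlib

/-!
# Normal `p`-complements inside normal subgroups (helper5's shared library)
-/

set_option autoImplicit false

namespace Cfsg.Agent.Helper5

open Subgroup

/-- If a Sylow `p`-subgroup `P` of `G` is abelian, lies in a normal subgroup `N` and is
self-normalizing in `N`, then `N` has a normal `p`-complement which is normal in `G`. -/
theorem exists_normal_pcomplement_of_self_normalizing {G : Type*} [Group G] [Finite G] {p : ℕ}
    [Fact p.Prime] (P : Sylow p G) (N : Subgroup G) [hN : N.Normal] (hPN : (P : Subgroup G) ≤ N)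
    (hcomm : ∀ a ∈ (P : Subgroup G), ∀ b ∈ (P : Subgroup G), a * b = b * a)
    (hself : N ⊓ Subgroup.normalizer ((P : Subgroup G) : Set G) ≤ P) :
    ∃ M : Subgroup G, M.Normal ∧ M ≤ N ∧ ¬ p ∣ Nat.card M ∧
      Nat.card N = Nat.card P * Nat.card M := by
  classical
  let PN : Sylow p N := P.subtype hPN
  have hmemPN : ∀ x : N, x ∈ PN ↔ (x : G) ∈ P := by
    intro x
    show x ∈ (PN : Subgroup N) ↔ _
    rw [Sylow.coe_subtype, Subgroup.mem_subgroupOf]
    rfl
  have hP' : Subgroup.normalizer ((PN : Subgroup N) : Set N) ≤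
      Subgroup.centralizer ((PN : Subgroup N) : Set N) := by
    intro n hn
    have hnG : (n : G) ∈ Subgroup.normalizer ((P : Subgroup G) : Set G) := by
      rw [Subgroup.mem_normalizer_iff]
      intro x
      rw [Subgroup.mem_normalizer_iff] at hn
      constructor
      · intro hx
        have := (hn ⟨x, hPN hx⟩).1 ((hmemPN _).2 hx)
        exact (hmemPN _).1 this
      · intro hx
        have hxN : x ∈ N := by
          have h1 : (n : G) * x * (n : G)⁻¹ ∈ N := hPN hx
          have h2 : x = (n : G)⁻¹ * ((n : G) * x * (n : G)⁻¹) * (n : G) := by group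
          rw [h2]
          exact N.mul_mem (N.mul_mem (N.inv_mem n.2) h1) n.2
        have := (hn ⟨x, hxN⟩).2 ((hmemPN _).2 hx)
        exact (hmemPN _).1 this
    have hnP : (n : G) ∈ (P : Subgroup G) := hself ⟨n.2, hnG⟩
    rw [Subgroup.mem_centralizer_iff]
    intro h hh
    apply Subtype.ext
    exact hcomm _ ((hmemPN h).1 hh) _ hnP
  let f := MonoidHom.transferSylow PN hP'
  have hc := MonoidHom.ker_transferSylow_isComplement' PN hP'
  have hnd := MonoidHom.not_dvd_card_ker_transferSylow PN hP'
  have hcard : Nat.card f.ker * Nat.card (PN : Subgroup N) = Nat.card N := hc.card_mul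
  have hcardP : Nat.card (PN : Subgroup N) = Nat.card (P : Subgroup G) := by
    rw [Sylow.coe_subtype]
    exact Nat.card_congr (Subgroup.subgroupOfEquivOfLe hPN).toEquiv
  have hchar : ∀ x : N, x ∈ f.ker ↔ ¬ p ∣ orderOf x := by
    intro x
    constructor
    · intro hx hdvd
      apply hnd
      have h1 : orderOf (⟨x, hx⟩ : f.ker) = orderOf x := Subgroup.orderOf_mk x hx
      have h2 : orderOf (⟨x, hx⟩ : f.ker) ∣ Nat.card f.ker := orderOf_dvd_natCard _
      rw [h1] at h2
      exact hdvd.trans h2
    · intro hx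
      rw [MonoidHom.mem_ker]
      obtain ⟨k, hk⟩ := PN.isPGroup' (f x)
      have h1 : orderOf (f x) ∣ p ^ k := orderOf_dvd_of_pow_eq_one hk
      obtain ⟨j, -, hj⟩ := (Nat.dvd_prime_pow Fact.out).1 h1
      have h2 : orderOf (f x) ∣ orderOf x := orderOf_map_dvd f x
      rcases Nat.eq_zero_or_pos j with h0 | h0
      · rw [h0, pow_zero] at hj
        exact orderOf_eq_one_iff.1 hj
      · exfalso
        apply hx
        refine dvd_trans ?_ h2
        rw [hj]
        exact dvd_pow_self p h0.ne'
  refine ⟨f.ker.map N.subtype, ?_, ?_, ?_, ?_⟩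
  · constructor
    intro m hm g
    obtain ⟨x, hx, rfl⟩ := Subgroup.mem_map.1 hm
    have hgN : g * (x : G) * g⁻¹ ∈ N := hN.conj_mem _ x.2 g
    refine Subgroup.mem_map.2 ⟨⟨g * (x : G) * g⁻¹, hgN⟩, ?_, rfl⟩
    rw [hchar]
    have h1 : orderOf (⟨g * (x : G) * g⁻¹, hgN⟩ : N) = orderOf x := by
      rw [← Subgroup.orderOf_coe, ← Subgroup.orderOf_coe x]
      show orderOf (g * (x : G) * g⁻¹) = orderOf (x : G)
      have := MulEquiv.orderOf_eq (MulAut.conj g) (x : G)
      rwa [MulAut.conj_apply] at this
    rw [h1]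
    exact (hchar x).1 hx
  · exact Subgroup.map_subtype_le _
  · rw [Subgroup.card_map_of_injective N.subtype_injective]
    exact hnd
  · rw [Subgroup.card_map_of_injective N.subtype_injective, ← hcard, hcardP, mul_comm]

end Cfsg.Agent.Helper5
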