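import Mathlib
import Cfsg.Prelude.Def_Blocks
import Cfsg.Agent.Lib.Helper23.B2Defs
import Cfsg.Agent.Lib.Helper14.BRBTHA
import Cfsg.Agent.Lib.Helper5.BPValues
import Cfsg.Agent.Lib.Helper5.BRP0
import Cfsg.Agent.Lib.Helper2.TLDGT2
import Cfsg.Agent.Lib.Helper23.TLDGGSMB
import Cfsg.Agent.Lib.Helper19.ITOCOEF
import Cfsg.Agent.Lib.Helper16.ITODEG
import Cfsg.Agent.Lib.Helper24.GlaubPGroup
import Cfsg.Agent.Lib.Helper25.B2LOCNUM

/-!
# S4705 piece LOC (helper5): the local structure and the block of `ζ` (Theorem A'')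
-/

set_option autoImplicit false
set_option linter.unusedSectionVars false
set_option linter.unusedVariables false
set_option linter.style.haveILetI false

namespace Cfsg.Agent.Helper23.B2

open scoped ComplexConjugate
open Cfsg Cfsg.Agent.Helper24 Cfsg.Agent.Helper5.TLD Cfsg.Agent.Helper5.TLG

universe u

namespace LOC

open Cfsg.Agent.Helper5.BRP0 in
/-- the relation `t dd - δ = ε` (extracted from `Helper5.BRP0.normal_form`). -/
theorem dd_rel {A : Type*} [Group A] [Fintype A] [Fintype (IrrCharacter A)]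
    [DecidableEq (IrrCharacter A)] {p : ℕ} {ι : Type*} [DecidableEq ι]
    (hp : p.Prime) (hA : Nat.card A = p) (ν : MulAut A) (e : ℕ) (he0 : 0 < e)
    (hed : e ∣ p - 1)
    (hfpf : ∀ k : ℕ, 0 < k → k < e → ∀ a : A, (ν ^ k) a = a → a = 1)
    (Y : Finset ι) (f : ι → A → ℂ) (ε δ dd : ℤ) (ζ : IrrCharacter A → ι)
    (hζY : ∀ ψ : IrrCharacter A, ψ ≠ principalChar A → ζ ψ ∈ Y)
    (hζsurj : ∀ y ∈ Y, ∃ ψ : IrrCharacter A, ψ ≠ principalChar A ∧ ζ ψ = y)
    (hζorb : ∀ ψ ψ' : IrrCharacter A, ψ ≠ principalChar A → ψ' ≠ principalChar A →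
      (ζ ψ = ζ ψ' ↔ ∃ k < e, ∀ a : A, (ψ : A → ℂ) a = (ψ' : A → ℂ) ((ν ^ k) a)))
    (hζval : ∀ ψ : IrrCharacter A, ψ ≠ principalChar A → ∀ a : A, a ≠ 1 →
      f (ζ ψ) a = (dd : ℂ) + (δ : ℂ) * orbSum ν e ψ a)
    (hYsum : ∀ a : A, a ≠ 1 → ∑ y ∈ Y, f y a = (ε : ℂ)) :
    (((p - 1) / e : ℕ) : ℤ) * dd - δ = ε := by
  classical
  obtain ⟨t, ht⟩ := hed
  have ht' : (p - 1) / e = t := by rw [ht]; exact Nat.mul_div_cancel_left t he0
  rw [ht']
  obtain ⟨a₀, ha₀⟩ : ∃ a₀ : A, a₀ ≠ 1 := by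
    have h1 : 1 < Nat.card A := by rw [hA]; exact hp.one_lt
    haveI : Nontrivial A := Finite.one_lt_card_iff_nontrivial.mp h1
    exact exists_ne (1 : A)
  have h1 : ∑ ψ ∈ nontriv A, f (ζ ψ) a₀ =
      ((p - 1 : ℕ) : ℂ) * (dd : ℂ) - (δ : ℂ) * (e : ℂ) := by
    have : ∑ ψ ∈ nontriv A, f (ζ ψ) a₀ =
        ∑ ψ ∈ nontriv A, ((dd : ℂ) + (δ : ℂ) * orbSum ν e ψ a₀) :=
      Finset.sum_congr rfl fun ψ hψ => hζval ψ ((mem_nontriv ψ).1 hψ) a₀ ha₀
    rw [this, Finset.sum_add_distrib, Finset.sum_const, card_nontriv hp hA, ← Finset.mul_sum]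
    have h2 : ∑ ψ ∈ nontriv A, orbSum ν e ψ a₀ = -(e : ℂ) := by
      unfold orbSum
      rw [Finset.sum_comm]
      have : ∀ k ∈ Finset.range e, ∑ ψ ∈ nontriv A, (ψ : A → ℂ) ((ν ^ k) a₀) = -1 := by
        intro k _
        apply sum_nontriv hp hA
        intro h
        apply ha₀
        have : (ν ^ k) a₀ = (ν ^ k) 1 := by rw [h, map_one]
        exact (ν ^ k).injective this
      rw [Finset.sum_congr rfl this]
      simp
    rw [h2]
    simp only [nsmul_eq_mul]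
    ring
  have h3 : ∑ ψ ∈ nontriv A, f (ζ ψ) a₀ = (e : ℂ) * (ε : ℂ) := by
    rw [← Finset.sum_fiberwise_of_maps_to (s := nontriv A) (t := Y) (g := ζ)
      (fun ψ hψ => hζY ψ ((mem_nontriv ψ).1 hψ))]
    have : ∀ y ∈ Y, ∑ ψ ∈ (nontriv A).filter (fun ψ => ζ ψ = y), f (ζ ψ) a₀ =
        (e : ℂ) * f y a₀ := by
      intro y hy
      obtain ⟨ψ₀, hψ₀, rfl⟩ := hζsurj y hy
      have hc := (fibre_card hp hA ν e hfpf ζ hζorb ψ₀ hψ₀).1
      have : ∑ ψ ∈ (nontriv A).filter (fun ψ => ζ ψ = ζ ψ₀), f (ζ ψ) a₀ =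
          ∑ ψ ∈ (nontriv A).filter (fun ψ => ζ ψ = ζ ψ₀), f (ζ ψ₀) a₀ :=
        Finset.sum_congr rfl fun ψ hψ => by rw [(Finset.mem_filter.1 hψ).2]
      rw [this, Finset.sum_const, hc]
      simp
    rw [Finset.sum_congr rfl this, ← Finset.mul_sum, hYsum a₀ ha₀]
  rw [h1] at h3
  have h4 : ((p - 1 : ℕ) : ℂ) = (e : ℂ) * (t : ℂ) := by rw [ht]; push_cast; ring
  rw [h4] at h3
  have he' : (e : ℂ) ≠ 0 := by exact_mod_cast he0.ne'
  have h5 : (t : ℂ) * (dd : ℂ) - (δ : ℂ) = (ε : ℂ) := by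
    apply mul_left_cancel₀ he'
    linear_combination h3
  exact_mod_cast h5


section VN

variable {G : Type u} [Group G] [Fintype G] {p : ℕ} [Fact p.Prime] (P : Sylow p G)

local notation "𝒞" => Subgroup.centralizer ((P : Subgroup G) : Set G)

variable [Fintype (Subgroup.centralizer ((P : Subgroup G) : Set G))]

/-- rewriting `FP` as a finite sum -/
theorem FP_eq_sum (θ : 𝒞 → ℂ) (χ : G → ℂ) (a : G) :
    FP p P θ χ a = (((Finset.univ : Finset 𝒞).filter (fun c => ¬ p ∣ orderOf c)).card : ℂ)⁻¹ *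
      ∑ c ∈ (Finset.univ : Finset 𝒞).filter (fun c => ¬ p ∣ orderOf c),
        χ (a * (c : G)) * conj (θ c) := by
  classical
  unfold FP
  have h1 : ∑ᶠ c ∈ {c : 𝒞 | ¬ p ∣ orderOf c}, χ (a * (c : G)) * conj (θ c) =
      ∑ c ∈ (Finset.univ : Finset 𝒞).filter (fun c => ¬ p ∣ orderOf c),
        χ (a * (c : G)) * conj (θ c) := by
    rw [finsum_mem_eq_sum_of_inter_support_eq]
    ext c
    simp
  have h2 : Nat.card {c : 𝒞 | ¬ p ∣ orderOf c} =
      ((Finset.univ : Finset 𝒞).filter (fun c => ¬ p ∣ orderOf c)).card := by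
    rw [Nat.card_eq_fintype_card, Fintype.card_subtype]
    rfl
  rw [h1, h2]

theorem card_V_pos :
    0 < ((Finset.univ : Finset 𝒞).filter (fun c => ¬ p ∣ orderOf c)).card := by
  have hpp : p.Prime := Fact.out
  apply Finset.card_pos.mpr
  refine ⟨1, ?_⟩
  rw [Finset.mem_filter]
  refine ⟨Finset.mem_univ _, ?_⟩
  rw [orderOf_one, Nat.dvd_one]
  exact hpp.one_lt.ne'

/-- VNORM: if the `θ`-part of `ζ` at `1` has the full degree of `ζ` (`θ` linear) then `ζ = ζ(1) θ` on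
the `p`-regular elements of `C_G(P)`. -/
theorem vnorm (θ : IrrCharacter 𝒞) (hθ1 : charDegree (θ : 𝒞 → ℂ) = 1) (ζ : G → ℂ)
    (hζ : IsCharacter G ζ) (n : ℕ) (hn : 0 < n) (hζ1 : ζ 1 = n)
    (h : FP p P (θ : 𝒞 → ℂ) ζ 1 = ζ 1) :
    ∀ c : 𝒞, ¬ p ∣ orderOf c → ζ (c : G) = ζ 1 * (θ : 𝒞 → ℂ) c ∧ ‖(θ : 𝒞 → ℂ) c‖ = 1 := by
  classical
  set V := (Finset.univ : Finset 𝒞).filter (fun c => ¬ p ∣ orderOf c) with hV
  have hVpos : 0 < V.card := card_V_pos P
  have hV0 : (V.card : ℂ) ≠ 0 := by exact_mod_cast hVpos.ne'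
  rw [FP_eq_sum, ← hV, hζ1] at h
  have hdegζ : charDegree ζ = n := charDegree_natCast n hζ1
  have hθc : IsCharacter 𝒞 (θ : 𝒞 → ℂ) := isCharacter_of_isIrrCharacter θ.2
  have hb1 : ∀ c : 𝒞, ‖ζ (c : G)‖ ≤ n := by
    intro c
    have := norm_le_charDegree hζ (c : G)
    rwa [hdegζ] at this
  have hb2 : ∀ c : 𝒞, ‖(θ : 𝒞 → ℂ) c‖ ≤ 1 := by
    intro c
    have := norm_le_charDegree hθc c
    rw [hθ1] at this
    simpa using this
  set t : 𝒞 → ℂ := fun c => ζ (1 * (c : G)) * conj ((θ : 𝒞 → ℂ) c) with ht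
  have hsum : ∑ c ∈ V, t c = (V.card : ℂ) * n := by
    have h2 : ∑ c ∈ V, t c = (V.card : ℂ) * ((V.card : ℂ)⁻¹ * ∑ c ∈ V, t c) := by
      field_simp
    rw [h2, h]
  have hnorm : ∀ c : 𝒞, ‖t c‖ = ‖ζ (c : G)‖ * ‖(θ : 𝒞 → ℂ) c‖ := by
    intro c
    simp only [ht, one_mul, norm_mul, Complex.norm_conj]
  have hnle : ∀ c : 𝒞, ‖t c‖ ≤ n := by
    intro c
    rw [hnorm]
    calc ‖ζ (c : G)‖ * ‖(θ : 𝒞 → ℂ) c‖ ≤ (n : ℝ) * 1 :=
          mul_le_mul (hb1 c) (hb2 c) (norm_nonneg _) (by positivity)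
      _ = n := mul_one _
  have hre : ∀ c ∈ V, (t c).re ≤ (n : ℝ) := fun c _ =>
    (Complex.re_le_norm (t c)).trans (hnle c)
  have hsumre : ∑ c ∈ V, (t c).re = ∑ c ∈ V, (n : ℝ) := by
    have := congrArg Complex.re hsum
    rw [Complex.re_sum] at this
    rw [this, Finset.sum_const, nsmul_eq_mul]
    simp
  have heq := (Finset.sum_eq_sum_iff_of_le hre).1 hsumre
  intro c hc
  have hcV : c ∈ V := by
    rw [hV, Finset.mem_filter]
    exact ⟨Finset.mem_univ _, hc⟩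
  have hre1 : (t c).re = n := heq c hcV
  have him : (t c).im = 0 := by
    have h1 := hnle c
    have h2 : ‖t c‖ ^ 2 = (t c).re ^ 2 + (t c).im ^ 2 := by
      rw [Complex.sq_norm, Complex.normSq_apply]
      ring
    have h3 : ‖t c‖ ^ 2 ≤ (n : ℝ) ^ 2 := by
      apply pow_le_pow_left₀ (norm_nonneg _) h1
    rw [h2, hre1] at h3
    have h4 : (t c).im ^ 2 ≤ 0 := by linarith
    have h5 := sq_nonneg (t c).im
    have h6 : (t c).im ^ 2 = 0 := le_antisymm h4 h5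
    exact pow_eq_zero_iff (by norm_num) |>.1 h6
  have htc : t c = n := by
    apply Complex.ext
    · simpa using hre1
    · simpa using him
  have hnt : ‖ζ (c : G)‖ * ‖(θ : 𝒞 → ℂ) c‖ = n := by
    rw [← hnorm, htc]
    simp
  have hn' : (0 : ℝ) < n := by exact_mod_cast hn
  have hθn : ‖(θ : 𝒞 → ℂ) c‖ = 1 := by
    have h1 := hb1 c
    have h2 := hb2 c
    have h3 := norm_nonneg ((θ : 𝒞 → ℂ) c)
    have h4 := norm_nonneg (ζ (c : G))
    by_contra hne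
    have h5 : ‖(θ : 𝒞 → ℂ) c‖ < 1 := lt_of_le_of_ne h2 hne
    have h6 : ‖ζ (c : G)‖ * ‖(θ : 𝒞 → ℂ) c‖ < n := by
      rcases eq_or_lt_of_le h4 with h7 | h7
      · rw [← h7, zero_mul]; exact hn'
      · calc ‖ζ (c : G)‖ * ‖(θ : 𝒞 → ℂ) c‖ < ‖ζ (c : G)‖ * 1 :=
              mul_lt_mul_of_pos_left h5 h7
          _ ≤ n := by rw [mul_one]; exact h1
    linarith
  refine ⟨?_, hθn⟩
  have h7 : conj ((θ : 𝒞 → ℂ) c) * (θ : 𝒞 → ℂ) c = 1 := by
    rw [mul_comm, Complex.mul_conj, Complex.normSq_eq_norm_sq, hθn]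
    simp
  have h8 : ζ (c : G) * conj ((θ : 𝒞 → ℂ) c) = n := by
    have := htc
    simpa [ht] using this
  rw [hζ1]
  calc ζ (c : G) = ζ (c : G) * (conj ((θ : 𝒞 → ℂ) c) * (θ : 𝒞 → ℂ) c) := by rw [h7, mul_one]
    _ = (n : ℂ) * (θ : 𝒞 → ℂ) c := by rw [← mul_assoc, h8]

/-- for `χ` lying over `θ` on the (central) `p`-regular elements of `C_G(P)`, `FP χ = χ`. -/
theorem FP_of_over (θ : 𝒞 → ℂ) (χ : G → ℂ) (hχ : IsIrrCharacter G χ)
    (hV : ∀ c : 𝒞, ¬ p ∣ orderOf c → (c : G) ∈ Subgroup.center G)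
    (hw : ∀ c : 𝒞, ¬ p ∣ orderOf c → χ (c : G) = χ 1 * θ c ∧ ‖θ c‖ = 1) (a : G) :
    FP p P θ χ a = χ a := by
  classical
  rw [FP_eq_sum]
  set V := (Finset.univ : Finset 𝒞).filter (fun c => ¬ p ∣ orderOf c) with hVd
  have hVpos : 0 < V.card := card_V_pos P
  have hV0 : (V.card : ℂ) ≠ 0 := by exact_mod_cast hVpos.ne'
  have h10 := Cfsg.Agent.Helper23.irr_one_ne_zero χ hχ
  have hterm : ∀ c ∈ V, χ (a * (c : G)) * conj (θ c) = χ a := by
    intro c hc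
    rw [hVd, Finset.mem_filter] at hc
    obtain ⟨h1, h2⟩ := hw c hc.2
    have hcen := hV c hc.2
    have h3 : a * (c : G) = (c : G) * a := (Subgroup.mem_center_iff.1 hcen a)
    rw [h3, Cfsg.Agent.Helper23.irr_central_mul χ hχ _ hcen a, h1]
    have h7 : θ c * conj (θ c) = 1 := by
      rw [Complex.mul_conj, Complex.normSq_eq_norm_sq, h2]
      simp
    have : χ 1 * θ c / χ 1 * χ a * conj (θ c) = χ a * (θ c * conj (θ c)) := by
      field_simp
    rw [this, h7, mul_one]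
  rw [Finset.sum_congr rfl hterm, Finset.sum_const, nsmul_eq_mul]
  field_simp

end VN

end LOC

variable {G : Type u} [Group G] [Fintype G] {p : ℕ} [Fact p.Prime] {P : Sylow p G}
  {ζ : IrrCharacter G}

local notation "𝒞" => Subgroup.centralizer ((P : Subgroup G) : Set G)
local notation "𝒩" => Subgroup.normalizer ((P : Subgroup G) : Set G)

set_option maxHeartbeats 6400000 in
/-- PIECE LOC. -/
theorem exists_bdata (h : Core p P ζ) : Nonempty (BData p P ζ) := by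
  classical
  obtain ⟨hp, hP, hdeg1, hcen, hnn, -⟩ := h
  have hpp : p.Prime := Fact.out
  have hodd : Odd p := hpp.odd_of_ne_two (by omega)
  obtain ⟨M, hM⟩ := Cfsg.Agent.Helper24.Glaub.exists_isPModular hpp
  haveI hMp : M.IsPrime := hM.2.1.isPrime
  letI : Fintype (IrrCharacter G) := irrFintype
  haveI : Fintype (P : Subgroup G) := Fintype.ofFinite _
  letI : Fintype (IrrCharacter (P : Subgroup G)) := irrFintype
  have hζc : IsCharacter G (ζ : G → ℂ) := isCharacter_of_isIrrCharacter ζ.2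
  have hζcf : IsClassFunction G (ζ : G → ℂ) := isClassFunction_of_isIrrCharacter ζ.2
  have hdegn : charDegree (ζ : G → ℂ) = p - 2 :=
    charDegree_natCast (p - 2) (by rw [hdeg1, Nat.cast_sub (by omega)]; simp)
  have hn0 : 0 < charDegree (ζ : G → ℂ) := charDegree_pos ζ.2
  -- `P` is not central
  have hex : ∃ x ∈ (P : Subgroup G), ‖(ζ : G → ℂ) x‖ ≠ (p : ℝ) - 2 := by
    by_contra hcon
    push_neg at hcon
    apply hnn
    constructor
    intro n hn g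
    have hc := hcen n (hcon n hn)
    rw [Subgroup.mem_center_iff] at hc
    rw [hc g, mul_inv_cancel_right]
    exact hn
  have hresP : IsCharacter (P : Subgroup G) (fun a : (P : Subgroup G) => (ζ : G → ℂ) (a : G)) :=
    isCharacter_restrict _ hζc
  have hdegP : charDegree (fun a : (P : Subgroup G) => (ζ : G → ℂ) (a : G)) =
      charDegree (ζ : G → ℂ) := rfl
  have hnorm1 : ‖(ζ : G → ℂ) 1‖ = (p : ℝ) - 2 := by
    rw [hdeg1]
    have h2 : ((p : ℂ) - 2) = (((p : ℝ) - 2 : ℝ) : ℂ) := by push_cast; ring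
    rw [h2, Complex.norm_real, Real.norm_eq_abs, abs_of_nonneg]
    have : (5 : ℝ) < p := by exact_mod_cast hp
    linarith
  -- a constant value on `P ∖ 1` is impossible
  have hconst_false : ∀ c : ℂ, (∀ a : (P : Subgroup G), a ≠ 1 → (ζ : G → ℂ) (a : G) = c) →
      False := by
    intro c hc
    have h1 := Cfsg.Agent.Helper14.BRB.tha_const p hP _ hresP c hc (by rw [hdegP]; omega)
    obtain ⟨x, hxP, hx⟩ := hex
    apply hx
    have := h1 ⟨x, hxP⟩
    simp only at this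
    rw [this]
    exact hnorm1
  -- the numbers
  have hCN : 𝒞 ≤ 𝒩 := Subgroup.centralizer_le_normalizer _
  obtain ⟨ν, hνf, hfpf, hν3, hν4⟩ :=
    Cfsg.Agent.Helper5.TLD.exists_T_package p P hP 𝒩 hCN le_rfl _ rfl
  set f := (𝒞).relIndex 𝒩 with hf
  have hfd : f ∣ p - 1 := Cfsg.Agent.Helper5.TL.relIndex_dvd p P hP
  have hp1 : 0 < p - 1 := by omega
  have hf0 : 0 < f := Nat.pos_of_dvd_of_pos hfd hp1
  obtain ⟨a₀, ha₀⟩ : ∃ a₀ : (P : Subgroup G), a₀ ≠ 1 := abs_exists_ne_one hP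
  have hfne : f ≠ p - 1 := by
    intro hfe
    apply hconst_false ((ζ : G → ℂ) (a₀ : G))
    intro a ha
    obtain ⟨k, rfl⟩ := Cfsg.Agent.Helper14.BRB.tha_trans p hP ν (hfe ▸ hfpf) a₀ a ha₀ ha
    obtain ⟨t, ht, htk⟩ := hν4 k
    rw [← htk a₀]
    exact hζcf (a₀ : G) t
  have hf2 : 2 * f ≤ p - 1 := by
    obtain ⟨q, hq⟩ := hfd
    rcases Nat.lt_or_ge q 2 with h | h
    · interval_cases q
      · omega
      · omega
    · calc 2 * f ≤ q * f := Nat.mul_le_mul_right f h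
        _ = p - 1 := by rw [hq, mul_comm]
  have hG0 : Nat.card G ≠ 0 := Nat.card_pos.ne'
  have hfac : (Nat.card G).factorization p = 1 := by
    have h1 : Nat.card P = p ^ (Nat.card G).factorization p := Sylow.card_eq_multiplicity P
    rw [hP] at h1
    exact (Nat.pow_right_injective hpp.two_le (by simpa using h1)).symm
  have hdiv : p ∣ Nat.card G := by
    have := Nat.ordProj_dvd (Nat.card G) p
    rwa [hfac, pow_one] at this
  have hsq : ¬ p ^ 2 ∣ Nat.card G := by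
    intro h
    have := (hpp.pow_dvd_iff_le_factorization hG0).1 h
    omega
  -- the block of `ζ` and its root
  set B : Set (IrrCharacter G) := blockOf M (ζ : G → ℂ) with hBdef
  have hB : IsPBlock M B := ⟨ζ, rfl⟩
  have hζB : ζ ∈ B := Cfsg.Agent.Helper23.Blk.mem_blockOf_self ζ
  have hndvd : ¬ p ∣ charDegree (ζ : G → ℂ) := Nat.not_dvd_of_pos_of_lt hn0 (by omega)
  have hd := Cfsg.Agent.Helper12.MK1.defect_pos_of_not_dvd p hdiv hsq B ζ hζB hndvd
  obtain ⟨θ, hθP, hind⟩ := Cfsg.Agent.Helper12.MK1.exists_root_at p M hM hdiv hsq P B hB hd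
  have hBP := Cfsg.Agent.Helper12.MK1.isDefectGroup_of_defect_pos p M hM hdiv hsq P B hB hd
  haveI : Fintype 𝒞 := Fintype.ofFinite _
  letI : Fintype (IrrCharacter 𝒞) := irrFintype
  set b : Set (IrrCharacter 𝒞) := blockOf M (θ : 𝒞 → ℂ) with hbdef
  have hθ : θ ∈ b := Cfsg.Agent.Helper23.Blk.mem_blockOf_self θ
  obtain ⟨T, hT⟩ := exists_stab p P θ
  obtain ⟨hCT, hTN⟩ := cent_le_T_le_norm p P θ T hT
  set e := (𝒞).relIndex T with he
  have hmul : e * T.relIndex 𝒩 = f := by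
    rw [hf, he]
    exact Subgroup.relIndex_mul_relIndex _ _ _ hCT hTN
  have hef : e ∣ f := ⟨_, hmul.symm⟩
  have hele : e ≤ f := Nat.le_of_dvd hf0 hef
  have he2 : 2 * e ≤ p - 1 := by omega
  obtain ⟨hed, he0, νT, Xs, Y, s, ε, δ, dd, ζf, hνe, hfpfT, hνT3, hνT4, hmem, hdisj, hXs, hY,
      hXsval, hε, hδ, hζY, hζsurj, hζorb, hζval, hYreg, hrel, hYsum, hYdeg⟩ :=
    Cfsg.Agent.Helper5.BP.block_values p M hM P hP B hB hBP b hind θ hθ hθP T hT e he.symm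
  set F : IrrCharacter G → ↥(P : Subgroup G) → ℂ := fun χ a =>
    FP p P (θ : 𝒞 → ℂ) (χ : G → ℂ) (a : G) with hF
  have hζX : ζ ∈ Xs ∨ ζ ∈ Y := (hmem ζ).1 hζB
  -- cardinalities
  have hcardT : (Nat.card T : ℂ) = (Nat.card 𝒞 : ℂ) * (e : ℂ) := by
    have h1 := Subgroup.relIndex_mul_relIndex (⊥ : Subgroup G) 𝒞 T bot_le hCT
    rw [Subgroup.relIndex_bot_left, Subgroup.relIndex_bot_left, ← he] at h1
    rw [← h1]
    push_cast
    ring
  have hC0 : (Nat.card 𝒞 : ℂ) ≠ 0 := by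
    exact_mod_cast (Nat.card_pos (α := 𝒞)).ne'
  have he0' : (e : ℂ) ≠ 0 := by exact_mod_cast he0.ne'
  -- values on `P ∖ 1` of the members of `B` through the `θ`-parts
  have hsumN : ∀ χ ∈ B, ∀ a : (P : Subgroup G), a ≠ 1 →
      (χ : G → ℂ) (a : G) * (e : ℂ) = (θ : 𝒞 → ℂ) 1 *
        ∑ j ∈ Finset.range f, F χ ((ν ^ j) a) := by
    intro χ hχ a ha
    have ha' : (a : G) ≠ 1 := fun h => ha (Subtype.ext h)
    obtain ⟨hA1, -⟩ := Cfsg.Agent.Helper14.BRB.char_eq_sum_FP p P M hM hP B hB b hind θ hθ hθP T hT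
      e f he.symm hf.symm χ hχ
    have h1 := hA1 (a : G) a.2 ha'
    have h2 := Cfsg.Agent.Helper14.BRB.sum_conj_package p P hP 𝒩
      (Subgroup.centralizer_le_normalizer _) le_rfl f hf.symm ν hνf
      hfpf hν3 hν4 (FP p P (θ : 𝒞 → ℂ) (χ : G → ℂ)) a
    rw [h2, hcardT] at h1
    have h3 : (χ : G → ℂ) (a : G) * (e : ℂ) * (Nat.card 𝒞 : ℂ) =
        ((θ : 𝒞 → ℂ) 1 * ∑ j ∈ Finset.range f, F χ ((ν ^ j) a)) * (Nat.card 𝒞 : ℂ) := by
      rw [hF]
      linear_combination h1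
    exact mul_right_cancel₀ hC0 h3
  have hνne : ∀ (j : ℕ) (a : (P : Subgroup G)), a ≠ 1 → (ν ^ j) a ≠ 1 := by
    intro j a ha h
    apply ha
    have : (ν ^ j) a = (ν ^ j) 1 := by rw [h, map_one]
    exact (ν ^ j).injective this
  have hθ0 : 0 < charDegree (θ : 𝒞 → ℂ) := charDegree_pos θ.2
  have hθ1c : (θ : 𝒞 → ℂ) 1 = (charDegree (θ : 𝒞 → ℂ) : ℂ) := irr_one_eq_charDegree θ.2
  rcases hζX with hζXs | hζY'
  · -- `ζ ∈ Xs`: constant on `P ∖ 1`
    exfalso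
    obtain ⟨-, hsval, -⟩ := hXsval ζ hζXs
    apply hconst_false ((θ : 𝒞 → ℂ) 1 * ((f : ℂ) * (s ζ : ℂ)) / (e : ℂ))
    intro a ha
    rw [eq_div_iff he0', hsumN ζ hζB a ha]
    congr 1
    rw [Finset.sum_congr rfl (fun j _ => hsval _ (hνne j a ha)), Finset.sum_const,
      Finset.card_range, nsmul_eq_mul]
  -- `ζ ∈ Y`
  obtain ⟨ψ, hψ, hζψ⟩ := hζsurj ζ hζY'
  have hπ : IsCharacter (P : Subgroup G) (F ζ) := isCharacter_FP p P hP θ hθP ζ
  obtain ⟨zz, hzz, hzc⟩ := hYdeg ζ hζY'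
  obtain ⟨z, hz⟩ : ∃ z : ℕ, F ζ 1 = z := char_one_eq hπ
  have hzz' : zz = (z : ℤ) := by
    have h1 : ((zz : ℤ) : ℂ) = ((z : ℤ) : ℂ) := by
      rw [← hzz]
      have := hz
      simp only [hF] at this
      rw [this]
      simp
    exact_mod_cast h1
  rw [hzz'] at hzc hzz
  obtain ⟨-, hA2⟩ := Cfsg.Agent.Helper14.BRB.char_eq_sum_FP p P M hM hP B hB b hind θ hθ hθP T hT
    e f he.symm hf.symm ζ hζB
  have hFP1 : FP p P (θ : 𝒞 → ℂ) (ζ : G → ℂ) 1 = (z : ℂ) := by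
    have := hz
    simpa [hF] using this
  obtain ⟨r, hr⟩ := hA2 z hFP1
  have hfe0 : 0 < f / e := Nat.div_pos hele he0
  have hfee : f / e * e = f := Nat.div_mul_cancel hef
  have hr0 : r = 0 := by
    by_contra hne
    have h1 : p ≤ p * r := Nat.le_mul_of_pos_right p (Nat.pos_of_ne_zero hne)
    omega
  rw [hr0, mul_zero, add_zero, hdegn] at hr
  have hsum := LOC.dd_rel hpp hP νT e he0 hed hfpfT Y F ε δ dd ζf hζY hζsurj hζorb
    (fun ψ' hψ' a ha => hζval ψ' hψ' a ha) (fun a ha => hYsum a ha)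
  have hdegZ : ((f / e : ℕ) : ℤ) * (charDegree (θ : 𝒞 → ℂ) : ℤ) * (z : ℤ) = (p : ℤ) - 2 := by
    have h1 : ((p - 2 : ℕ) : ℤ) = (p : ℤ) - 2 := by
      rw [Nat.cast_sub (by omega)]
      simp
    have h2 : ((f / e * charDegree (θ : 𝒞 → ℂ) * z : ℕ) : ℤ) = ((p - 2 : ℕ) : ℤ) := by
      rw [← hr]
    rw [h1] at h2
    rw [← h2]
    push_cast
    ring
  have hnum := loc_numerics (p := p) hP hp νT e (f / e) (charDegree (θ : 𝒞 → ℂ)) he0 hfe0 hθ0
    (by rw [mul_comm, hfee]; exact hfd) he2 hνe hfpfT (F ζ) hπ ψ hψ dd δ ε (z : ℤ) hδ hε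
    (fun a ha => by rw [← hζψ]; exact hζval ψ hψ a ha) (by rw [hz]; simp) hzc hsum hdegZ
  have hψlin := Cfsg.Agent.Helper16.ITO.DEG.lin_of_card p hP
  have hψnorm : ∀ (φ : IrrCharacter (P : Subgroup G)) (a : (P : Subgroup G)),
      ‖(φ : ↥(P : Subgroup G) → ℂ) a‖ = 1 := fun φ a =>
    Complex.norm_eq_one_of_pow_eq_one ((hψlin φ).2.2 a) hpp.ne_zero
  rcases hnum with ⟨he2', hg1, hm1, hdd0, hδ1, hε1, hzp⟩ | ⟨he1, hg1, hm, hdd0, hδ1, hz1⟩
  swap
  · -- the degenerate alternative: `‖ζ‖ = p - 2` on `P`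
    exfalso
    have hf1 : f = 1 := by rw [← hfee, hg1, he1]
    obtain ⟨x, hxP, hx⟩ := hex
    apply hx
    by_cases hx1 : (⟨x, hxP⟩ : (P : Subgroup G)) = 1
    · have : x = 1 := congrArg Subtype.val hx1
      rw [this]
      exact hnorm1
    · have h1 := hsumN ζ hζB ⟨x, hxP⟩ hx1
      have h2 := hζval ψ hψ ⟨x, hxP⟩ hx1
      rw [hζψ] at h2
      rw [hf1, Finset.sum_range_one, pow_zero, MulAut.one_apply] at h1
      simp only [hF] at h1
      rw [h2, hdd0, hδ1, he1, Finset.sum_range_one, pow_zero, MulAut.one_apply, hθ1c, hm] at h1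
      have h3 : (ζ : G → ℂ) x = (((p - 2 : ℕ) : ℂ)) * (ψ : ↥(P : Subgroup G) → ℂ) ⟨x, hxP⟩ := by
        have : (ζ : G → ℂ) ((⟨x, hxP⟩ : (P : Subgroup G)) : G) = (ζ : G → ℂ) x := rfl
        rw [← this]
        push_cast at h1 ⊢
        linear_combination h1
      rw [h3, norm_mul, hψnorm, mul_one, Nat.cast_sub (by omega)]
      have h2 : (((p : ℂ) - ((2 : ℕ) : ℂ))) = (((p : ℝ) - 2 : ℝ) : ℂ) := by push_cast; ring
      rw [h2, Complex.norm_real, Real.norm_eq_abs, abs_of_nonneg]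
      have : (5 : ℝ) < p := by exact_mod_cast hp
      linarith
  -- the main alternative
  have hf2' : f = 2 := by rw [← hfee, hg1, he2']
  have hθ1 : (θ : 𝒞 → ℂ) 1 = 1 := by rw [hθ1c, hm1]; simp
  have hcommP := abs_comm (p := p) hP
  have hinv_of : ∀ (μ : MulAut (P : Subgroup G)), μ ^ 2 = 1 →
      (∀ a : (P : Subgroup G), (μ ^ 1) a = a → a = 1) → ∀ a : (P : Subgroup G), μ a = a⁻¹ := by
    intro μ hμ2 hμfix a
    have h2 : μ (μ a) = a := by
      have := congrArg (fun φ : MulAut (P : Subgroup G) => φ a) hμ2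
      simpa [pow_two] using this
    have h1 : (μ ^ 1) (a * μ a) = a * μ a := by
      rw [pow_one, map_mul, h2, hcommP]
    exact eq_inv_of_mul_eq_one_right (hμfix _ h1)
  have hνinv : ∀ a : (P : Subgroup G), ν a = a⁻¹ :=
    hinv_of ν (by rw [← hf2']; exact hνf) (hfpf 1 one_pos (by rw [hf2']; norm_num))
  have hνTinv : ∀ a : (P : Subgroup G), νT a = a⁻¹ :=
    hinv_of νT (by rw [← he2']; exact hνe) (hfpfT 1 one_pos (by rw [he2']; norm_num))
  have hFinv : ∀ (χ : IrrCharacter G) (a : (P : Subgroup G)), F χ a⁻¹ = F χ a := by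
    intro χ a
    have := FP_nu_invariant p P θ T hT νT hνT4 χ a
    rw [hνTinv] at this
    exact this
  -- values on `P ∖ 1` are the `θ`-parts
  have hval : ∀ χ ∈ B, ∀ a : (P : Subgroup G), a ≠ 1 → (χ : G → ℂ) (a : G) = F χ a := by
    intro χ hχ a ha
    have h1 := hsumN χ hχ a ha
    rw [hf2', Finset.sum_range_succ, Finset.sum_range_one, pow_zero, pow_one, MulAut.one_apply,
      hνinv, hFinv, hθ1, he2'] at h1
    push_cast at h1
    linear_combination h1 / 2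
  -- the `p`-regular elements of `C_G(P)` are central
  have hθdeg1 : charDegree (θ : 𝒞 → ℂ) = 1 := hm1
  have hζ1n : (ζ : G → ℂ) 1 = ((p - 2 : ℕ) : ℂ) := by
    rw [hdeg1, Nat.cast_sub (by omega)]
    simp
  have hzn : z = p - 2 := by
    have : (z : ℤ) = ((p - 2 : ℕ) : ℤ) := by
      rw [hzp, Nat.cast_sub (by omega)]
      simp
    exact_mod_cast this
  have hVN := LOC.vnorm P θ hθdeg1 (ζ : G → ℂ) hζc (p - 2) (by omega) hζ1n
    (by rw [hFP1, hzn, hζ1n])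
  have hVcen : ∀ c : 𝒞, ¬ p ∣ orderOf c → (c : G) ∈ Subgroup.center G := by
    intro c hc
    apply hcen
    obtain ⟨h1, h2⟩ := hVN c hc
    rw [h1, norm_mul, h2, mul_one]
    exact hnorm1
  -- values of the members of `Y` on `P ∖ 1`
  have hYB : ∀ η ∈ Y, η ∈ B := fun η hη => (hmem η).2 (Or.inr hη)
  have hYform : ∀ φ : IrrCharacter (P : Subgroup G), φ ≠ principalChar _ →
      ∀ a : (P : Subgroup G), a ≠ 1 → (ζf φ : G → ℂ) (a : G) =
        -((φ : ↥(P : Subgroup G) → ℂ) a + conj ((φ : ↥(P : Subgroup G) → ℂ) a)) := by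
    intro φ hφ a ha
    rw [hval _ (hYB _ (hζY φ hφ)) a ha]
    have h1 := hζval φ hφ a ha
    simp only [hF]
    rw [h1, hdd0, hδ1, he2', Finset.sum_range_succ, Finset.sum_range_one, pow_zero, pow_one,
      MulAut.one_apply, hνTinv, irr_inv (isCharacter_of_isIrrCharacter φ.2)]
    push_cast
    ring
  have hsq1 : ∀ a : (P : Subgroup G), a ≠ 1 → a * a ≠ 1 := by
    intro a ha h
    have h2 : orderOf a ∣ 2 := by
      apply orderOf_dvd_of_pow_eq_one
      rw [pow_two]; exact h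
    have h3 : orderOf a ∣ p := by
      have h3' := orderOf_dvd_natCard a
      rwa [hP] at h3'
    have h4 : orderOf a ∣ Nat.gcd 2 p := Nat.dvd_gcd h2 h3
    have h5 : Nat.gcd 2 p = 1 := by
      rw [Nat.coprime_comm.mp ((Nat.coprime_primes hpp Nat.prime_two).mpr (by omega))]
    rw [h5, Nat.dvd_one, orderOf_eq_one_iff] at h4
    exact ha h4
  obtain ⟨K, n₀, hK1, -, -, hdec, -, -, -, -⟩ := Cfsg.Agent.Helper5.TLD.exists_pcore' p P hP
  refine ⟨{
    cent := ?_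
    relIndex := hf2'
    ψ := ψ
    ψ_ne := hψ
    valP := ?_
    Y := Y
    mem := hζY'
    cardY := ?_
    regY := fun η hη g hg => hYreg ζ hζY' η hη g hg
    valD := ?_
    sq_rel := ?_
    sumY := ?_
    indep := ?_ }⟩
  · -- cent
    intro c hc
    obtain ⟨u, k, hu, hk, hck⟩ := hdec c (fun u hu => ((Subgroup.mem_centralizer_iff.1 hc) u hu).symm)
    obtain ⟨hkC, hkp⟩ := (hK1 k).1 hk
    refine ⟨u, hu, k, ?_, hck⟩
    have := hVcen ⟨k, hkC⟩ (by rw [← Subgroup.orderOf_coe]; exact hkp)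
    exact this
  · -- valP
    intro a ha
    have := hYform ψ hψ a ha
    rw [hζψ] at this
    exact this
  · -- cardY
    rw [hY, he2']
    rcases hodd with ⟨k, hk⟩
    omega
  · -- valD
    intro χ hover hχY
    have h10 : (ζ : G → ℂ) 1 ≠ 0 := Cfsg.Agent.Helper23.irr_one_ne_zero _ ζ.2
    have hw : ∀ c : 𝒞, ¬ p ∣ orderOf c →
        (χ : G → ℂ) (c : G) = (χ : G → ℂ) 1 * (θ : 𝒞 → ℂ) c ∧ ‖(θ : 𝒞 → ℂ) c‖ = 1 := by
      intro c hc
      obtain ⟨h1, h2⟩ := hVN c hc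
      refine ⟨?_, h2⟩
      have h3 := hover (c : G) (hVcen c hc)
      rw [h1] at h3
      have h4 : (χ : G → ℂ) (c : G) * (ζ : G → ℂ) 1 =
          ((χ : G → ℂ) 1 * (θ : 𝒞 → ℂ) c) * (ζ : G → ℂ) 1 := by
        linear_combination h3
      exact mul_right_cancel₀ h10 h4
    have hFPχ : ∀ a : G, FP p P (θ : 𝒞 → ℂ) (χ : G → ℂ) a = (χ : G → ℂ) a :=
      fun a => LOC.FP_of_over P (θ : 𝒞 → ℂ) (χ : G → ℂ) χ.2 hVcen hw a
    by_cases hχB : χ ∈ B
    · have hχXs : χ ∈ Xs := by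
        rcases (hmem χ).1 hχB with h | h
        · exact h
        · exact absurd h hχY
      obtain ⟨-, hsval, -⟩ := hXsval χ hχXs
      refine ⟨(s χ : ℂ), fun a ha ha1 => ?_⟩
      rw [← hFPχ a]
      exact hsval ⟨a, ha⟩ (fun h => ha1 (congrArg Subtype.val h))
    · refine ⟨0, fun a ha ha1 => ?_⟩
      rw [← hFPχ a]
      exact Cfsg.Agent.Helper5.TLD.FP_eq_zero_of_not_mem p M hM P hP B hB b hind θ hθ hθP χ hχB a
        ha ha1
  · -- sq_rel
    intro η hη a ha ha1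
    obtain ⟨φ, hφ, rfl⟩ := hζsurj η hη
    have ha' : (⟨a, ha⟩ : (P : Subgroup G)) ≠ 1 := fun h => ha1 (congrArg Subtype.val h)
    have e1 := hYform φ hφ ⟨a, ha⟩ ha'
    have e2 := hYform φ hφ (⟨a, ha⟩ * ⟨a, ha⟩) (hsq1 _ ha')
    obtain ⟨-, hmulφ, -⟩ := hψlin φ
    rw [hmulφ] at e2
    have c0 : ((⟨a, ha⟩ : ↥(P : Subgroup G)) : G) = a := rfl
    have c2 : (((⟨a, ha⟩ : ↥(P : Subgroup G)) * ⟨a, ha⟩ : ↥(P : Subgroup G)) : G) = a * a := rfl
    rw [c0] at e1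
    rw [c2] at e2
    have hxx : (φ : ↥(P : Subgroup G) → ℂ) ⟨a, ha⟩ * conj ((φ : ↥(P : Subgroup G) → ℂ) ⟨a, ha⟩) = 1 := by
      rw [Complex.mul_conj, Complex.normSq_eq_norm_sq, hψnorm]
      simp
    rw [e1, e2, map_mul]
    linear_combination 2 * hxx
  · -- sumY
    intro a ha ha1
    have ha' : (⟨a, ha⟩ : (P : Subgroup G)) ≠ 1 := fun h => ha1 (congrArg Subtype.val h)
    have h1 := hYsum ⟨a, ha⟩ ha'
    rw [hε1] at h1
    rw [← Finset.sum_congr rfl (fun η hη => hval η (hYB η hη) ⟨a, ha⟩ ha')] at h1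
    simpa using h1
  · -- indep
    intro c c₀ hc η hη
    set d : IrrCharacter (P : Subgroup G) → ℂ := fun φ =>
      if φ = principalChar _ then 0 else c (ζf φ) - c₀ with hd
    have hsumY' : ∀ a : (P : Subgroup G), a ≠ 1 → ∑ η' ∈ Y, (η' : G → ℂ) (a : G) = 1 := by
      intro a ha
      have h1 := hYsum a ha
      rw [hε1] at h1
      rw [← Finset.sum_congr rfl (fun η' hη' => hval η' (hYB η' hη') a ha)] at h1
      simpa using h1
    have hvanish : ∀ a : (P : Subgroup G), a ≠ 1 →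
        ∑ φ : IrrCharacter (P : Subgroup G), d φ * (φ : ↥(P : Subgroup G) → ℂ) a = 0 := by
      intro a ha
      have ha1 : (a : G) ≠ 1 := fun h => ha (Subtype.ext h)
      have h1 : ∑ φ : IrrCharacter (P : Subgroup G), d φ * (φ : ↥(P : Subgroup G) → ℂ) a =
          ∑ φ ∈ Cfsg.Agent.Helper5.BRP0.nontriv (P : Subgroup G),
            (c (ζf φ) - c₀) * (φ : ↥(P : Subgroup G) → ℂ) a := by
        rw [Cfsg.Agent.Helper5.BRP0.nontriv, Finset.sum_filter]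
        refine Finset.sum_congr rfl fun φ _ => ?_
        by_cases h : φ = principalChar _
        · simp [hd, h]
        · simp [hd, h]
      rw [h1, ← Finset.sum_fiberwise_of_maps_to
        (s := Cfsg.Agent.Helper5.BRP0.nontriv (P : Subgroup G)) (t := Y) (g := ζf)
        (fun φ hφ => hζY φ ((Cfsg.Agent.Helper5.BRP0.mem_nontriv φ).1 hφ))]
      have h2 : ∀ y ∈ Y, ∑ φ ∈ (Cfsg.Agent.Helper5.BRP0.nontriv (P : Subgroup G)).filter
          (fun φ => ζf φ = y), (c (ζf φ) - c₀) * (φ : ↥(P : Subgroup G) → ℂ) a =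
          (c y - c₀) * (-(y : G → ℂ) (a : G)) := by
        intro y hy
        obtain ⟨ψ₀, hψ₀, rfl⟩ := hζsurj y hy
        have hs := (Cfsg.Agent.Helper5.BRP0.fibre_card hpp hP νT e hfpfT ζf hζorb ψ₀ hψ₀).2 a
        have h3 : ∑ φ ∈ (Cfsg.Agent.Helper5.BRP0.nontriv (P : Subgroup G)).filter
            (fun φ => ζf φ = ζf ψ₀), (c (ζf φ) - c₀) * (φ : ↥(P : Subgroup G) → ℂ) a =
            ∑ φ ∈ (Cfsg.Agent.Helper5.BRP0.nontriv (P : Subgroup G)).filter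
            (fun φ => ζf φ = ζf ψ₀), (c (ζf ψ₀) - c₀) * (φ : ↥(P : Subgroup G) → ℂ) a :=
          Finset.sum_congr rfl fun φ hφ => by rw [(Finset.mem_filter.1 hφ).2]
        rw [h3, ← Finset.mul_sum, hs]
        congr 1
        rw [hval _ (hYB _ (hζY ψ₀ hψ₀)) a ha]
        have h4 := hζval ψ₀ hψ₀ a ha
        simp only [hF]
        rw [h4, hdd0, hδ1]
        unfold Cfsg.Agent.Helper5.BRP0.orbSum
        push_cast
        ring
      rw [Finset.sum_congr rfl h2]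
      have h5 : ∑ y ∈ Y, (c y - c₀) * (-(y : G → ℂ) (a : G)) =
          -(∑ y ∈ Y, c y * (y : G → ℂ) (a : G)) + c₀ * ∑ y ∈ Y, (y : G → ℂ) (a : G) := by
        rw [Finset.mul_sum, ← Finset.sum_neg_distrib, ← Finset.sum_add_distrib]
        refine Finset.sum_congr rfl fun y _ => ?_
        ring
      rw [h5, hc (a : G) a.2 ha1, hsumY' a ha]
      ring
    have hco := Cfsg.Agent.Helper16.ITO.coeff_of_vanish d hvanish
    obtain ⟨ψ₀, hψ₀, rfl⟩ := hζsurj η hη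
    have h6 := hco ψ₀ (principalChar _)
    have h7 : d (principalChar _) = 0 := by simp [hd]
    have h8 : d ψ₀ = c (ζf ψ₀) - c₀ := by simp [hd, hψ₀]
    have h9 : ((principalChar ↥(P : Subgroup G) : IrrCharacter ↥(P : Subgroup G)) :
        ↥(P : Subgroup G) → ℂ) 1 = 1 := rfl
    rw [h7, zero_mul, h8, h9, mul_one] at h6
    exact sub_eq_zero.mp h6

end Cfsg.Agent.Helper23.B2
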