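import Mathlib
import Cfsg.Agent.Lib.Helper5.Dade
import Cfsg.Agent.Lib.Helper5.RelDegree
import Cfsg.Agent.Lib.Helper18.BrauerQE
import Cfsg.Agent.Lib.Helper8.Basic

/-!
# Extending invariant characters via a `p`-elementary subgroup (helper5's shared library)

The counting step in Isaacs' Theorem 8.26: if `G/N` is a `p`-group, `ϑ ∈ Irr(N)` is invariant,
`E N = G` and some character `Ξ` of `E` satisfies `p ∤ [Ξ_{E ∩ N}, ϑ_{E ∩ N}]`, then `ϑ` extends
to `G`.
-/

set_option autoImplicit false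

universe u

namespace Cfsg.Agent.Helper5

open Cfsg Cfsg.Agent.Helper24
open scoped ComplexConjugate

section Counting

variable {G : Type u} [Group G] [Fintype G]

theorem exists_extension_of_pairing (p : ℕ) (hp : p.Prime) (N : Subgroup G) [hN : N.Normal]
    (hind : ∃ k : ℕ, N.index = p ^ k) {ϑ : N → ℂ} (hϑ : IsIrrCharacter N ϑ)
    (hinv : ∀ (g : G) (n : N), ϑ ⟨g * n * g⁻¹, hN.conj_mem (n : G) n.2 g⟩ = ϑ n)
    (E : Subgroup G) (htop : E ⊔ N = ⊤) [Fintype ↥(E ⊓ N)] {Ξ : E → ℂ} (hΞ : IsCharacter E Ξ)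
    (m : ℕ)
    (hm : classInner (fun d : ↥(E ⊓ N) => Ξ ⟨d, d.2.1⟩) (fun d : ↥(E ⊓ N) => ϑ ⟨d, d.2.2⟩) = m)
    (hpm : ¬ p ∣ m) :
    ∃ χ : G → ℂ, IsIrrCharacter G χ ∧ ∀ n : N, χ n = ϑ n := by
  classical
  letI : Fintype N := Fintype.ofFinite N
  letI := irrFintype (G := G)
  by_contra hcon
  push_neg at hcon
  have hΨ : IsCharacter G (indFun E Ξ) := isCharacter_indFun E hΞ
  obtain ⟨hc, hdecomp⟩ := isCharacter_decomp hΨ
  choose c hc using hc
  have hinv' : ∀ g : G, conjFun N g ϑ = ϑ := fun g => funext (fun n => hinv g n)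
  have ha : ∀ χ : IrrCharacter G, ∃ a : ℕ,
      classInner (fun n : N => (χ : G → ℂ) n) ϑ = a ∧ p ∣ a := by
    intro χ
    by_cases h0 : classInner (fun n : N => (χ : G → ℂ) n) ϑ = 0
    · exact ⟨0, by simpa using h0, dvd_zero p⟩
    · obtain ⟨e, he, hdvd⟩ := mult_dvd_index_of_invariant N χ.2 hϑ hinv' h0
      refine ⟨e, ?_, ?_⟩
      · rw [he, classInner_smul_left, irr_orthogonality hϑ hϑ, if_pos rfl, mul_one]
      · obtain ⟨k, hk⟩ := hind
        rw [hk] at hdvd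
        obtain ⟨j, -, hj⟩ := (Nat.dvd_prime_pow hp).mp hdvd
        rcases Nat.eq_zero_or_pos j with rfl | hjpos
        · exfalso
          rw [pow_zero] at hj
          subst hj
          obtain ⟨n, hn⟩ := hcon χ χ.2
          apply hn
          have := congrFun he n
          simpa using this
        · rw [hj]
          exact dvd_pow_self p hjpos.ne'
  choose a ha hpa using ha
  have hT1 : classInner (fun n : N => indFun E Ξ n) ϑ =
      ((∑ χ : IrrCharacter G, c χ * a χ : ℕ) : ℂ) := by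
    have hres : (fun n : N => indFun E Ξ n) =
        ∑ χ : IrrCharacter G, (c χ : ℂ) • (fun n : N => (χ : G → ℂ) n) := by
      funext n
      have := congrFun hdecomp n
      rw [this, Finset.sum_apply, Finset.sum_apply]
      refine Finset.sum_congr rfl (fun χ _ => ?_)
      rw [hc χ]
      rfl
    rw [hres, classInner_sum_left]
    push_cast
    refine Finset.sum_congr rfl (fun χ _ => ?_)
    rw [classInner_smul_left, ha]
  have hT2 : classInner (fun n : N => indFun E Ξ n) ϑ = m := by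
    have hF : ∀ (g : G) (n : N),
        (fun n : N => conj (ϑ n)) ⟨g * n * g⁻¹, hN.conj_mem (n : G) n.2 g⟩ =
          (fun n : N => conj (ϑ n)) n := by
      intro g n
      simp only
      rw [hinv g n]
    have hsum := sum_mul_indFun_of_invariant N E (fun n : N => conj (ϑ n)) hF Ξ
    have hcard := card_mul_card_inf_eq N E
    rw [htop, Subgroup.index_top, mul_one] at hcard
    have hcardC : (Nat.card G : ℂ) * (Nat.card ↥(E ⊓ N) : ℂ) =
        (Nat.card N : ℂ) * (Nat.card E : ℂ) := by exact_mod_cast hcard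
    have hN0 : (Nat.card N : ℂ) ≠ 0 := by exact_mod_cast (Nat.card_pos (α := N)).ne'
    have hE0 : (Nat.card E : ℂ) ≠ 0 := by exact_mod_cast (Nat.card_pos (α := E)).ne'
    have hD0 : (Nat.card ↥(E ⊓ N) : ℂ) ≠ 0 := by
      exact_mod_cast (Nat.card_pos (α := ↥(E ⊓ N))).ne'
    have hG : (Nat.card G : ℂ) = (Nat.card N : ℂ) * (Nat.card E : ℂ) *
        (Nat.card ↥(E ⊓ N) : ℂ)⁻¹ := by
      rw [← hcardC]
      field_simp
    unfold classInner at hm ⊢
    have e1 : ∑ n : N, indFun E Ξ n * conj (ϑ n) = ∑ n : N, conj (ϑ n) * indFun E Ξ n :=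
      Finset.sum_congr rfl (fun n _ => mul_comm _ _)
    have e2 : ∑ d : ↥(E ⊓ N), conj (ϑ ⟨d, d.2.2⟩) * Ξ ⟨d, d.2.1⟩ =
        ∑ d : ↥(E ⊓ N), Ξ ⟨d, d.2.1⟩ * conj (ϑ ⟨d, d.2.2⟩) :=
      Finset.sum_congr rfl (fun n _ => mul_comm _ _)
    rw [e1, hsum, e2, hG, ← hm]
    field_simp
  apply hpm
  have : (m : ℂ) = ((∑ χ : IrrCharacter G, c χ * a χ : ℕ) : ℂ) := by rw [← hT2, hT1]
  have hmeq : m = ∑ χ : IrrCharacter G, c χ * a χ := by exact_mod_cast this
  rw [hmeq]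
  exact Finset.dvd_sum (fun χ _ => Dvd.dvd.mul_left (hpa χ) _)

end Counting

section HomExt

/-- Homomorphisms to `ℂˣ` extend from subgroups of finite commutative groups. -/
theorem exists_hom_extension_of_comm {A : Type*} [Group A] [Finite A]
    (hcomm : ∀ a b : A, a * b = b * a) (H : Subgroup A) (f : ↥H →* ℂˣ) :
    ∃ F : A →* ℂˣ, ∀ h : H, F h = f h := by
  letI : CommGroup A := { ‹Group A› with mul_comm := hcomm }
  haveI : NeZero (Monoid.exponent A) := ⟨Monoid.exponent_ne_zero_of_finite⟩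
  obtain ⟨F, hF⟩ := MonoidHom.domRestrict_surjective (M := ℂ) H f
  refine ⟨F, fun h => ?_⟩
  rw [← hF]
  rfl

/-- A homomorphism `φ : D →* ℂˣ` factors through `ι : D →* E` followed by a homomorphism of `E`
as soon as it is trivial on the preimage of the commutator subgroup. -/
theorem exists_hom_extension_of_commutator {D E : Type*} [Group D] [Group E] [Finite E]
    (ι : D →* E) (φ : D →* ℂˣ) (h : ∀ d : D, ι d ∈ commutator E → φ d = 1) :
    ∃ Φ : E →* ℂˣ, ∀ d : D, Φ (ι d) = φ d := by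
  let f : D →* Abelianization E := (Abelianization.of).comp ι
  have hsurj : Function.Surjective f.rangeRestrict := f.rangeRestrict_surjective
  have hker : f.rangeRestrict.ker ≤ φ.ker := by
    intro d hd
    rw [MonoidHom.mem_ker] at hd ⊢
    apply h d
    have h1 : f d = 1 := by
      have := congrArg Subtype.val hd
      simpa using this
    exact (QuotientGroup.eq_one_iff (ι d)).mp h1
  let φbar : ↥f.range →* ℂˣ := f.rangeRestrict.liftOfSurjective hsurj ⟨φ, hker⟩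
  have hφbar : ∀ d : D, φbar (f.rangeRestrict d) = φ d := fun d =>
    MonoidHom.liftOfRightInverse_comp_apply _ _ _ ⟨φ, hker⟩ d
  obtain ⟨F, hF⟩ := exists_hom_extension_of_comm
    (fun a b : Abelianization E => mul_comm a b) f.range φbar
  refine ⟨F.comp Abelianization.of, fun d => ?_⟩
  rw [← hφbar d, ← hF]
  rfl

/-- A homomorphism to `ℂˣ` kills the derived subgroup. -/
theorem hom_eq_one_of_mem_commutator {G : Type*} [Group G] (H : Subgroup G) (μ : ↥H →* ℂˣ)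
    (y : ↥H) (hy : (y : G) ∈ ⁅H, H⁆) : μ y = 1 := by
  rw [← Subgroup.map_subtype_commutator] at hy
  obtain ⟨z, hz, hzy⟩ := hy
  have : z = y := Subtype.ext hzy
  rw [← this]
  exact Abelianization.commutator_subset_ker μ hz

end HomExt

section Transport

variable {G : Type u} [Group G]

/-- Extendibility of characters of degree one, rephrased with homomorphisms. -/
theorem hom_form_of_char_form [Finite G] (P N : Subgroup G)
    (hlin : ∀ lam : ↥(P ⊓ N) → ℂ, IsCharacter ↥(P ⊓ N) lam → lam 1 = 1 →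
      ∃ μ : ↥P → ℂ, IsCharacter ↥P μ ∧ μ 1 = 1 ∧ ∀ x : ↥(P ⊓ N), μ ⟨(x : G), x.2.1⟩ = lam x)
    (lam : ↥(P ⊓ N) →* ℂˣ) :
    ∃ μ : ↥P →* ℂˣ, ∀ x : ↥(P ⊓ N), μ ⟨(x : G), x.2.1⟩ = lam x := by
  obtain ⟨μ, hμ, hμ1, hres⟩ := hlin (fun x => ((lam x : ℂˣ) : ℂ))
    (isCharacter_of_isIrrCharacter (isIrrCharacter_of_monoidHom lam)) (by simp)
  refine ⟨linHom hμ hμ1, fun x => ?_⟩
  apply Units.ext
  rw [linHom_apply]
  exact hres x

/-- Extendibility of homomorphisms passes to conjugates. -/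
theorem hom_ext_conj (N P P' : Subgroup G) [hN : N.Normal] (g : G)
    (hP' : ∀ y, y ∈ P' ↔ g⁻¹ * y * g ∈ P)
    (hlin : ∀ lam : ↥(P ⊓ N) →* ℂˣ, ∃ μ : ↥P →* ℂˣ,
      ∀ x : ↥(P ⊓ N), μ ⟨(x : G), x.2.1⟩ = lam x)
    (lam : ↥(P' ⊓ N) →* ℂˣ) :
    ∃ μ : ↥P' →* ℂˣ, ∀ x : ↥(P' ⊓ N), μ ⟨(x : G), x.2.1⟩ = lam x := by
  let c : ↥(P ⊓ N) →* ↥(P' ⊓ N) :=
    { toFun := fun x => ⟨g * x * g⁻¹, (hP' _).mpr (by
        have : g⁻¹ * (g * (x : G) * g⁻¹) * g = x := by group
        rw [this]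
        exact x.2.1), hN.conj_mem _ x.2.2 g⟩
      map_one' := by
        apply Subtype.ext
        simp
      map_mul' := fun a b => by
        apply Subtype.ext
        simp [mul_assoc] }
  let c' : ↥P' →* ↥P :=
    { toFun := fun y => ⟨g⁻¹ * y * g, (hP' _).mp y.2⟩
      map_one' := by
        apply Subtype.ext
        simp
      map_mul' := fun a b => by
        apply Subtype.ext
        simp [mul_assoc] }
  obtain ⟨μ₀, hμ₀⟩ := hlin (lam.comp c)
  refine ⟨μ₀.comp c', fun x => ?_⟩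
  have hx : g⁻¹ * (x : G) * g ∈ P ⊓ N :=
    ⟨(hP' _).mp x.2.1, by simpa using hN.conj_mem _ x.2.2 g⁻¹⟩
  have h1 := hμ₀ ⟨g⁻¹ * x * g, hx⟩
  have hc : c ⟨g⁻¹ * x * g, hx⟩ = x := by
    apply Subtype.ext
    show g * (g⁻¹ * (x : G) * g) * g⁻¹ = x
    group
  rw [MonoidHom.comp_apply, hc] at h1
  rw [← h1]
  rfl

/-- Centrality of `P ⊓ N` in `P` passes to conjugates. -/
theorem central_conj (N P P' : Subgroup G) [hN : N.Normal] (g : G)
    (hP' : ∀ y, y ∈ P' ↔ g⁻¹ * y * g ∈ P)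
    (hcent : ∀ x ∈ P ⊓ N, ∀ y ∈ P, x * y = y * x) :
    ∀ x ∈ P' ⊓ N, ∀ y ∈ P', x * y = y * x := by
  intro x hx y hy
  have hx' : g⁻¹ * x * g ∈ P ⊓ N :=
    ⟨(hP' _).mp hx.1, by simpa using hN.conj_mem _ hx.2 g⁻¹⟩
  have h := hcent _ hx' _ ((hP' _).mp hy)
  have h2 : g * (g⁻¹ * x * g * (g⁻¹ * y * g)) * g⁻¹ = g * (g⁻¹ * y * g * (g⁻¹ * x * g)) * g⁻¹ := by
    rw [h]
  have e1 : g * (g⁻¹ * x * g * (g⁻¹ * y * g)) * g⁻¹ = x * y := by group
  have e2 : g * (g⁻¹ * y * g * (g⁻¹ * x * g)) * g⁻¹ = y * x := by group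
  rw [e1, e2] at h2
  exact h2

end Transport

section Elementary

open scoped commutatorElement

theorem commutatorElement_central_mul_left {H : Type*} [Group H] (c q y : H)
    (hc : ∀ e : H, c * e = e * c) : ⁅c * q, y⁆ = ⁅q, y⁆ := by
  rw [commutatorElement_def, commutatorElement_def]
  have h1 : c * q * y * (c * q)⁻¹ * y⁻¹ = c * (q * y * q⁻¹ * y⁻¹ * (y * c⁻¹ * y⁻¹)) := by group
  have h2 : y * c⁻¹ * y⁻¹ = c⁻¹ := by
    have h3 : y * c⁻¹ = c⁻¹ * y := by
      rw [eq_inv_mul_iff_mul_eq, ← mul_assoc, hc y, mul_assoc, mul_inv_cancel, mul_one]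
    rw [h3, mul_assoc, mul_inv_cancel, mul_one]
  rw [h1, h2, hc, inv_mul_cancel_right]

theorem commutatorElement_central_mul_right {H : Type*} [Group H] (c q y : H)
    (hc : ∀ e : H, c * e = e * c) : ⁅y, c * q⁆ = ⁅y, q⁆ := by
  rw [← commutatorElement_inv (c * q) y, ← commutatorElement_inv q y,
    commutatorElement_central_mul_left c q y hc]

variable {G : Type u} [Group G] [Finite G]

open Cfsg.Agent.Helper18 in
/-- The group-theoretic core of Isaacs' Theorem 8.26: on a `p`-elementary subgroup `E`, the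
subgroup `E ⊓ N` is commutative and its homomorphisms to `ℂˣ` extend to `E`. -/
theorem exists_linear_extension_elementary (p : ℕ) [hp : Fact p.Prime]
    (N : Subgroup G) [hN : N.Normal] (hind : ∃ k : ℕ, N.index = p ^ k) (P : Sylow p G)
    (hcent : ∀ x ∈ (P : Subgroup G) ⊓ N, ∀ y ∈ (P : Subgroup G), x * y = y * x)
    (hlin : ∀ lam : ↥((P : Subgroup G) ⊓ N) →* ℂˣ, ∃ μ : ↥(P : Subgroup G) →* ℂˣ,
      ∀ x : ↥((P : Subgroup G) ⊓ N), μ ⟨(x : G), x.2.1⟩ = lam x)
    (E : Subgroup G) (hE : IsElementary p ↥E) :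
    (∀ a b : ↥(E ⊓ N), a * b = b * a) ∧
      ∀ φ : ↥(E ⊓ N) →* ℂˣ, ∃ Φ : ↥E →* ℂˣ, ∀ d : ↥(E ⊓ N), Φ ⟨(d : G), d.2.1⟩ = φ d := by
  classical
  obtain ⟨x, hxc, hxcop, k', hk'⟩ := hE
  set C : Subgroup ↥E := Subgroup.zpowers x with hCdef
  obtain ⟨Q⟩ : Nonempty (Sylow p ↥E) := inferInstance
  have hCQ : C ⊔ (Q : Subgroup ↥E) = ⊤ := sup_sylow_eq_top C hk' Q
  have hQp : IsPGroup p ↥((Q : Subgroup ↥E).map E.subtype) := Q.2.map E.subtype
  obtain ⟨P', hP'⟩ := hQp.exists_le_sylow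
  obtain ⟨g, hg⟩ := MulAction.exists_smul_eq G P P'
  have hmem : ∀ y, y ∈ (P' : Subgroup G) ↔ g⁻¹ * y * g ∈ (P : Subgroup G) := by
    intro y
    rw [← hg, Sylow.coe_subgroup_smul, Subgroup.mem_pointwise_smul_iff_inv_smul_mem]
    simp [MulAut.smul_def]
  have hcent' := central_conj N (P : Subgroup G) (P' : Subgroup G) g hmem hcent
  have hlin' := hom_ext_conj N (P : Subgroup G) (P' : Subgroup G) g hmem hlin
  have hxN : (x : G) ∈ N := by
    have hle : Subgroup.zpowers (x : G) ≤ N := by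
      apply Cfsg.Agent.Helper8.le_of_coprime_index_of_normal N
      rw [Nat.card_zpowers, Subgroup.orderOf_coe]
      obtain ⟨k, hk⟩ := hind
      rw [hk]
      exact Nat.Coprime.pow_right k hxcop
    exact hle (Subgroup.mem_zpowers _)
  have hCN : ∀ c ∈ C, ((c : ↥E) : G) ∈ N := by
    intro c hc
    obtain ⟨i, rfl⟩ := Subgroup.mem_zpowers_iff.mp hc
    simpa using N.zpow_mem hxN i
  have hCcent : ∀ c ∈ C, ∀ e : ↥E, c * e = e * c := by
    intro c hc e
    obtain ⟨i, rfl⟩ := Subgroup.mem_zpowers_iff.mp hc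
    exact ((Subgroup.mem_center_iff.mp (Subgroup.zpow_mem _ hxc i)) e).symm
  haveI hCnormal : C.Normal := by
    refine ⟨fun c hc e => ?_⟩
    rw [← hCcent c hc e, mul_inv_cancel_right]
    exact hc
  have hdecomp : ∀ e : ↥E, ∃ c ∈ C, ∃ q ∈ (Q : Subgroup ↥E), c * q = e := by
    intro e
    have he : e ∈ C ⊔ (Q : Subgroup ↥E) := by
      rw [hCQ]
      trivial
    exact Subgroup.mem_sup_of_normal_left.mp he
  have hQP' : ∀ q ∈ (Q : Subgroup ↥E), ((q : ↥E) : G) ∈ (P' : Subgroup G) := by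
    intro q hq
    exact hP' ⟨q, hq, rfl⟩
  -- `E ⊓ N` is central in `E`
  have hDcent : ∀ (d : ↥E), (d : G) ∈ N → ∀ e : ↥E, d * e = e * d := by
    intro d hdN e
    obtain ⟨c, hc, q, hq, rfl⟩ := hdecomp d
    obtain ⟨c', hc', q', hq', rfl⟩ := hdecomp e
    have hqN : ((q : ↥E) : G) ∈ N := by
      have : ((q : ↥E) : G) = ((c : ↥E) : G)⁻¹ * ((c * q : ↥E) : G) := by
        simp
      rw [this]
      exact N.mul_mem (N.inv_mem (hCN c hc)) hdN
    have hqq' : q * q' = q' * q := by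
      apply Subtype.ext
      exact hcent' _ ⟨hQP' q hq, hqN⟩ _ (hQP' q' hq')
    have h1 : ∀ e : ↥E, Commute c e := fun e => hCcent c hc e
    have h2 : ∀ e : ↥E, Commute c' e := fun e => hCcent c' hc' e
    exact Commute.mul_left (h1 _) (Commute.mul_right (h2 q).symm hqq')
  -- the derived subgroup of `E` lies in that of `P'`
  have hcomm : commutator ↥E ≤
      (⁅(P' : Subgroup G), (P' : Subgroup G)⁆).comap E.subtype := by
    rw [commutator_def, Subgroup.commutator_le]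
    intro e₁ _ e₂ _
    obtain ⟨c₁, hc₁, q₁, hq₁, rfl⟩ := hdecomp e₁
    obtain ⟨c₂, hc₂, q₂, hq₂, rfl⟩ := hdecomp e₂
    rw [commutatorElement_central_mul_left c₁ q₁ _ (hCcent c₁ hc₁),
      commutatorElement_central_mul_right c₂ q₂ _ (hCcent c₂ hc₂), Subgroup.mem_comap, map_commutatorElement]
    exact Subgroup.commutator_mem_commutator (hQP' q₁ hq₁) (hQP' q₂ hq₂)
  refine ⟨fun a b => ?_, fun φ => ?_⟩
  · apply Subtype.ext
    have h2 : (a : G) * (b : G) = (b : G) * (a : G) :=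
      congrArg Subtype.val (hDcent ⟨a, a.2.1⟩ a.2.2 ⟨b, b.2.1⟩)
    exact h2
  · have hA : ∀ a b : ↥((P' : Subgroup G) ⊓ N), a * b = b * a := by
      intro a b
      apply Subtype.ext
      exact hcent' _ a.2 _ b.2.1
    have hkey : ∀ d : ↥(E ⊓ N),
        Subgroup.inclusion (inf_le_left : E ⊓ N ≤ E) d ∈ commutator ↥E → φ d = 1 := by
      intro d hd
      have hdc : (d : G) ∈ ⁅(P' : Subgroup G), (P' : Subgroup G)⁆ := hcomm hd
      have hdP' : (d : G) ∈ (P' : Subgroup G) := Subgroup.commutator_le_self _ hdc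
      let H : Subgroup ↥((P' : Subgroup G) ⊓ N) := E.subgroupOf ((P' : Subgroup G) ⊓ N)
      let j : ↥H →* ↥(E ⊓ N) :=
        { toFun := fun h => ⟨((h : ↥((P' : Subgroup G) ⊓ N)) : G),
            ⟨Subgroup.mem_subgroupOf.mp h.2, (h : ↥((P' : Subgroup G) ⊓ N)).2.2⟩⟩
          map_one' := rfl
          map_mul' := fun a b => rfl }
      obtain ⟨F, hF⟩ := exists_hom_extension_of_comm hA H (φ.comp j)
      obtain ⟨μ, hμ⟩ := hlin' F
      have hdH : (⟨(d : G), ⟨hdP', d.2.2⟩⟩ : ↥((P' : Subgroup G) ⊓ N)) ∈ H :=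
        Subgroup.mem_subgroupOf.mpr d.2.1
      have e1 : φ d = F ⟨(d : G), ⟨hdP', d.2.2⟩⟩ := by
        have := hF ⟨_, hdH⟩
        rw [this]
        rfl
      rw [e1, ← hμ]
      exact hom_eq_one_of_mem_commutator (P' : Subgroup G) μ ⟨(d : G), hdP'⟩ hdc
    obtain ⟨Φ, hΦ⟩ := exists_hom_extension_of_commutator
      (Subgroup.inclusion (inf_le_left : E ⊓ N ≤ E)) φ hkey
    exact ⟨Φ, fun d => hΦ d⟩

end Elementary

end Cfsg.Agent.Helper5
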