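import Mathlib
import Cfsg.Agent.S0857
import Cfsg.Agent.S0897
import Cfsg.Agent.Lib.Helper5.RelMGroup
import Cfsg.Agent.Lib.Helper5.Dade
import Cfsg.Agent.Lib.Helper5.DadeExt

/-!
# Monomial characters above a normal subgroup with abelian Sylow subgroups
(helper5's shared library)

Isaacs, Theorem 6.23: if `G` is solvable, `N ⊴ G` has abelian Sylow subgroups and `χ ∈ Irr(G)`
restricts irreducibly to `N`, then `χ` is monomial.
-/

set_option autoImplicit false

universe u

namespace Cfsg.Agent.Helper5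

open Cfsg Cfsg.Agent.Helper24 Cfsg.Agent.Helper18

open scoped ComplexConjugate commutatorElement

section ChiefPrime

variable {G : Type u} [Group G] [Finite G]

/-- An abelian chief factor has prime power order. -/
theorem relIndex_prime_pow_of_chief (L M : Subgroup G) [hL : L.Normal] [hM : M.Normal]
    (hLM : L < M) (hab : ⁅M, M⁆ ≤ L)
    (hmin : ∀ K : Subgroup G, K.Normal → L ≤ K → K ≤ M → K = L ∨ K = M) :
    ∃ p k : ℕ, p.Prime ∧ L.relIndex M = p ^ k := by
  classical
  let L' : Subgroup ↥M := L.subgroupOf M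
  haveI : L'.Normal := Subgroup.Normal.subgroupOf hL M
  have hcard : Nat.card (↥M ⧸ L') ≠ 1 := by
    intro h
    have h1 : L'.index = 1 := by rw [Subgroup.index_eq_card]; exact h
    have h2 : L.relIndex M = 1 := h1
    exact (not_le_of_gt hLM) (Subgroup.relIndex_eq_one.mp h2)
  set p := (Nat.card (↥M ⧸ L')).minFac with hp
  have hpp : p.Prime := Nat.minFac_prime hcard
  haveI : Fact p.Prime := ⟨hpp⟩
  have hdvd : p ∣ Nat.card (↥M ⧸ L') := Nat.minFac_dvd _
  obtain ⟨xb, hxb⟩ := exists_prime_orderOf_dvd_card' p hdvd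
  obtain ⟨x, rfl⟩ := QuotientGroup.mk_surjective xb
  let K : Subgroup G :=
    { carrier := {m | m ∈ M ∧ m ^ p ∈ L}
      one_mem' := ⟨M.one_mem, by rw [one_pow]; exact L.one_mem⟩
      mul_mem' := by
        rintro a b ⟨ha, ha'⟩ ⟨hb, hb'⟩
        refine ⟨M.mul_mem ha hb, ?_⟩
        rw [← QuotientGroup.eq_one_iff (N := L)] at ha' hb' ⊢
        have hc : Commute ((a : G) : G ⧸ L) ((b : G) : G ⧸ L) := by
          have h1 : ⁅a, b⁆ ∈ L := hab (Subgroup.commutator_mem_commutator ha hb)
          rw [← QuotientGroup.eq_one_iff (N := L)] at h1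
          rw [commutatorElement_def] at h1
          have h2 : ((a : G) : G ⧸ L) * (b : G ⧸ L) * (a : G ⧸ L)⁻¹ * (b : G ⧸ L)⁻¹ = 1 := by
            exact_mod_cast h1
          show ((a : G) : G ⧸ L) * (b : G ⧸ L) = (b : G ⧸ L) * (a : G ⧸ L)
          have h3 := congrArg (fun t => t * (b : G ⧸ L) * (a : G ⧸ L)) h2
          simpa [mul_assoc] using h3
        have h4 : (((a * b : G) ^ p : G) : G ⧸ L) = ((a : G) : G ⧸ L) ^ p * ((b : G) : G ⧸ L) ^ p := by
          rw [QuotientGroup.mk_pow, QuotientGroup.mk_mul, hc.mul_pow]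
        rw [h4]
        have ha'' : ((a : G) : G ⧸ L) ^ p = 1 := by rw [← QuotientGroup.mk_pow]; exact ha'
        have hb'' : ((b : G) : G ⧸ L) ^ p = 1 := by rw [← QuotientGroup.mk_pow]; exact hb'
        rw [ha'', hb'', one_mul]
      inv_mem' := by
        rintro a ⟨ha, ha'⟩
        exact ⟨M.inv_mem ha, by rw [inv_pow]; exact L.inv_mem ha'⟩ }
  have hKn : K.Normal := by
    constructor
    rintro a ⟨ha, ha'⟩ g
    refine ⟨hM.conj_mem a ha g, ?_⟩
    rw [conj_pow]
    exact hL.conj_mem _ ha' g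
  have hLK : L ≤ K := fun a ha => ⟨hLM.le ha, L.pow_mem ha p⟩
  have hKM : K ≤ M := fun a ha => ha.1
  have hxK : (x : G) ∈ K := by
    refine ⟨x.2, ?_⟩
    have h1 : (QuotientGroup.mk x : ↥M ⧸ L') ^ p = 1 := by rw [← hxb]; exact pow_orderOf_eq_one _
    rw [← QuotientGroup.mk_pow, QuotientGroup.eq_one_iff] at h1
    exact h1
  have hxL : (x : G) ∉ L := by
    intro h
    have h1 : (QuotientGroup.mk x : ↥M ⧸ L') = 1 := (QuotientGroup.eq_one_iff x).2 h
    rw [h1, orderOf_one] at hxb
    exact hpp.one_lt.ne hxb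
  have hK : K = M := by
    rcases hmin K hKn hLK hKM with h | h
    · exfalso
      rw [h] at hxK
      exact hxL hxK
    · exact h
  have hPG : IsPGroup p (↥M ⧸ L') := by
    intro mb
    obtain ⟨m, rfl⟩ := QuotientGroup.mk_surjective mb
    refine ⟨1, ?_⟩
    rw [pow_one, ← QuotientGroup.mk_pow, QuotientGroup.eq_one_iff]
    have : (m : G) ∈ K := by rw [hK]; exact m.2
    exact this.2
  obtain ⟨d, hd⟩ := IsPGroup.iff_card.mp hPG
  refine ⟨p, d, hpp, ?_⟩
  have h1 : L.relIndex M = L'.index := rfl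
  rw [h1, Subgroup.index_eq_card]
  exact hd

end ChiefPrime

section Defs

/-- `χ` is induced from a character of degree one. -/
def Monomial (G : Type u) [Group G] [Fintype G] (χ : G → ℂ) : Prop :=
  ∃ (U : Subgroup G) (lam : U → ℂ), IsCharacter U lam ∧ lam 1 = 1 ∧ indFun U lam = χ

/-- All `p`-subgroups of `N` are abelian, for all primes `p`. -/
def AbelianPSub (G : Type u) [Group G] (N : Subgroup G) : Prop :=
  ∀ p : ℕ, p.Prime → ∀ Q : Subgroup G, Q ≤ N → IsPGroup p Q → ∀ a ∈ Q, ∀ b ∈ Q, a * b = b * a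

variable {G : Type u} [Group G]

theorem AbelianPSub.subgroup {N : Subgroup G} (h : AbelianPSub G N) (T : Subgroup G) :
    AbelianPSub T (N.subgroupOf T) := by
  intro p hp Q hQN hQ a ha b hb
  have hinj : Function.Injective T.subtype := T.subtype_injective
  have key := h p hp (Q.map T.subtype) ?_ (hQ.map T.subtype) (a : G) ⟨a, ha, rfl⟩ (b : G)
    ⟨b, hb, rfl⟩
  · exact Subtype.ext key
  · rintro _ ⟨x, hx, rfl⟩
    exact hQN hx

theorem AbelianPSub.mono {N M : Subgroup G} (h : AbelianPSub G N) (hMN : M ≤ N) :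
    AbelianPSub G M :=
  fun p hp Q hQM hQ => h p hp Q (hQM.trans hMN) hQ

/-- A character induced from a monomial character of a subgroup is monomial. -/
theorem Monomial.of_subgroup [Fintype G] (T : Subgroup G) [Fintype T]
    {χ : G → ℂ} {η : T → ℂ} (hη : indFun T η = χ) (h : Monomial T η) : Monomial G χ := by
  obtain ⟨U', lam', hlam', hone, hind⟩ := h
  have hinj : Function.Injective T.subtype := T.subtype_injective
  let e : U' ≃* U'.map T.subtype := U'.equivMapOfInjective T.subtype hinj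
  have hmem : ∀ y : ↥(U'.map T.subtype),
      (⟨y.1, Subgroup.map_subtype_le U' y.2⟩ : T) ∈ U' := by
    intro y
    obtain ⟨x, hx, hxy⟩ := Subgroup.mem_map.mp y.2
    have : (⟨y.1, Subgroup.map_subtype_le U' y.2⟩ : T) = x := Subtype.ext hxy.symm
    rw [this]
    exact hx
  let lam : ↥(U'.map T.subtype) → ℂ := fun y =>
    lam' ⟨⟨y.1, Subgroup.map_subtype_le U' y.2⟩, hmem y⟩
  have h1 : lam = lam' ∘ e.symm := by
    funext y
    show lam' ⟨⟨y.1, Subgroup.map_subtype_le U' y.2⟩, hmem y⟩ = lam' (e.symm y)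
    congr 1
    apply Subtype.ext
    apply Subtype.ext
    have h2 := congrArg Subtype.val (e.apply_symm_apply y)
    rw [Subgroup.coe_equivMapOfInjective_apply] at h2
    exact h2.symm
  refine ⟨U'.map T.subtype, lam, ?_, ?_, ?_⟩
  · rw [h1]
    exact isCharacter_comp_equiv e.symm hlam'
  · rw [h1, Function.comp_apply, map_one, hone]
  · rw [← hη, ← hind]
    exact (indFun_indFun_map T U' lam').symm

end Defs

section CaseA

variable {G : Type u} [Group G] [Fintype G]

/-- If `χ = ψ^G` with `ψ ∈ Irr(T)` and `χ_N` is irreducible for `N ⊴ G`, then `ψ` restricts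
irreducibly to `T ∩ N`. -/
theorem irr_restrict_inf (N T : Subgroup G) [hN : N.Normal] [Fintype N] [Fintype T]
    [Fintype ↥(T ⊓ N)] {ψ : T → ℂ} (hψ : IsIrrCharacter T ψ) {χ : G → ℂ}
    (hχ : IsIrrCharacter G χ) (hind : indFun T ψ = χ)
    (hres : IsIrrCharacter N (fun n : N => χ n)) :
    IsIrrCharacter ↥(T ⊓ N) (fun d : ↥(T ⊓ N) => ψ ⟨d, d.2.1⟩) := by
  classical
  letI := irrFintype (G := ↥T)
  letI := irrFintype (G := ↥(T ⊓ N))
  have hcf := isClassFunction_of_isIrrCharacter hχ
  have hχc := isCharacter_of_isIrrCharacter hχ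
  have hψc := isCharacter_of_isIrrCharacter hψ
  let ψD : ↥(T ⊓ N) → ℂ := fun d => ψ ⟨d, d.2.1⟩
  let χD : ↥(T ⊓ N) → ℂ := fun d => χ d
  have hψD : IsCharacter ↥(T ⊓ N) ψD :=
    isCharacter_comp (Subgroup.inclusion (inf_le_left : T ⊓ N ≤ T)) hψc
  -- the sum formula
  have hF : ∀ (g : G) (n : N),
      (fun n : N => conj (χ n)) ⟨g * n * g⁻¹, hN.conj_mem (n : G) n.2 g⟩ =
        (fun n : N => conj (χ n)) n := by
    intro g n
    show conj (χ (g * n * g⁻¹)) = conj (χ n)
    rw [hcf n g]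
  have hsum := sum_mul_indFun_of_invariant N T (fun n : N => conj (χ n)) hF ψ
  rw [hind] at hsum
  have hN0 : (Nat.card N : ℂ) ≠ 0 := by exact_mod_cast (Nat.card_pos (α := N)).ne'
  have hT0 : (Nat.card T : ℂ) ≠ 0 := by exact_mod_cast (Nat.card_pos (α := T)).ne'
  have hD0 : (Nat.card ↥(T ⊓ N) : ℂ) ≠ 0 := by
    exact_mod_cast (Nat.card_pos (α := ↥(T ⊓ N))).ne'
  have hL : ∑ n : N, (fun n : N => conj (χ n)) n * χ n = (Nat.card N : ℂ) := by
    have h1 := irr_orthogonality hres hres
    rw [if_pos rfl] at h1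
    unfold classInner at h1
    have h2 : ∑ n : N, (fun n : N => conj (χ n)) n * χ n = ∑ n : N, χ n * conj (χ n) :=
      Finset.sum_congr rfl (fun n _ => mul_comm _ _)
    rw [h2]
    field_simp at h1
    exact h1
  have hR : ∑ d : ↥(T ⊓ N), (fun n : N => conj (χ n)) ⟨d, d.2.2⟩ * ψ ⟨d, d.2.1⟩ =
      (Nat.card ↥(T ⊓ N) : ℂ) * classInner ψD χD := by
    unfold classInner
    rw [← mul_assoc, mul_inv_cancel₀ hD0, one_mul]
    exact Finset.sum_congr rfl (fun d _ => mul_comm _ _)
  rw [hL, hR] at hsum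
  have hcard := card_mul_card_inf_eq N T
  have hcardC : (Nat.card G : ℂ) * (Nat.card ↥(T ⊓ N) : ℂ) =
      (Nat.card N : ℂ) * (Nat.card T : ℂ) * ((T ⊔ N).index : ℂ) := by exact_mod_cast hcard
  have hkey : ((T ⊔ N).index : ℂ) * classInner ψD χD = 1 := by
    have h1 : (Nat.card N : ℂ) = (Nat.card N : ℂ) * (((T ⊔ N).index : ℂ) * classInner ψD χD) := by
      calc (Nat.card N : ℂ) = (Nat.card T : ℂ)⁻¹ * (Nat.card G : ℂ) *
            ((Nat.card ↥(T ⊓ N) : ℂ) * classInner ψD χD) := hsum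
        _ = (Nat.card T : ℂ)⁻¹ * ((Nat.card G : ℂ) * (Nat.card ↥(T ⊓ N) : ℂ)) *
            classInner ψD χD := by ring
        _ = _ := by rw [hcardC]; field_simp
    have h2 := mul_left_cancel₀ hN0 (a := (Nat.card N : ℂ)) (b := 1)
      (c := ((T ⊔ N).index : ℂ) * classInner ψD χD) (by rw [mul_one]; exact h1)
    exact h2.symm
  -- decompose `χ_T`
  have hχT : IsCharacter T (fun t : T => χ t) := isCharacter_restrict T hχc
  have hfr : classInner (fun t : T => χ t) ψ ≠ 0 := by
    rw [classInner_char_comm hχT hψc, ← frobenius_reciprocity T ψ hcf, hind,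
      irr_orthogonality hχ hχ, if_pos rfl]
    exact one_ne_zero
  obtain ⟨Δ, hΔ, hdec⟩ := exists_add_of_constituent hχT hψ hfr
  let ΔD : ↥(T ⊓ N) → ℂ := fun d => Δ ⟨d, d.2.1⟩
  have hΔD : IsCharacter ↥(T ⊓ N) ΔD :=
    isCharacter_comp (Subgroup.inclusion (inf_le_left : T ⊓ N ≤ T)) hΔ
  have hχD : χD = ψD + ΔD := by
    funext d
    have := congrFun hdec ⟨d, d.2.1⟩
    exact this
  obtain ⟨s, hs⟩ := classInner_char_nat hψD hψD
  obtain ⟨t, ht⟩ := classInner_char_nat hψD hΔD
  rw [hχD, classInner_add_right, hs, ht] at hkey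
  have hkeyN : (T ⊔ N).index * (s + t) = 1 := by exact_mod_cast hkey
  have hs0 : s ≠ 0 := by
    rintro rfl
    rw [Nat.cast_zero] at hs
    have h0 := classInner_self_eq_zero hs
    have h1 : ψD 1 = 0 := by rw [h0]; rfl
    have h2 : ψ 1 = 0 := h1
    exact Cfsg.Agent.Helper23.irr_one_ne_zero ψ hψ h2
  have hst : s + t = 1 := Nat.eq_one_of_mul_eq_one_left hkeyN
  have hs1 : s = 1 := by omega
  apply isIrrCharacter_of_classInner_self_eq_one hψD
  rw [hs, hs1, Nat.cast_one]

end CaseA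

section Ramified

variable {H : Type u} [Group H] [Fintype H]

/-- If `φ₀ ∈ Irr(L)` is invariant and extends to `ξ ∈ Irr(H)`, and `φ ∈ Irr(H)` restricts to
`e φ₀` with `e² = |H : L|`, then `φ = ξ`. -/
theorem eq_of_ramified_of_extension (L : Subgroup H) [hL : L.Normal] [Fintype L]
    {φ₀ : L → ℂ} (hφ₀ : IsIrrCharacter L φ₀) (hinv : ∀ g : H, conjFun L g φ₀ = φ₀)
    {ξ φ : H → ℂ} (hξ : IsIrrCharacter H ξ) (hφ : IsIrrCharacter H φ)
    (hξL : (fun l : L => ξ l) = φ₀) (e : ℕ) (hφL : (fun l : L => φ l) = (e : ℂ) • φ₀)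
    (he : e ^ 2 = L.index) : φ = ξ := by
  classical
  by_contra hne
  set Θ : H → ℂ := indFun L φ₀ with hΘ
  have hΘc : IsCharacter H Θ := isCharacter_indFun L (isCharacter_of_isIrrCharacter hφ₀)
  have h00 : classInner φ₀ φ₀ = 1 := by rw [irr_orthogonality hφ₀ hφ₀, if_pos rfl]
  have h1 : classInner Θ φ = e := by
    rw [hΘ, frobenius_reciprocity L φ₀ (isClassFunction_of_isIrrCharacter hφ), hφL,
      classInner_smul_right, h00, mul_one, Complex.conj_natCast]
  have h2 : classInner Θ ξ = 1 := by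
    rw [hΘ, frobenius_reciprocity L φ₀ (isClassFunction_of_isIrrCharacter hξ), hξL, h00]
  have h3 : classInner Θ Θ = (e : ℂ) ^ 2 := by
    conv_lhs => rw [hΘ, frobenius_reciprocity L φ₀ (isClassFunction_of_isCharacter hΘc)]
    rw [hΘ, indFun_normal_restrict_of_invariant L φ₀ hinv, classInner_smul_right, h00, mul_one,
      Complex.conj_natCast, ← he]
    push_cast
    ring
  have h1' : classInner φ Θ = e := by
    rw [← classInner_conj_symm, h1, Complex.conj_natCast]
  have hφφ : classInner φ φ = 1 := by rw [irr_orthogonality hφ hφ, if_pos rfl]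
  have hD : classInner (Θ + (-(e : ℂ)) • φ) (Θ + (-(e : ℂ)) • φ) = 0 := by
    rw [classInner_add_left, classInner_add_right, classInner_add_right, classInner_smul_left,
      classInner_smul_left, classInner_smul_right, classInner_smul_right, h1, h1', h3, hφφ]
    simp only [map_neg, Complex.conj_natCast]
    ring
  have hΘeq : Θ = (e : ℂ) • φ := by
    have h4 := classInner_self_eq_zero hD
    have h5 : Θ = Θ + (-(e : ℂ)) • φ + (e : ℂ) • φ := by
      rw [add_assoc, ← add_smul, neg_add_cancel, zero_smul, add_zero]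
    rw [h5, h4, zero_add]
  rw [hΘeq, classInner_smul_left, irr_orthogonality hφ hξ, if_neg hne, mul_zero] at h2
  exact zero_ne_one h2

end Ramified

section Extend

variable {H : Type u} [Group H] [Fintype H]

/-- If all `p`-subgroups of `H` are abelian and `L ⊴ H` has `p`-power index, every invariant
irreducible character of `L` extends to `H`. -/
theorem exists_extension_of_abelianP (p : ℕ) [Fact p.Prime] (L : Subgroup H) [hL : L.Normal]
    (hind : ∃ k : ℕ, L.index = p ^ k)
    (hab : ∀ Q : Subgroup H, IsPGroup p Q → ∀ a ∈ Q, ∀ b ∈ Q, a * b = b * a)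
    {φ₀ : L → ℂ} (hφ₀ : IsIrrCharacter L φ₀) (hinv : ∀ g : H, conjFun L g φ₀ = φ₀) :
    ∃ ξ : H → ℂ, IsIrrCharacter H ξ ∧ (fun l : L => ξ l) = φ₀ := by
  classical
  obtain ⟨P⟩ := (inferInstance : Nonempty (Sylow p H))
  have hPc : ∀ a ∈ (P : Subgroup H), ∀ b ∈ (P : Subgroup H), a * b = b * a :=
    hab (P : Subgroup H) P.isPGroup'
  have hcent : ∀ x ∈ (P : Subgroup H) ⊓ L, ∀ y ∈ (P : Subgroup H), x * y = y * x :=
    fun x hx y hy => hPc x hx.1 y hy
  have hlin : ∀ lam : ↥((P : Subgroup H) ⊓ L) → ℂ, IsCharacter ↥((P : Subgroup H) ⊓ L) lam →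
      lam 1 = 1 → ∃ μ : ↥(P : Subgroup H) → ℂ, IsCharacter ↥(P : Subgroup H) μ ∧ μ 1 = 1 ∧
        ∀ x : ↥((P : Subgroup H) ⊓ L), μ ⟨(x : H), x.2.1⟩ = lam x := by
    intro lam hlam hone
    let f : ↥((P : Subgroup H) ⊓ L) →* ℂˣ := linHom hlam hone
    let K : Subgroup ↥(P : Subgroup H) := ((P : Subgroup H) ⊓ L).subgroupOf (P : Subgroup H)
    let iso : ↥K ≃* ↥((P : Subgroup H) ⊓ L) :=
      Subgroup.subgroupOfEquivOfLe (inf_le_left : (P : Subgroup H) ⊓ L ≤ (P : Subgroup H))
    let f' : ↥K →* ℂˣ := f.comp iso.toMonoidHom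
    have hcomm : ∀ a b : ↥(P : Subgroup H), a * b = b * a :=
      fun a b => Subtype.ext (hPc a a.2 b b.2)
    obtain ⟨F, hF⟩ := exists_hom_extension_of_comm hcomm K f'
    refine ⟨fun y => ((F y : ℂˣ) : ℂ),
      isCharacter_of_isIrrCharacter (isIrrCharacter_of_monoidHom F), by simp, ?_⟩
    intro x
    have hxK : (⟨(x : H), x.2.1⟩ : ↥(P : Subgroup H)) ∈ K := by
      show (x : H) ∈ (P : Subgroup H) ⊓ L
      exact x.2
    have h1 := hF ⟨⟨(x : H), x.2.1⟩, hxK⟩
    have h2 : iso ⟨⟨(x : H), x.2.1⟩, hxK⟩ = x := Subtype.ext rfl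
    show ((F ⟨(x : H), x.2.1⟩ : ℂˣ) : ℂ) = lam x
    rw [h1]
    show ((f (iso ⟨⟨(x : H), x.2.1⟩, hxK⟩) : ℂˣ) : ℂ) = lam x
    rw [h2]
    rfl
  have hinv' : ∀ (g : H) (n : L), φ₀ ⟨g * n * g⁻¹, hL.conj_mem (n : H) n.2 g⟩ = φ₀ n :=
    fun g n => congrFun (hinv g) n
  obtain ⟨ξ, hξ, hξL⟩ := Cfsg.Agent.S0897.result p L hind P hcent hlin φ₀ hφ₀ hinv'
  exact ⟨ξ, hξ, funext hξL⟩

end Extend

section CaseB

variable {G : Type u} [Group G] [Fintype G]

/-- The key step in the homogeneous case: over an abelian chief factor `M / L` inside a normal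
subgroup with abelian `p`-subgroups, an invariant constituent of `χ_M` is linear as soon as all
constituents of `χ_L` are invariant and linear. -/
theorem linear_of_chief (M L : Subgroup G) [hM : M.Normal] [hL : L.Normal] [Fintype M]
    [Fintype L] (hLM : L < M)
    (hab : ⁅M, M⁆ ≤ L)
    (hmin : ∀ K : Subgroup G, K.Normal → L ≤ K → K ≤ M → K = L ∨ K = M)
    (hA : AbelianPSub G M) {χ : G → ℂ} (hχ : IsIrrCharacter G χ)
    {φ : M → ℂ} (hφ : IsIrrCharacter M φ) (hinv : ∀ g : G, conjFun M g φ = φ)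
    (hcon : classInner (fun m : M => χ m) φ ≠ 0)
    (hBL : ∀ φ' : L → ℂ, IsIrrCharacter L φ' → classInner (fun l : L => χ l) φ' ≠ 0 →
      (∀ g : G, conjFun L g φ' = φ') ∧ φ' 1 = 1) : φ 1 = 1 := by
  classical
  letI := irrFintype (G := ↥M)
  letI := irrFintype (G := ↥L)
  have hχc := isCharacter_of_isIrrCharacter hχ
  have hφc := isCharacter_of_isIrrCharacter hφ
  have hχM : IsCharacter M (fun m : M => χ m) := isCharacter_restrict M hχc
  obtain ⟨Δ, hΔ, hdec⟩ := exists_add_of_constituent hχM hφ hcon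
  let φL : L → ℂ := fun x => φ ⟨(x : G), hLM.le x.2⟩
  let ΔL : L → ℂ := fun x => Δ ⟨(x : G), hLM.le x.2⟩
  have hφL : IsCharacter L φL := isCharacter_comp (Subgroup.inclusion hLM.le) hφc
  have hΔL : IsCharacter L ΔL := isCharacter_comp (Subgroup.inclusion hLM.le) hΔ
  have hχL : (fun l : L => χ l) = φL + ΔL := by
    funext x
    exact congrFun hdec ⟨(x : G), hLM.le x.2⟩
  have hconL : ∀ γ : L → ℂ, IsCharacter L γ → classInner φL γ ≠ 0 →
      classInner (fun l : L => χ l) γ ≠ 0 := by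
    intro γ hγ h
    rw [hχL]
    exact classInner_add_ne_zero hφL hΔL hγ h
  have hinv' : ∀ (g : G) (n : M), φ ⟨g * n * g⁻¹, hM.conj_mem (n : G) n.2 g⟩ = φ n :=
    fun g n => congrFun (hinv g) n
  have h57 := Cfsg.Agent.S0857.result M L hLM (fun K hK h1 h2 => hmin K hK h1 h2) hab φ hφ hinv'
  rcases h57 with h | ⟨φ₀, e, hφ₀, hres, he⟩ | ⟨F, hF, hFcard, hFsum⟩
  · -- `φ_L` irreducible
    have h1 : classInner φL φL ≠ 0 := by
      rw [irr_orthogonality h h, if_pos rfl]
      exact one_ne_zero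
    exact (hBL φL h (hconL φL hφL h1)).2
  · -- fully ramified
    have hrel0 : L.relIndex M ≠ 0 := by
      unfold Subgroup.relIndex
      exact Subgroup.index_ne_zero_of_finite
    have he0 : e ≠ 0 := by
      rintro rfl
      rw [zero_pow two_ne_zero] at he
      exact hrel0 he.symm
    have h00 : classInner φ₀ φ₀ = 1 := by rw [irr_orthogonality hφ₀ hφ₀, if_pos rfl]
    have h1 : classInner φL φ₀ ≠ 0 := by
      have : φL = (e : ℂ) • φ₀ := hres
      rw [this, classInner_smul_left, h00, mul_one]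
      exact_mod_cast he0
    obtain ⟨hφ₀inv, hφ₀one⟩ := hBL φ₀ hφ₀ (hconL φ₀ (isCharacter_of_isIrrCharacter hφ₀) h1)
    obtain ⟨p, k, hp, hpk⟩ := relIndex_prime_pow_of_chief L M hLM hab hmin
    haveI : Fact p.Prime := ⟨hp⟩
    let L' : Subgroup ↥M := L.subgroupOf M
    haveI hL'n : L'.Normal := Subgroup.Normal.subgroupOf hL M
    letI : Fintype ↥L' := Fintype.ofFinite _
    let iso : ↥L' ≃* ↥L := Subgroup.subgroupOfEquivOfLe hLM.le
    let φ₀' : ↥L' → ℂ := φ₀ ∘ iso
    have hφ₀' : IsIrrCharacter ↥L' φ₀' := isIrrCharacter_comp_equiv iso hφ₀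
    have hφ₀'inv : ∀ g : ↥M, conjFun L' g φ₀' = φ₀' := by
      intro g
      funext n
      rw [conjFun_apply]
      have h2 := congrFun (hφ₀inv (g : G)) (iso n)
      rw [conjFun_apply] at h2
      show φ₀ (iso _) = φ₀ (iso n)
      rw [← h2]
      congr 1
    have hind' : ∃ k : ℕ, L'.index = p ^ k := ⟨k, hpk⟩
    have habM : ∀ Q : Subgroup ↥M, IsPGroup p Q → ∀ a ∈ Q, ∀ b ∈ Q, a * b = b * a := by
      intro Q hQ a ha b hb
      have key := hA p hp (Q.map M.subtype) (Subgroup.map_subtype_le Q) (hQ.map M.subtype)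
        (a : G) ⟨a, ha, rfl⟩ (b : G) ⟨b, hb, rfl⟩
      exact Subtype.ext key
    obtain ⟨ξ, hξ, hξL⟩ := exists_extension_of_abelianP p L' hind' habM hφ₀' hφ₀'inv
    have hφL' : (fun l : ↥L' => φ l) = (e : ℂ) • φ₀' := by
      funext l
      have h3 := congrFun hres (iso l)
      exact h3
    have he' : e ^ 2 = L'.index := he
    have heq := eq_of_ramified_of_extension L' hφ₀' hφ₀'inv hξ hφ hξL e hφL' he'
    rw [heq]
    have h4 := congrFun hξL 1
    have h5 : φ₀' 1 = 1 := by
      show φ₀ (iso 1) = 1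
      rw [map_one, hφ₀one]
    rw [h5] at h4
    exact h4
  · -- split
    exfalso
    have hrel : 1 < L.relIndex M := by
      have h0 : L.relIndex M ≠ 0 := by
        unfold Subgroup.relIndex
        exact Subgroup.index_ne_zero_of_finite
      have h1 : L.relIndex M ≠ 1 := by
        intro h
        exact (not_le_of_gt hLM) (Subgroup.relIndex_eq_one.mp h)
      omega
    rw [← hFcard, Finset.one_lt_card] at hrel
    obtain ⟨φ₁, h₁, φ₂, h₂, hne⟩ := hrel
    have hinner : ∀ γ ∈ F, classInner φL γ = 1 := by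
      intro γ hγ
      have : φL = ∑ φ ∈ F, φ := hFsum
      rw [this, classInner_sum_left]
      have h2 : ∀ ψ ∈ F, classInner ψ γ = if ψ = γ then 1 else 0 := fun ψ hψ =>
        irr_orthogonality (hF ψ hψ) (hF γ hγ)
      rw [Finset.sum_congr rfl h2, Finset.sum_ite_eq', if_pos hγ]
    have hc1 : classInner (fun l : L => χ l) φ₁ ≠ 0 :=
      hconL φ₁ (isCharacter_of_isIrrCharacter (hF φ₁ h₁)) (by rw [hinner φ₁ h₁]; exact one_ne_zero)
    have hc2 : classInner (fun l : L => χ l) φ₂ ≠ 0 :=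
      hconL φ₂ (isCharacter_of_isIrrCharacter (hF φ₂ h₂)) (by rw [hinner φ₂ h₂]; exact one_ne_zero)
    obtain ⟨hinv₁, -⟩ := hBL φ₁ (hF φ₁ h₁) hc1
    obtain ⟨e₁, -, -, hres₁⟩ := restrict_eq_smul_of_invariant L hχ (hF φ₁ h₁) hinv₁ hc1
    rw [hres₁, classInner_smul_left, irr_orthogonality (hF φ₁ h₁) (hF φ₂ h₂), if_neg hne,
      mul_zero] at hc2
    exact hc2 rfl

end CaseB

section Main

/-- `φ` is a constituent of `χ_M` (with a canonical `Fintype` instance on `M`). -/
def IsConstituent {G : Type u} [Group G] [Finite G] (M : Subgroup G) (χ : G → ℂ) (φ : M → ℂ) :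
    Prop :=
  @classInner M _ (Fintype.ofFinite M) (fun m : M => χ m) φ ≠ 0

theorem isConstituent_iff {G : Type u} [Group G] [Finite G] (M : Subgroup G) [inst : Fintype M]
    (χ : G → ℂ) (φ : M → ℂ) :
    IsConstituent M χ φ ↔ classInner (fun m : M => χ m) φ ≠ 0 := by
  unfold IsConstituent
  rw [Subsingleton.elim (Fintype.ofFinite M) inst]

theorem monomial_aux (n : ℕ) : ∀ (G : Type u) [Group G] [Fintype G] (N : Subgroup G)
    [N.Normal], Group.IsSolvable G → AbelianPSub G N → Nat.card G = n →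
    ∀ χ : G → ℂ, IsIrrCharacter G χ → IsIrrCharacter N (fun k : N => χ k) → Monomial G χ := by
  induction n using Nat.strong_induction_on with
  | _ n ih =>
    intro G _ _ N hN hsolv hA hcard χ hχ hχN
    have hχc := isCharacter_of_isIrrCharacter hχ
    have hcf := isClassFunction_of_isIrrCharacter hχ
    by_cases hA' : ∃ (M : Subgroup G) (hM : M.Normal) (φ : M → ℂ), M ≤ N ∧ IsIrrCharacter M φ ∧
        IsConstituent M χ φ ∧ @inertia G _ M hM φ ≠ ⊤
    · -- some constituent is not invariant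
      obtain ⟨M, hM, φ, hMN, hφ, hcon, hT⟩ := hA'
      haveI := hM
      letI : Fintype M := Fintype.ofFinite M
      rw [isConstituent_iff] at hcon
      set T := inertia M φ with hTdef
      obtain ⟨η, hη, hind, -⟩ := clifford_correspondence M hχ hφ hcon
      letI : Fintype T := Fintype.ofFinite T
      letI : Fintype ↥(T ⊓ N) := Fintype.ofFinite _
      letI : Fintype N := Fintype.ofFinite N
      have hcardT : Nat.card T < n := by
        rw [← hcard]
        by_contra hge
        push_neg at hge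
        exact hT (Subgroup.eq_top_of_le_card T hge)
      have hirr := irr_restrict_inf N T hη hχ hind hχN
      let e : ↥(N.subgroupOf T) ≃* ↥(T ⊓ N) :=
        { toFun := fun x => ⟨x.1.1, x.1.2, x.2⟩
          invFun := fun d => ⟨⟨d.1, d.2.1⟩, d.2.2⟩
          left_inv := fun _ => rfl
          right_inv := fun _ => rfl
          map_mul' := fun _ _ => rfl }
      have hirr' : IsIrrCharacter ↥(N.subgroupOf T) (fun k : N.subgroupOf T => η k) :=
        isIrrCharacter_comp_equiv e hirr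
      have hsolvT : Group.IsSolvable T := by
        haveI := hsolv
        infer_instance
      have h4 := ih (Nat.card T) hcardT T (N.subgroupOf T) hsolvT (hA.subgroup T) rfl η hη hirr'
      exact Monomial.of_subgroup T hind h4
    · -- all constituents are invariant
      push_neg at hA'
      by_cases h1 : χ 1 = 1
      · exact ⟨⊤, fun k => χ k, isCharacter_restrict ⊤ hχc, h1, indFun_top hcf⟩
      · exfalso
        let S := {M : Subgroup G // M.Normal ∧ M ≤ N ∧ ∃ φ : M → ℂ, IsIrrCharacter M φ ∧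
          IsConstituent M χ φ ∧ φ 1 ≠ 1}
        have hNS : IsConstituent N χ (fun k : N => χ k) := by
          letI : Fintype N := Fintype.ofFinite N
          rw [isConstituent_iff, irr_orthogonality hχN hχN, if_pos rfl]
          exact one_ne_zero
        haveI : Nonempty S := ⟨⟨N, hN, le_rfl, fun k : N => χ k, hχN, hNS, h1⟩⟩
        haveI : Finite S := Subtype.finite
        obtain ⟨M₀, hM₀⟩ := Finite.exists_min (fun M : S => Nat.card (M.1 : Subgroup G))
        obtain ⟨M, hMn, hMN, φ, hφ, hcon, hφ1⟩ := M₀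
        haveI := hMn
        letI : Fintype M := Fintype.ofFinite M
        have hM0 : M ≠ ⊥ := by
          rintro rfl
          letI := irrFintype (G := ↥(⊥ : Subgroup G))
          have hcomm : ∀ a b : ↥(⊥ : Subgroup G), a * b = b * a := by
            intro a b
            have ha : a = 1 := Subtype.ext ((Subgroup.mem_bot).1 a.2)
            rw [ha, one_mul, mul_one]
          exact hφ1 ((charDegree_eq_one_iff hφ).1 (charDegree_eq_one_of_comm hcomm hφ))
        have hsolv' : Group.IsSolvable (G ⧸ (⊥ : Subgroup G)) := by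
          haveI := hsolv
          infer_instance
        obtain ⟨L, hLn, -, hLM, hab, hmin⟩ :=
          exists_chief_abelian ⊥ M hsolv' (bot_lt_iff_ne_bot.2 hM0)
        haveI := hLn
        letI : Fintype L := Fintype.ofFinite L
        have hconM := (isConstituent_iff M χ φ).1 hcon
        have hinvφ : ∀ g : G, conjFun M g φ = φ := by
          intro g
          have h2 := hA' M hMn φ hMN hφ hcon
          have : g ∈ inertia M φ := by rw [h2]; trivial
          exact (mem_inertia M φ g).mp this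
        have hBL : ∀ φ' : L → ℂ, IsIrrCharacter L φ' → classInner (fun l : L => χ l) φ' ≠ 0 →
            (∀ g : G, conjFun L g φ' = φ') ∧ φ' 1 = 1 := by
          intro φ' hφ' hcon'
          have hcon'' := (isConstituent_iff L χ φ').2 hcon'
          constructor
          · intro g
            have h2 := hA' L hLn φ' (hLM.le.trans hMN) hφ' hcon''
            have : g ∈ inertia L φ' := by rw [h2]; trivial
            exact (mem_inertia L φ' g).mp this
          · by_contra h3
            have h4 : Nat.card M ≤ Nat.card L :=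
              hM₀ ⟨L, hLn, hLM.le.trans hMN, φ', hφ', hcon'', h3⟩
            exact (ne_of_lt hLM) (Subgroup.eq_of_le_of_card_ge hLM.le h4)
        exact hφ1 (linear_of_chief M L hLM hab hmin (hA.mono hMN) hχ hφ hinvφ hconM hBL)

end Main

end Cfsg.Agent.Helper5
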