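import Mathlib
import Cfsg.Agent.S0868
import Cfsg.Agent.Lib.Helper5.AMonomial
import Cfsg.Agent.Lib.Helper5.RelDegree
import Cfsg.Agent.Lib.Helper19.PGroupBasic

/-!
# Characters induced from maximal subgroups (helper5's shared library)

Isaacs, Lemma 11.32: if `L ≤ H < G` with `L ⊴ G`, `H` maximal, `G / L` solvable,
`ϑ ∈ Irr(H)` with `ϑ_L` irreducible and `ϑ^G` irreducible, then `ϑ^G` is not quasi-primitive
over `L`.
-/

set_option autoImplicit false

universe u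

namespace Cfsg.Agent.Helper5

open Cfsg Cfsg.Agent.Helper24 Cfsg.Agent.Helper18

open scoped ComplexConjugate commutatorElement

section InnerInf

variable {G : Type u} [Group G] [Fintype G]

/-- If `χ = ϑ^G` is irreducible, `M ⊴ G` with `H M = G` and `χ_M = e ζ`, then
`[ϑ_{H ∩ M}, ζ_{H ∩ M}] = e`. -/
theorem inner_restrict_inf (H M : Subgroup G) [hM : M.Normal] [Fintype H] [Fintype M]
    [Fintype ↥(H ⊓ M)] (hsup : H ⊔ M = ⊤) (ϑ : H → ℂ)
    (hχ : IsIrrCharacter G (indFun H ϑ)) {ζ : M → ℂ} (hζ : IsIrrCharacter M ζ) (e : ℕ)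
    (hres : (fun m : M => indFun H ϑ m) = (e : ℂ) • ζ) :
    classInner (fun d : ↥(H ⊓ M) => ϑ ⟨d, d.2.1⟩) (fun d : ↥(H ⊓ M) => ζ ⟨d, d.2.2⟩) = e := by
  classical
  set χ := indFun H ϑ with hχdef
  have hcf := isClassFunction_of_isIrrCharacter hχ
  have he0 : (e : ℂ) ≠ 0 := by
    intro h
    have h1 := congrFun hres 1
    rw [h, zero_smul] at h1
    exact Cfsg.Agent.Helper23.irr_one_ne_zero χ hχ h1
  have hF : ∀ (g : G) (n : M),
      (fun n : M => conj (χ n)) ⟨g * n * g⁻¹, hM.conj_mem (n : G) n.2 g⟩ =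
        (fun n : M => conj (χ n)) n := by
    intro g n
    show conj (χ (g * n * g⁻¹)) = conj (χ n)
    rw [hcf n g]
  have hsum := sum_mul_indFun_of_invariant M H (fun n : M => conj (χ n)) hF ϑ
  have hM0 : (Nat.card M : ℂ) ≠ 0 := by exact_mod_cast (Nat.card_pos (α := M)).ne'
  have hH0 : (Nat.card H : ℂ) ≠ 0 := by exact_mod_cast (Nat.card_pos (α := H)).ne'
  have hD0 : (Nat.card ↥(H ⊓ M) : ℂ) ≠ 0 := by
    exact_mod_cast (Nat.card_pos (α := ↥(H ⊓ M))).ne'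
  have hζζ : classInner ζ ζ = 1 := by rw [irr_orthogonality hζ hζ, if_pos rfl]
  have hL : ∑ n : M, (fun n : M => conj (χ n)) n * indFun H ϑ n =
      (Nat.card M : ℂ) * ((e : ℂ) * (e : ℂ)) := by
    have h1 : ∀ n : M, χ n = (e : ℂ) * ζ n := fun n => congrFun hres n
    have h2 : ∑ n : M, (fun n : M => conj (χ n)) n * indFun H ϑ n =
        (e : ℂ) * (e : ℂ) * ∑ n : M, ζ n * conj (ζ n) := by
      rw [Finset.mul_sum]
      refine Finset.sum_congr rfl (fun n _ => ?_)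
      show conj (χ n) * χ n = _
      rw [h1 n, map_mul, Complex.conj_natCast]
      ring
    rw [h2]
    unfold classInner at hζζ
    field_simp at hζζ
    rw [hζζ]
    ring
  have hR : ∑ d : ↥(H ⊓ M), (fun n : M => conj (χ n)) ⟨d, d.2.2⟩ * ϑ ⟨d, d.2.1⟩ =
      (e : ℂ) * ((Nat.card ↥(H ⊓ M) : ℂ) *
        classInner (fun d : ↥(H ⊓ M) => ϑ ⟨d, d.2.1⟩) (fun d : ↥(H ⊓ M) => ζ ⟨d, d.2.2⟩)) := by
    unfold classInner
    rw [← mul_assoc (Nat.card ↥(H ⊓ M) : ℂ), mul_inv_cancel₀ hD0, one_mul, Finset.mul_sum]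
    refine Finset.sum_congr rfl (fun d _ => ?_)
    have h1 : χ d = (e : ℂ) * ζ ⟨d, d.2.2⟩ := congrFun hres ⟨d, d.2.2⟩
    show conj (χ d) * ϑ ⟨d, d.2.1⟩ = _
    rw [h1, map_mul, Complex.conj_natCast]
    ring
  rw [hL, hR] at hsum
  have hcard := card_mul_card_inf_eq M H
  rw [hsup, Subgroup.index_top, mul_one] at hcard
  have hcardC : (Nat.card G : ℂ) * (Nat.card ↥(H ⊓ M) : ℂ) =
      (Nat.card M : ℂ) * (Nat.card H : ℂ) := by exact_mod_cast hcard
  set I := classInner (fun d : ↥(H ⊓ M) => ϑ ⟨d, d.2.1⟩) (fun d : ↥(H ⊓ M) => ζ ⟨d, d.2.2⟩)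
  have h3 : (Nat.card M : ℂ) * ((e : ℂ) * (e : ℂ)) = (Nat.card M : ℂ) * ((e : ℂ) * I) := by
    calc (Nat.card M : ℂ) * ((e : ℂ) * (e : ℂ))
        = (Nat.card H : ℂ)⁻¹ * (Nat.card G : ℂ) *
            ((e : ℂ) * ((Nat.card ↥(H ⊓ M) : ℂ) * I)) := hsum
      _ = (Nat.card H : ℂ)⁻¹ * ((Nat.card G : ℂ) * (Nat.card ↥(H ⊓ M) : ℂ)) * ((e : ℂ) * I) := by
          ring
      _ = _ := by rw [hcardC]; field_simp
  have h4 := mul_left_cancel₀ hM0 h3
  exact (mul_left_cancel₀ he0 h4).symm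

/-- Index of a complement: if `H K = G` with `K ⊴ G` then `|G : H| = |K : H ∩ K|`. -/
theorem index_eq_relIndex_of_sup_eq_top (H K : Subgroup G) [hK : K.Normal] (hsup : H ⊔ K = ⊤) :
    H.index = (H ⊓ K).relIndex K := by
  have hcard := card_mul_card_inf_eq K H
  rw [hsup, Subgroup.index_top, mul_one] at hcard
  have h1 : Nat.card ↥(H ⊓ K) * (H ⊓ K).relIndex K = Nat.card K := by
    have := Subgroup.relIndex_mul_relIndex (⊥ : Subgroup G) (H ⊓ K) K bot_le inf_le_right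
    rwa [Subgroup.relIndex_bot_left, Subgroup.relIndex_bot_left] at this
  have h2 : Nat.card H * H.index = Nat.card G := H.card_mul_index
  have hH0 : 0 < Nat.card H := Nat.card_pos
  have hC0 : 0 < Nat.card ↥(H ⊓ K) := Nat.card_pos
  rw [← h2, ← h1] at hcard
  have h3 : Nat.card H * (Nat.card ↥(H ⊓ K) * H.index) =
      Nat.card H * (Nat.card ↥(H ⊓ K) * (H ⊓ K).relIndex K) := by
    calc Nat.card H * (Nat.card ↥(H ⊓ K) * H.index)
        = Nat.card H * H.index * Nat.card ↥(H ⊓ K) := by ring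
      _ = Nat.card ↥(H ⊓ K) * (H ⊓ K).relIndex K * Nat.card H := hcard
      _ = _ := by ring
  exact Nat.eq_of_mul_eq_mul_left hC0 (Nat.eq_of_mul_eq_mul_left hH0 h3)

/-- The fully ramified configuration over the core. -/
theorem ramified_of_complement (H K : Subgroup G) [hK : K.Normal] [Fintype H] [Fintype K]
    [Fintype ↥(H ⊓ K)] (hsup : H ⊔ K = ⊤) (ϑ : H → ℂ) (hϑ : IsIrrCharacter H ϑ)
    (hφ : IsIrrCharacter ↥(H ⊓ K) (fun c : ↥(H ⊓ K) => ϑ ⟨c, c.2.1⟩))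
    (hχ : IsIrrCharacter G (indFun H ϑ)) {ξ : K → ℂ} (hξ : IsIrrCharacter K ξ) (eK : ℕ)
    (hresK : (fun k : K => indFun H ϑ k) = (eK : ℂ) • ξ)
    {φ' : ↥(H ⊓ K) → ℂ} (hφ' : IsIrrCharacter ↥(H ⊓ K) φ') (eC : ℕ)
    (hresC : (fun c : ↥(H ⊓ K) => indFun H ϑ c) = (eC : ℂ) • φ') :
    eK ^ 2 = (H ⊓ K).relIndex K ∧
      (fun c : ↥(H ⊓ K) => ξ ⟨c, c.2.2⟩) = (eK : ℂ) • (fun c : ↥(H ⊓ K) => ϑ ⟨c, c.2.1⟩) := by
  classical
  set χ := indFun H ϑ with hχdef
  set φ : ↥(H ⊓ K) → ℂ := fun c => ϑ ⟨c, c.2.1⟩ with hφdef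
  set ξC : ↥(H ⊓ K) → ℂ := fun c => ξ ⟨c, c.2.2⟩ with hξCdef
  have hI : classInner φ ξC = eK := inner_restrict_inf H K hsup ϑ hχ hξ eK hresK
  have heK0 : (eK : ℂ) ≠ 0 := by
    intro h
    have h1 := congrFun hresK 1
    rw [h, zero_smul] at h1
    exact Cfsg.Agent.Helper23.irr_one_ne_zero χ hχ h1
  have hχC : (fun c : ↥(H ⊓ K) => χ c) = (eK : ℂ) • ξC := by
    funext c
    exact congrFun hresK ⟨c, c.2.2⟩
  have h1 : classInner φ (fun c : ↥(H ⊓ K) => χ c) = (eK : ℂ) * eK := by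
    rw [hχC, classInner_smul_right, hI, Complex.conj_natCast]
  have h2 : classInner φ (fun c : ↥(H ⊓ K) => χ c) = (eC : ℂ) * (if φ = φ' then 1 else 0) := by
    rw [hresC, classInner_smul_right, irr_orthogonality hφ hφ', Complex.conj_natCast]
  have hφφ' : φ = φ' := by
    by_contra hne
    rw [h1, if_neg hne, mul_zero] at h2
    exact heK0 (mul_self_eq_zero.mp h2)
  rw [h1, if_pos hφφ', mul_one] at h2
  have heC : eC = eK * eK := by exact_mod_cast h2.symm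
  -- degrees
  have hϑ1 : ϑ 1 ≠ 0 := Cfsg.Agent.Helper23.irr_one_ne_zero ϑ hϑ
  have hdeg1 : χ 1 = (H.index : ℂ) * ϑ 1 := indFun_one H ϑ
  have hdeg2 : χ 1 = (eC : ℂ) * ϑ 1 := by
    have h3 := congrFun hresC 1
    rw [← hφφ'] at h3
    exact h3
  have heC' : eC = H.index := by
    have h3 : (eC : ℂ) * ϑ 1 = (H.index : ℂ) * ϑ 1 := by rw [← hdeg1, ← hdeg2]
    exact_mod_cast mul_right_cancel₀ hϑ1 h3
  constructor
  · rw [← index_eq_relIndex_of_sup_eq_top H K hsup, ← heC', heC, sq]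
  · have h3 : (eK : ℂ) • ξC = (eK : ℂ) • ((eK : ℂ) • φ) := by
      rw [← hχC, hresC, ← hφφ', heC, smul_smul]
      push_cast
      rfl
    funext c
    have h4 := congrFun h3 c
    simp only [Pi.smul_apply, smul_eq_mul] at h4 ⊢
    exact mul_left_cancel₀ heK0 h4

end InnerInf

section GroupLemmas

variable {G : Type u} [Group G]

/-- A subgroup normalized by two subgroups generating `G` is normal. -/
theorem normal_of_sup_eq_top (S A B : Subgroup G)
    (hA : ∀ a ∈ A, ∀ s ∈ S, a * s * a⁻¹ ∈ S) (hB : ∀ b ∈ B, ∀ s ∈ S, b * s * b⁻¹ ∈ S)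
    (h : A ⊔ B = ⊤) : S.Normal := by
  rw [← Subgroup.normalizer_eq_top_iff, eq_top_iff, ← h]
  have key : ∀ X : Subgroup G, (∀ a ∈ X, ∀ s ∈ S, a * s * a⁻¹ ∈ S) → X ≤ Subgroup.normalizer (S : Set G) := by
    intro X hX a ha
    rw [Subgroup.mem_normalizer_iff]
    intro s
    constructor
    · exact hX a ha s
    · intro hs
      have := hX a⁻¹ (X.inv_mem ha) _ hs
      simpa [mul_assoc] using this
  exact sup_le (key A hA) (key B hB)

variable [Finite G]

/-- A chief factor above a proper normal subgroup with solvable quotient. -/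
theorem exists_chief_above (C : Subgroup G) [hC : C.Normal] (hsolv : Group.IsSolvable (G ⧸ C))
    (hne : C ≠ ⊤) :
    ∃ K : Subgroup G, K.Normal ∧ C < K ∧ ⁅K, K⁆ ≤ C ∧
      ∀ X : Subgroup G, X.Normal → C ≤ X → X ≤ K → X = C ∨ X = K := by
  classical
  let S := {K : Subgroup G // K.Normal ∧ C < K}
  haveI : Nonempty S := ⟨⟨⊤, inferInstance, lt_top_iff_ne_top.2 hne⟩⟩
  haveI : Finite S := Subtype.finite
  obtain ⟨K₀, hK₀⟩ := Finite.exists_min (fun K : S => Nat.card (K.1 : Subgroup G))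
  obtain ⟨K, hKn, hCK⟩ := K₀
  haveI := hKn
  have hchief : ∀ X : Subgroup G, X.Normal → C ≤ X → X ≤ K → X = C ∨ X = K := by
    intro X hX hCX hXK
    rcases eq_or_lt_of_le hCX with h | h
    · exact Or.inl h.symm
    · right
      have h1 : Nat.card K ≤ Nat.card X := hK₀ ⟨X, hX, h⟩
      exact Subgroup.eq_of_le_of_card_ge hXK h1
  refine ⟨K, hKn, hCK, ?_, hchief⟩
  have h0 := commutator_sup_lt C K hsolv hCK
  have hn : (⁅K, K⁆ ⊔ C).Normal := inferInstance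
  rcases hchief (⁅K, K⁆ ⊔ C) hn le_sup_right h0.le with h | h
  · rw [← h]
    exact le_sup_left
  · exact absurd h (ne_of_lt h0)

/-- Two successive `p`-chief factors: the lower one is central in the upper group modulo `C`. -/
theorem commutator_le_of_pgroup_chief (p : ℕ) [hp : Fact p.Prime] (C K M : Subgroup G)
    [hC : C.Normal] [hK : K.Normal] [hM : M.Normal] (hCK : C < K) (hKM : K ≤ M)
    (hchief : ∀ X : Subgroup G, X.Normal → C ≤ X → X ≤ K → X = C ∨ X = K)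
    (hKC : ∃ a : ℕ, C.relIndex K = p ^ a) (hMK : ∃ b : ℕ, K.relIndex M = p ^ b) :
    ∀ k ∈ K, ∀ m ∈ M, ⁅k, m⁆ ∈ C := by
  classical
  obtain ⟨a, ha⟩ := hKC
  obtain ⟨b, hb⟩ := hMK
  let π := QuotientGroup.mk' C
  let Mb : Subgroup (G ⧸ C) := M.map π
  let Kb : Subgroup (G ⧸ C) := K.map π
  haveI hMbn : Mb.Normal := hM.map π (QuotientGroup.mk'_surjective C)
  haveI hKbn : Kb.Normal := hK.map π (QuotientGroup.mk'_surjective C)
  -- powers
  have hpowK : ∀ k ∈ K, k ^ (p ^ a) ∈ C := by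
    intro k hk
    haveI : (C.subgroupOf K).Normal := Subgroup.Normal.subgroupOf hC K
    have h1 := Subgroup.pow_index_mem (C.subgroupOf K) (⟨k, hk⟩ : ↥K)
    have h2 : (C.subgroupOf K).index = p ^ a := ha
    rw [h2] at h1
    exact h1
  have hpowM : ∀ m ∈ M, m ^ (p ^ b) ∈ K := by
    intro m hm
    haveI : (K.subgroupOf M).Normal := Subgroup.Normal.subgroupOf hK M
    have h1 := Subgroup.pow_index_mem (K.subgroupOf M) (⟨m, hm⟩ : ↥M)
    have h2 : (K.subgroupOf M).index = p ^ b := hb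
    rw [h2] at h1
    exact h1
  have hMbp : IsPGroup p Mb := by
    rintro ⟨x, hx⟩
    obtain ⟨m, hm, rfl⟩ := hx
    refine ⟨b + a, ?_⟩
    apply Subtype.ext
    show (π m) ^ (p ^ (b + a)) = 1
    rw [← map_pow, pow_add, pow_mul]
    exact (QuotientGroup.eq_one_iff _).2 (hpowK _ (hpowM m hm))
  let Kb' : Subgroup ↥Mb := Kb.subgroupOf Mb
  haveI : Kb'.Normal := Subgroup.Normal.subgroupOf hKbn Mb
  obtain ⟨k₀, hk₀K, hk₀C⟩ := SetLike.exists_of_lt hCK
  have hKb' : Kb' ≠ ⊥ := by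
    intro h
    have h1 : (⟨π k₀, ⟨k₀, hKM hk₀K, rfl⟩⟩ : ↥Mb) ∈ Kb' := by
      show π k₀ ∈ Kb
      exact ⟨k₀, hk₀K, rfl⟩
    rw [h, Subgroup.mem_bot] at h1
    have h2 : π k₀ = 1 := congrArg Subtype.val h1
    exact hk₀C ((QuotientGroup.eq_one_iff _).1 h2)
  have hcen := Cfsg.Agent.Helper19.normal_inf_center_ne_bot hMbp Kb' hKb'
  obtain ⟨⟨⟨zb, hzbM⟩, hzmem⟩, hzne⟩ := (Subgroup.ne_bot_iff_exists_ne_one).1 hcen
  have hzK : zb ∈ Kb := hzmem.1
  have hzcen : ∀ y ∈ Mb, y * zb = zb * y := by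
    intro y hy
    have h1 := (Subgroup.mem_center_iff.1 hzmem.2) ⟨y, hy⟩
    exact congrArg Subtype.val h1
  have hzb1 : zb ≠ 1 := by
    intro h
    apply hzne
    apply Subtype.ext
    apply Subtype.ext
    exact h
  obtain ⟨z₀, hz₀K, rfl⟩ := hzK
  -- the central part of `K` modulo `C`
  let Y : Subgroup G := K ⊓ (Subgroup.centralizer (Mb : Set (G ⧸ C))).comap π
  have hYn : Y.Normal := by
    haveI : (Subgroup.centralizer (Mb : Set (G ⧸ C))).Normal := Subgroup.normal_centralizer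
    haveI : ((Subgroup.centralizer (Mb : Set (G ⧸ C))).comap π).Normal :=
      Subgroup.Normal.comap inferInstance π
    exact Subgroup.normal_inf_normal _ _
  have hCY : C ≤ Y := by
    intro c hc
    refine Subgroup.mem_inf.2 ⟨hCK.le hc, Subgroup.mem_comap.2 ?_⟩
    rw [Subgroup.mem_centralizer_iff]
    intro y _
    have : π c = 1 := (QuotientGroup.eq_one_iff _).2 hc
    rw [this, mul_one, one_mul]
  have hz₀Y : z₀ ∈ Y := by
    refine Subgroup.mem_inf.2 ⟨hz₀K, Subgroup.mem_comap.2 ?_⟩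
    rw [Subgroup.mem_centralizer_iff]
    intro y hy
    exact hzcen y hy
  have hYK : Y = K := by
    rcases hchief Y hYn hCY inf_le_left with h | h
    · exfalso
      rw [h] at hz₀Y
      exact hzb1 ((QuotientGroup.eq_one_iff _).2 hz₀Y)
    · exact h
  intro k hk m hm
  have hkY : k ∈ Y := by rw [hYK]; exact hk
  have h1 := Subgroup.mem_comap.1 (Subgroup.mem_inf.1 hkY).2
  rw [Subgroup.mem_centralizer_iff] at h1
  have h2 := h1 (π m) ⟨m, hm, rfl⟩
  rw [← QuotientGroup.eq_one_iff (N := C), commutatorElement_def]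
  show π (k * m * k⁻¹ * m⁻¹) = 1
  rw [map_mul, map_mul, map_mul, map_inv, map_inv, ← h2]
  group

end GroupLemmas

section CosetSum

variable {G : Type u} [Group G] [Fintype G]

/-- Isaacs, Lemma 8.14: if `ζ ∈ Irr(M)` restricts irreducibly to `N ⊴ M`, then
`Σ_{n ∈ N} |ζ(n g)|² = |N|` for every `g ∈ M`. -/
theorem coset_sum_normSq (N M : Subgroup G) (hNM : N ≤ M)
    (hnorm : ∀ m ∈ M, ∀ n ∈ N, m * n * m⁻¹ ∈ N) [Fintype N] [Fintype M] {ζ : M → ℂ}
    (hζ : IsIrrCharacter M ζ) (hζN : IsIrrCharacter N (fun n : N => ζ ⟨n, hNM n.2⟩)) (g : M) :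
    ∑ n : N, Complex.normSq (ζ (⟨n, hNM n.2⟩ * g)) = (Nat.card N : ℝ) := by
  classical
  let N' : Subgroup ↥M := N.subgroupOf M
  haveI : N'.Normal := ⟨fun n hn m => hnorm m.1 m.2 n.1 hn⟩
  letI : Fintype ↥N' := Fintype.ofFinite _
  let iso : ↥N' ≃* ↥N := Subgroup.subgroupOfEquivOfLe hNM
  have hζN' : IsIrrCharacter ↥N' (fun n : N' => ζ n) := isIrrCharacter_comp_equiv iso hζN
  have h68 := (Cfsg.Agent.S0868.result N' ζ hζ hζN' ζ hζ _ rfl).2.2 rfl
  have h1 := congrFun h68 g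
  have hN0 : (Nat.card ↥N' : ℂ) ≠ 0 := by exact_mod_cast (Nat.card_pos (α := ↥N')).ne'
  have h2 : ∑ n : N', ζ ((n : ↥M) * g) * conj (ζ ((n : ↥M) * g)) = (Nat.card ↥N' : ℂ) := by
    have h3 : (Nat.card ↥N' : ℂ)⁻¹ * ∑ n : N', ζ ((n : ↥M) * g) * conj (ζ ((n : ↥M) * g)) = 1 := h1
    field_simp at h3
    exact h3
  have h4 : ∑ n : N', ζ ((n : ↥M) * g) * conj (ζ ((n : ↥M) * g)) =
      ∑ n : N, ζ (⟨n, hNM n.2⟩ * g) * conj (ζ (⟨n, hNM n.2⟩ * g)) :=
    Fintype.sum_equiv iso.toEquiv _ _ (fun n => rfl)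
  rw [h4, Nat.card_congr iso.toEquiv] at h2
  have h5 : ((∑ n : N, Complex.normSq (ζ (⟨n, hNM n.2⟩ * g)) : ℝ) : ℂ) = ((Nat.card N : ℝ) : ℂ) := by
    push_cast
    rw [← h2]
    refine Finset.sum_congr rfl (fun n _ => ?_)
    rw [Complex.mul_conj]
  exact_mod_cast h5

/-- The coset-sum contradiction: an extension `ζ` of a character of `K` cannot restrict to a
multiple `e φ̂` (with `e² |C| = |K|`) of an extension `φ̂` over `D` when `D` does not centralize
`K / C`. -/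
theorem coset_contra (C K D M : Subgroup G) [hCn : C.Normal] [hKn : K.Normal]
    (hCK : C ≤ K) (hKM : K ≤ M) (hCD : C ≤ D) (hDM : D ≤ M)
    [Fintype C] [Fintype K] [Fintype D] [Fintype M]
    {ζ : M → ℂ} (hζ : IsIrrCharacter M ζ)
    (hζK : IsIrrCharacter K (fun k : K => ζ ⟨k, hKM k.2⟩))
    {φh : D → ℂ} (hφh : IsIrrCharacter D φh)
    (hφhC : IsIrrCharacter C (fun c : C => φh ⟨c, hCD c.2⟩))
    (e : ℕ) (hζD : (fun d : D => ζ ⟨d, hDM d.2⟩) = (e : ℂ) • φh)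
    (hcard : e ^ 2 * Nat.card C = Nat.card K)
    (k₀ d₀ : G) (hk₀ : k₀ ∈ K) (hd₀ : d₀ ∈ D) (ht : ⁅k₀, d₀⁆ ∉ C) : False := by
  classical
  have hcf := isClassFunction_of_isIrrCharacter hζ
  let g : M := ⟨d₀, hDM hd₀⟩
  let f : K → ℝ := fun k => Complex.normSq (ζ (⟨k, hKM k.2⟩ * g))
  have hS1 : ∑ k : K, f k = (Nat.card K : ℝ) :=
    coset_sum_normSq K M hKM (fun m _ n hn => hKn.conj_mem n hn m) hζ hζK g
  set t : G := ⁅k₀, d₀⁆ with htdef
  have htK : t ∈ K := by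
    rw [htdef, commutatorElement_def]
    have h1 : k₀ * d₀ * k₀⁻¹ * d₀⁻¹ = k₀ * (d₀ * k₀⁻¹ * d₀⁻¹) := by group
    rw [h1]
    exact K.mul_mem hk₀ (hKn.conj_mem _ (K.inv_mem hk₀) d₀)
  let ι₁ : C → K := fun c => ⟨c, hCK c.2⟩
  let ι₂ : C → K := fun c => ⟨c * t, K.mul_mem (hCK c.2) htK⟩
  have hι₁ : Function.Injective ι₁ := by
    intro a b hab
    apply Subtype.ext
    exact congrArg (fun x : K => (x : G)) hab
  have hι₂ : Function.Injective ι₂ := by
    intro a b hab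
    apply Subtype.ext
    have h1 : (a : G) * t = b * t := congrArg (fun x : K => (x : G)) hab
    exact mul_right_cancel h1
  let A : Finset K := Finset.univ.image ι₁
  let B : Finset K := Finset.univ.image ι₂
  have hdisj : Disjoint A B := by
    rw [Finset.disjoint_left]
    intro x hxA hxB
    obtain ⟨a, -, rfl⟩ := Finset.mem_image.1 hxA
    obtain ⟨b, -, hb⟩ := Finset.mem_image.1 hxB
    have h1 : (b : G) * t = a := congrArg (fun x : K => (x : G)) hb
    apply ht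
    have h2 : t = (b : G)⁻¹ * a := by rw [← h1]; group
    rw [h2]
    exact C.mul_mem (C.inv_mem b.2) a.2
  have hle : ∑ k ∈ A ∪ B, f k ≤ ∑ k : K, f k :=
    Finset.sum_le_sum_of_subset_of_nonneg (Finset.subset_univ _)
      (fun k _ _ => Complex.normSq_nonneg _)
  rw [Finset.sum_union hdisj, Finset.sum_image (fun a _ b _ h => hι₁ h),
    Finset.sum_image (fun a _ b _ h => hι₂ h)] at hle
  -- the first sum
  have hSC : ∑ c : C, Complex.normSq (φh (⟨c, hCD c.2⟩ * ⟨d₀, hd₀⟩)) = (Nat.card C : ℝ) :=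
    coset_sum_normSq C D hCD (fun m _ n hn => hCn.conj_mem n hn m) hφh hφhC ⟨d₀, hd₀⟩
  have hfirst : ∑ c : C, f (ι₁ c) = (Nat.card K : ℝ) := by
    have h1 : ∀ c : C, f (ι₁ c) = (e : ℝ) ^ 2 * Complex.normSq (φh (⟨c, hCD c.2⟩ * ⟨d₀, hd₀⟩)) := by
      intro c
      have h2 := congrFun hζD (⟨c, hCD c.2⟩ * ⟨d₀, hd₀⟩)
      show Complex.normSq (ζ (⟨c, hKM (hCK c.2)⟩ * g)) = _
      have h3 : (⟨c, hKM (hCK c.2)⟩ * g : M) =
          ⟨((⟨c, hCD c.2⟩ * ⟨d₀, hd₀⟩ : D) : G), hDM (⟨c, hCD c.2⟩ * ⟨d₀, hd₀⟩ : D).2⟩ := rfl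
      rw [h3, h2, Pi.smul_apply, smul_eq_mul, Complex.normSq_mul, Complex.normSq_natCast]
      ring
    rw [Finset.sum_congr rfl (fun c _ => h1 c), ← Finset.mul_sum, hSC]
    exact_mod_cast hcard
  -- the second sum
  have hsecond : ∑ c : C, f (ι₂ c) = (Nat.card K : ℝ) := by
    let σ : C ≃ C := (MulAut.conjNormal k₀⁻¹ : MulAut C).toEquiv
    have hσ : ∀ c : C, ((σ c : C) : G) = k₀⁻¹ * c * k₀ := by
      intro c
      show k₀⁻¹ * (c : G) * k₀⁻¹⁻¹ = _
      rw [inv_inv]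
    have h1 : ∀ c : C, f (ι₂ c) = f (ι₁ (σ c)) := by
      intro c
      have hm : k₀⁻¹ * (c : G) * k₀ * d₀ ∈ M :=
        M.mul_mem (hKM (K.mul_mem (K.mul_mem (K.inv_mem hk₀) (hCK c.2)) hk₀)) (hDM hd₀)
      have h2 := hcf ⟨k₀⁻¹ * (c : G) * k₀ * d₀, hm⟩ ⟨k₀, hKM hk₀⟩
      have hR : ((⟨((σ c : C) : G), hKM (hCK (σ c).2)⟩ : M) * g) =
          ⟨k₀⁻¹ * (c : G) * k₀ * d₀, hm⟩ := by
        apply Subtype.ext
        show ((σ c : C) : G) * d₀ = k₀⁻¹ * (c : G) * k₀ * d₀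
        rw [hσ]
      have hL : ((⟨(c : G) * t, hKM (K.mul_mem (hCK c.2) htK)⟩ : M) * g) =
          ⟨k₀, hKM hk₀⟩ * ⟨k₀⁻¹ * (c : G) * k₀ * d₀, hm⟩ * (⟨k₀, hKM hk₀⟩ : M)⁻¹ := by
        apply Subtype.ext
        show (c : G) * t * d₀ = k₀ * (k₀⁻¹ * (c : G) * k₀ * d₀) * k₀⁻¹
        rw [htdef, commutatorElement_def]
        group
      show Complex.normSq (ζ ((⟨(c : G) * t, hKM (K.mul_mem (hCK c.2) htK)⟩ : M) * g)) =
        Complex.normSq (ζ ((⟨((σ c : C) : G), hKM (hCK (σ c).2)⟩ : M) * g))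
      rw [hL, hR, h2]
    rw [Finset.sum_congr rfl (fun c _ => h1 c), Equiv.sum_comp σ (fun c => f (ι₁ c))]
    exact hfirst
  rw [hfirst, hsecond, hS1] at hle
  have hpos : (0 : ℝ) < Nat.card K := by exact_mod_cast (Nat.card_pos (α := K))
  linarith

end CosetSum

section CharLemmas

variable {K : Type u} [Group K] [Fintype K]

/-- A character whose restriction to a subgroup is irreducible is irreducible. -/
theorem irr_of_restrict_irr (B : Subgroup K) [Fintype B] {ψ : K → ℂ} (hψ : IsCharacter K ψ)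
    (h : IsIrrCharacter B (fun b : B => ψ b)) : IsIrrCharacter K ψ := by
  classical
  letI := irrFintype (G := K)
  letI := irrFintype (G := ↥B)
  have hψ0 : ψ ≠ 0 := by
    intro h0
    have h1 : (fun b : B => ψ b) 1 = 0 := by rw [h0]; rfl
    exact Cfsg.Agent.Helper23.irr_one_ne_zero _ h h1
  obtain ⟨α, hα, hcon⟩ := exists_constituent hψ hψ0
  obtain ⟨ρ, hρ, hdec⟩ := exists_add_of_constituent hψ hα hcon
  have hαB : IsCharacter B (fun b : B => α b) :=
    isCharacter_restrict B (isCharacter_of_isIrrCharacter hα)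
  have hρB : IsCharacter B (fun b : B => ρ b) := isCharacter_restrict B hρ
  have hsplit : (fun b : B => ψ b) = (fun b : B => α b) + (fun b : B => ρ b) := by
    funext b
    exact congrFun hdec b
  obtain ⟨a, ha⟩ := classInner_char_nat hαB hαB
  obtain ⟨m, hm⟩ := classInner_char_nat hαB hρB
  obtain ⟨c, hc⟩ := classInner_char_nat hρB hρB
  have hm' : classInner (fun b : B => ρ b) (fun b : B => α b) = m := by
    rw [classInner_char_comm hρB hαB, hm]
  have h1 := irr_orthogonality h h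
  rw [if_pos rfl, hsplit, classInner_add_left, classInner_add_right, classInner_add_right, ha, hm,
    hm', hc] at h1
  have h1N : a + m + (m + c) = 1 := by exact_mod_cast h1
  have ha0 : a ≠ 0 := by
    rintro rfl
    rw [Nat.cast_zero] at ha
    have h0 := classInner_self_eq_zero ha
    have h2 : α 1 = 0 := congrFun h0 1
    exact Cfsg.Agent.Helper23.irr_one_ne_zero α hα h2
  have hc0 : c = 0 := by omega
  rw [hc0, Nat.cast_zero] at hc
  have h0 := classInner_self_eq_zero hc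
  have hρ1 : ρ 1 = 0 := congrFun h0 1
  have hρ0 : ρ = 0 := char_eq_zero_of_one_eq_zero hρ hρ1
  rw [hdec, hρ0, add_zero]
  exact hα

/-- A character containing an irreducible `α` with multiplicity `m` and of degree `m α(1)` equals
`m α`. -/
theorem eq_smul_of_inner_of_degree [Fintype (IrrCharacter K)] {α : K → ℂ}
    (hα : IsIrrCharacter K α) :
    ∀ (m : ℕ) {ψ : K → ℂ}, IsCharacter K ψ → classInner ψ α = m → ψ 1 = (m : ℂ) * α 1 →
      ψ = (m : ℂ) • α := by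
  intro m
  induction m with
  | zero =>
    intro ψ hψ _ hdeg
    rw [Nat.cast_zero, zero_mul] at hdeg
    rw [Nat.cast_zero, zero_smul]
    exact char_eq_zero_of_one_eq_zero hψ hdeg
  | succ m ih =>
    intro ψ hψ hin hdeg
    have hcon : classInner ψ α ≠ 0 := by
      rw [hin]
      exact_mod_cast Nat.succ_ne_zero m
    obtain ⟨ρ, hρ, hdec⟩ := exists_add_of_constituent hψ hα hcon
    have hαα : classInner α α = 1 := by rw [irr_orthogonality hα hα, if_pos rfl]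
    have h1 : classInner ρ α = m := by
      rw [hdec, classInner_add_left, hαα] at hin
      push_cast at hin
      linear_combination hin
    have h2 : ρ 1 = (m : ℂ) * α 1 := by
      rw [hdec, Pi.add_apply] at hdeg
      push_cast at hdeg
      linear_combination hdeg
    rw [hdec, ih hρ h1 h2]
    push_cast
    rw [add_smul, one_smul, add_comm]

end CharLemmas

section MainMax

variable {G : Type u} [Group G]

theorem isSolvable_quotient_of_le (L C : Subgroup G) [L.Normal] [C.Normal] (hLC : L ≤ C)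
    (h : Group.IsSolvable (G ⧸ L)) : Group.IsSolvable (G ⧸ C) := by
  haveI := h
  let f : G ⧸ L →* G ⧸ C := QuotientGroup.map L C (MonoidHom.id G) (fun x hx => hLC hx)
  have hf : Function.Surjective f := by
    intro y
    obtain ⟨g, rfl⟩ := QuotientGroup.mk_surjective y
    exact ⟨QuotientGroup.mk g, rfl⟩
  exact Group.isSolvable_of_surjective hf

variable [Fintype G]

/-- Isaacs, Lemma 11.32. -/
theorem exists_inhomogeneous (L H : Subgroup G) [hL : L.Normal] (hLH : L ≤ H) (hmax : IsCoatom H)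
    (hsolv : Group.IsSolvable (G ⧸ L)) (ϑ : H → ℂ) (hϑ : IsIrrCharacter H ϑ)
    (hϑL : IsIrrCharacter L (fun x : L => ϑ ⟨(x : G), hLH x.2⟩))
    (hind : IsIrrCharacter G (indFun H ϑ)) :
    ∃ M : Subgroup G, M.Normal ∧ L ≤ M ∧ ¬ ∃ (φ : M → ℂ) (e : ℕ), IsIrrCharacter M φ ∧
      (fun m : M => indFun H ϑ m) = (e : ℂ) • φ := by
  classical
  by_contra hcon
  push_neg at hcon
  have hq : ∀ M : Subgroup G, M.Normal → L ≤ M → ∃ (φ : M → ℂ) (e : ℕ), IsIrrCharacter M φ ∧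
      (fun m : M => indFun H ϑ m) = (e : ℂ) • φ := by
    intro M hM hLM
    by_contra h
    exact h (hcon M hM hLM)
  set χ := indFun H ϑ with hχdef
  have hϑc := isCharacter_of_isIrrCharacter hϑ
  have hϑ1 : ϑ 1 ≠ 0 := Cfsg.Agent.Helper23.irr_one_ne_zero ϑ hϑ
  have hχ1 : χ 1 ≠ 0 := Cfsg.Agent.Helper23.irr_one_ne_zero χ hind
  letI : Fintype H := Fintype.ofFinite H
  letI : Fintype L := Fintype.ofFinite L
  -- the core
  have hC₀H : H.normalCore ≤ H := Subgroup.normalCore_le H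
  have hLC₀ : L ≤ H.normalCore := Subgroup.normal_le_normalCore.2 hLH
  have hsolvC : Group.IsSolvable (G ⧸ H.normalCore) :=
    isSolvable_quotient_of_le L H.normalCore hLC₀ hsolv
  have hC₀top : H.normalCore ≠ ⊤ := by
    intro h
    apply hmax.1
    rw [eq_top_iff, ← h]
    exact hC₀H
  obtain ⟨K, hKn, hC₀K, habK, hchiefK⟩ := exists_chief_above H.normalCore hsolvC hC₀top
  haveI := hKn
  have hKH : ¬ K ≤ H := by
    intro h
    exact (not_le_of_gt hC₀K) (Subgroup.normal_le_normalCore.2 h)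
  have hsup : H ⊔ K = ⊤ := by
    apply hmax.2
    refine lt_of_le_of_ne le_sup_left ?_
    intro h
    apply hKH
    rw [h]
    exact le_sup_right
  have hinfn : (H ⊓ K).Normal := by
    apply normal_of_sup_eq_top (H ⊓ K) H K ?_ ?_ hsup
    · intro a ha s hs
      exact ⟨H.mul_mem (H.mul_mem ha hs.1) (H.inv_mem ha), hKn.conj_mem s hs.2 a⟩
    · intro b hb s hs
      have h1 : b * s * b⁻¹ = ⁅b, s⁆ * s := by rw [commutatorElement_def]; group
      rw [h1]
      have h2 : ⁅b, s⁆ ∈ H.normalCore := habK (Subgroup.commutator_mem_commutator hb hs.2)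
      exact (H ⊓ K).mul_mem ⟨hC₀H h2, hC₀K.le h2⟩ hs
  have hinf : H ⊓ K = H.normalCore := by
    apply le_antisymm
    · haveI := hinfn
      exact Subgroup.normal_le_normalCore.2 inf_le_left
    · exact le_inf hC₀H hC₀K.le
  haveI := hinfn
  rw [← hinf] at hC₀K habK hchiefK hLC₀
  letI : Fintype K := Fintype.ofFinite K
  letI : Fintype ↥(H ⊓ K) := Fintype.ofFinite _
  -- `φ = ϑ_C` is irreducible
  have hirr_of : ∀ D : Subgroup G, ∀ hDH : D ≤ H, L ≤ D → ∀ [Fintype D],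
      IsIrrCharacter D (fun d : D => ϑ ⟨d, hDH d.2⟩) := by
    intro D hDH hLD _
    let B : Subgroup ↥D := L.subgroupOf D
    letI : Fintype ↥B := Fintype.ofFinite _
    let iso : ↥B ≃* ↥L := Subgroup.subgroupOfEquivOfLe hLD
    have h1 : IsCharacter D (fun d : D => ϑ ⟨d, hDH d.2⟩) :=
      isCharacter_comp (Subgroup.inclusion hDH) hϑc
    apply irr_of_restrict_irr B h1
    exact isIrrCharacter_comp_equiv iso hϑL
  have hφ : IsIrrCharacter ↥(H ⊓ K) (fun c : ↥(H ⊓ K) => ϑ ⟨c, c.2.1⟩) :=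
    hirr_of (H ⊓ K) inf_le_left hLC₀
  obtain ⟨ξ, eK, hξ, hresK⟩ := hq K hKn (hLC₀.trans inf_le_right)
  obtain ⟨φ', eC, hφ', hresC⟩ := hq (H ⊓ K) hinfn hLC₀
  obtain ⟨heK, hξC⟩ := ramified_of_complement H K hsup ϑ hϑ hφ hind hξ eK hresK hφ' eC hresC
  have heK0 : eK ≠ 0 := by
    rintro rfl
    have h1 := congrFun hresK 1
    rw [Nat.cast_zero, zero_smul] at h1
    exact hχ1 h1
  -- `K ≠ ⊤`
  have hKtop : K ≠ ⊤ := by
    intro hK
    have hHn : H.Normal := by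
      have : H ⊓ K = H := by rw [hK, inf_top_eq]
      rw [← this]
      exact hinfn
    obtain ⟨φH, eH, hφH, hresH⟩ := hq H hHn hLH
    have hcf := isClassFunction_of_isIrrCharacter hind
    have h1 : classInner ϑ (fun h : H => χ h) = 1 := by
      rw [← frobenius_reciprocity H ϑ hcf, irr_orthogonality hind hind, if_pos rfl]
    rw [hresH, classInner_smul_right, irr_orthogonality hϑ hφH, Complex.conj_natCast] at h1
    have hϑφ : ϑ = φH := by
      by_contra hne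
      rw [if_neg hne, mul_zero] at h1
      exact zero_ne_one h1
    rw [if_pos hϑφ, mul_one] at h1
    have h2 := congrFun hresH 1
    rw [h1, one_smul, ← hϑφ] at h2
    have h3 : χ 1 = (H.index : ℂ) * ϑ 1 := indFun_one H ϑ
    have h4 : (H.index : ℂ) * ϑ 1 = 1 * ϑ 1 := by rw [← h3, one_mul]; exact h2
    have h5 : (H.index : ℂ) = 1 := mul_right_cancel₀ hϑ1 h4
    have h6 : H.index = 1 := by exact_mod_cast h5
    exact hmax.1 (Subgroup.index_eq_one.1 h6)
  -- the next chief factor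
  have hsolvK : Group.IsSolvable (G ⧸ K) :=
    isSolvable_quotient_of_le L K (hLC₀.trans inf_le_right) hsolv
  obtain ⟨M, hMn, hKM, habM, hchiefM⟩ := exists_chief_above K hsolvK hKtop
  haveI := hMn
  letI : Fintype M := Fintype.ofFinite M
  letI : Fintype ↥(H ⊓ M) := Fintype.ofFinite _
  have hsupM : H ⊔ M = ⊤ := by
    rw [eq_top_iff, ← hsup]
    exact sup_le_sup_left hKM.le H
  have hCD : H ⊓ K ≤ H ⊓ M := inf_le_inf_left H hKM.le
  obtain ⟨ζ, eM, hζ, hresM⟩ := hq M hMn ((hLC₀.trans inf_le_right).trans hKM.le)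
  have hIM := inner_restrict_inf H M hsupM ϑ hind hζ eM hresM
  have hφh : IsIrrCharacter ↥(H ⊓ M) (fun d : ↥(H ⊓ M) => ϑ ⟨d, d.2.1⟩) :=
    hirr_of (H ⊓ M) inf_le_left (hLC₀.trans hCD)
  have heM0 : eM ≠ 0 := by
    rintro rfl
    have h1 := congrFun hresM 1
    rw [Nat.cast_zero, zero_smul] at h1
    exact hχ1 h1
  -- noncentral action
  have hF : ∃ k₀ ∈ K, ∃ d₀ ∈ H ⊓ M, ⁅k₀, d₀⁆ ∉ H ⊓ K := by
    by_contra hno
    push_neg at hno
    have hDn : (H ⊓ M).Normal := by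
      apply normal_of_sup_eq_top (H ⊓ M) H K ?_ ?_ hsup
      · intro a ha s hs
        exact ⟨H.mul_mem (H.mul_mem ha hs.1) (H.inv_mem ha), hMn.conj_mem s hs.2 a⟩
      · intro b hb s hs
        have h1 : b * s * b⁻¹ = ⁅b, s⁆ * s := by rw [commutatorElement_def]; group
        rw [h1]
        exact (H ⊓ M).mul_mem (hCD (hno b hb s hs)) hs
    have hDC : H ⊓ M ≤ H ⊓ K := by
      rw [hinf]
      haveI := hDn
      exact Subgroup.normal_le_normalCore.2 inf_le_left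
    apply not_le_of_gt hKM
    intro m hm
    have hm' : m ∈ ((H ⊔ K : Subgroup G) : Set G) := by rw [hsup]; trivial
    rw [Subgroup.mul_normal H K] at hm'
    obtain ⟨h, hh, k, hk, rfl⟩ := Set.mem_mul.1 hm'
    have hhM : h ∈ M := by
      have : h = h * k * k⁻¹ := by group
      rw [this]
      exact M.mul_mem hm (M.inv_mem (hKM.le hk))
    exact K.mul_mem (hDC ⟨hh, hhM⟩).2 hk
  obtain ⟨k₀, hk₀, d₀, hd₀, ht⟩ := hF
  -- primes
  obtain ⟨p, a, hp, hpa⟩ := relIndex_prime_pow_of_chief (H ⊓ K) K hC₀K habK hchiefK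
  obtain ⟨q, b, hq', hqb⟩ := relIndex_prime_pow_of_chief K M hKM habM hchiefM
  have hpq : p ≠ q := by
    rintro rfl
    haveI : Fact p.Prime := ⟨hp⟩
    exact ht (commutator_le_of_pgroup_chief p (H ⊓ K) K M hC₀K hKM.le hchiefK ⟨a, hpa⟩ ⟨b, hqb⟩
      k₀ hk₀ d₀ hd₀.2)
  -- `ζ_K = ξ`
  let K' : Subgroup ↥M := K.subgroupOf M
  haveI hK'n : K'.Normal := Subgroup.Normal.subgroupOf hKn M
  letI : Fintype ↥K' := Fintype.ofFinite _
  let isoK : ↥K' ≃* ↥K := Subgroup.subgroupOfEquivOfLe hKM.le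
  let ζK : K → ℂ := fun k => ζ ⟨k, hKM.le k.2⟩
  have hζKeq : (eM : ℂ) • ζK = (eK : ℂ) • ξ := by
    rw [← hresK]
    funext k
    have := congrFun hresM ⟨k, hKM.le k.2⟩
    exact this.symm
  have hξξ : classInner ξ ξ = 1 := by rw [irr_orthogonality hξ hξ, if_pos rfl]
  have hζKξ : classInner ζK ξ ≠ 0 := by
    intro h0
    have h1 : classInner ((eM : ℂ) • ζK) ξ = (eK : ℂ) := by
      rw [hζKeq, classInner_smul_left, hξξ, mul_one]
    rw [classInner_smul_left, h0, mul_zero] at h1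
    exact heK0 (by exact_mod_cast h1.symm)
  have hcon' : classInner (fun n : K' => ζ n) (ξ ∘ isoK) ≠ 0 := by
    have h1 : (fun n : K' => ζ n) = ζK ∘ isoK := rfl
    rw [h1, classInner_comp_equiv]
    exact hζKξ
  obtain ⟨k, hk1, hkdvd⟩ := degree_eq_mul_of_constituent K' hζ
    (isIrrCharacter_comp_equiv isoK hξ) hcon'
  have hξ1 : (ξ ∘ isoK) 1 = ξ 1 := by rw [Function.comp_apply, map_one]
  rw [hξ1] at hk1
  have hξ1ne : ξ 1 ≠ 0 := Cfsg.Agent.Helper23.irr_one_ne_zero ξ hξ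
  have hdegK : χ 1 = (eK : ℂ) * ξ 1 := congrFun hresK 1
  have hdegM : χ 1 = (eM : ℂ) * ζ 1 := congrFun hresM 1
  have hmul : eM * k = eK := by
    have h1 : ((eM * k : ℕ) : ℂ) * ξ 1 = (eK : ℂ) * ξ 1 := by
      rw [← hdegK, hdegM, hk1]
      push_cast
      ring
    exact_mod_cast mul_right_cancel₀ hξ1ne h1
  have hk_one : k = 1 := by
    have h1 : k ∣ q ^ b := by
      have : K'.index = q ^ b := hqb
      rw [← this]
      exact hkdvd
    have h2 : k ∣ p ^ a := by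
      rw [← hpa, ← heK, sq, ← hmul]
      exact ⟨eM * eM * k, by ring⟩
    have hcop : Nat.Coprime (p ^ a) (q ^ b) :=
      Nat.Coprime.pow _ _ ((Nat.coprime_primes hp hq').2 hpq)
    exact Nat.eq_one_of_dvd_coprimes hcop h2 h1
  rw [hk_one, mul_one] at hmul
  rw [hk_one, Nat.cast_one, one_mul] at hk1
  have hζKξ' : ζK = ξ := by
    rw [hmul] at hζKeq
    funext x
    have h1 := congrFun hζKeq x
    simp only [Pi.smul_apply, smul_eq_mul] at h1
    exact mul_left_cancel₀ (by exact_mod_cast heK0) h1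
  have hζKirr : IsIrrCharacter K (fun k : K => ζ ⟨k, hKM.le k.2⟩) := by
    have : (fun k : K => ζ ⟨k, hKM.le k.2⟩) = ξ := hζKξ'
    rw [this]
    exact hξ
  -- `ζ_D = e φ̂`
  letI := irrFintype (G := ↥(H ⊓ M))
  have hζDc : IsCharacter ↥(H ⊓ M) (fun d : ↥(H ⊓ M) => ζ ⟨d, d.2.2⟩) :=
    isCharacter_comp (Subgroup.inclusion (inf_le_right : H ⊓ M ≤ M))
      (isCharacter_of_isIrrCharacter hζ)
  have hζDin : classInner (fun d : ↥(H ⊓ M) => ζ ⟨d, d.2.2⟩)
      (fun d : ↥(H ⊓ M) => ϑ ⟨d, d.2.1⟩) = eK := by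
    rw [classInner_char_comm hζDc (isCharacter_of_isIrrCharacter hφh), hIM, hmul]
  have hξ1' : ξ 1 = (eK : ℂ) * ϑ 1 := by
    have := congrFun hξC 1
    exact this
  have hζDdeg : (fun d : ↥(H ⊓ M) => ζ ⟨d, d.2.2⟩) 1 =
      (eK : ℂ) * (fun d : ↥(H ⊓ M) => ϑ ⟨d, d.2.1⟩) 1 := by
    show ζ 1 = (eK : ℂ) * ϑ 1
    rw [hk1, hξ1']
  have hζD := eq_smul_of_inner_of_degree hφh eK hζDc hζDin hζDdeg
  have hcard : eK ^ 2 * Nat.card ↥(H ⊓ K) = Nat.card K := by
    rw [heK, mul_comm]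
    have := Subgroup.relIndex_mul_relIndex (⊥ : Subgroup G) (H ⊓ K) K bot_le inf_le_right
    rwa [Subgroup.relIndex_bot_left, Subgroup.relIndex_bot_left] at this
  have hφhC : IsIrrCharacter ↥(H ⊓ K)
      (fun c : ↥(H ⊓ K) => (fun d : ↥(H ⊓ M) => ϑ ⟨d, d.2.1⟩) ⟨c, hCD c.2⟩) := hφ
  exact coset_contra (H ⊓ K) K (H ⊓ M) M inf_le_right hKM.le hCD inf_le_right hζ hζKirr hφh hφhC
    eK hζD hcard k₀ d₀ hk₀ hd₀ ht

end MainMax

end Cfsg.Agent.Helper5
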