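import Mathlib
import Cfsg.Agent.Lib.Helper23.SlhDefs

/-!
# S3050, piece SLH-PCONS (helper5): the matrix of the action in the coordinates `θ`
-/

set_option autoImplicit false
set_option linter.unusedSectionVars false
set_option linter.unusedVariables false

namespace Cfsg.Agent.Helper23.Slh

open Cfsg.Agent.Helper12.NatMod

local notation "SL2" => Matrix.SpecialLinearGroup (Fin 2)

section ModuleM

variable {F : Type*} [Field F] [CharP F 2] {M : Type*} [AddCommGroup M] [DistribMulAction (SL2 F) M]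

/-- the action transported to the coordinates -/
def slh_pcons_T {W : Type*} [AddCommGroup W] (θ : M ≃+ (Fin 2 → W)) (g : SL2 F) :
    (Fin 2 → W) →+ (Fin 2 → W) :=
  θ.toAddMonoidHom.comp ((DistribSMul.toAddMonoidHom M g).comp θ.symm.toAddMonoidHom)

theorem slh_pcons_T_apply {W : Type*} [AddCommGroup W] (θ : M ≃+ (Fin 2 → W)) (g : SL2 F)
    (v : Fin 2 → W) : slh_pcons_T θ g v = θ (g • θ.symm v) := rfl

/-- the entries -/
def slh_pcons_E {W : Type*} [AddCommGroup W] (θ : M ≃+ (Fin 2 → W)) (g : SL2 F) (i j : Fin 2) :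
    AddMonoid.End W :=
  (Pi.evalAddMonoidHom (fun _ : Fin 2 => W) i).comp
    ((slh_pcons_T θ g).comp (AddMonoidHom.single (fun _ : Fin 2 => W) j))

theorem slh_pcons_E_apply {W : Type*} [AddCommGroup W] (θ : M ≃+ (Fin 2 → W)) (g : SL2 F)
    (i j : Fin 2) (x : W) :
    slh_pcons_E θ g i j x = θ (g • θ.symm (Pi.single j x)) i := rfl

theorem slh_pcons_decomp {W : Type*} [AddCommGroup W] (v : Fin 2 → W) :
    v = Pi.single 0 (v 0) + Pi.single 1 (v 1) := by
  ext i
  fin_cases i <;> simp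

/-- the action formula -/
theorem slh_pcons_act {W : Type*} [AddCommGroup W] (θ : M ≃+ (Fin 2 → W)) (g : SL2 F)
    (v : Fin 2 → W) (i : Fin 2) :
    θ (g • θ.symm v) i = slh_pcons_E θ g i 0 (v 0) + slh_pcons_E θ g i 1 (v 1) := by
  conv_lhs => rw [slh_pcons_decomp v]
  rw [map_add, smul_add, map_add, Pi.add_apply]
  rfl

/-- the matrix of the action -/
def slh_pcons_P {W : Type*} [AddCommGroup W] (θ : M ≃+ (Fin 2 → W)) :
    SL2 F →* Matrix (Fin 2) (Fin 2) (AddMonoid.End W) where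
  toFun g := Matrix.of (fun i j => slh_pcons_E θ g i j)
  map_one' := by
    ext i j x
    rw [Matrix.of_apply, slh_pcons_E_apply, one_smul, AddEquiv.apply_symm_apply]
    by_cases hij : i = j
    · subst hij
      rw [Pi.single_eq_same, Matrix.one_apply_eq]
      rfl
    · rw [Pi.single_eq_of_ne hij, Matrix.one_apply_ne hij]
      rfl
  map_mul' g h := by
    ext i j x
    rw [Matrix.mul_apply, Fin.sum_univ_two]
    simp only [Matrix.of_apply]
    show slh_pcons_E θ (g * h) i j x =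
      slh_pcons_E θ g i 0 (slh_pcons_E θ h 0 j x) + slh_pcons_E θ g i 1 (slh_pcons_E θ h 1 j x)
    rw [slh_pcons_E_apply θ h 0 j x, slh_pcons_E_apply θ h 1 j x, ← slh_pcons_act,
      AddEquiv.symm_apply_apply, slh_pcons_E_apply, mul_smul]

/-- PIECE SLH-PCONS.  The matrix of the action in the coordinates `θ`:
`P g i j = (x ↦ θ (g • θ.symm (Pi.single j x)) i)`. -/
theorem exists_P {W : Type*} [AddCommGroup W] (θ : M ≃+ (Fin 2 → W))
    (hθu : ∀ m, θ (uu (1 : F) • m) = ![θ m 0 + θ m 1, θ m 1])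
    (hθl : ∀ m, θ (ll (1 : F) • m) = ![θ m 0, θ m 0 + θ m 1])
    (hord : ∀ (c : Fˣ) (m : M), m + (uu (c : F) * ll ((c⁻¹ : Fˣ) : F)) • m +
      (uu (c : F) * ll ((c⁻¹ : Fˣ) : F)) • (uu (c : F) * ll ((c⁻¹ : Fˣ) : F)) • m = 0) :
    ∃ P : SL2 F →* Matrix (Fin 2) (Fin 2) (AddMonoid.End W),
      (∀ (g : SL2 F) (m : M) (i : Fin 2), θ (g • m) i = P g i 0 (θ m 0) + P g i 1 (θ m 1)) ∧
      P (uu 1) = !![1, 1; 0, 1] ∧ P (ll 1) = !![1, 0; 1, 1] ∧
      ∀ c : Fˣ, 1 + P (uu (c : F) * ll ((c⁻¹ : Fˣ) : F)) +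
        P (uu (c : F) * ll ((c⁻¹ : Fˣ) : F)) * P (uu (c : F) * ll ((c⁻¹ : Fˣ) : F)) = 0 := by
  have hP : ∀ (g : SL2 F) (i j : Fin 2) (x : W),
      slh_pcons_P θ g i j x = θ (g • θ.symm (Pi.single j x)) i := fun g i j x => rfl
  refine ⟨slh_pcons_P θ, ?_, ?_, ?_, ?_⟩
  · intro g m i
    have h := slh_pcons_act θ g (θ m) i
    rw [AddEquiv.symm_apply_apply] at h
    exact h
  · ext i j x
    rw [hP, hθu, AddEquiv.apply_symm_apply]
    fin_cases i <;> fin_cases j <;> simp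
  · ext i j x
    rw [hP, hθl, AddEquiv.apply_symm_apply]
    fin_cases i <;> fin_cases j <;> simp
  · intro c
    rw [← map_mul]
    ext i j x
    show (1 : Matrix (Fin 2) (Fin 2) (AddMonoid.End W)) i j x +
      slh_pcons_P θ (uu (c : F) * ll ((c⁻¹ : Fˣ) : F)) i j x +
      slh_pcons_P θ ((uu (c : F) * ll ((c⁻¹ : Fˣ) : F)) * (uu (c : F) * ll ((c⁻¹ : Fˣ) : F))) i j x
      = 0
    rw [hP, hP]
    have h1 : (1 : Matrix (Fin 2) (Fin 2) (AddMonoid.End W)) i j x =
        θ (θ.symm (Pi.single j x)) i := by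
      rw [AddEquiv.apply_symm_apply]
      by_cases hij : i = j
      · subst hij
        rw [Pi.single_eq_same, Matrix.one_apply_eq]
        rfl
      · rw [Pi.single_eq_of_ne hij, Matrix.one_apply_ne hij]
        rfl
    have h2 := hord c (θ.symm (Pi.single j x))
    rw [← mul_smul] at h2
    rw [h1, ← Pi.add_apply, ← Pi.add_apply, ← map_add, ← map_add, h2, map_zero]
    rfl

end ModuleM

end Cfsg.Agent.Helper23.Slh
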