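import Mathlib
import Cfsg.Agent.Lib.Helper23.SlhDefs

/-!
# S3050, piece SLH-GNF (helper5): core (the statements of SLH-GACT, SLH-SL2CONJ and `natural_sum` as hypotheses)
-/

set_option autoImplicit false
set_option linter.unusedSectionVars false
set_option linter.unusedVariables false
set_option linter.style.haveILetI false

namespace Cfsg.Agent.Helper23.Slh

open Cfsg.Agent.Helper12.NatMod

local notation "SL2" => Matrix.SpecialLinearGroup (Fin 2)

section PartG

variable {Γ : Type*} [Group Γ] {F : Type*} [Field F] {S : Sys Γ F}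

/-- core of SLH-GNF: `hact` = statement of `exists_action A hcomm`, `hconj` = statement of `conj_to_x0`,
`hnat` = statement of `natural_sum` for `M = Additive Q`. -/
theorem slh_gnf_core [Finite F] [CharP F 2] {Q : Type*} [Group Q] [Finite Q] (A : GGrp S Q)
    (hexp : ∀ a : Q, a * a = 1)
    (hact : ∃ inst : DistribMulAction (SL2 F) (Additive Q), ∀ (g : Γ) (y : Q),
      (letI := inst; (S.π g) • (Additive.ofMul y)) = Additive.ofMul (A.φ g y))
    (hconj : ∀ s : SL2 F, s ^ 3 = 1 → s ≠ 1 → ∃ r : SL2 F, r * s * r⁻¹ = uu 1 * ll 1)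
    (hnat : ∀ (inst : DistribMulAction (SL2 F) (Additive Q)),
      (letI := inst
       (∀ m : Additive Q, m + m = 0) →
        (∀ m : Additive Q, (uu (1 : F) * ll 1) • m = m → m = 0) →
        ∃ (k : ℕ) (φ : Additive Q ≃+ (Fin k → Fin 2 → F)), ∀ (g : SL2 F) (m : Additive Q) (i : Fin k),
          φ (g • m) i = (g : Matrix (Fin 2) (Fin 2) F).mulVec (φ m i))) :
    A.NF := by
  obtain ⟨inst, hinst⟩ := hact
  letI := inst
  have h2 : ∀ m : Additive Q, m + m = 0 := by
    intro m
    show Additive.ofMul (Additive.toMul m * Additive.toMul m) = 0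
    rw [hexp]
    rfl
  obtain ⟨r, hr⟩ := hconj (S.π S.x) S.hx3 S.hx1
  obtain ⟨ρ, hρ⟩ := S.surj r
  have hfpf : ∀ m : Additive Q, (uu (1 : F) * ll 1) • m = m → m = 0 := by
    intro m hm
    have h1 : S.π (ρ * S.x * ρ⁻¹) = uu 1 * ll 1 := by
      rw [map_mul, map_mul, map_inv, hρ, hr]
    rw [← h1] at hm
    have h3 := hinst (ρ * S.x * ρ⁻¹) (Additive.toMul m)
    have h4 : Additive.ofMul (A.φ (ρ * S.x * ρ⁻¹) (Additive.toMul m)) = m := by
      rw [← h3]
      exact hm
    have h5 : A.φ (ρ * S.x * ρ⁻¹) (Additive.toMul m) = Additive.toMul m := by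
      have := congrArg Additive.toMul h4
      simpa using this
    rw [map_mul, map_mul, MulAut.mul_apply, MulAut.mul_apply] at h5
    have h6 : A.φ S.x (A.φ ρ⁻¹ (Additive.toMul m)) = A.φ ρ⁻¹ (Additive.toMul m) := by
      have h7 := congrArg (A.φ ρ⁻¹) h5
      rw [← MulAut.mul_apply, ← map_mul, inv_mul_cancel, map_one, MulAut.one_apply] at h7
      exact h7
    have h8 := A.fpf _ h6
    have h9 : Additive.toMul m = 1 := by
      have h10 := congrArg (A.φ ρ) h8
      rw [← MulAut.mul_apply, ← map_mul, mul_inv_cancel, map_one, MulAut.one_apply, map_one] at h10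
      exact h10
    have := congrArg Additive.ofMul h9
    simpa using this
  obtain ⟨k, φ, hφ⟩ := hnat inst h2 hfpf
  refine ⟨k, AddEquiv.toMultiplicativeRight φ, ?_⟩
  intro g y i
  have h1 := hφ (S.π g) (Additive.ofMul y) i
  rw [hinst g y] at h1
  exact h1

end PartG

end Cfsg.Agent.Helper23.Slh
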