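import Mathlib
import Cfsg.Agent.Lib.Helper23.SlhDefs
import Cfsg.Agent.Lib.Helper23.SlhNatural
import Cfsg.Agent.Lib.Helper4.SlhGACT
import Cfsg.Agent.Lib.Helper16.SlhSL2CONJ
import Cfsg.Agent.Lib.Helper5.SlhGNFCore

/-!
# S3050, piece SLH-GNF (helper5): exact-name wrapper
-/

set_option autoImplicit false
set_option linter.unusedSectionVars false
set_option linter.unusedVariables false
set_option linter.style.haveILetI false

namespace Cfsg.Agent.Helper23.Slh

open Cfsg.Agent.Helper12.NatMod

local notation "SL2" => Matrix.SpecialLinearGroup (Fin 2)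

section PartG

variable {Γ : Type*} [Group Γ] {F : Type*} [Field F] {S : Sys Γ F}

/-- PIECE SLH-GNF.  An elementary abelian `Γ`-group is in normal form (SLH-GACT, SLH-SL2CONJ, `natural_sum`). -/
theorem nf_of_elementary [Finite F] [CharP F 2] {Q : Type*} [Group Q] [Finite Q] (A : GGrp S Q)
    (hcomm : ∀ a b : Q, a * b = b * a) (hexp : ∀ a : Q, a * a = 1) : A.NF :=
  slh_gnf_core A hexp (exists_action A hcomm) (fun s h3 h1 => conj_to_x0 s h3 h1)
    (fun inst => by
      letI hC : CommGroup Q := { (inferInstance : Group Q) with mul_comm := hcomm }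
      intro h2 hfpf
      exact @natural_sum F _ _ (Additive Q) _ inst _ _ h2 hfpf)

end PartG

end Cfsg.Agent.Helper23.Slh
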