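import Mathlib
import Cfsg.Prelude.Def_Blocks
import Cfsg.Agent.Lib.Helper27.M11UDefs

set_option autoImplicit false
set_option linter.unusedSectionVars false
set_option linter.unusedVariables false

namespace Cfsg.Agent.Helper27.M11U

universe u v

section Abstract

variable {G : Type u} [Group G] [Fintype G]

/-- PIECE SNOTK: a subgroup of order `660` containing `u` does not contain `s`. -/
theorem s_not_mem (hs : IsSimpleGroup G) (hG : Nat.card G = 7920) (Q : Sylow 5 G) {u s : G}
    (hQ : (Q : Subgroup G) = Subgroup.zpowers u)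
    (hNQ : Nat.card (Subgroup.normalizer ((Q : Subgroup G) : Set G)) = 20)
    (hu : orderOf u = 5) (hs4 : orderOf s = 4) (hsu : s * u * s⁻¹ = u ^ 2)
    (K : Subgroup G) (hK : Nat.card K = 660) (huK : u ∈ K) : s ∉ K := by
  intro hsK
  haveI : Fact (Nat.Prime 5) := ⟨by norm_num⟩
  have hQK : (Q : Subgroup G) ≤ K := by
    rw [hQ]; exact Subgroup.zpowers_le.mpr huK
  -- `s` normalizes `Q`
  have hsN : s ∈ Subgroup.normalizer ((Q : Subgroup G) : Set G) := by
    apply Subgroup.mem_normalizer_fintype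
    intro n hn
    have hn' : n ∈ Subgroup.zpowers u := by
      have : n ∈ (Q : Subgroup G) := hn
      rwa [hQ] at this
    obtain ⟨k, rfl⟩ := Subgroup.mem_zpowers_iff.mp hn'
    have h1 : s * u ^ k * s⁻¹ = (u ^ 2) ^ k := by
      rw [← hsu]
      exact (conj_zpow (a := s) (b := u) (i := k)).symm
    show s * u ^ k * s⁻¹ ∈ (Q : Subgroup G)
    rw [h1, hQ]
    exact Subgroup.zpow_mem _ (Subgroup.pow_mem _ (Subgroup.mem_zpowers u) 2) k
  have huN : u ∈ Subgroup.normalizer ((Q : Subgroup G) : Set G) := by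
    apply Subgroup.le_normalizer
    rw [hQ]; exact Subgroup.mem_zpowers u
  -- `N(Q) ≤ K`
  set N : Subgroup G := Subgroup.normalizer ((Q : Subgroup G) : Set G) with hNdef
  have hM20 : Nat.card (N ⊓ K : Subgroup G) = 20 := by
    have hd : Nat.card (N ⊓ K : Subgroup G) ∣ 20 := by
      rw [← hNQ]; exact Subgroup.card_dvd_of_le inf_le_left
    have h5 : 5 ∣ Nat.card (N ⊓ K : Subgroup G) := by
      have huM : u ∈ (N ⊓ K : Subgroup G) := ⟨huN, huK⟩
      have := Subgroup.orderOf_dvd_natCard (N ⊓ K : Subgroup G) huM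
      rwa [hu] at this
    have h4 : 4 ∣ Nat.card (N ⊓ K : Subgroup G) := by
      have hsM : s ∈ (N ⊓ K : Subgroup G) := ⟨hsN, hsK⟩
      have := Subgroup.orderOf_dvd_natCard (N ⊓ K : Subgroup G) hsM
      rwa [hs4] at this
    have h20 : 20 ∣ Nat.card (N ⊓ K : Subgroup G) := by
      have : Nat.Coprime 4 5 := by norm_num
      exact this.mul_dvd_of_dvd_of_dvd h4 h5
    exact Nat.dvd_antisymm hd h20
  have hNK : N ≤ K := by
    have : (N ⊓ K : Subgroup G) = N := by
      apply Subgroup.eq_of_le_of_card_ge inf_le_left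
      rw [hM20, hNQ]
    rw [← this]; exact inf_le_right
  -- Sylow counting in `K`
  let Q' : Sylow 5 K := Q.subtype hQK
  have h1 : Nat.card (Sylow 5 K) ≡ 1 [MOD 5] := card_sylow_modEq_one 5 K
  have h2 : Nat.card (Sylow 5 K) = (Subgroup.normalizer ((Q' : Subgroup K) : Set K)).index :=
    Q'.card_eq_index_normalizer
  have h3 : Subgroup.normalizer ((Q' : Subgroup K) : Set K) = N.subgroupOf K := by
    rw [hNdef, Subgroup.subgroupOf_normalizer_eq hQK]
    rfl
  have h4 : Nat.card (N.subgroupOf K) = 20 := by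
    rw [Nat.card_congr (Subgroup.subgroupOfEquivOfLe hNK).toEquiv, hNQ]
  have h5 : (N.subgroupOf K).index * Nat.card (N.subgroupOf K) = Nat.card K :=
    Subgroup.index_mul_card _
  rw [h4, hK] at h5
  have h6 : (N.subgroupOf K).index = 33 := by omega
  rw [h3, h6] at h2
  rw [h2] at h1
  exact absurd h1 (by decide)

end Abstract

end Cfsg.Agent.Helper27.M11U
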