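import Mathlib

/-!
# S3431, piece NSE0A5 (helper5): the set of order-class sizes of `A₅` is `{1, 15, 20, 24}`
-/

set_option autoImplicit false

namespace Cfsg.Agent.Helper26.NSE

namespace NSE0A5

abbrev A5 := ↥(alternatingGroup (Fin 5))

set_option maxRecDepth 100000 in
theorem a5_pow : ∀ g : A5, g ^ 1 = 1 ∨ g ^ 2 = 1 ∨ g ^ 3 = 1 ∨ g ^ 5 = 1 := by
  decide +kernel

set_option maxRecDepth 100000 in
theorem a5_c2 : Fintype.card {g : A5 // g ^ 2 = 1 ∧ g ≠ 1} = 15 := by
  decide +kernel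

set_option maxRecDepth 100000 in
theorem a5_c3 : Fintype.card {g : A5 // g ^ 3 = 1 ∧ g ≠ 1} = 20 := by
  decide +kernel

set_option maxRecDepth 100000 in
theorem a5_c5 : Fintype.card {g : A5 // g ^ 5 = 1 ∧ g ≠ 1} = 24 := by
  decide +kernel

theorem orderOf_mem (g : A5) : orderOf g = 1 ∨ orderOf g = 2 ∨ orderOf g = 3 ∨ orderOf g = 5 := by
  rcases a5_pow g with h | h | h | h
  · left
    rw [pow_one] at h
    rw [h, orderOf_one]
  · have := orderOf_dvd_of_pow_eq_one h
    rcases (Nat.dvd_prime Nat.prime_two).1 this with h1 | h1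
    · exact Or.inl h1
    · exact Or.inr (Or.inl h1)
  · have := orderOf_dvd_of_pow_eq_one h
    rcases (Nat.dvd_prime Nat.prime_three).1 this with h1 | h1
    · exact Or.inl h1
    · exact Or.inr (Or.inr (Or.inl h1))
  · have := orderOf_dvd_of_pow_eq_one h
    rcases (Nat.dvd_prime Nat.prime_five).1 this with h1 | h1
    · exact Or.inl h1
    · exact Or.inr (Or.inr (Or.inr h1))

theorem card_prime (p : ℕ) (hp : p.Prime) :
    Nat.card {g : A5 // orderOf g = p} = Fintype.card {g : A5 // g ^ p = 1 ∧ g ≠ 1} := by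
  haveI : Fact p.Prime := ⟨hp⟩
  rw [← Nat.card_eq_fintype_card]
  apply Nat.card_congr
  exact Equiv.subtypeEquivRight fun g => orderOf_eq_prime_iff

theorem card_one : Nat.card {g : A5 // orderOf g = 1} = 1 := by
  rw [Nat.card_eq_one_iff_unique]
  refine ⟨⟨?_⟩, ⟨⟨1, orderOf_one⟩⟩⟩
  rintro ⟨a, ha⟩ ⟨b, hb⟩
  rw [orderOf_eq_one_iff] at ha hb
  exact Subtype.ext (ha.trans hb.symm)

theorem card_two : Nat.card {g : A5 // orderOf g = 2} = 15 := by
  rw [card_prime 2 Nat.prime_two, a5_c2]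

theorem card_three : Nat.card {g : A5 // orderOf g = 3} = 20 := by
  rw [card_prime 3 Nat.prime_three, a5_c3]

theorem card_five : Nat.card {g : A5 // orderOf g = 5} = 24 := by
  rw [card_prime 5 Nat.prime_five, a5_c5]

theorem exists_of_card_ne_zero (m : ℕ) (h : Nat.card {g : A5 // orderOf g = m} ≠ 0) :
    m ∈ Set.range (orderOf : A5 → ℕ) := by
  have : Nonempty {g : A5 // orderOf g = m} := by
    by_contra hne
    rw [not_nonempty_iff] at hne
    exact h Nat.card_of_isEmpty
  obtain ⟨g, hg⟩ := this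
  exact ⟨g, hg⟩

end NSE0A5

open NSE0A5 in
/-- PIECE NSE0A5. -/
theorem nse_A5 : ((fun m : ℕ => Nat.card {g : ↥(alternatingGroup (Fin 5)) // orderOf g = m}) ''
    Set.range (orderOf : ↥(alternatingGroup (Fin 5)) → ℕ)) = {1, 15, 20, 24} := by
  ext x
  simp only [Set.mem_image, Set.mem_range, Set.mem_insert_iff, Set.mem_singleton_iff]
  constructor
  · rintro ⟨m, ⟨g, rfl⟩, rfl⟩
    rcases orderOf_mem g with h | h | h | h
    · left; rw [h]; exact card_one
    · right; left; rw [h]; exact card_two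
    · right; right; left; rw [h]; exact card_three
    · right; right; right; rw [h]; exact card_five
  · rintro (rfl | rfl | rfl | rfl)
    · obtain ⟨g, hg⟩ := exists_of_card_ne_zero 1 (by rw [card_one]; norm_num)
      exact ⟨1, ⟨g, hg⟩, card_one⟩
    · obtain ⟨g, hg⟩ := exists_of_card_ne_zero 2 (by rw [card_two]; norm_num)
      exact ⟨2, ⟨g, hg⟩, card_two⟩
    · obtain ⟨g, hg⟩ := exists_of_card_ne_zero 3 (by rw [card_three]; norm_num)
      exact ⟨3, ⟨g, hg⟩, card_three⟩
    · obtain ⟨g, hg⟩ := exists_of_card_ne_zero 5 (by rw [card_five]; norm_num)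
      exact ⟨5, ⟨g, hg⟩, card_five⟩

end Cfsg.Agent.Helper26.NSE
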