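import Mathlib
import Cfsg.Agent.Lib.Helper5.FeitZ11
import Cfsg.Agent.Lib.Helper1.Complement
import Cfsg.Agent.S0035

/-!
# Existence of the kernel of a point stabilizer of a Zassenhaus group (helper5)
-/

set_option autoImplicit false
set_option linter.unusedVariables false
set_option linter.unusedSectionVars false
set_option linter.style.haveILetI false

namespace Cfsg.Agent.Helper5.ZassKernel

open Cfsg MulAction
open scoped Pointwise

universe u v

variable {G : Type u} {Ω : Type v} [Group G] [Finite G] [MulAction G Ω] [Fintype Ω]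

/-- the two point stabilizer is a Frobenius complement in the point stabilizer -/
theorem isFrobeniusComplement_two_point (hZ : IsZassenhausGroup G Ω) {a b : Ω} (hab : a ≠ b) :
    IsFrobeniusComplement
      ((stabilizer G a ⊓ stabilizer G b : Subgroup G).subgroupOf (stabilizer G a)) := by
  have h2 := hZ.2.1
  rw [MulAction.is_two_pretransitive_iff] at h2
  have h3 := hZ.2.2.1
  refine ⟨?_, ?_, ?_⟩
  · intro h
    rw [Subgroup.subgroupOf_eq_bot] at h
    apply ZassOdd.two_point_ne_bot hZ hab
    rw [eq_bot_iff]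
    intro x hx
    have : x ∈ (stabilizer G a ⊓ stabilizer G b : Subgroup G) ⊓ stabilizer G a :=
      Subgroup.mem_inf.2 ⟨hx, (Subgroup.mem_inf.mp hx).1⟩
    rw [disjoint_iff.1 h] at this
    exact this
  · intro h
    rw [Subgroup.subgroupOf_eq_top] at h
    obtain ⟨c, hca, hcb⟩ := ZassOdd.exists_third hZ a b
    obtain ⟨g, hga, hgb⟩ := h2 hab (Ne.symm hca)
    have hg : g ∈ stabilizer G a := mem_stabilizer_iff.mpr hga
    have hg' := h hg
    rw [Subgroup.mem_inf, mem_stabilizer_iff, mem_stabilizer_iff] at hg'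
    exact hcb (by rw [← hgb, hg'.2])
  · intro g hg
    rw [eq_bot_iff]
    intro x hx
    rw [Subgroup.mem_bot]
    obtain ⟨hx1, hx2⟩ := Subgroup.mem_inf.mp hx
    rw [Cfsg.Agent.Helper1.mem_conj_smul_iff] at hx2
    rw [Subgroup.mem_subgroupOf, Subgroup.mem_inf, mem_stabilizer_iff, mem_stabilizer_iff]
      at hx1 hx2 hg
    have hga : (g : G) • a = a := mem_stabilizer_iff.mp g.2
    have hgb : (g : G) • b ≠ b := fun h => hg ⟨hga, h⟩
    have hgba : (g : G) • b ≠ a := by
      intro h
      have h' : (g : G) • b = (g : G) • a := h.trans hga.symm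
      exact hab (MulAction.injective (g : G) h').symm
    have hxgb : (x : G) • ((g : G) • b) = (g : G) • b := by
      have h4 := hx2.2
      simp only [Subgroup.coe_mul, Subgroup.coe_inv] at h4
      rw [mul_smul, mul_smul, inv_smul_eq_iff] at h4
      exact h4
    have hx1' : (x : G) = 1 := h3 (x : G) a b ((g : G) • b) hab (Ne.symm hgb) (Ne.symm hgba)
      hx1.1 hx1.2 hxgb
    exact Subtype.ext hx1'

/-- the kernel of the point stabilizer exists -/
theorem exists_kernel (hZ : IsZassenhausGroup G Ω) {a b : Ω} (hab : a ≠ b) :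
    ∃ H : Subgroup G, H ≤ stabilizer G a ∧ Nat.card H + 1 = Fintype.card Ω ∧
      (∀ u ∈ H, u ≠ 1 → ∀ c : Ω, u • c = c → c = a) ∧
      (H.subgroupOf (stabilizer G a)).Normal := by
  have h2 := hZ.2.1
  rw [MulAction.is_two_pretransitive_iff] at h2
  have hF := isFrobeniusComplement_two_point hZ hab
  obtain ⟨N, hNk, hNn, hNc⟩ := Cfsg.Agent.S0035.result _ hF
  have hmap : (N.map (stabilizer G a).subtype).subgroupOf (stabilizer G a) = N :=
    Subgroup.comap_map_eq_self_of_injective (stabilizer G a).subtype_injective N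
  refine ⟨N.map (stabilizer G a).subtype, ?_, ?_, ?_, ?_⟩
  · rintro x ⟨n, -, rfl⟩
    exact n.2
  · rw [Subgroup.card_map_of_injective (stabilizer G a).subtype_injective]
    have h1 := hNc.card_mul
    have h3 : Nat.card ↥((stabilizer G a ⊓ stabilizer G b : Subgroup G).subgroupOf
        (stabilizer G a)) = Nat.card ↥(stabilizer G a ⊓ stabilizer G b : Subgroup G) :=
      Nat.card_congr (Subgroup.subgroupOfEquivOfLe inf_le_left).toEquiv
    rw [h3, FeitZ.zass_card_stabilizer hZ hab] at h1
    have hpos : 0 < Nat.card ↥(stabilizer G a ⊓ stabilizer G b : Subgroup G) := Nat.card_pos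
    have h4 := Nat.eq_of_mul_eq_mul_right hpos h1
    have hΩ : 0 < Fintype.card Ω := Fintype.card_pos_iff.mpr ⟨a⟩
    omega
  · rintro u ⟨n, hn, rfl⟩ hu1 c hc
    by_contra hca
    have hn1 : n ≠ 1 := by
      intro h
      apply hu1
      rw [h]
      rfl
    have hnk : n ∈ frobeniusKernel ((stabilizer G a ⊓ stabilizer G b : Subgroup G).subgroupOf
        (stabilizer G a)) := by
      rw [← hNk]
      exact hn
    rcases hnk with h | h
    · exact hn1 h
    · obtain ⟨g, hga, hgb⟩ := h2 hab (Ne.symm hca)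
      obtain ⟨g', hg'⟩ : ∃ g' : ↥(stabilizer G a), (g' : G) = g :=
        ⟨⟨g, mem_stabilizer_iff.mpr hga⟩, rfl⟩
      apply h g'
      rw [Cfsg.Agent.Helper1.mem_conj_smul_iff, Subgroup.mem_subgroupOf]
      have hna : (n : G) • a = a := mem_stabilizer_iff.mp n.2
      have hc' : (n : G) • c = c := hc
      refine Subgroup.mem_inf.mpr ⟨mem_stabilizer_iff.mpr ?_, mem_stabilizer_iff.mpr ?_⟩
      · simp only [Subgroup.coe_mul, Subgroup.coe_inv, hg']
        rw [mul_smul, mul_smul, hga, hna, inv_smul_eq_iff, hga]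
      · simp only [Subgroup.coe_mul, Subgroup.coe_inv, hg']
        rw [mul_smul, mul_smul, hgb, hc', inv_smul_eq_iff, hgb]
  · rw [hmap]
    exact hNn

/-- the kernel acts regularly on the remaining points -/
theorem kernel_regular {a : Ω} (H : Subgroup G) (hHa : H ≤ stabilizer G a)
    (hHcard : Nat.card H + 1 = Fintype.card Ω)
    (hHfix : ∀ u ∈ H, u ≠ 1 → ∀ c : Ω, u • c = c → c = a) :
    ∀ y z : Ω, y ≠ a → z ≠ a → ∃! u : H, (u : G) • y = z := by
  classical
  intro y z hy hz
  have hmove : ∀ u : H, (u : G) • y ≠ a := by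
    intro u h
    have hua : (u : G) • a = a := mem_stabilizer_iff.mp (hHa u.2)
    have h' : (u : G) • y = (u : G) • a := h.trans hua.symm
    exact hy (MulAction.injective (u : G) h')
  obtain ⟨f, hf⟩ : ∃ f : H → {c : Ω // c ≠ a}, ∀ u : H, (f u : Ω) = (u : G) • y :=
    ⟨fun u => ⟨(u : G) • y, hmove u⟩, fun _ => rfl⟩
  have hinj : Function.Injective f := by
    intro u u' huu
    have h1 : (u : G) • y = (u' : G) • y := by rw [← hf u, ← hf u', huu]
    have h2 : ((u : G)⁻¹ * (u' : G)) • y = y := by
      rw [mul_smul, ← h1, inv_smul_smul]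
    by_contra hne
    have h3 : (u : G)⁻¹ * (u' : G) ≠ 1 := by
      intro h
      apply hne
      apply Subtype.ext
      exact (inv_mul_eq_one.mp h)
    exact hy (hHfix _ (H.mul_mem (H.inv_mem u.2) u'.2) h3 y h2)
  have hcard : Nat.card {c : Ω // c ≠ a} ≤ Nat.card H := by
    rw [Nat.card_eq_fintype_card, Fintype.card_subtype_compl, Fintype.card_subtype_eq]
    omega
  have hbij := hinj.bijective_of_nat_card_le hcard
  obtain ⟨u, hu, huniq⟩ := hbij.existsUnique ⟨z, hz⟩
  refine ⟨u, ?_, ?_⟩
  · show (u : G) • y = z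
    rw [← hf u, hu]
  · intro u' hu'
    apply huniq
    apply Subtype.ext
    rw [hf u']
    exact hu'

end Cfsg.Agent.Helper5.ZassKernel
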