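import Mathlib
import Cfsg.Agent.Lib.Helper4.PrimeSylow
import Cfsg.Agent.Lib.Helper5.PComplement
import Cfsg.Agent.S4706

/-!
# Sylow 11-normalizers of nonsolvable transitive groups of degree 11 (helper5)

Piece `ECASES` of the S0679 plan: for a nonsolvable transitive group `G` of degree `11`,
a Sylow `11`-subgroup `P` has order `11`, is not normal, and its normalizer has order `55`
or `110`.
-/

set_option autoImplicit false
set_option linter.unusedSectionVars false
set_option linter.unusedVariables false
set_option linter.style.haveILetI false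

namespace Cfsg.Agent.Helper27.D11

open Cfsg Equiv MulAction

universe u

variable {α : Type u} [Fintype α] [DecidableEq α]

namespace ECASES

/-- a group with a normal Sylow subgroup of prime order which is its own centralizer
is solvable -/
theorem solvable_of_normal_prime {G : Type*} [Group G] [Finite G] {p : ℕ} [Fact p.Prime]
    (P : Sylow p G) (hP : Nat.card (P : Subgroup G) = p) (hn : (P : Subgroup G).Normal)
    (hC : Subgroup.centralizer ((P : Subgroup G) : Set G) = (P : Subgroup G)) :
    Group.IsSolvable G := by
  haveI : IsCyclic ↥(P : Subgroup G) := isCyclic_of_prime_card hP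
  have hNtop : Subgroup.normalizer ((P : Subgroup G) : Set G) = ⊤ :=
    Subgroup.normalizer_eq_top_iff.mpr hn
  set N := Subgroup.normalizer ((P : Subgroup G) : Set G) with hNdef
  -- `MulAut P` is commutative, hence solvable
  haveI hAut : Group.IsSolvable (MulAut ↥(P : Subgroup G)) := by
    let e := IsCyclic.mulAutMulEquiv ↥(P : Subgroup G)
    haveI : Group.IsSolvable (ZMod (Nat.card ↥(P : Subgroup G)))ˣ :=
      Group.isSolvable_of_comm (fun a b => mul_comm a b)
    exact solvable_of_solvable_injective (f := e.toMonoidHom) e.injective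
  haveI hPs : Group.IsSolvable ↥(P : Subgroup G) := by
    obtain ⟨g, hg⟩ := IsCyclic.exists_generator (α := ↥(P : Subgroup G))
    refine Group.isSolvable_of_comm (fun a b => ?_)
    obtain ⟨m, rfl⟩ := Subgroup.mem_zpowers_iff.mp (hg a)
    obtain ⟨n, rfl⟩ := Subgroup.mem_zpowers_iff.mp (hg b)
    exact (zpow_mul_comm g m n)
  have hNs : Group.IsSolvable ↥N := by
    refine solvable_of_ker_le_range (Subgroup.inclusion (Subgroup.le_normalizer))
      (P : Subgroup G).normalizerMonoidHom ?_
    rw [Subgroup.normalizerMonoidHom_ker, hC]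
    intro x hx
    rw [Subgroup.mem_subgroupOf] at hx
    exact ⟨⟨(x : G), hx⟩, rfl⟩
  have hsurj : Function.Surjective (N.subtype) := by
    intro g
    exact ⟨⟨g, by rw [hNtop]; exact Subgroup.mem_top g⟩, rfl⟩
  exact solvable_of_surjective hsurj

end ECASES

theorem normalizer_cases (hα : Fintype.card α = 11) (G : Subgroup (Perm α)) [IsPretransitive G α]
    (hG : ¬ Group.IsSolvable G) (P : Sylow 11 G) :
    Nat.card (P : Subgroup G) = 11 ∧ 1 < Nat.card (Sylow 11 G) ∧
      (Nat.card (Subgroup.normalizer ((P : Subgroup G) : Set G)) = 55 ∨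
        Nat.card (Subgroup.normalizer ((P : Subgroup G) : Set G)) = 110) := by
  classical
  haveI : Fact (Nat.Prime 11) := ⟨by norm_num⟩
  have hPcard := Cfsg.Agent.Helper4.PrimeSylow.card_sylow hα G P
  have hC := Cfsg.Agent.Helper4.PrimeSylow.centralizer_eq hα G P
  obtain ⟨k, hk, hNk⟩ := Cfsg.Agent.Helper4.PrimeSylow.card_normalizer hα G P
  have hnn : ¬ (P : Subgroup G).Normal := fun hn =>
    hG (ECASES.solvable_of_normal_prime P hPcard hn hC)
  refine ⟨hPcard, ?_, ?_⟩
  · -- more than one Sylow subgroup
    by_contra hle
    have h1 : Nat.card (Sylow 11 G) = 1 := by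
      have hpos : 0 < Nat.card (Sylow 11 G) := Nat.card_pos
      omega
    apply hnn
    rw [Sylow.card_eq_index_normalizer P, Subgroup.index_eq_one] at h1
    exact Subgroup.normalizer_eq_top_iff.mp h1
  · -- the order of the normalizer
    have hk10 : k ∣ 10 := hk
    have hkle : k ≤ 10 := Nat.le_of_dvd (by norm_num) hk10
    have hkcases : k = 1 ∨ k = 2 ∨ k = 5 ∨ k = 10 := by
      interval_cases k <;> simp_all
    rcases hkcases with rfl | rfl | rfl | rfl
    · -- self-normalizing: normal complement, contradiction
      exfalso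
      have hNP : Subgroup.normalizer ((P : Subgroup G) : Set G) = (P : Subgroup G) := by
        symm
        apply Subgroup.eq_of_le_of_card_ge Subgroup.le_normalizer
        rw [hNk, hPcard]
      haveI : IsCyclic ↥(P : Subgroup G) := isCyclic_of_prime_card hPcard
      have hcomm : ∀ a ∈ (P : Subgroup G), ∀ b ∈ (P : Subgroup G), a * b = b * a := by
        intro a ha b hb
        obtain ⟨g, hg⟩ := IsCyclic.exists_generator (α := ↥(P : Subgroup G))
        obtain ⟨m, hm⟩ := Subgroup.mem_zpowers_iff.mp (hg ⟨a, ha⟩)
        obtain ⟨n, hn⟩ := Subgroup.mem_zpowers_iff.mp (hg ⟨b, hb⟩)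
        have := zpow_mul_comm g m n
        rw [hm, hn] at this
        exact congrArg Subtype.val this
      obtain ⟨M, hMn, -, hMp, hMcard⟩ :=
        Cfsg.Agent.Helper5.exists_normal_pcomplement_of_self_normalizing P ⊤ le_top hcomm
          (by rw [top_inf_eq, hNP])
      have hMbot : M = ⊥ := by
        by_contra hM
        exact hMp (Cfsg.Agent.Helper4.PrimeSylow.p_dvd_card_normal hα G M hM)
      rw [hMbot, Subgroup.card_bot, mul_one] at hMcard
      have hPtop : (P : Subgroup G) = ⊤ := by
        apply Subgroup.eq_top_of_card_eq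
        rw [← hMcard, Subgroup.card_top]
      apply hnn
      rw [hPtop]
      infer_instance
    · -- order `2 * 11`: Ito's theorem
      exfalso
      have hN2 : Nat.card (Subgroup.normalizer ((P : Subgroup G) : Set G)) = 2 * 11 := by
        rw [hNk]
      rcases Cfsg.Agent.S4706.result (p := 11) (by norm_num) hα G P hN2 with hn | ⟨a, -, -, -, ha, -, -⟩
      · exact hnn hn
      · have h10 : 2 ^ a = 10 := by omega
        have ha4 : a < 4 := by
          by_contra h
          have : 2 ^ 4 ≤ 2 ^ a := Nat.pow_le_pow_right (by norm_num) (by omega)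
          omega
        interval_cases a <;> omega
    · left; rw [hNk]
    · right; rw [hNk]

end Cfsg.Agent.Helper27.D11
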