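import Mathlib

/-!
# S0679 piece SYL2 (helper5): a subgroup of `A₁₁` of order divisible by `64` contains a double
transposition
-/

set_option autoImplicit false
set_option linter.unusedSectionVars false
set_option linter.unusedVariables false
set_option linter.style.haveILetI false

namespace Cfsg.Agent.Helper27.D11

open Cfsg Equiv MulAction

universe u

variable {α : Type u} [Fintype α] [DecidableEq α]

namespace SYL2

/-- an even involution on `11` points has cycle type `2²` or `2⁴` -/
theorem cycleType_even_invol (hα : Fintype.card α = 11) {σ : Perm α} (h2 : orderOf σ = 2)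
    (hs : Perm.sign σ = 1) : σ.cycleType = {2, 2} ∨ σ.cycleType = {2, 2, 2, 2} := by
  obtain ⟨n, hn⟩ := Perm.cycleType_prime_order (σ := σ) (by rw [h2]; exact Nat.prime_two)
  rw [h2] at hn
  have hsum := Perm.sum_cycleType_le σ
  rw [hn, Multiset.sum_replicate, hα, smul_eq_mul] at hsum
  have hsign := Perm.sign_of_cycleType σ
  rw [hs, hn, Multiset.sum_replicate, Multiset.card_replicate, smul_eq_mul] at hsign
  have hpar : Even (n + 1) := by
    by_contra hodd
    rw [Nat.not_even_iff_odd] at hodd
    have : Odd ((n + 1) * 2 + (n + 1)) := by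
      obtain ⟨m, hm⟩ := hodd
      exact ⟨3 * m + 1, by omega⟩
    rw [this.neg_one_pow] at hsign
    exact absurd hsign (by decide)
  obtain ⟨m, hm⟩ := hpar
  have hcases : n + 1 = 2 ∨ n + 1 = 4 := by omega
  rcases hcases with h | h
  · left; rw [hn, h]; rfl
  · right; rw [hn, h]; rfl

/-- the support of an even involution on `11` points has `4` or `8` elements -/
theorem card_support_even_invol (hα : Fintype.card α = 11) {σ : Perm α} (h2 : orderOf σ = 2)
    (hs : Perm.sign σ = 1) : σ.support.card = 4 ∨ σ.support.card = 8 := by
  rw [← Perm.sum_cycleType]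
  rcases cycleType_even_invol hα h2 hs with h | h
  · left; rw [h]; rfl
  · right; rw [h]; rfl

theorem cycleType_of_card_support (hα : Fintype.card α = 11) {σ : Perm α} (h2 : orderOf σ = 2)
    (hs : Perm.sign σ = 1) (h4 : σ.support.card = 4) : σ.cycleType = {2, 2} := by
  rcases cycleType_even_invol hα h2 hs with h | h
  · exact h
  · exfalso
    rw [← Perm.sum_cycleType, h] at h4
    exact absurd h4 (by decide)

/-- the key counting identity -/
theorem card_support_add {z k : Perm α} (hz : z * z = 1) (hc : k * z = z * k)
    (hker : ∀ p, z p ≠ p → k p = p ∨ k p = z p) :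
    k.support.card + (k * z).support.card =
      z.support.card + 2 * (Finset.univ.filter (fun p => z p = p ∧ k p ≠ p)).card := by
  classical
  have hzz : ∀ p, z (z p) = p := fun p => by
    have := congrArg (fun f : Perm α => f p) hz
    simpa using this
  have hkz : ∀ p, k (z p) = z (k p) := fun p => by
    have := congrArg (fun f : Perm α => f p) hc
    simpa using this
  -- the property `A p : k p = z p` is `z`-invariant on the support of `z`
  have hA : ∀ p, z p ≠ p → (k (z p) = p ↔ k p = z p) := by
    intro p hp
    constructor
    · intro h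
      rw [hkz] at h
      have := congrArg z h
      rw [hzz] at this
      exact this
    · intro h
      rw [hkz, h, hzz]
  have hS1 : k.support = (z.support.filter (fun p => k p = z p)) ∪
      (Finset.univ.filter (fun p => z p = p ∧ k p ≠ p)) := by
    ext p
    simp only [Perm.mem_support, Finset.mem_union, Finset.mem_filter, Finset.mem_univ, true_and]
    constructor
    · intro h
      by_cases hp : z p = p
      · right; exact ⟨hp, h⟩
      · left
        refine ⟨hp, ?_⟩
        rcases hker p hp with h1 | h1
        · exact absurd h1 h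
        · exact h1
    · rintro (⟨hp, h1⟩ | ⟨hp, h1⟩)
      · rw [h1]; exact hp
      · exact h1
  have hS2 : (k * z).support = (z.support.filter (fun p => ¬ k p = z p)) ∪
      (Finset.univ.filter (fun p => z p = p ∧ k p ≠ p)) := by
    ext p
    simp only [Perm.mem_support, Finset.mem_union, Finset.mem_filter, Finset.mem_univ, true_and,
      Perm.mul_apply]
    constructor
    · intro h
      by_cases hp : z p = p
      · right
        rw [hp] at h
        exact ⟨hp, h⟩
      · left
        refine ⟨hp, ?_⟩
        intro h1
        exact h ((hA p hp).2 h1)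
    · rintro (⟨hp, h1⟩ | ⟨hp, h1⟩)
      · intro h
        exact h1 ((hA p hp).1 h)
      · rw [hp]; exact h1
  have hd1 : Disjoint (z.support.filter (fun p => k p = z p))
      (Finset.univ.filter (fun p => z p = p ∧ k p ≠ p)) := by
    rw [Finset.disjoint_left]
    intro p h1 h2
    simp only [Finset.mem_filter, Perm.mem_support, Finset.mem_univ, true_and] at h1 h2
    exact h1.1 h2.1
  have hd2 : Disjoint (z.support.filter (fun p => ¬ k p = z p))
      (Finset.univ.filter (fun p => z p = p ∧ k p ≠ p)) := by
    rw [Finset.disjoint_left]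
    intro p h1 h2
    simp only [Finset.mem_filter, Perm.mem_support, Finset.mem_univ, true_and] at h1 h2
    exact h1.1 h2.1
  rw [hS1, hS2, Finset.card_union_of_disjoint hd1, Finset.card_union_of_disjoint hd2]
  have := Finset.card_filter_add_card_filter_not (s := z.support) (fun p => k p = z p)
  omega

/-- an element of the kernel of the action on the cycles of an involution `z` maps every point
moved by `z` into its `z`-orbit -/
theorem apply_of_mem_ker {z : Perm α} (hz : z * z = 1) (k : Subgroup.centralizer {z})
    (hk : k ∈ (Perm.OnCycleFactors.toPermHom z).ker) (p : α) (hp : z p ≠ p) :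
    (k : Perm α) p = p ∨ (k : Perm α) p = z p := by
  classical
  have hzz : ∀ q, z (z q) = q := fun q => by
    have := congrArg (fun f : Perm α => f q) hz
    simpa using this
  have hcomm : (k : Perm α) * z = z * (k : Perm α) :=
    (Subgroup.mem_centralizer_iff.1 k.2 z (Set.mem_singleton z)).symm
  have hkz : ∀ q, (k : Perm α) (z q) = z ((k : Perm α) q) := fun q => by
    have := congrArg (fun f : Perm α => f q) hcomm
    simpa using this
  rw [Perm.OnCycleFactors.mem_ker_toPermHom_iff] at hk
  have hc : z.cycleOf p ∈ z.cycleFactorsFinset :=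
    Perm.cycleOf_mem_cycleFactorsFinset_iff.2 (Perm.mem_support.2 hp)
  have h1 := hk _ hc
  have h2 : (k : Perm α) (z.cycleOf p p) = z.cycleOf p ((k : Perm α) p) := by
    have := congrArg (fun f : Perm α => f p) h1.eq
    simpa using this
  rw [Perm.cycleOf_apply_self, Perm.cycleOf_apply, hkz] at h2
  by_cases hs : z.SameCycle p ((k : Perm α) p)
  · obtain ⟨i, hi⟩ := hs
    rcases Int.even_or_odd i with ⟨j, hj⟩ | ⟨j, hj⟩
    · left
      have : z ^ i = 1 := by
        rw [hj, ← two_mul, zpow_mul, zpow_two, hz, one_zpow]
      rw [this] at hi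
      exact hi.symm
    · right
      have : z ^ i = z := by
        rw [hj, zpow_add, zpow_mul, zpow_two, hz, one_zpow, one_mul, zpow_one]
      rw [this] at hi
      exact hi.symm
  · rw [if_neg hs] at h2
    exfalso
    -- `z (k p) = k p`, so `k (z p) = k p` and `z p = p`
    have h3 : (k : Perm α) (z p) = (k : Perm α) p := by rw [hkz, h2]
    exact hp ((k : Perm α).injective h3)

/-- a permutation of `2`-power order commuting with `z` squares to the identity on the fixed
points of `z` if there are at most three of them -/
theorem sq_apply_of_fix {z k : Perm α} (hc : k * z = z * k)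
    (hfix : (Finset.univ.filter (fun p => z p = p)).card ≤ 3) (hk64 : k ^ 64 = 1) (p : α)
    (hp : z p = p) : k (k p) = p := by
  classical
  by_cases hkp : k p = p
  · rw [hkp, hkp]
  have hcyc := Perm.isCycle_cycleOf k hkp
  have hord := hcyc.orderOf
  have hsub : (k.cycleOf p).support ⊆ Finset.univ.filter (fun q => z q = q) := by
    intro x hx
    rw [Perm.mem_support_cycleOf_iff] at hx
    obtain ⟨i, hi⟩ := hx.1
    simp only [Finset.mem_filter, Finset.mem_univ, true_and]
    have hci : z * k ^ i = k ^ i * z := by
      have : Commute z k := hc.symm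
      exact (this.zpow_right i).eq
    have := congrArg (fun f : Perm α => f p) hci
    simp only [Perm.mul_apply] at this
    rw [hi, hp, hi] at this
    exact this
  have hle : orderOf (k.cycleOf p) ≤ 3 := by
    rw [hord]
    exact (Finset.card_le_card hsub).trans hfix
  have hdvd : orderOf (k.cycleOf p) ∣ 64 :=
    (Perm.orderOf_cycleOf_dvd_orderOf k p).trans (orderOf_dvd_of_pow_eq_one hk64)
  have h2le : 2 ≤ orderOf (k.cycleOf p) := by
    rw [hord]; exact hcyc.two_le_card_support
  have h2 : orderOf (k.cycleOf p) = 2 := by
    have h3 : orderOf (k.cycleOf p) ≠ 3 := by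
      intro h
      rw [h] at hdvd
      exact absurd hdvd (by norm_num)
    omega
  have hsq : (k.cycleOf p) ^ 2 = 1 := by
    rw [← h2]; exact pow_orderOf_eq_one _
  have := Perm.cycleOf_pow_apply_self k p 2
  rw [hsq, Perm.one_apply, pow_two, Perm.mul_apply] at this
  exact this.symm

end SYL2

open SYL2 in
/-- PIECE SYL2. -/
theorem exists_double_transposition (hα : Fintype.card α = 11) (G : Subgroup (Perm α))
    (hA : G ≤ alternatingGroup α) (h64 : 64 ∣ Nat.card G) :
    ∃ g ∈ G, (g : Perm α).cycleType = {2, 2} := by
  classical
  haveI : Fact (Nat.Prime 2) := ⟨Nat.prime_two⟩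
  -- a subgroup of order 64
  obtain ⟨T, hT⟩ := Sylow.exists_subgroup_card_pow_prime (G := G) 2 (n := 6) (by simpa using h64)
  have hT64 : Nat.card T = 64 := by rw [hT]; norm_num
  have hTp : IsPGroup 2 T := IsPGroup.of_card hT
  haveI : Nontrivial T := by
    apply (Finite.one_lt_card_iff_nontrivial).1
    rw [hT64]; norm_num
  haveI : Finite T := Nat.finite_of_card_ne_zero (by rw [hT64]; norm_num)
  -- a central involution
  haveI hZn : Nontrivial (Subgroup.center T) := hTp.center_nontrivial
  have hZp : IsPGroup 2 (Subgroup.center T) := hTp.to_subgroup _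
  obtain ⟨m, hm⟩ := IsPGroup.iff_card.1 hZp
  have hm0 : m ≠ 0 := by
    intro h0
    rw [h0, pow_zero] at hm
    have := (Finite.one_lt_card_iff_nontrivial (α := Subgroup.center T)).2 hZn
    omega
  have h2Z : 2 ∣ Nat.card (Subgroup.center T) := by
    rw [hm]; exact dvd_pow_self 2 hm0
  obtain ⟨z0, hz0⟩ := exists_prime_orderOf_dvd_card' (G := Subgroup.center T) 2 h2Z
  -- the involution as a permutation
  set zt : T := (z0 : T) with hzt
  have hzt2 : orderOf zt = 2 := by
    rw [hzt, Subgroup.orderOf_coe]; exact hz0
  set z : Perm α := ((zt : G) : Perm α) with hzdef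
  have hzo : orderOf z = 2 := by
    rw [hzdef, Subgroup.orderOf_coe, Subgroup.orderOf_coe]; exact hzt2
  have hzG : z ∈ G := (zt : G).2
  have hzs : Perm.sign z = 1 := Perm.mem_alternatingGroup.1 (hA hzG)
  have hzz : z * z = 1 := by
    have := pow_orderOf_eq_one z
    rwa [hzo, pow_two] at this
  rcases cycleType_even_invol hα hzo hzs with h22 | h2222
  · exact ⟨z, hzG, h22⟩
  -- `z` has cycle type `2⁴`
  have hzsupp : z.support.card = 8 := by
    rw [← Perm.sum_cycleType, h2222]; rfl
  have hcf : z.cycleFactorsFinset.card = 4 := by
    have : Multiset.card z.cycleType = 4 := by rw [h2222]; rfl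
    rw [Perm.cycleType_def, Multiset.card_map] at this
    exact this
  -- the homomorphism from `T` to the centralizer of `z`
  have hcent : ∀ t : T, ((t : G) : Perm α) ∈ Subgroup.centralizer ({z} : Set (Perm α)) := by
    intro t
    rw [Subgroup.mem_centralizer_iff]
    intro y hy
    rw [Set.mem_singleton_iff] at hy
    subst hy
    have h1 : zt * t = t * zt := (Subgroup.mem_center_iff.1 z0.2 t).symm
    have h2 := congrArg (fun x : T => ((x : G) : Perm α)) h1
    simpa using h2
  let ι : T →* Subgroup.centralizer ({z} : Set (Perm α)) :=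
    MonoidHom.codRestrict (G.subtype.comp T.subtype) _ hcent
  let Φ : T →* Perm z.cycleFactorsFinset := (Perm.OnCycleFactors.toPermHom z).comp ι
  -- the kernel has at least 8 elements
  have hker8 : 8 ≤ Nat.card Φ.ker := by
    have h1 : Nat.card Φ.range ∣ 24 := by
      have := Subgroup.card_subgroup_dvd_card Φ.range
      rw [Nat.card_perm] at this
      have hc4 : Nat.card z.cycleFactorsFinset = 4 := by
        rw [Nat.card_eq_fintype_card, Fintype.card_coe, hcf]
      rw [hc4] at this
      exact this
    have h2 : Nat.card Φ.range ∣ 64 := by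
      rw [← hT64]
      exact Subgroup.card_range_dvd Φ
    have h3 : Nat.card Φ.range ∣ 8 := by
      have := Nat.dvd_gcd h1 h2
      have hg : Nat.gcd 24 64 = 8 := by norm_num
      rw [hg] at this
      exact this
    have h4 : Nat.card Φ.ker * Nat.card Φ.range = 64 := by
      rw [← hT64, mul_comm]
      have := Subgroup.card_mul_index Φ.ker
      rw [Subgroup.index_ker] at this
      rw [mul_comm]; exact this
    have h5 : Nat.card Φ.range ≤ 8 := Nat.le_of_dvd (by norm_num) h3
    nlinarith
  -- an element of the kernel different from `1` and `zt`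
  have hex : ∃ k : T, k ∈ Φ.ker ∧ k ≠ 1 ∧ k ≠ zt := by
    by_contra hno
    push Not at hno
    have hsub : (Φ.ker : Set T) ⊆ ({1, zt} : Set T) := by
      intro k hk
      by_cases h1 : k = 1
      · left; exact h1
      · right; exact hno k hk h1
    have hle : Nat.card Φ.ker ≤ 2 := by
      have h1 : Nat.card (Φ.ker : Set T) ≤ Nat.card ({1, zt} : Set T) :=
        Nat.card_mono (Set.toFinite _) hsub
      have h2 : Nat.card ({1, zt} : Set T) ≤ 2 := by
        rw [Nat.card_coe_set_eq]
        exact (Set.ncard_insert_le _ _).trans (by rw [Set.ncard_singleton])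
      exact h1.trans h2
    omega
  obtain ⟨kt, hkker, hk1, hkz⟩ := hex
  set k : Perm α := ((kt : G) : Perm α) with hkdef
  have hkG : k ∈ G := (kt : G).2
  have hkne1 : k ≠ 1 := by
    intro h
    apply hk1
    apply Subtype.ext; apply Subtype.ext
    exact h
  have hknez : k ≠ z := by
    intro h
    apply hkz
    apply Subtype.ext; apply Subtype.ext
    exact h
  have hkerprop : ∀ p, z p ≠ p → k p = p ∨ k p = z p := by
    intro p hp
    have hk' : ι kt ∈ (Perm.OnCycleFactors.toPermHom z).ker := by
      have := hkker
      rw [MonoidHom.mem_ker] at this ⊢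
      exact this
    exact apply_of_mem_ker hzz (ι kt) hk' p hp
  have hkc : k * z = z * k := by
    have := hcent kt
    rw [Subgroup.mem_centralizer_iff] at this
    exact (this z (Set.mem_singleton z)).symm
  have hfixeq : (Finset.univ.filter (fun p => z p = p)) = z.supportᶜ := by
    ext p
    simp [Perm.mem_support]
  have hfix3' : (Finset.univ.filter (fun p => z p = p)).card = 3 := by
    rw [hfixeq, Finset.card_compl, hα, hzsupp]
  have hfix3 : (Finset.univ.filter (fun p => z p = p)).card ≤ 3 := hfix3'.le
  have hk64 : k ^ 64 = 1 := by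
    have h1 : kt ^ 64 = 1 := by
      rw [← hT64]; exact pow_card_eq_one'
    have h2 := congrArg (fun x : T => ((x : G) : Perm α)) h1
    simpa using h2
  -- `k` is an involution: `k p ∈ {p, z p}` on the support of `z`; use the order in the 2-group
  have hkk : k * k = 1 := by
    ext p
    simp only [Perm.mul_apply, Perm.one_apply]
    have hzzp : ∀ q, z (z q) = q := fun q => by
      have := congrArg (fun f : Perm α => f q) hzz
      simpa using this
    have hkzp : ∀ q, k (z q) = z (k q) := fun q => by
      have := congrArg (fun f : Perm α => f q) hkc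
      simpa using this
    by_cases hp : z p = p
    · -- on the three fixed points of `z`, `k` is a permutation of 2-power order
      exact sq_apply_of_fix hkc hfix3 hk64 p hp
    · rcases hkerprop p hp with h | h
      · rw [h, h]
      · rw [h, hkzp, h, hzzp]
  have hko : orderOf k = 2 := by
    apply orderOf_eq_prime
    · rw [pow_two]; exact hkk
    · exact hkne1
  have hkzne : k * z ≠ 1 := by
    intro h
    apply hknez
    have : k = z⁻¹ := eq_inv_of_mul_eq_one_left h
    rw [this]
    exact inv_eq_of_mul_eq_one_left hzz
  have hkzkz : (k * z) * (k * z) = 1 := by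
    rw [hkc, mul_assoc, ← mul_assoc k z k, hkc, mul_assoc, hkk, mul_one, hzz]
  have hkzo : orderOf (k * z) = 2 := by
    apply orderOf_eq_prime
    · rw [pow_two]; exact hkzkz
    · exact hkzne
  have hks : Perm.sign k = 1 := Perm.mem_alternatingGroup.1 (hA hkG)
  have hkzs : Perm.sign (k * z) = 1 := by rw [Perm.sign_mul, hks, hzs, one_mul]
  have hadd := card_support_add hzz hkc hkerprop
  have hf : (Finset.univ.filter (fun p => z p = p ∧ k p ≠ p)).card ≤ 3 := by
    refine le_trans (Finset.card_le_card ?_) hfix3
    intro p hp
    simp only [Finset.mem_filter, Finset.mem_univ, true_and] at hp ⊢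
    exact hp.1
  rw [hzsupp] at hadd
  rcases card_support_even_invol hα hko hks with h1 | h1
  · exact ⟨k, hkG, cycleType_of_card_support hα hko hks h1⟩
  · rcases card_support_even_invol hα hkzo hkzs with h2 | h2
    · exact ⟨k * z, G.mul_mem hkG hzG, cycleType_of_card_support hα hkzo hkzs h2⟩
    · omega

end Cfsg.Agent.Helper27.D11
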