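import Mathlib
import Cfsg.Agent.Lib.Helper3.J1ArithDefs

/-!
# S0448 piece UNAT (helper5): `nat_cfg`, placement of the two `u`-rows in the NATURAL case.

The two points `X1, X2` of `u` satisfy `u X2 = - u X1`, `D X1 = D X2` (degree equation), hence
`a, b, c` agree at `X1, X2` (orthogonality) and `tau² X1 = tau² X2` (class equation), which forces
`3a + 3b - 5c = 0` at `X1` and `X2`; this number is `±1, ±3, ±5` on the seven rows of `a, b, c`.
-/

set_option autoImplicit false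
set_option linter.unusedSectionVars false
set_option linter.unusedVariables false

namespace Cfsg.Agent.Helper3.J1A

variable {ι : Type*} [Fintype ι]

/-- a vector of norm 2 has exactly two entries `±1` -/
theorem unat_supp_two (f : ι → ℤ) (h : ∑ X, f X * f X = 2) :
    ∃ X1 X2, X1 ≠ X2 ∧ (f X1 = 1 ∨ f X1 = -1) ∧ (f X2 = 1 ∨ f X2 = -1) ∧
      ∀ X, X ≠ X1 → X ≠ X2 → f X = 0 := by
  classical
  have hnn : ∀ X, 0 ≤ f X * f X := fun X => mul_self_nonneg _
  obtain ⟨X1, hX1⟩ : ∃ X1, f X1 ≠ 0 := by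
    by_contra hcon
    push_neg at hcon
    have h0 : ∑ X, f X * f X = 0 := Finset.sum_eq_zero (fun X _ => by rw [hcon X]; ring)
    rw [h0] at h
    norm_num at h
  have e1 := Finset.add_sum_erase Finset.univ (fun X => f X * f X) (Finset.mem_univ X1)
  have hr1 : 0 ≤ ∑ X ∈ Finset.univ.erase X1, f X * f X := Finset.sum_nonneg (fun X _ => hnn X)
  have hp1 : 0 < f X1 * f X1 := mul_self_pos.mpr hX1
  have hv1 : f X1 = 1 ∨ f X1 = -1 := by
    have hle : f X1 * f X1 ≤ 2 := by linarith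
    have h1 : f X1 ≤ 1 := by nlinarith
    have h2 : -1 ≤ f X1 := by nlinarith
    omega
  have hsq1 : f X1 * f X1 = 1 := by rcases hv1 with h1 | h1 <;> rw [h1] <;> norm_num
  have hrest1 : ∑ X ∈ Finset.univ.erase X1, f X * f X = 1 := by linarith
  obtain ⟨X2, hX2m, hX2⟩ : ∃ X2 ∈ Finset.univ.erase X1, f X2 ≠ 0 := by
    by_contra hcon
    push_neg at hcon
    have h0 : ∑ X ∈ Finset.univ.erase X1, f X * f X = 0 :=
      Finset.sum_eq_zero (fun X hX => by rw [hcon X hX]; ring)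
    rw [h0] at hrest1
    norm_num at hrest1
  have e2 := Finset.add_sum_erase (Finset.univ.erase X1) (fun X => f X * f X) hX2m
  have hr2 : 0 ≤ ∑ X ∈ (Finset.univ.erase X1).erase X2, f X * f X :=
    Finset.sum_nonneg (fun X _ => hnn X)
  have hp2 : 0 < f X2 * f X2 := mul_self_pos.mpr hX2
  have hv2 : f X2 = 1 ∨ f X2 = -1 := by
    have hle : f X2 * f X2 ≤ 1 := by linarith
    have h1 : f X2 ≤ 1 := by nlinarith
    have h2 : -1 ≤ f X2 := by nlinarith
    omega
  have hsq2 : f X2 * f X2 = 1 := by rcases hv2 with h1 | h1 <;> rw [h1] <;> norm_num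
  have hrest2 : ∑ X ∈ (Finset.univ.erase X1).erase X2, f X * f X = 0 := by linarith
  have hz := (Finset.sum_eq_zero_iff_of_nonneg (fun X _ => hnn X)).mp hrest2
  refine ⟨X1, X2, ?_, hv1, hv2, ?_⟩
  · intro h12
    exact (Finset.ne_of_mem_erase hX2m) h12.symm
  · intro X hX1' hX2'
    have hm : X ∈ (Finset.univ.erase X1).erase X2 := by
      simp [hX1', hX2']
    exact mul_self_eq_zero.mp (hz X hm)

/-- the key computation: at the two points of `u` the number `3a + 3b - 5c` vanishes -/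
theorem unat_core {o : ι} {u a b c D : ι → ℤ} {g : ℕ} (h : Lat o u a b c D g) {X1 X2 : ι}
    (h12 : X1 ≠ X2) (hs1 : u X1 = 1 ∨ u X1 = -1) (hs2 : u X2 = 1 ∨ u X2 = -1)
    (hz : ∀ X, X ≠ X1 → X ≠ X2 → u X = 0) :
    3 * a X1 + 3 * b X1 - 5 * c X1 = 0 ∧ 3 * a X2 + 3 * b X2 - 5 * c X2 = 0 := by
  have hD1 := h.Dpos X1
  have hD2 := h.Dpos X2
  have eDu : D X1 * u X1 + D X2 * u X2 = 0 := by
    have := h.Du
    rwa [Fintype.sum_eq_add X1 X2 h12 (fun X hX => by rw [hz X hX.1 hX.2, mul_zero])] at this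
  have eua : u X1 * a X1 + u X2 * a X2 = 0 := by
    have := h.ua
    rwa [Fintype.sum_eq_add X1 X2 h12 (fun X hX => by rw [hz X hX.1 hX.2, zero_mul])] at this
  have eub : u X1 * b X1 + u X2 * b X2 = 0 := by
    have := h.ub
    rwa [Fintype.sum_eq_add X1 X2 h12 (fun X hX => by rw [hz X hX.1 hX.2, zero_mul])] at this
  have euc : u X1 * c X1 + u X2 * c X2 = 0 := by
    have := h.uc
    rwa [Fintype.sum_eq_add X1 X2 h12 (fun X hX => by rw [hz X hX.1 hX.2, zero_mul])] at this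
  have eCu : (tau u a b c X1 : ℚ) ^ 2 * u X1 / D X1 + (tau u a b c X2 : ℚ) ^ 2 * u X2 / D X2 = 0 := by
    have := h.Cu
    rwa [Fintype.sum_eq_add X1 X2 h12 (fun X hX => by rw [hz X hX.1 hX.2]; simp)] at this
  have hsD : u X2 = - u X1 ∧ D X1 = D X2 := by
    rcases hs1 with h1 | h1 <;> rcases hs2 with h2 | h2 <;> rw [h1, h2] at eDu ⊢ <;>
      exact ⟨by omega, by omega⟩
  obtain ⟨hs, hD⟩ := hsD
  have hu1 : u X1 ≠ 0 := by rcases hs1 with h1 | h1 <;> rw [h1] <;> norm_num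
  have ea : a X1 = a X2 := by
    rw [hs] at eua
    have h0 : u X1 * (a X1 - a X2) = 0 := by linear_combination eua
    rcases mul_eq_zero.mp h0 with h0 | h0
    · exact absurd h0 hu1
    · linarith
  have eb : b X1 = b X2 := by
    rw [hs] at eub
    have h0 : u X1 * (b X1 - b X2) = 0 := by linear_combination eub
    rcases mul_eq_zero.mp h0 with h0 | h0
    · exact absurd h0 hu1
    · linarith
  have ec : c X1 = c X2 := by
    rw [hs] at euc
    have h0 : u X1 * (c X1 - c X2) = 0 := by linear_combination euc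
    rcases mul_eq_zero.mp h0 with h0 | h0
    · exact absurd h0 hu1
    · linarith
  have etau : (tau u a b c X1 : ℚ) ^ 2 = (tau u a b c X2 : ℚ) ^ 2 := by
    have hDq : (D X1 : ℚ) = D X2 := by exact_mod_cast hD
    have hD2q : (D X2 : ℚ) ≠ 0 := by exact_mod_cast (ne_of_gt hD2)
    have hsq : (u X2 : ℚ) = - u X1 := by exact_mod_cast hs
    have hu1q : (u X1 : ℚ) ≠ 0 := by exact_mod_cast hu1
    rw [hDq, hsq] at eCu
    have h0 : ((tau u a b c X1 : ℚ) ^ 2 - (tau u a b c X2 : ℚ) ^ 2) * u X1 / D X2 = 0 := by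
      rw [← eCu]; ring
    rcases div_eq_zero_iff.mp h0 with h0 | h0
    · rcases mul_eq_zero.mp h0 with h0 | h0
      · linarith
      · exact absurd h0 hu1q
    · exact absurd h0 hD2q
  have etauZ : tau u a b c X1 ^ 2 = tau u a b c X2 ^ 2 := by exact_mod_cast etau
  unfold tau at etauZ
  rw [hs, ← ea, ← eb, ← ec] at etauZ
  have h16 : 16 * (u X1 * (3 * a X1 + 3 * b X1 - 5 * c X1)) = 0 := by linear_combination etauZ
  have h0 : u X1 * (3 * a X1 + 3 * b X1 - 5 * c X1) = 0 := by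
    rcases mul_eq_zero.mp h16 with h | h
    · norm_num at h
    · exact h
  have ht : 3 * a X1 + 3 * b X1 - 5 * c X1 = 0 := by
    rcases mul_eq_zero.mp h0 with h0 | h0
    · exact absurd h0 hu1
    · exact h0
  exact ⟨ht, by rw [← ea, ← eb, ← ec]; exact ht⟩

/-- on the seven rows of `a, b, c` the number `3a + 3b - 5c` is `±1, ±3, ±5` -/
theorem unat_t0_ne {o : ι} {a b c : ι → ℤ} {y : Fin 7 → ι} {e : Fin 7 → ℤ}
    (hN : NatABC o a b c y e) (i : Fin 7) :
    3 * a (y i) + 3 * b (y i) - 5 * c (y i) ≠ 0 := by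
  have h0 : 3 * a (y 0) + 3 * b (y 0) - 5 * c (y 0) ≠ 0 := by
    obtain ⟨h1, h2, h3⟩ := hN.v0
    rw [h1, h2, h3]; rcases hN.sign 0 with h | h <;> rw [h] <;> norm_num
  have h1 : 3 * a (y 1) + 3 * b (y 1) - 5 * c (y 1) ≠ 0 := by
    obtain ⟨h1, h2, h3⟩ := hN.v1
    rw [h1, h2, h3]; rcases hN.sign 1 with h | h <;> rw [h] <;> norm_num
  have h2 : 3 * a (y 2) + 3 * b (y 2) - 5 * c (y 2) ≠ 0 := by
    obtain ⟨h1, h2, h3⟩ := hN.v2
    rw [h1, h2, h3]; rcases hN.sign 2 with h | h <;> rw [h] <;> norm_num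
  have h3 : 3 * a (y 3) + 3 * b (y 3) - 5 * c (y 3) ≠ 0 := by
    obtain ⟨h1, h2, h3⟩ := hN.v3
    rw [h1, h2, h3]; rcases hN.sign 3 with h | h <;> rw [h] <;> norm_num
  have h4 : 3 * a (y 4) + 3 * b (y 4) - 5 * c (y 4) ≠ 0 := by
    obtain ⟨h1, h2, h3⟩ := hN.v4
    rw [h1, h2, h3]; rcases hN.sign 4 with h | h <;> rw [h] <;> norm_num
  have h5 : 3 * a (y 5) + 3 * b (y 5) - 5 * c (y 5) ≠ 0 := by
    obtain ⟨h1, h2, h3⟩ := hN.v5
    rw [h1, h2, h3]; rcases hN.sign 5 with h | h <;> rw [h] <;> norm_num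
  have h6 : 3 * a (y 6) + 3 * b (y 6) - 5 * c (y 6) ≠ 0 := by
    obtain ⟨h1, h2, h3⟩ := hN.v6
    rw [h1, h2, h3]; rcases hN.sign 6 with h | h <;> rw [h] <;> norm_num
  fin_cases i
  exacts [h0, h1, h2, h3, h4, h5, h6]

/-- extension of a 7-vector by two further entries -/
def unat_ext {α : Type*} (y : Fin 7 → α) (p q : α) : Fin 9 → α :=
  fun i => if h : i.val < 7 then y ⟨i.val, h⟩ else if i.val = 7 then p else q

theorem unat_ext_lt {α : Type*} (y : Fin 7 → α) (p q : α) (k : ℕ) (hk : k < 7) :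
    unat_ext y p q ⟨k, by omega⟩ = y ⟨k, hk⟩ := dif_pos hk

theorem unat_ext_7 {α : Type*} (y : Fin 7 → α) (p q : α) : unat_ext y p q 7 = p := by
  simp [unat_ext]

theorem unat_ext_8 {α : Type*} (y : Fin 7 → α) (p q : α) : unat_ext y p q 8 = q := by
  simp [unat_ext]

/-- PIECE UNAT -/
theorem nat_cfg {o : ι} {u a b c D : ι → ℤ} {g : ℕ} (h : Lat o u a b c D g) {y : Fin 7 → ι}
    {e : Fin 7 → ℤ} (hN : NatABC o a b c y e) :
    ∃ y' e', NatCfg o u a b c y' e' := by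
  classical
  obtain ⟨X1, X2, h12, hs1, hs2, hz⟩ := unat_supp_two u h.uu
  obtain ⟨ht1, ht2⟩ := unat_core h h12 hs1 hs2 hz
  have hX1y : ∀ i, X1 ≠ y i := fun i hi => unat_t0_ne hN i (hi ▸ ht1)
  have hX2y : ∀ i, X2 ≠ y i := fun i hi => unat_t0_ne hN i (hi ▸ ht2)
  have hX1o : X1 ≠ o := by
    intro h0; rw [h0, h.ou] at hs1; omega
  have hX2o : X2 ≠ o := by
    intro h0; rw [h0, h.ou] at hs2; omega
  have huy : ∀ i, u (y i) = 0 :=
    fun i => hz (y i) (fun hh => hX1y i hh.symm) (fun hh => hX2y i hh.symm)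
  obtain ⟨ha1, hb1, hc1⟩ := hN.zero X1 hX1o hX1y
  obtain ⟨ha2, hb2, hc2⟩ := hN.zero X2 hX2o hX2y
  have ey : ∀ (k : ℕ) (hk : k < 7), unat_ext y X1 X2 ⟨k, by omega⟩ = y ⟨k, hk⟩ :=
    fun k hk => unat_ext_lt y X1 X2 k hk
  have ee : ∀ (k : ℕ) (hk : k < 7), unat_ext e (u X1) (u X2) ⟨k, by omega⟩ = e ⟨k, hk⟩ :=
    fun k hk => unat_ext_lt e (u X1) (u X2) k hk
  refine ⟨unat_ext y X1 X2, unat_ext e (u X1) (u X2), ?_⟩
  refine
    { inj := ?_, ne := ?_, sign := ?_, zero := ?_, v0 := ?_, v1 := ?_, v2 := ?_, v3 := ?_,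
      v4 := ?_, v5 := ?_, v6 := ?_, v7 := ?_, v8 := ?_ }
  · -- injectivity
    intro i j hij
    have hi9 := i.isLt
    have hj9 := j.isLt
    by_cases hi : i.val < 7 <;> by_cases hj : j.val < 7
    · simp only [unat_ext, dif_pos hi, dif_pos hj] at hij
      have := hN.inj hij
      exact Fin.ext (by simpa [Fin.ext_iff] using this)
    · simp only [unat_ext, dif_pos hi, dif_neg hj] at hij
      by_cases hj7 : j.val = 7
      · rw [if_pos hj7] at hij; exact absurd hij.symm (hX1y _)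
      · rw [if_neg hj7] at hij; exact absurd hij.symm (hX2y _)
    · simp only [unat_ext, dif_neg hi, dif_pos hj] at hij
      by_cases hi7 : i.val = 7
      · rw [if_pos hi7] at hij; exact absurd hij (hX1y _)
      · rw [if_neg hi7] at hij; exact absurd hij (hX2y _)
    · simp only [unat_ext, dif_neg hi, dif_neg hj] at hij
      by_cases hi7 : i.val = 7 <;> by_cases hj7 : j.val = 7
      · exact Fin.ext (by omega)
      · rw [if_pos hi7, if_neg hj7] at hij; exact absurd hij h12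
      · rw [if_neg hi7, if_pos hj7] at hij; exact absurd hij.symm h12
      · exact Fin.ext (by omega)
  · intro i
    unfold unat_ext
    split_ifs
    · exact hN.ne _
    · exact hX1o
    · exact hX2o
  · intro i
    unfold unat_ext
    split_ifs
    · exact hN.sign _
    · exact hs1
    · exact hs2
  · intro X hXo hX
    have hXy : ∀ i : Fin 7, X ≠ y i := by
      intro i
      have := hX ⟨i.val, by omega⟩
      rwa [ey i.val i.isLt] at this
    have hX1' : X ≠ X1 := by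
      have := hX 7
      rwa [unat_ext_7] at this
    have hX2' : X ≠ X2 := by
      have := hX 8
      rwa [unat_ext_8] at this
    exact ⟨hz X hX1' hX2', hN.zero X hXo hXy⟩
  · have e1 : unat_ext y X1 X2 0 = y 0 := ey 0 (by norm_num)
    have e2 : unat_ext e (u X1) (u X2) 0 = e 0 := ee 0 (by norm_num)
    rw [e1, e2]; exact ⟨huy 0, hN.v0⟩
  · have e1 : unat_ext y X1 X2 1 = y 1 := ey 1 (by norm_num)
    have e2 : unat_ext e (u X1) (u X2) 1 = e 1 := ee 1 (by norm_num)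
    rw [e1, e2]; exact ⟨huy 1, hN.v1⟩
  · have e1 : unat_ext y X1 X2 2 = y 2 := ey 2 (by norm_num)
    have e2 : unat_ext e (u X1) (u X2) 2 = e 2 := ee 2 (by norm_num)
    rw [e1, e2]; exact ⟨huy 2, hN.v2⟩
  · have e1 : unat_ext y X1 X2 3 = y 3 := ey 3 (by norm_num)
    have e2 : unat_ext e (u X1) (u X2) 3 = e 3 := ee 3 (by norm_num)
    rw [e1, e2]; exact ⟨huy 3, hN.v3⟩
  · have e1 : unat_ext y X1 X2 4 = y 4 := ey 4 (by norm_num)
    have e2 : unat_ext e (u X1) (u X2) 4 = e 4 := ee 4 (by norm_num)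
    rw [e1, e2]; exact ⟨huy 4, hN.v4⟩
  · have e1 : unat_ext y X1 X2 5 = y 5 := ey 5 (by norm_num)
    have e2 : unat_ext e (u X1) (u X2) 5 = e 5 := ee 5 (by norm_num)
    rw [e1, e2]; exact ⟨huy 5, hN.v5⟩
  · have e1 : unat_ext y X1 X2 6 = y 6 := ey 6 (by norm_num)
    have e2 : unat_ext e (u X1) (u X2) 6 = e 6 := ee 6 (by norm_num)
    rw [e1, e2]; exact ⟨huy 6, hN.v6⟩
  · rw [unat_ext_7, unat_ext_7]; exact ⟨rfl, ha1, hb1, hc1⟩
  · rw [unat_ext_8, unat_ext_8]; exact ⟨rfl, ha2, hb2, hc2⟩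

end Cfsg.Agent.Helper3.J1A
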