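import Mathlib

/-!
# Affine permutation groups `V ⋊ K` realised inside `Equiv.Perm V`

`K` a group acting on an additive commutative group `V` through a monoid hom
`φ : K →* AddMonoid.End V`.  The affine maps `X ↦ φ k X + b` form a subgroup of `Equiv.Perm V`.
-/

set_option autoImplicit false

namespace Cfsg.Agent.H5Aff

open Finset

variable {K V : Type*} [Group K] [AddCommGroup V]

theorem phi_inv_apply (φ : K →* AddMonoid.End V) (k : K) (X : V) : φ k⁻¹ (φ k X) = X := by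
  have h : (φ k⁻¹ * φ k) X = X := by
    rw [← map_mul, inv_mul_cancel, map_one]; rfl
  exact h

theorem phi_apply_inv (φ : K →* AddMonoid.End V) (k : K) (X : V) : φ k (φ k⁻¹ X) = X := by
  have h : (φ k * φ k⁻¹) X = X := by
    rw [← map_mul, mul_inv_cancel, map_one]; rfl
  exact h

theorem phi_mul_apply (φ : K →* AddMonoid.End V) (k k' : K) (X : V) :
    φ (k * k') X = φ k (φ k' X) := by
  rw [map_mul]; rfl

theorem phi_one_apply (φ : K →* AddMonoid.End V) (X : V) : φ 1 X = X := by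
  rw [map_one]; rfl

/-- The affine permutation `X ↦ φ k X + b`. -/
def aff (φ : K →* AddMonoid.End V) (k : K) (b : V) : Equiv.Perm V where
  toFun X := φ k X + b
  invFun Y := φ k⁻¹ (Y - b)
  left_inv X := by
    simp only [add_sub_cancel_right]
    exact phi_inv_apply φ k X
  right_inv Y := by
    simp only
    rw [phi_apply_inv]; abel

@[simp] theorem aff_apply (φ : K →* AddMonoid.End V) (k : K) (b X : V) :
    aff φ k b X = φ k X + b := rfl

theorem aff_mul (φ : K →* AddMonoid.End V) (k k' : K) (b b' : V) :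
    aff φ k b * aff φ k' b' = aff φ (k * k') (φ k b' + b) := by
  ext X
  simp only [Equiv.Perm.coe_mul, Function.comp_apply, aff_apply, map_add, phi_mul_apply]
  abel

theorem aff_one (φ : K →* AddMonoid.End V) : aff φ 1 0 = 1 := by
  ext X
  simp [phi_one_apply]

theorem aff_inv (φ : K →* AddMonoid.End V) (k : K) (b : V) :
    (aff φ k b)⁻¹ = aff φ k⁻¹ (-(φ k⁻¹ b)) := by
  rw [inv_eq_iff_mul_eq_one, aff_mul, mul_inv_cancel, ← aff_one φ]
  congr 1
  rw [map_neg, phi_apply_inv]; abel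

theorem aff_pow (φ : K →* AddMonoid.End V) (k : K) (b : V) (n : ℕ) :
    (aff φ k b) ^ n = aff φ (k ^ n) (∑ i ∈ range n, φ (k ^ i) b) := by
  induction n with
  | zero => simp [aff_one]
  | succ n ih =>
    rw [pow_succ, ih, aff_mul, pow_succ, sum_range_succ, add_comm]

theorem aff_eq_one_iff (φ : K →* AddMonoid.End V) (k : K) (b : V) :
    aff φ k b = 1 ↔ b = 0 ∧ ∀ X, φ k X = X := by
  constructor
  · intro h
    have h0 : aff φ k b 0 = 0 := by rw [h]; rfl
    have hb : b = 0 := by simpa using h0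
    refine ⟨hb, fun X => ?_⟩
    have hX : aff φ k b X = X := by rw [h]; rfl
    simpa [hb] using hX
  · rintro ⟨rfl, h⟩
    ext X
    simp [h]

/-- the sum `∑_{i<n} k^i b` is fixed by `k` when `k^n` acts trivially. -/
theorem phi_sum_fixed (φ : K →* AddMonoid.End V) (k : K) (b : V) (n : ℕ)
    (hn : ∀ X, φ (k ^ n) X = X) :
    φ k (∑ i ∈ range n, φ (k ^ i) b) = ∑ i ∈ range n, φ (k ^ i) b := by
  have h1 : φ k (∑ i ∈ range n, φ (k ^ i) b) = ∑ i ∈ range n, φ (k ^ (i + 1)) b := by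
    rw [map_sum]
    refine sum_congr rfl fun i _ => ?_
    rw [pow_succ', phi_mul_apply]
  have h2 : ∑ i ∈ range n, φ (k ^ (i + 1)) b + φ (k ^ 0) b
      = ∑ i ∈ range n, φ (k ^ i) b + φ (k ^ n) b := by
    rw [← sum_range_succ' (fun i => φ (k ^ i) b) n, sum_range_succ]
  rw [h1]
  rw [hn b, pow_zero, phi_one_apply] at h2
  exact add_right_cancel h2

theorem aff_pow_eq_one_of_fpf (φ : K →* AddMonoid.End V) (k : K) (b : V) (n : ℕ)
    (hn : ∀ X, φ (k ^ n) X = X) (hf : ∀ X, φ k X = X → X = 0) :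
    (aff φ k b) ^ n = 1 := by
  rw [aff_pow, aff_eq_one_iff]
  exact ⟨hf _ (phi_sum_fixed φ k b n hn), hn⟩

theorem aff_zero_pow_eq_one_iff (φ : K →* AddMonoid.End V) (k : K) (n : ℕ) :
    (aff φ k 0) ^ n = 1 ↔ ∀ X, φ (k ^ n) X = X := by
  rw [aff_pow, aff_eq_one_iff]
  simp

/-- if `k^n` acts trivially and `3 • V = 0` then `(aff k b)^(n*3) = 1`. -/
theorem aff_pow_mul_three (φ : K →* AddMonoid.End V) (k : K) (b : V) (n : ℕ)
    (hn : ∀ X, φ (k ^ n) X = X) (h3 : ∀ X : V, 3 • X = 0) :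
    (aff φ k b) ^ (n * 3) = 1 := by
  rw [pow_mul, aff_pow φ k b n]
  set S := ∑ i ∈ range n, φ (k ^ i) b
  ext X
  simp only [pow_succ, pow_zero, one_mul, Equiv.Perm.coe_mul, Function.comp_apply, aff_apply, hn,
    Equiv.Perm.coe_one, id_eq]
  have := h3 S
  rw [add_assoc, add_assoc, add_eq_left]
  rw [← this]; abel

/-- if `k^n` acts as `-1` then `(aff k b)^(n*2) = 1`. -/
theorem aff_pow_mul_two (φ : K →* AddMonoid.End V) (k : K) (b : V) (n : ℕ)
    (hn : ∀ X, φ (k ^ n) X = -X) :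
    (aff φ k b) ^ (n * 2) = 1 := by
  rw [pow_mul, aff_pow φ k b n]
  set S := ∑ i ∈ range n, φ (k ^ i) b
  ext X
  simp only [pow_succ, pow_zero, one_mul, Equiv.Perm.coe_mul, Function.comp_apply, aff_apply, hn,
    Equiv.Perm.coe_one, id_eq]
  abel

/-- The group of all affine maps. -/
def affGroup (φ : K →* AddMonoid.End V) : Subgroup (Equiv.Perm V) where
  carrier := {σ | ∃ k b, σ = aff φ k b}
  mul_mem' := by
    rintro _ _ ⟨k, b, rfl⟩ ⟨k', b', rfl⟩
    exact ⟨_, _, aff_mul φ k k' b b'⟩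
  one_mem' := ⟨1, 0, (aff_one φ).symm⟩
  inv_mem' := by
    rintro _ ⟨k, b, rfl⟩
    exact ⟨_, _, aff_inv φ k b⟩

theorem mem_affGroup (φ : K →* AddMonoid.End V) (σ : Equiv.Perm V) :
    σ ∈ affGroup φ ↔ ∃ k b, σ = aff φ k b := Iff.rfl

theorem aff_mem (φ : K →* AddMonoid.End V) (k : K) (b : V) : aff φ k b ∈ affGroup φ :=
  ⟨k, b, rfl⟩

/-- The translation subgroup. -/
def transGroup (φ : K →* AddMonoid.End V) : Subgroup (Equiv.Perm V) where
  carrier := {σ | ∃ b, σ = aff φ 1 b}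
  mul_mem' := by
    rintro _ _ ⟨b, rfl⟩ ⟨b', rfl⟩
    refine ⟨φ 1 b' + b, ?_⟩
    rw [aff_mul, mul_one]
  one_mem' := ⟨0, (aff_one φ).symm⟩
  inv_mem' := by
    rintro _ ⟨b, rfl⟩
    refine ⟨-(φ 1⁻¹ b), ?_⟩
    rw [aff_inv, inv_one]

theorem trans_conj (φ : K →* AddMonoid.End V) (k : K) (b c : V) :
    aff φ k b * aff φ 1 c * (aff φ k b)⁻¹ = aff φ 1 (φ k c) := by
  rw [aff_inv, aff_mul, aff_mul, mul_one, mul_inv_cancel]
  congr 1
  rw [map_neg, phi_apply_inv]
  abel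

/-- translations form a normal subgroup of the affine group. -/
theorem transGroup_normal (φ : K →* AddMonoid.End V) :
    ((transGroup φ).subgroupOf (affGroup φ)).Normal := by
  constructor
  rintro ⟨n, hnH⟩ hn ⟨g, hg⟩
  rw [Subgroup.mem_subgroupOf] at hn ⊢
  obtain ⟨c, rfl⟩ := hn
  obtain ⟨k, b, rfl⟩ := hg
  exact ⟨φ k c, trans_conj φ k b c⟩

theorem transGroup_isPGroup (φ : K →* AddMonoid.End V) (h3 : ∀ X : V, 3 • X = 0) :
    IsPGroup 3 ((transGroup φ).subgroupOf (affGroup φ)) := by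
  rintro ⟨⟨n, hnH⟩, hn⟩
  rw [Subgroup.mem_subgroupOf] at hn
  obtain ⟨c, rfl⟩ := hn
  refine ⟨1, ?_⟩
  apply Subtype.ext
  apply Subtype.ext
  simp only [pow_one, SubmonoidClass.mk_pow, Subgroup.coe_one]
  have := aff_pow_mul_three φ 1 c 1 (fun X => by rw [pow_one, phi_one_apply]) h3
  simpa using this

theorem transGroup_ne_bot (φ : K →* AddMonoid.End V) (c : V) (hc : c ≠ 0) :
    ((transGroup φ).subgroupOf (affGroup φ)) ≠ ⊥ := by
  intro h
  have hmem : (⟨aff φ 1 c, aff_mem φ 1 c⟩ : affGroup φ) ∈ (transGroup φ).subgroupOf (affGroup φ) := by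
    rw [Subgroup.mem_subgroupOf]; exact ⟨c, rfl⟩
  rw [h, Subgroup.mem_bot] at hmem
  have h1 : aff φ 1 c = 1 := congrArg Subtype.val hmem
  rw [aff_eq_one_iff] at h1
  exact hc h1.1

end Cfsg.Agent.H5Aff
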