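import Mathlib
import Cfsg.Agent.Lib.Helper7.BG13R
import Cfsg.Agent.Lib.Helper7.BG13A1
import Cfsg.Agent.Lib.Helper18.BG13Q6
import Cfsg.Agent.S0023
import Cfsg.Agent.S0025
import Cfsg.Agent.S1443

/-!
# Bender-Glauberman 13.11 (the "tau3-world"), part A: general lemmas (helper5)
-/

set_option autoImplicit false
set_option linter.style.haveILetI false
set_option linter.unusedSectionVars false
set_option linter.unusedVariables false

namespace Cfsg.Agent.Helper5.BG1311

open Cfsg Subgroup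
open scoped commutatorElement
open Cfsg.Agent.Helper15 (IsSylowIn isSylowIn_map_subtype exists_isSylowIn_ge exists_isSylowIn
  isSylowIn_of_not_dvd_relIndex card_map_conj map_conj_mono)

universe u

section typelevel

variable {T : Type u} [Group T] [Finite T]

/-- transfer: an element of an abelian Sylow `p`-subgroup which is central and lies in the
commutator subgroup is trivial -/
theorem eq_one_of_central_of_mem_commutator' {p : ℕ} [Fact p.Prime] (P : Sylow p T)
    (hPc : ∀ a ∈ (P : Subgroup T), ∀ b ∈ (P : Subgroup T), a * b = b * a) {x : T}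
    (hxP : x ∈ (P : Subgroup T)) (hxZ : ∀ g : T, g * x = x * g) (hxc : x ∈ commutator T) :
    x = 1 := by
  have hp : p.Prime := Fact.out
  letI : CommGroup ↥(P : Subgroup T) :=
    { (inferInstance : Group ↥(P : Subgroup T)) with
      mul_comm := fun a b => Subtype.ext (hPc a a.2 b b.2) }
  have key : ∀ (k : ℕ) (g₀ : T), g₀⁻¹ * x ^ k * g₀ ∈ (P : Subgroup T) →
      g₀⁻¹ * x ^ k * g₀ = x ^ k := by
    intro k g₀ _
    have h1 : Commute g₀ x := hxZ g₀
    have h2 : Commute g₀ (x ^ k) := h1.pow_right k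
    rw [mul_assoc, ← h2.eq, inv_mul_cancel_left]
  have h1 := MonoidHom.transfer_eq_pow (MonoidHom.id ↥(P : Subgroup T)) x key
  have h2 : MonoidHom.transfer (MonoidHom.id ↥(P : Subgroup T)) x = 1 := by
    have := Abelianization.commutator_subset_ker
      (MonoidHom.transfer (MonoidHom.id ↥(P : Subgroup T))) hxc
    exact MonoidHom.mem_ker.mp this
  rw [h2] at h1
  have h3 : x ^ (P : Subgroup T).index = 1 := by
    have := congrArg Subtype.val h1
    simpa using this.symm
  obtain ⟨k, hk⟩ := P.isPGroup' ⟨x, hxP⟩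
  have h4 : x ^ p ^ k = 1 := by simpa using congrArg Subtype.val hk
  have h5 : orderOf x ∣ (P : Subgroup T).index := orderOf_dvd_of_pow_eq_one h3
  have h6 : orderOf x ∣ p ^ k := orderOf_dvd_of_pow_eq_one h4
  have h7 : (p ^ k).Coprime (P : Subgroup T).index :=
    Nat.Coprime.pow_left k ((Nat.Prime.coprime_iff_not_dvd hp).mpr P.not_dvd_index)
  exact orderOf_eq_one_iff.mp (Nat.eq_one_of_dvd_coprimes h7 h6 h5)

/-- with a normal `q`-complement and abelian Sylow `q`-subgroups, `q`-elements of the commutator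
subgroup are trivial -/
theorem eq_one_of_mem_commutator_of_pcompl' {q : ℕ} [Fact q.Prime]
    (h : HasNormalPComplement q T)
    (hab : ∀ P : Sylow q T, ∀ a ∈ (P : Subgroup T), ∀ b ∈ (P : Subgroup T), a * b = b * a)
    {x : T} (hxc : x ∈ commutator T) {k : ℕ} (hxq : x ^ q ^ k = 1) : x = 1 := by
  have hq : q.Prime := Fact.out
  obtain ⟨P, N, hN, hc⟩ := h
  haveI := hN
  have hcomm : commutator T ≤ N := by
    rw [← Subgroup.Normal.quotient_commutative_iff_commutator_le]
    refine ⟨⟨fun a b => ?_⟩⟩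
    induction a using QuotientGroup.induction_on with | _ a => ?_
    induction b using QuotientGroup.induction_on with | _ b => ?_
    obtain ⟨⟨⟨n₁, hn₁⟩, ⟨s₁, hs₁⟩⟩, h1⟩ := hc.surjective a
    obtain ⟨⟨⟨n₂, hn₂⟩, ⟨s₂, hs₂⟩⟩, h2⟩ := hc.surjective b
    simp only at h1 h2
    have e1 : (QuotientGroup.mk a : T ⧸ N) = QuotientGroup.mk s₁ := by
      rw [← h1, QuotientGroup.mk_mul, (QuotientGroup.eq_one_iff n₁).mpr hn₁, one_mul]
    have e2 : (QuotientGroup.mk b : T ⧸ N) = QuotientGroup.mk s₂ := by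
      rw [← h2, QuotientGroup.mk_mul, (QuotientGroup.eq_one_iff n₂).mpr hn₂, one_mul]
    rw [e1, e2, ← QuotientGroup.mk_mul, ← QuotientGroup.mk_mul, hab P s₁ hs₁ s₂ hs₂]
  have hxN : x ∈ N := hcomm hxc
  -- `|N|` is prime to `q`
  have hidx' : (P : Subgroup T).index = Nat.card ↥N := hc.index_eq_card
  have hNq : ¬ q ∣ Nat.card ↥N := by rw [← hidx']; exact P.not_dvd_index
  have h5 : orderOf x ∣ Nat.card ↥N := by
    have := orderOf_dvd_natCard (⟨x, hxN⟩ : ↥N)
    rwa [Subgroup.orderOf_mk] at this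
  have h6 : orderOf x ∣ q ^ k := orderOf_dvd_of_pow_eq_one hxq
  have h7 : (q ^ k).Coprime (Nat.card ↥N) :=
    Nat.Coprime.pow_left k ((Nat.Prime.coprime_iff_not_dvd hq).mpr hNq)
  exact orderOf_eq_one_iff.mp (Nat.eq_one_of_dvd_coprimes h7 h6 h5)

end typelevel

section sub

variable {G : Type u} [Group G] [Finite G]

omit [Finite G] in
theorem mem_commutator_subtype {E : Subgroup G} {x : G} (hxE : x ∈ E) (hxc : x ∈ ⁅E, E⁆) :
    (⟨x, hxE⟩ : ↥E) ∈ commutator ↥E := by
  rw [← Subgroup.map_subtype_commutator] at hxc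
  obtain ⟨y, hy, hyx⟩ := hxc
  have : y = ⟨x, hxE⟩ := Subtype.ext hyx
  rwa [← this]

/-- transfer: an element of an abelian Sylow `p`-subgroup `P` of `E` which is central in `E` and
lies in `E'` is trivial -/
theorem eq_one_of_central_of_mem_commutator {E P : Subgroup G} {p : ℕ} [Fact p.Prime]
    (hP : IsSylowIn p P E) (hPc : ∀ a ∈ P, ∀ b ∈ P, a * b = b * a) {x : G} (hxP : x ∈ P)
    (hxZ : ∀ g ∈ E, g * x = x * g) (hxc : x ∈ ⁅E, E⁆) : x = 1 := by
  have hxE : x ∈ E := hP.le hxP
  have h := eq_one_of_central_of_mem_commutator' (T := ↥E) hP.toSylow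
    (by
      intro a ha b hb
      rw [hP.coe_toSylow, Subgroup.mem_subgroupOf] at ha hb
      exact Subtype.ext (hPc a ha b hb))
    (x := ⟨x, hxE⟩)
    (by rw [hP.coe_toSylow, Subgroup.mem_subgroupOf]; exact hxP)
    (fun g => Subtype.ext (hxZ g g.2))
    (mem_commutator_subtype hxE hxc)
  exact congrArg Subtype.val h

/-- if `K` has a normal `q`-complement and an abelian Sylow `q`-subgroup `S`, then
`S ∩ K' = 1` -/
theorem inf_commutator_eq_bot_of_pcompl {K S : Subgroup G} {q : ℕ} [Fact q.Prime]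
    (h : HasNormalPComplement q ↥K) (hS : IsSylowIn q S K)
    (hSc : ∀ a ∈ S, ∀ b ∈ S, a * b = b * a) : S ⊓ ⁅K, K⁆ = ⊥ := by
  rw [eq_bot_iff]
  rintro x ⟨hxS, hxc⟩
  rw [Subgroup.mem_bot]
  have hxK : x ∈ K := hS.le hxS
  obtain ⟨k, hk⟩ := hS.isPGroup ⟨x, hxS⟩
  have hxq : x ^ q ^ k = 1 := by simpa using congrArg Subtype.val hk
  have hab : ∀ P : Sylow q ↥K, ∀ a ∈ (P : Subgroup ↥K), ∀ b ∈ (P : Subgroup ↥K),
      a * b = b * a := by
    intro P a ha b hb
    have hP' := isSylowIn_map_subtype P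
    obtain ⟨m, -, hm⟩ := hS.exists_conj hP'
    have ha' : (a : G) ∈ (P : Subgroup ↥K).map K.subtype := ⟨a, ha, rfl⟩
    have hb' : (b : G) ∈ (P : Subgroup ↥K).map K.subtype := ⟨b, hb, rfl⟩
    rw [← hm, Cfsg.Agent.Helper15.mem_map_conj_iff] at ha' hb'
    have h1 := hSc _ ha' _ hb'
    apply Subtype.ext
    have h2 : m⁻¹ * ((a : G) * (b : G)) * m = m⁻¹ * ((b : G) * (a : G)) * m := by
      calc m⁻¹ * ((a : G) * (b : G)) * m = (m⁻¹ * (a : G) * m) * (m⁻¹ * (b : G) * m) := by group
        _ = (m⁻¹ * (b : G) * m) * (m⁻¹ * (a : G) * m) := h1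
        _ = m⁻¹ * ((b : G) * (a : G)) * m := by group
    have h3 : (a : G) * (b : G) = (b : G) * (a : G) := by
      have h4 := mul_right_cancel h2
      exact mul_left_cancel h4
    simpa using h3
  have h2 := eq_one_of_mem_commutator_of_pcompl' (T := ↥K) h hab
    (mem_commutator_subtype hxK hxc) (k := k) (Subtype.ext (by simpa using hxq))
  exact congrArg Subtype.val h2

/-- two Hall subgroups for complementary sets of primes generate the group -/
theorem sup_eq_of_isPiHallOf {E A B : Subgroup G} {π₁ π₂ : Set ℕ} (hA : IsPiHallOf π₁ A E)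
    (hB : IsPiHallOf π₂ B E)
    (hE : ∀ s : ℕ, s.Prime → s ∣ Nat.card ↥E → s ∈ π₁ ∨ s ∈ π₂) : A ⊔ B = E := by
  have hle : A ⊔ B ≤ E := sup_le hA.1 hB.1
  apply le_antisymm hle
  rw [← Subgroup.relIndex_eq_one]
  by_contra hne
  obtain ⟨s, hs, hsd⟩ := Nat.exists_prime_and_dvd hne
  have hsE : s ∣ Nat.card ↥E := hsd.trans (Subgroup.relIndex_dvd_card _ _)
  rcases hE s hs hsE with h | h
  · apply hA.2.2 s hs h
    rw [← Subgroup.relIndex_mul_relIndex A (A ⊔ B) E le_sup_left hle]
    exact Dvd.dvd.mul_left hsd _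
  · apply hB.2.2 s hs h
    rw [← Subgroup.relIndex_mul_relIndex B (A ⊔ B) E le_sup_right hle]
    exact Dvd.dvd.mul_left hsd _

omit [Finite G] in
/-- an element commuting with a non-identity element of a subgroup of prime order centralizes
that subgroup -/
theorem mem_centralizer_of_commute_of_card_prime {R : Subgroup G} (hR : (Nat.card ↥R).Prime)
    {e u : G} (he : e ∈ R) (he1 : e ≠ 1) (heu : e * u = u * e) :
    u ∈ centralizer (R : Set G) := by
  haveI : Fact (Nat.card ↥R).Prime := ⟨hR⟩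
  have hgen : zpowers (⟨e, he⟩ : ↥R) = ⊤ :=
    zpowers_eq_top_of_prime_card (p := Nat.card ↥R) rfl (by
      intro h1; exact he1 (congrArg Subtype.val h1))
  rw [Subgroup.mem_centralizer_iff]
  intro y hy
  have hy' : (⟨y, hy⟩ : ↥R) ∈ zpowers (⟨e, he⟩ : ↥R) := by rw [hgen]; trivial
  obtain ⟨k, hk⟩ := Subgroup.mem_zpowers_iff.mp hy'
  have hyk : y = e ^ k := by
    have := congrArg Subtype.val hk
    simpa using this.symm
  rw [hyk]
  exact ((Commute.zpow_left (show Commute e u from heu) k).eq)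

omit [Finite G] in
/-- symmetry of `≤ centralizer` -/
theorem le_centralizer_symm {A B : Subgroup G} (h : A ≤ centralizer (B : Set G)) :
    B ≤ centralizer (A : Set G) := by
  intro b hb
  rw [Subgroup.mem_centralizer_iff]
  intro a ha
  exact ((Subgroup.mem_centralizer_iff.mp (h ha)) b hb).symm

omit [Finite G] in
/-- two subgroups of prime order which do not centralize each other act fixed-point-freely on
each other -/
theorem fpf_of_not_le_centralizer {R X : Subgroup G} (hR : (Nat.card ↥R).Prime)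
    (hX : (Nat.card ↥X).Prime) (hne : ¬ R ≤ centralizer (X : Set G)) :
    ∀ e ∈ R, e ≠ 1 → ∀ u ∈ X, e * u = u * e → u = 1 := by
  intro e he he1 u hu heu
  by_contra hu1
  apply hne
  have h1 : u ∈ centralizer (R : Set G) := mem_centralizer_of_commute_of_card_prime hR he he1 heu
  intro r hr
  have h2 : u * r = r * u := ((Subgroup.mem_centralizer_iff.mp h1) r hr).symm
  exact mem_centralizer_of_commute_of_card_prime hX hu hu1 h2

/-- a nontrivial `p`-subgroup contains a subgroup of order `p` -/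
theorem exists_le_card_eq_prime' {p : ℕ} [Fact p.Prime] {T : Subgroup G} (hT : IsPGroup p ↥T)
    (hT1 : T ≠ ⊥) : ∃ x ∈ T, orderOf x = p ∧ Nat.card ↥(zpowers x) = p := by
  have hp : p.Prime := Fact.out
  have hd : p ∣ Nat.card ↥T := Cfsg.Agent.Helper22.BG13.dvd_card_of_isPGroup_ne_bot hT hT1
  obtain ⟨x, hx⟩ := exists_prime_orderOf_dvd_card' p hd
  refine ⟨x, x.2, ?_, ?_⟩
  · rw [← hx]; exact Subgroup.orderOf_coe x
  · rw [Nat.card_zpowers, ← hx]; exact Subgroup.orderOf_coe x

/-- in a cyclic subgroup, every nontrivial `p`-subgroup contains every subgroup of order `p` -/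
theorem le_of_ne_bot_of_isCyclic {C D P : Subgroup G} {p : ℕ} [Fact p.Prime]
    (hC : IsCyclic ↥C) (hDC : D ≤ C) (hDp : IsPGroup p ↥D) (hD1 : D ≠ ⊥) (hPC : P ≤ C)
    (hP : Nat.card ↥P = p) : P ≤ D := by
  obtain ⟨d, hdD, hod, hcd⟩ := exists_le_card_eq_prime' hDp hD1
  have hP'D : zpowers d ≤ D := by rw [Subgroup.zpowers_le]; exact hdD
  intro x hx
  apply hP'D
  apply Cfsg.Agent.Helper18.BG13Q.mem_of_pow_eq_one_of_isCyclic hC (hP'D.trans hDC) hcd (hPC hx)
  have := pow_card_eq_one' (G := ↥P) (x := ⟨x, hx⟩)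
  rw [hP] at this
  exact congrArg Subtype.val this

omit [Finite G] in
theorem centralizer_zpowers_eq (x : G) :
    centralizer ((zpowers x : Subgroup G) : Set G) = centralizer ({x} : Set G) := by
  apply le_antisymm
  · apply Subgroup.centralizer_le
    intro y hy
    rw [Set.mem_singleton_iff] at hy
    rw [hy]
    exact Subgroup.mem_zpowers x
  · intro c hc
    rw [Subgroup.mem_centralizer_iff]
    intro y hy
    rw [SetLike.mem_coe, Subgroup.mem_zpowers_iff] at hy
    obtain ⟨n, rfl⟩ := hy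
    have h1 : Commute x c := Subgroup.mem_centralizer_singleton_iff.mp hc |>.symm
    exact (h1.zpow_left n).eq

end sub

end Cfsg.Agent.Helper5.BG1311
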