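import Mathlib
import Cfsg.Agent.Lib.Helper5.BG1311A

/-!
# Bender-Glauberman 13.11 (the "tau3-world"), part B: the context (helper5)

`M` maximal, `E` a complement of `M_σ`, `p ∈ τ₃(M)`, `X ≤ E` of order `p` with
`Y = C_{M_σ}(X) ≠ 1`, and `H ≥ N_G(X)` maximal.
-/

set_option autoImplicit false
set_option linter.style.haveILetI false
set_option linter.unusedSectionVars false
set_option linter.unusedVariables false

namespace Cfsg.Agent.Helper5.BG1311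

open Cfsg Subgroup
open scoped commutatorElement
open Cfsg.Agent.Helper14.BGTrans Cfsg.Agent.Helper14.BGUniq
open Cfsg.Agent.Helper10 (IsPiNum)
open Cfsg.Agent.Helper15 (IsSylowIn isSylowIn_map_subtype exists_isSylowIn_ge exists_isSylowIn
  isSylowIn_of_not_dvd_relIndex card_map_conj map_conj_mono map_conj_one)
open Cfsg.Agent.Helper22.BG13
open Cfsg.Agent.Helper18.BG13P
open Cfsg.Agent.Helper18.BG13Q (Hyps)
open Cfsg.Agent.Helper20.MinInv (comm_le_of_le_normalizer le_centralizer_of_comm_comm_eq_bot)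

universe u

variable {G : Type u} [Group G]

/-- statement of S1423 -/
def P1423 (G : Type u) [Group G] : Prop :=
  ∀ (M : Subgroup G) (_ : IsCoatom M) (p : ℕ) [Fact p.Prime] (_ : p ∈ sigma M) (X : Subgroup G)
    (_ : X ≤ M) (_ : Nat.card X = p) (P : Sylow p ↥(sigmaCore M))
    (_ : p ∈ beta M ∨ X ≤ ⁅sigmaCore M, sigmaCore M⁆),
    (centralizer (X : Set G) ≤ M ∧ ∀ L : Subgroup G, IsCoatom L →
      centralizer (X : Set G) ≤ L → L = M) ∧
      InUniqueMaximal ((P : Subgroup ↥(sigmaCore M)).map (sigmaCore M).subtype) ∧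
      (P : Subgroup ↥(sigmaCore M)).map (sigmaCore M).subtype ≤ M

/-- statement of S1426 -/
def P1426 (G : Type u) [Group G] : Prop :=
  ∀ (M : Subgroup G) (_ : IsCoatom M) (E : Subgroup G) (_ : IsComplIn E (sigmaCore M) M),
    sigmaCore M ⊓ centralizer (E : Set G) ≤ ⁅sigmaCore M, sigmaCore M⁆ ∧
      ⁅sigmaCore M, E⁆ = sigmaCore M ∧
      ∀ g : G, g ∉ M → IsCyclic ↥(sigmaCore M ⊓ M.map (MulAut.conj g).toMonoidHom) ∧
        (∀ p : ℕ, p.Prime →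
          p ∣ Nat.card ↥(sigmaCore M ⊓ M.map (MulAut.conj g).toMonoidHom) → p ∉ beta M) ∧
        sigmaCore M ⊓ M.map (MulAut.conj g).toMonoidHom ⊓ ⁅sigmaCore M, sigmaCore M⁆ = ⊥

/-- statement of S1428 -/
def P1428 (G : Type u) [Group G] : Prop :=
  ∀ (M : Subgroup G) (_ : IsCoatom M) (E : Subgroup G) (_ : IsComplIn E (sigmaCore M) M) (p : ℕ)
    (_ : p ∈ tau1 M) (P : Subgroup G) (_ : P ≤ E) (_ : Nat.card P = p)
    (R : Subgroup G) (_ : R ≤ E ⊓ centralizer (P : Set G)) (_ : (Nat.card R).Prime),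
    sigmaCore M ⊓ centralizer (P : Set G) ≤ sigmaCore M ⊓ centralizer (R : Set G)

/-- statement of S1378 -/
def P1378 (G : Type u) [Group G] : Prop :=
  (∀ p : ℕ, p.Prime → p ∣ Nat.card G → ∃ M : Subgroup G, IsCoatom M ∧ p ∈ sigma M) ∧
    ∀ M N : Subgroup G, IsCoatom M → IsCoatom N → (sigma M ∩ sigma N).Nonempty →
      ∃ g : G, N = M.map (MulAut.conj g).toMonoidHom

/-- the asymmetry theorem (BG 12.17): two non-conjugate maximal subgroups `M`, `L` cannot both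
have `p ∈ τ₁`, with a subgroup `P ≤ M ∩ L` of order `p` acting fixed-point-freely on
`P`-invariant Sylow subgroups `Q`, `T` of `M ∩ L` such that `N_G(Q) ≤ L`, `N_G(T) ≤ M`,
`q ∈ σ(L)`, `t ∈ σ(M)` (= helper25's `AsymS`) -/
def Asym (G : Type u) [Group G] : Prop :=
  ∀ (M L : Subgroup G), IsCoatom M → IsCoatom L →
    (∀ g : G, L ≠ M.map (MulAut.conj g).toMonoidHom) →
    ∀ (p : ℕ) [Fact p.Prime], p ∈ tau1 M → p ∈ tau1 L →
    ∀ P : Subgroup G, P ≤ M ⊓ L → Nat.card P = p →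
    ∀ (q t : ℕ) [Fact q.Prime] [Fact t.Prime] (Q T : Subgroup G),
      IsSylowIn q Q (M ⊓ L) → IsSylowIn t T (M ⊓ L) →
      P ≤ normalizer (Q : Set G) → P ≤ normalizer (T : Set G) →
      Q ⊓ centralizer (P : Set G) = ⊥ → T ⊓ centralizer (P : Set G) = ⊥ →
      normalizer (Q : Set G) ≤ L → normalizer (T : Set G) ≤ M →
      q ∈ sigma L → t ∈ sigma M → False

/-- all the hypotheses -/
structure Hyps3 (G : Type u) [Group G] : Prop where
  h : Hyps G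
  h1423 : P1423 G
  h1426 : P1426 G
  h1428 : P1428 G
  h1378 : P1378 G
  asym : Asym G

/-- the context -/
structure Ctx (M E X : Subgroup G) (p : ℕ) (H : Subgroup G) : Prop where
  y : Hyps3 G
  hM : IsCoatom M
  hE : IsComplIn E (sigmaCore M) M
  hp : p ∈ tau3 M
  hXE : X ≤ E
  hXc : Nat.card ↥X = p
  hY : sigmaCore M ⊓ centralizer (X : Set G) ≠ ⊥
  hH : IsCoatom H
  hNH : normalizer (X : Set G) ≤ H

variable [Finite G]

/-- a subgroup of prime order of a complement `E` of `M_σ` has order outside `σ(M)` -/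
theorem not_mem_sigma_of_le_compl (h1350 : Hyp1350 G) {M E R : Subgroup G} (hM : IsCoatom M)
    (hE : IsComplIn E (sigmaCore M) M) {r : ℕ} [Fact r.Prime] (hRE : R ≤ E)
    (hRr : IsPGroup r ↥R) (hR1 : R ≠ ⊥) : r ∉ sigma M := by
  intro h
  have hRσ : R ≤ sigmaCore M :=
    le_sigmaCore_of_isPiNum h1350 hM (hRE.trans hE.1) (isPiNum_of_isPGroup h hRr)
  have h2 : R ≤ E ⊓ sigmaCore M := le_inf hRE hRσ
  rw [hE.2.2.1] at h2
  exact hR1 (le_bot_iff.mp h2)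

namespace Ctx

variable {M E X : Subgroup G} {p : ℕ} {H : Subgroup G}

omit [Finite G] in
theorem pp (c : Ctx M E X p H) : p.Prime := c.hp.1

omit [Finite G] in
theorem hpM (c : Ctx M E X p H) : p ∉ sigma M := c.hp.2.1

omit [Finite G] in
theorem hr1 (c : Ctx M E X p H) : PRankLE p 1 ↥M := c.hp.2.2.2

omit [Finite G] in
theorem hXM (c : Ctx M E X p H) : X ≤ M := c.hXE.trans c.hE.1

omit [Finite G] in
theorem hXp (c : Ctx M E X p H) : IsPGroup p ↥X :=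
  haveI : Fact p.Prime := ⟨c.pp⟩
  IsPGroup.of_card (n := 1) (by rw [c.hXc, pow_one])

theorem hX1 (c : Ctx M E X p H) : X ≠ ⊥ :=
  haveI : Fact p.Prime := ⟨c.pp⟩
  card_prime_ne_bot c.hXc

omit [Finite G] in
theorem hXH (c : Ctx M E X p H) : X ≤ H := Subgroup.le_normalizer.trans c.hNH

omit [Finite G] in
theorem hCXH (c : Ctx M E X p H) : centralizer (X : Set G) ≤ H :=
  (Subgroup.centralizer_le_normalizer _).trans c.hNH

theorem hsolvM (c : Ctx M E X p H) : Group.IsSolvable ↥M := isSolvable_of_ne_top c.y.h.hG c.hM.1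

theorem hsolvH (c : Ctx M E X p H) : Group.IsSolvable ↥H := isSolvable_of_ne_top c.y.h.hG c.hH.1

theorem hsolvE (c : Ctx M E X p H) : Group.IsSolvable ↥E :=
  isSolvable_of_ne_top c.y.h.hG (fun h => c.hM.1 (top_le_iff.mp (h ▸ c.hE.1)))

omit [Finite G] in
theorem hhall (c : Ctx M E X p H) : IsPiHallOf (sigma M) (sigmaCore M) M := (c.y.h.h1350 M c.hM).1

theorem hcop (c : Ctx M E X p H) : (Nat.card ↥E).Coprime (Nat.card ↥(sigmaCore M)) :=
  Cfsg.Agent.Helper4.BG144.complIn_coprime_of_hall c.hE c.hhall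

theorem hEσ (c : Ctx M E X p H) : E ≤ normalizer ((sigmaCore M : Subgroup G) : Set G) :=
  c.hE.1.trans (le_normalizer_sigmaCore M)

/-- a Hall `τ₃(M)`-subgroup of `E` containing `X` -/
theorem exists_E3 (c : Ctx M E X p H) : ∃ E₃ : Subgroup G, X ≤ E₃ ∧ IsPiHallOf (tau3 M) E₃ E := by
  apply Cfsg.Agent.Helper4.BGSig.exists_isPiHallOf_ge c.hsolvE (tau3 M) c.hXE
  intro s hs hsd
  rw [c.hXc] at hsd
  rw [(Nat.prime_dvd_prime_iff_eq hs c.pp).mp hsd]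
  exact c.hp

omit [Finite G] in
theorem E3cyc (c : Ctx M E X p H) {E₃ : Subgroup G} (h3 : IsPiHallOf (tau3 M) E₃ E) :
    IsCyclic ↥E₃ := ((c.y.h.h1415 M c.hM E c.hE).2.2 E₃ h3).1

omit [Finite G] in
theorem E3le (c : Ctx M E X p H) {E₃ : Subgroup G} (h3 : IsPiHallOf (tau3 M) E₃ E) :
    E₃ ≤ ⁅E, E⁆ := ((c.y.h.h1415 M c.hM E c.hE).2.2 E₃ h3).2.1

omit [Finite G] in
theorem E3norm (c : Ctx M E X p H) {E₃ : Subgroup G} (h3 : IsPiHallOf (tau3 M) E₃ E) :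
    E ≤ normalizer (E₃ : Set G) := ((c.y.h.h1415 M c.hM E c.hE).2.2 E₃ h3).2.2

/-- `X` is normal in `E` -/
theorem hEX (c : Ctx M E X p H) : E ≤ normalizer (X : Set G) := by
  obtain ⟨E₃, hXE₃, h3⟩ := c.exists_E3
  exact (c.E3norm h3).trans (normalizer_le_normalizer_of_le_cyclic (c.E3cyc h3) hXE₃)

theorem hXE' (c : Ctx M E X p H) : X ≤ ⁅E, E⁆ := by
  obtain ⟨E₃, hXE₃, h3⟩ := c.exists_E3
  exact hXE₃.trans (c.E3le h3)

theorem hEH (c : Ctx M E X p H) : E ≤ H := c.hEX.trans c.hNH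

/-- `H` is not conjugate to `M` -/
theorem hconj (c : Ctx M E X p H) : ∀ g : G, H ≠ M.map (MulAut.conj g).toMonoidHom := by
  haveI : Fact p.Prime := ⟨c.pp⟩
  intro g hg
  by_cases hpH : p ∈ sigma H
  · rw [hg] at hpH
    exact c.hpM (mem_sigma_of_map_conj hpH)
  · obtain ⟨⟨hr2H, hr1H⟩, -, -⟩ := c.y.h.h1409 H c.hH p hpH X c.hXc c.hNH
    apply hr1H
    rw [hg]
    exact pRankLE_map_conj c.hr1 g

theorem hne (c : Ctx M E X p H) : H ≠ M := fun h => c.hconj 1 (by rw [map_conj_one]; exact h)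

/-- `M_σ ∩ H = C_{M_σ}(X)` -/
theorem hYeq (c : Ctx M E X p H) :
    sigmaCore M ⊓ H = sigmaCore M ⊓ centralizer (X : Set G) := by
  haveI : Fact p.Prime := ⟨c.pp⟩
  have hkey : sigmaCore M ⊓ H ≤ centralizer (X : Set G) :=
    centralizes_of_normalizer_le c.y.h.hG c.y.h.h1403 c.y.h.h1404 c.y.h.h1413 c.y.h.h1416
      c.y.h.h1350 c.y.h.h1414 c.y.h.h1417 c.y.h.h1418 c.y.h.h1415 c.y.h.h1409
      c.hM c.hH c.hpM c.hr1 c.hXc c.hNH c.hXp c.hXM c.hXH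
  exact le_antisymm (le_inf inf_le_left hkey) (inf_le_inf_left _ c.hCXH)

theorem hYH (c : Ctx M E X p H) : sigmaCore M ⊓ H ≠ ⊥ := by rw [c.hYeq]; exact c.hY

/-- `E` normalizes `Y = M_σ ∩ H` -/
theorem hEY (c : Ctx M E X p H) :
    E ≤ normalizer ((sigmaCore M ⊓ H : Subgroup G) : Set G) :=
  le_normalizer_inf_of_le c.hEσ (c.hEH.trans Subgroup.le_normalizer)

/-- `τ₂(M)` is empty -/
theorem tau2_empty (c : Ctx M E X p H) (l : ℕ) : l ∉ tau2 M := by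
  intro hl
  haveI : Fact l.Prime := ⟨hl.1⟩
  haveI : Fact p.Prime := ⟨c.pp⟩
  obtain ⟨B, hBE, hBe, hBc⟩ :=
    Cfsg.Agent.Helper18.BG13Q.exists_elemAb_le_compl c.y.h c.hM c.hE hl
  have hEB : E ≤ normalizer (B : Set G) :=
    (c.y.h.h1418 M c.hM E c.hE l hl B ⟨hBE, hBe, hBc⟩).1.1
  have hlp : l ≠ p := by
    rintro rfl
    exact hl.2.2.2 c.hr1
  have hBX : ⁅B, X⁆ = ⊥ := by
    have h1 : ⁅B, X⁆ ≤ B := comm_le_of_le_normalizer (c.hXE.trans hEB)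
    have h2 : ⁅B, X⁆ ≤ X := by
      rw [Subgroup.commutator_comm]
      exact comm_le_of_le_normalizer (hBE.trans c.hEX)
    have h3 : B ⊓ X = ⊥ := by
      apply Subgroup.inf_eq_bot_of_coprime
      rw [hBc, c.hXc]
      exact Nat.Coprime.pow_left 2 ((Nat.coprime_primes hl.1 c.pp).mpr hlp)
    rw [eq_bot_iff, ← h3]
    exact le_inf h1 h2
  have hBCX : B ≤ centralizer (X : Set G) :=
    Subgroup.commutator_eq_bot_iff_le_centralizer.mp hBX
  have hBH : B ≤ H := hBCX.trans c.hCXH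
  exact c.hYH (sigmaCore_inf_eq_bot_of_elemAb c.y.h.hG c.y.h.h1403 c.y.h.h1417 c.hM c.hH c.hne
    hl.2.1 (hBE.trans c.hE.1) hBH hBe hBc)

/-- the primes dividing `|E|` lie in `τ₁(M) ∪ τ₃(M)` -/
theorem tau_cases (c : Ctx M E X p H) {r : ℕ} (hr : r.Prime) (hrE : r ∣ Nat.card ↥E) :
    r ∉ sigma M ∧ PRankLE r 1 ↥M ∧ (r ∈ tau1 M ∨ r ∈ tau3 M) := by
  have hrM : r ∉ sigma M := by
    intro h
    have := c.hhall.2.2 r hr h
    rw [Cfsg.Agent.Helper4.BG144.complIn_relIndex_eq' c.hE] at this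
    exact this hrE
  have hr2 : PRankLE r 2 ↥M := by
    by_contra h
    exact hrM (Cfsg.Agent.Helper23.BG10.alpha_subset_sigma c.y.h.hG c.y.h.h1403 c.hM ⟨hr, h⟩)
  have hr1 : PRankLE r 1 ↥M := by
    by_contra h
    exact c.tau2_empty r ⟨hr, hrM, hr2, h⟩
  have hrdM : r ∣ Nat.card ↥M := hrE.trans (Subgroup.card_dvd_of_le c.hE.1)
  refine ⟨hrM, hr1, ?_⟩
  by_cases h : r ∣ Nat.card ↥⁅M, M⁆
  · exact Or.inr ⟨hr, hrM, h, hr1⟩
  · exact Or.inl ⟨hr, hrM, hrdM, h, hr1⟩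

/-- (F3): `M_σ ∩ H` centralizes every subgroup of prime power order of `E'` -/
theorem cent_comm (c : Ctx M E X p H) {s : ℕ} [Fact s.Prime] {P₁ : Subgroup G}
    (hP₁ : IsPGroup s ↥P₁) (hP₁1 : P₁ ≠ ⊥) (hP₁E' : P₁ ≤ ⁅E, E⁆) :
    sigmaCore M ⊓ H ≤ centralizer (P₁ : Set G) := by
  have hP₁E : P₁ ≤ E := hP₁E'.trans (commutator_self_le E)
  have hsM : s ∉ sigma M := not_mem_sigma_of_le_compl c.y.h.h1350 c.hM c.hE hP₁E hP₁ hP₁1
  exact centralizes_of_le_normal c.y.h.hG c.y.h.h1403 c.y.h.h1414 c.hM c.hH c.hconj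
    (commutator_self_le H)
    (le_normalizer_commutator_of_le Subgroup.le_normalizer Subgroup.le_normalizer)
    (fun q hq hqH hqβ => ((c.y.h.h1414 H c.hH).2.2.2.2 q hq hqH hqβ).1) hsM hP₁
    (hP₁E.trans c.hE.1) (hP₁E'.trans (Subgroup.commutator_mono c.hEH c.hEH))

/-- (P3): if `R ≤ E` of prime order `r` does not centralize `M_σ ∩ H`, then `r ∈ τ₁(H)` and
`p ∈ σ(H)` -/
theorem tau1_of_not_centralized (c : Ctx M E X p H) {R : Subgroup G} {r : ℕ} (hRE : R ≤ E)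
    (hRc : Nat.card ↥R = r) (hr : r.Prime)
    (hbad : ¬ sigmaCore M ⊓ H ≤ centralizer (R : Set G)) : r ∈ tau1 H ∧ p ∈ sigma H := by
  haveI : Fact r.Prime := ⟨hr⟩
  haveI : Fact p.Prime := ⟨c.pp⟩
  have hG := c.y.h.hG
  have hRp : IsPGroup r ↥R := IsPGroup.of_card (n := 1) (by rw [hRc, pow_one])
  have hR1 : R ≠ ⊥ := card_prime_ne_bot hRc
  have hRM : R ≤ M := hRE.trans c.hE.1
  have hRH : R ≤ H := hRE.trans c.hEH
  have hrM : r ∉ sigma M := not_mem_sigma_of_le_compl c.y.h.h1350 c.hM c.hE hRE hRp hR1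
  -- `r ∉ σ(H)`
  have hrH : r ∉ sigma H := by
    intro h
    have hRσ : R ≤ sigmaCore H :=
      le_sigmaCore_of_isPiNum c.y.h.h1350 c.hH hRH (isPiNum_of_isPGroup h hRp)
    exact hbad (centralizes_of_le_normal hG c.y.h.h1403 c.y.h.h1414 c.hM c.hH c.hconj
      (sigmaCore_le H) (le_normalizer_sigmaCore H)
      (fun q hq hqH hqβ => ((c.y.h.h1414 H c.hH).2.2.2.2 q hq hqH hqβ).2.1) hrM hRp hRM hRσ)
  have hrdH : r ∣ Nat.card ↥H := by
    rw [← hRc]; exact Subgroup.card_dvd_of_le hRH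
  have hr2H : PRankLE r 2 ↥H := by
    by_contra h
    exact hrH (Cfsg.Agent.Helper23.BG10.alpha_subset_sigma hG c.y.h.h1403 c.hH ⟨hr, h⟩)
  -- `r ∉ τ₂(H)`
  have hr1H : PRankLE r 1 ↥H := by
    by_contra h
    have hτ : r ∈ tau2 H := ⟨hr, hrH, hr2H, h⟩
    exact hbad (centralizes_of_mem_tau2 hG c.y.h.h1403 c.y.h.h1404 c.y.h.h1413 c.y.h.h1416
      c.y.h.h1350 c.y.h.h1414 c.y.h.h1417 c.y.h.h1418 c.y.h.h1415
      c.hM c.hH c.hconj hrM hτ hRp hRM hRH)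
  -- `r ∉ τ₃(H)`
  have hrH' : ¬ r ∣ Nat.card ↥⁅H, H⁆ := by
    intro hd
    have hτ3 : r ∈ tau3 H := ⟨hr, hrH, hd, hr1H⟩
    obtain ⟨hHhall, -, -⟩ := c.y.h.h1350 H c.hH
    have hcopH := coprime_of_isPiHallOf hHhall
    have hRcop : (Nat.card ↥R).Coprime (Nat.card ↥(sigmaCore H)) := by
      rw [hRc]
      exact (Nat.Prime.coprime_iff_not_dvd hr).mpr (not_dvd_card_sigmaCore hr hrH)
    obtain ⟨EH, hEH, hREH⟩ := exists_isComplIn_ge c.hsolvH (sigmaCore_le H) hcopH hRH hRcop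
    have hEHtop : EH ≠ ⊤ := fun h => c.hH.1 (top_le_iff.mp (h ▸ hEH.1))
    have hsolvE : Group.IsSolvable ↥EH := isSolvable_of_ne_top hG hEHtop
    obtain ⟨E₃, hRE₃, hE₃⟩ := Cfsg.Agent.Helper4.BGSig.exists_isPiHallOf_ge hsolvE (tau3 H) hREH
      (fun s hs hsd => by
        rw [hRc] at hsd
        rw [(Nat.prime_dvd_prime_iff_eq hs hr).mp hsd]
        exact hτ3)
    obtain ⟨-, hE₃', -⟩ := (c.y.h.h1415 H c.hH EH hEH).2.2 E₃ hE₃
    have hRH' : R ≤ ⁅H, H⁆ := (hRE₃.trans hE₃').trans (Subgroup.commutator_mono hEH.1 hEH.1)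
    exact hbad (centralizes_of_le_normal hG c.y.h.h1403 c.y.h.h1414 c.hM c.hH c.hconj
      (commutator_self_le H)
      (le_normalizer_commutator_of_le Subgroup.le_normalizer Subgroup.le_normalizer)
      (fun q hq hqH hqβ => ((c.y.h.h1414 H c.hH).2.2.2.2 q hq hqH hqβ).1) hrM hRp hRM hRH')
  refine ⟨⟨hr, hrH, hrdH, hrH', hr1H⟩, ?_⟩
  -- `p ∈ σ(H)`
  by_contra hpH
  obtain ⟨⟨hr2H', hr1H'⟩, -, -⟩ := c.y.h.h1409 H c.hH p hpH X c.hXc c.hNH
  have hτ : p ∈ tau2 H := ⟨c.pp, hpH, hr2H', hr1H'⟩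
  have hs := Cfsg.Agent.Helper7.BG13R.strong_propA hG c.y.h.h1403 c.y.h.h1404 c.y.h.h1413
    c.y.h.h1416 c.y.h.h1350 c.y.h.h1414 c.y.h.h1417 c.y.h.h1418 c.y.h.h1415 c.y.h.h1408
    c.hM c.hH c.hconj c.hpM hτ c.hXp c.hX1 c.hXM c.hXH
  rw [Subgroup.commutator_eq_bot_iff_le_centralizer] at hs
  exact hbad (hs.trans (Subgroup.centralizer_le (le_inf hRM hRH)))

/-- (P2): if `p ∈ σ(H)`, `r ∈ τ₁(H)`, and a non-identity element `x` of an `r`-subgroup `R̂ ≤ E`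
centralizes `X`, then `R̂` centralizes `X` -/
theorem centralizes_of_elt (c : Ctx M E X p H) (hpH : p ∈ sigma H) {r : ℕ} [Fact r.Prime]
    (hrH : r ∈ tau1 H) {R' : Subgroup G} (hR' : IsPGroup r ↥R') (hR'E : R' ≤ E) {x : G}
    (hx : x ∈ R') (hx1 : x ≠ 1) (hxX : X ≤ centralizer ({x} : Set G)) :
    X ≤ centralizer (R' : Set G) := by
  haveI : Fact p.Prime := ⟨c.pp⟩
  have hr : r.Prime := Fact.out
  have hG := c.y.h.hG
  have hR'H : R' ≤ H := hR'E.trans c.hEH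
  obtain ⟨hHhall, -, -⟩ := c.y.h.h1350 H c.hH
  have hcopH := coprime_of_isPiHallOf hHhall
  obtain ⟨k, hk⟩ := hR'.exists_card_eq
  have hRcop : (Nat.card ↥R').Coprime (Nat.card ↥(sigmaCore H)) := by
    rw [hk]
    exact Nat.Coprime.pow_left k
      ((Nat.Prime.coprime_iff_not_dvd hr).mpr (not_dvd_card_sigmaCore hr hrH.2.1))
  obtain ⟨EH, hEH, hREH⟩ := exists_isComplIn_ge c.hsolvH (sigmaCore_le H) hcopH hR'H hRcop
  obtain ⟨S, hR'S, hS⟩ := exists_isSylowIn_ge hR' hREH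
  have hS1 : S ≠ ⊥ := by
    intro h
    rw [h] at hR'S
    exact hx1 (Subgroup.mem_bot.mp (hR'S hx))
  have hSc : IsCyclic ↥S :=
    Cfsg.Agent.Helper18.BG13Q.isCyclic_of_pRankLE_one_of_le hG (hS.le.trans hEH.1) hS.isPGroup hS1
      hrH.2.2.2.2
  have hpa := Cfsg.Agent.Helper18.BG13Q.prime_action' c.y.h c.hH hEH hS hS1 hSc x (hR'S hx) hx1
  have hXσ : X ≤ sigmaCore H :=
    le_sigmaCore_of_isPiNum c.y.h.h1350 c.hH c.hXH (isPiNum_of_isPGroup hpH c.hXp)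
  have h1 : X ≤ sigmaCore H ⊓ centralizer ({x} : Set G) := le_inf hXσ hxX
  rw [hpa] at h1
  exact (h1.trans inf_le_right).trans (Subgroup.centralizer_le hR'S)

end Ctx

end Cfsg.Agent.Helper5.BG1311
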