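import Mathlib
import Cfsg.Agent.Lib.Helper5.BG1311B
import Cfsg.Agent.Lib.Helper22.BG127D

/-!
# Bender-Glauberman 13.11 (the "tau3-world"), part C: prime action of `E₁`, the kill lemma
(helper5)
-/

set_option autoImplicit false
set_option linter.style.haveILetI false
set_option linter.unusedSectionVars false
set_option linter.unusedVariables false

namespace Cfsg.Agent.Helper5.BG1311

open Cfsg Subgroup
open scoped commutatorElement
open Cfsg.Agent.Helper14.BGTrans Cfsg.Agent.Helper14.BGUniq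
open Cfsg.Agent.Helper10 (IsPiNum)
open Cfsg.Agent.Helper15 (IsSylowIn isSylowIn_map_subtype exists_isSylowIn_ge exists_isSylowIn
  isSylowIn_of_not_dvd_relIndex card_map_conj map_conj_mono map_conj_one)
open Cfsg.Agent.Helper22.BG13
open Cfsg.Agent.Helper22.BG127 (isSylowIn_of_isPiHallOf)
open Cfsg.Agent.Helper18.BG13P
open Cfsg.Agent.Helper18.BG13Q (Hyps comm_of_isCyclic isCyclic_of_pRankLE_one_of_le prime_action')
open Cfsg.Agent.Helper20.MinInv (comm_le_of_le_normalizer le_centralizer_of_comm_comm_eq_bot)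

universe u

variable {G : Type u} [Group G] [Finite G]

/-- a Sylow `q`-subgroup of a complement `E` of `M_σ` is a Sylow subgroup of `M`, `q ∉ σ(M)` -/
theorem isSylowIn_of_compl {M E S : Subgroup G} (hE : IsComplIn E (sigmaCore M) M) {q : ℕ}
    [Fact q.Prime] (hqM : q ∉ sigma M) (hS : IsSylowIn q S E) : IsSylowIn q S M := by
  have hq : q.Prime := Fact.out
  apply isSylowIn_of_not_dvd_relIndex hS.isPGroup (hS.le.trans hE.1)
  rw [← Subgroup.relIndex_mul_relIndex S E M hS.le hE.1,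
    Cfsg.Agent.Helper4.BG144.complIn_relIndex_eq hE]
  intro h
  rcases (Nat.Prime.dvd_mul hq).mp h with h | h
  · exact hS.not_dvd_relIndex h
  · exact not_dvd_card_sigmaCore hq hqM h

namespace Ctx

variable {M E X : Subgroup G} {p : ℕ} {H : Subgroup G}

omit [Finite G] in
theorem E1cyc (c : Ctx M E X p H) {E₁ : Subgroup G} (h1 : IsPiHallOf (tau1 M) E₁ E) :
    IsCyclic ↥E₁ := (c.y.h.h1415 M c.hM E c.hE).2.1 E₁ h1

/-- (P1) prime action of `E₁`: `C_{M_σ}(R) = C_{M_σ}(E₁)` for every subgroup `R` of prime order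
of a Hall `τ₁(M)`-subgroup `E₁` of `E` -/
theorem cent_E1 (c : Ctx M E X p H) {E₁ : Subgroup G} (h1 : IsPiHallOf (tau1 M) E₁ E)
    {R : Subgroup G} (hRE₁ : R ≤ E₁) (hRc : (Nat.card ↥R).Prime) :
    sigmaCore M ⊓ centralizer (R : Set G) = sigmaCore M ⊓ centralizer (E₁ : Set G) := by
  have hcyc := c.E1cyc h1
  have hcomm := comm_of_isCyclic hcyc
  apply le_antisymm
  · refine le_inf inf_le_left ?_
    apply le_centralizer_symm
    apply le_of_forall_sylow_le
    intro r' _ R' hR'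
    have hr' : r'.Prime := Fact.out
    by_cases hR'1 : R' = ⊥
    · rw [hR'1]; exact bot_le
    obtain ⟨x, hxR', hox, hcx⟩ := exists_le_card_eq_prime' hR'.isPGroup hR'1
    have hx1 : x ≠ 1 := by
      rintro rfl
      rw [orderOf_one] at hox
      exact hr'.one_lt.ne hox
    have hxE₁ : x ∈ E₁ := hR'.le hxR'
    have hZE₁ : zpowers x ≤ E₁ := by rw [Subgroup.zpowers_le]; exact hxE₁
    have hr'τ : r' ∈ tau1 M :=
      h1.2.1 r' hr' (by rw [← hcx]; exact Subgroup.card_dvd_of_le hZE₁)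
    have hrτ : Nat.card ↥R ∈ tau1 M := h1.2.1 _ hRc (Subgroup.card_dvd_of_le hRE₁)
    have hR'E : IsSylowIn r' R' E := isSylowIn_of_isPiHallOf h1 hr'τ hR'
    have hRZ : R ≤ centralizer ((zpowers x : Subgroup G) : Set G) := by
      intro a ha
      rw [Subgroup.mem_centralizer_iff]
      intro b hb
      exact hcomm b (hZE₁ hb) a (hRE₁ ha)
    have e1 := c.y.h1428 M c.hM E c.hE r' hr'τ (zpowers x) (hZE₁.trans h1.1) hcx R
      (le_inf (hRE₁.trans h1.1) hRZ) hRc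
    have e2 := c.y.h1428 M c.hM E c.hE _ hrτ R (hRE₁.trans h1.1) rfl (zpowers x)
      (le_inf (hZE₁.trans h1.1) (le_centralizer_symm hRZ)) (by rw [hcx]; exact hr')
    have e3 : sigmaCore M ⊓ centralizer (R : Set G) =
        sigmaCore M ⊓ centralizer ((zpowers x : Subgroup G) : Set G) := le_antisymm e2 e1
    have hR'cyc : IsCyclic ↥R' := isCyclic_of_le_aux hR'.le hcyc
    have hpa := prime_action' c.y.h c.hM c.hE hR'E hR'1 hR'cyc x hxR' hx1
    rw [e3, centralizer_zpowers_eq, hpa]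
    exact le_centralizer_symm inf_le_right
  · exact inf_le_inf_left _ (Subgroup.centralizer_le hRE₁)

/-- `E = E₃ E₁` -/
theorem sup_E3_E1 (c : Ctx M E X p H) {E₃ E₁ : Subgroup G} (h3 : IsPiHallOf (tau3 M) E₃ E)
    (h1 : IsPiHallOf (tau1 M) E₁ E) : E₃ ⊔ E₁ = E :=
  sup_eq_of_isPiHallOf h3 h1 (fun s hs hsd => (c.tau_cases hs hsd).2.2.symm)

/-- (L3) some Sylow subgroup of `E₁` does not centralize `X` -/
theorem exists_sylow_not_centralizing (c : Ctx M E X p H) {E₁ : Subgroup G}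
    (h1 : IsPiHallOf (tau1 M) E₁ E) :
    ∃ (r : ℕ) (R' : Subgroup G), r.Prime ∧ IsSylowIn r R' E₁ ∧
      ¬ R' ≤ centralizer (X : Set G) := by
  haveI : Fact p.Prime := ⟨c.pp⟩
  by_contra hcon
  push Not at hcon
  have hE₁X : E₁ ≤ centralizer (X : Set G) := by
    apply le_of_forall_sylow_le
    intro r hr R' hR'
    exact hcon r R' hr.out hR'
  obtain ⟨E₃, hXE₃, h3⟩ := c.exists_E3
  have hcomm3 := comm_of_isCyclic (c.E3cyc h3)
  have hE₃X : E₃ ≤ centralizer (X : Set G) := by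
    intro a ha
    rw [Subgroup.mem_centralizer_iff]
    intro b hb
    exact hcomm3 b (hXE₃ hb) a ha
  have hEX : E ≤ centralizer (X : Set G) := by
    rw [← c.sup_E3_E1 h3 h1]
    exact sup_le hE₃X hE₁X
  obtain ⟨X₁, hXX₁, hX₁⟩ := exists_isSylowIn_ge c.hXp c.hXE
  have hX₁1 : X₁ ≠ ⊥ := fun h => c.hX1 (le_bot_iff.mp (h ▸ hXX₁))
  have hX₁cyc : IsCyclic ↥X₁ :=
    isCyclic_of_pRankLE_one_of_le c.y.h.hG (hX₁.le.trans c.hE.1) hX₁.isPGroup hX₁1 c.hr1
  rcases X.bot_or_exists_ne_one with h | ⟨x, hx, hx1⟩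
  · exact c.hX1 h
  · apply hx1
    apply eq_one_of_central_of_mem_commutator hX₁ (comm_of_isCyclic hX₁cyc) (hXX₁ hx)
    · intro g hg
      exact (Subgroup.mem_centralizer_iff.mp (hEX hg)) x hx |>.symm
    · exact c.hXE' hx

/-- the **kill lemma**: a subgroup `R ≤ E` of prime order `r ∈ τ₁(M)` which moves `X` cannot act
fixed-point-freely on an `R`-invariant Sylow subgroup `T ≠ 1` of `M ∩ H` with `T ≤ M_σ` and
`N_G(T) ≤ M` (by the asymmetry theorem) -/
theorem kill (c : Ctx M E X p H) {R : Subgroup G} {r : ℕ} (hr : r.Prime) (hRE : R ≤ E)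
    (hRc : Nat.card ↥R = r) (hrτ : r ∈ tau1 M) (hRX : ¬ R ≤ centralizer (X : Set G))
    {t : ℕ} [Fact t.Prime] {T : Subgroup G} (hT : IsSylowIn t T (M ⊓ H))
    (hTσ : T ≤ sigmaCore M) (hT1 : T ≠ ⊥) (hRT : R ≤ normalizer (T : Set G))
    (hfpf : T ⊓ centralizer (R : Set G) = ⊥) (hNT : normalizer (T : Set G) ≤ M) : False := by
  haveI : Fact p.Prime := ⟨c.pp⟩
  haveI : Fact r.Prime := ⟨hr⟩
  have hbad : ¬ sigmaCore M ⊓ H ≤ centralizer (R : Set G) := by
    intro h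
    apply hT1
    rw [eq_bot_iff, ← hfpf]
    exact le_inf le_rfl ((le_inf hTσ (hT.le.trans inf_le_right)).trans h)
  obtain ⟨hrH, hpH⟩ := c.tau1_of_not_centralized hRE hRc hr hbad
  have htσ : t ∈ sigma M :=
    isPiNum_card_sigmaCore M t Fact.out
      ((dvd_card_of_isPGroup_ne_bot hT.isPGroup hT1).trans (Subgroup.card_dvd_of_le hTσ))
  obtain ⟨E₃, hXE₃, h3⟩ := c.exists_E3
  obtain ⟨X₁, hXX₁, hX₁⟩ := exists_isSylowIn_ge c.hXp hXE₃
  have hX₁E : IsSylowIn p X₁ E := isSylowIn_of_isPiHallOf h3 c.hp hX₁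
  have hX₁cyc : IsCyclic ↥X₁ := isCyclic_of_le_aux hX₁.le (c.E3cyc h3)
  have hX₁M : IsSylowIn p X₁ M := isSylowIn_of_compl c.hE c.hpM hX₁E
  have hX₁MH : IsSylowIn p X₁ (M ⊓ H) :=
    hX₁M.of_le (le_inf hX₁M.le (hX₁E.le.trans c.hEH)) inf_le_left
  have hEX₁ : E ≤ normalizer (X₁ : Set G) :=
    (c.E3norm h3).trans (normalizer_le_normalizer_of_le_cyclic (c.E3cyc h3) hX₁.le)
  have hfX₁ : X₁ ⊓ centralizer (R : Set G) = ⊥ := by
    by_contra hne
    apply hRX
    apply le_centralizer_symm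
    exact (le_of_ne_bot_of_isCyclic hX₁cyc inf_le_left (hX₁.isPGroup.to_le inf_le_left) hne
      hXX₁ c.hXc).trans inf_le_right
  have hNX₁ : normalizer (X₁ : Set G) ≤ H :=
    (normalizer_le_normalizer_of_le_cyclic hX₁cyc hXX₁).trans c.hNH
  exact c.y.asym M H c.hM c.hH c.hconj r hrτ hrH R
    (le_inf (hRE.trans c.hE.1) (hRE.trans c.hEH)) hRc p t X₁ T hX₁MH hT
    (hRE.trans hEX₁) hRT hfX₁ hfpf hNX₁ hNT hpH htσ

end Ctx

end Cfsg.Agent.Helper5.BG1311
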