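import Mathlib
import Cfsg.Agent.Lib.Helper5.BG1311C

/-!
# Bender-Glauberman 13.11 (the "tau3-world"), part D: `σ(M) ⊆ β(M)` (helper5)
-/

set_option autoImplicit false
set_option linter.style.haveILetI false
set_option linter.unusedSectionVars false
set_option linter.unusedVariables false

namespace Cfsg.Agent.Helper5.BG1311

open Cfsg Subgroup
open scoped commutatorElement
open Cfsg.Agent.Helper14.BGTrans Cfsg.Agent.Helper14.BGUniq
open Cfsg.Agent.Helper10 (IsPiNum)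
open Cfsg.Agent.Helper15 (IsSylowIn isSylowIn_map_subtype exists_isSylowIn_ge exists_isSylowIn
  isSylowIn_of_not_dvd_relIndex card_map_conj map_conj_mono map_conj_one)
open Cfsg.Agent.Helper22.BG13
open Cfsg.Agent.Helper22.BG127 (isSylowIn_of_isPiHallOf)
open Cfsg.Agent.Helper18.BG13P
open Cfsg.Agent.Helper18.BG13Q (Hyps comm_of_isCyclic isCyclic_of_pRankLE_one_of_le prime_action')
open Cfsg.Agent.Helper20.MinInv (comm_le_of_le_normalizer le_centralizer_of_comm_comm_eq_bot)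

universe u

variable {G : Type u} [Group G] [Finite G]

omit [Finite G] in
theorem sup_le_centralizer_symm {A B D : Subgroup G} (hA : D ≤ centralizer (A : Set G))
    (hB : D ≤ centralizer (B : Set G)) : D ≤ centralizer ((A ⊔ B : Subgroup G) : Set G) :=
  le_centralizer_symm (sup_le (le_centralizer_symm hA) (le_centralizer_symm hB))

namespace Ctx

variable {M E X : Subgroup G} {p : ℕ} {H : Subgroup G}

/-- a Hall `τ₁(M)`-subgroup of `E` containing a given `τ₁(M)`-subgroup -/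
theorem exists_E1 (c : Ctx M E X p H) {R : Subgroup G} (hRE : R ≤ E)
    (hR : ∀ s : ℕ, s.Prime → s ∣ Nat.card ↥R → s ∈ tau1 M) :
    ∃ E₁ : Subgroup G, R ≤ E₁ ∧ IsPiHallOf (tau1 M) E₁ E :=
  Cfsg.Agent.Helper4.BGSig.exists_isPiHallOf_ge c.hsolvE (tau1 M) hRE hR

theorem exists_E1' (c : Ctx M E X p H) : ∃ E₁ : Subgroup G, IsPiHallOf (tau1 M) E₁ E := by
  obtain ⟨E₁, -, h1⟩ := c.exists_E1 (R := ⊥) bot_le (by
    intro s hs hsd
    rw [Subgroup.card_bot] at hsd
    exact absurd (Nat.dvd_one.mp hsd) hs.one_lt.ne')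
  exact ⟨E₁, h1⟩

/-- (KEY) for `q ∈ σ(M) ∖ β(M)`, `E'` centralizes every `E`-invariant Sylow `q`-subgroup of
`M_σ` -/
theorem comm_le_centralizer_of_not_beta (c : Ctx M E X p H) {q : ℕ} [Fact q.Prime]
    (hqM : q ∈ sigma M) (hqβ : q ∉ beta M) {S : Subgroup G} (hS : IsSylowIn q S (sigmaCore M))
    (hES : E ≤ normalizer (S : Set G)) : ⁅E, E⁆ ≤ centralizer (S : Set G) := by
  have hq : q.Prime := Fact.out
  have hpc : HasNormalPComplement q ↥⁅M, M⁆ :=
    ((c.y.h.h1414 M c.hM).2.2.2.2 q hq hqM.2.1 hqβ).1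
  obtain ⟨W, hWD, hMW, hWq, hWmem⟩ := Cfsg.Agent.Helper7.BG13A1.exists_pcompl hpc
    (le_normalizer_commutator_of_le (Subgroup.le_normalizer (H := M)) Subgroup.le_normalizer)
  have hqE : ¬ q ∣ Nat.card ↥E := by
    have := c.hhall.2.2 q hq hqM
    rwa [Cfsg.Agent.Helper4.BG144.complIn_relIndex_eq' c.hE] at this
  have hE'E : ⁅E, E⁆ ≤ E := commutator_self_le E
  have hE'W : ⁅E, E⁆ ≤ W := by
    intro x hx
    apply hWmem x (Subgroup.commutator_mono c.hE.1 c.hE.1 hx)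
    exact Nat.Coprime.coprime_dvd_left (orderOf_dvd_card_of_mem (hE'E hx))
      ((Nat.Prime.coprime_iff_not_dvd hq).mpr hqE).symm
  have hSM : S ≤ M := hS.le.trans (sigmaCore_le M)
  have h1 : ⁅S, ⁅E, E⁆⁆ ≤ S := comm_le_of_le_normalizer (hE'E.trans hES)
  have h2 : ⁅S, ⁅E, E⁆⁆ ≤ W := by
    rw [Subgroup.commutator_le]
    intro s hs w hw
    have hwW : w ∈ W := hE'W hw
    have h3 : s * w * s⁻¹ ∈ W := (Subgroup.mem_normalizer_iff.mp (hMW (hSM hs)) w).mp hwW
    rw [commutatorElement_def]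
    exact W.mul_mem h3 (W.inv_mem hwW)
  have h3 : S ⊓ W = ⊥ := by
    apply Subgroup.inf_eq_bot_of_coprime
    obtain ⟨k, hk⟩ := hS.isPGroup.exists_card_eq
    rw [hk]
    exact Nat.Coprime.pow_left k hWq.symm
  have h4 : ⁅S, ⁅E, E⁆⁆ = ⊥ := by
    rw [eq_bot_iff, ← h3]
    exact le_inf h1 h2
  exact le_centralizer_symm (Subgroup.commutator_eq_bot_iff_le_centralizer.mp h4)

/-- **Case 1**: `σ(M) ⊆ β(M)` -/
theorem sigma_subset_beta (c : Ctx M E X p H) {q : ℕ} (hqM : q ∈ sigma M) : q ∈ beta M := by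
  by_contra hqβ
  have hq : q.Prime := hqM.1
  haveI : Fact q.Prime := ⟨hq⟩
  haveI : Fact p.Prime := ⟨c.pp⟩
  have hG := c.y.h.hG
  obtain ⟨P, hEP⟩ := Cfsg.Agent.S0023.result E (sigmaCore M) c.hEσ c.hcop (Or.inl c.hsolvE) q
  set S := (P : Subgroup ↥(sigmaCore M)).map (sigmaCore M).subtype with hSdef
  have hS : IsSylowIn q S (sigmaCore M) := isSylowIn_map_subtype P
  have hqσ : q ∣ Nat.card ↥(sigmaCore M) := dvd_card_sigmaCore c.y.h.h1350 c.hM hqM
  have hS1 : S ≠ ⊥ := by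
    intro h'
    have := hS.not_dvd_relIndex
    rw [h', Subgroup.relIndex_bot_left] at this
    exact this hqσ
  have hE'S := c.comm_le_centralizer_of_not_beta hqM hqβ hS hEP
  have hSX : S ≤ centralizer (X : Set G) := le_centralizer_symm (c.hXE'.trans hE'S)
  have hSY : S ≤ sigmaCore M ⊓ H := by rw [c.hYeq]; exact le_inf hS.le hSX
  have hSH : S ≤ H := hSY.trans inf_le_right
  have hSM : IsSylowIn q S M := isSylowIn_of_isSylowIn_sigmaCore c.y.h.h1350 c.hM hqM hS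
  have hStop : IsSylowIn q S ⊤ := isSylowIn_top_of_mem_sigma hqM hSM
  have hSHs : IsSylowIn q S H := hStop.of_le hSH le_top
  have hqH : q ∉ sigma H := by
    intro h
    obtain ⟨g, hg⟩ := c.y.h1378.2 M H c.hM c.hH ⟨q, hqM, h⟩
    exact c.hconj g hg
  have hpcσ : HasNormalPComplement q ↥(sigmaCore M) :=
    ((c.y.h.h1414 M c.hM).2.2.2.2 q hq hqM.2.1 hqβ).2.1
  have h26 := (c.y.h1426 M c.hM E c.hE).1
  -- `S` is abelian, and in fact cyclic
  have hcyc : IsCyclic ↥S := by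
    by_contra hnc
    have hqG : q ∣ Nat.card G :=
      hqM.2.1.trans (Subgroup.card_subgroup_dvd_card M)
    have hq2 : q ≠ 2 := prime_ne_two_of_dvd hG hqG
    obtain ⟨A, hAS, -, hAe, hAc⟩ := exists_normal_elemAb_sq hq2 hS.isPGroup hnc
    have hAH : A ≤ H := hAS.trans hSH
    have hr2 : PRankLE q 2 ↥H := by
      by_contra h
      exact hqH (Cfsg.Agent.Helper23.BG10.alpha_subset_sigma hG c.y.h.h1403 c.hH ⟨hq, h⟩)
    have hqq : q ^ 1 < q ^ 2 := Nat.pow_lt_pow_right hq.one_lt (by norm_num)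
    have hr1 : ¬ PRankLE q 1 ↥H := not_pRankLE_of_le hAH hAe (by rw [hAc]; exact hqq)
    have hτ : q ∈ tau2 H := ⟨hq, hqH, hr2, hr1⟩
    have h17 := c.y.h.h1417 H c.hH q hτ A ⟨hAH, hAe, hAc⟩
    have hab' : IsMulCommutative ↥(hSHs.toSylow : Subgroup ↥H) := (h17.2.1 hSHs.toSylow).1
    have hSab : ∀ a ∈ S, ∀ b ∈ S, a * b = b * a := by
      intro a ha b hb
      have ha' : (⟨a, hSH ha⟩ : ↥H) ∈ (hSHs.toSylow : Subgroup ↥H) := by
        rw [hSHs.coe_toSylow, Subgroup.mem_subgroupOf]; exact ha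
      have hb' : (⟨b, hSH hb⟩ : ↥H) ∈ (hSHs.toSylow : Subgroup ↥H) := by
        rw [hSHs.coe_toSylow, Subgroup.mem_subgroupOf]; exact hb
      have h1 := hab'.is_comm.comm ⟨_, ha'⟩ ⟨_, hb'⟩
      have h2 := congrArg (fun z : ↥(hSHs.toSylow : Subgroup ↥H) => ((z : ↥H) : G)) h1
      exact h2
    have hbot : sigmaCore H ⊓ M = ⊥ :=
      h17.2.2.2.2.1 M c.hM c.hne.symm (hAS.trans hSM.le)
    by_cases hpH : p ∈ sigma H
    · have hXσ : X ≤ sigmaCore H :=
        le_sigmaCore_of_isPiNum c.y.h.h1350 c.hH c.hXH (isPiNum_of_isPGroup hpH c.hXp)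
      have : X ≤ sigmaCore H ⊓ M := le_inf hXσ c.hXM
      rw [hbot] at this
      exact c.hX1 (le_bot_iff.mp this)
    · obtain ⟨⟨hr2H', hr1H'⟩, -, -⟩ := c.y.h.h1409 H c.hH p hpH X c.hXc c.hNH
      have hτp : p ∈ tau2 H := ⟨c.pp, hpH, hr2H', hr1H'⟩
      have hs := Cfsg.Agent.Helper7.BG13R.strong_propA hG c.y.h.h1403 c.y.h.h1404 c.y.h.h1413
        c.y.h.h1416 c.y.h.h1350 c.y.h.h1414 c.y.h.h1417 c.y.h.h1418 c.y.h.h1415 c.y.h.h1408
        c.hM c.hH c.hconj c.hpM hτp c.hXp c.hX1 c.hXM c.hXH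
      rw [Subgroup.commutator_eq_bot_iff_le_centralizer] at hs
      have hSE : S ≤ centralizer (E : Set G) :=
        (hSY.trans hs).trans (Subgroup.centralizer_le (le_inf c.hE.1 c.hEH))
      have hSc : S ≤ ⁅sigmaCore M, sigmaCore M⁆ := (le_inf hS.le hSE).trans h26
      have hK1 := inf_commutator_eq_bot_of_pcompl hpcσ hS hSab
      apply hS1
      rw [eq_bot_iff, ← hK1]
      exact le_inf le_rfl hSc
  have hSab := comm_of_isCyclic hcyc
  have hK1 := inf_commutator_eq_bot_of_pcompl hpcσ hS hSab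
  have hCSE : S ⊓ centralizer (E : Set G) = ⊥ := by
    rw [eq_bot_iff, ← hK1]
    exact le_inf inf_le_left ((le_inf (inf_le_left.trans hS.le) inf_le_right).trans h26)
  obtain ⟨E₃, hXE₃, h3⟩ := c.exists_E3
  obtain ⟨E₁, h1⟩ := c.exists_E1'
  -- every subgroup of prime order of `E₁` is fixed-point-free on `S`
  have hfpf_all : ∀ R : Subgroup G, R ≤ E₁ → (Nat.card ↥R).Prime →
      S ⊓ centralizer (R : Set G) = ⊥ := by
    intro R hRE₁ hRc
    rw [eq_bot_iff, ← hCSE]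
    refine le_inf inf_le_left ?_
    rw [← c.sup_E3_E1 h3 h1]
    apply sup_le_centralizer_symm
    · exact inf_le_left.trans
        ((le_centralizer_symm hE'S).trans (Subgroup.centralizer_le (c.E3le h3)))
    · have : S ⊓ centralizer (R : Set G) ≤ sigmaCore M ⊓ centralizer (R : Set G) :=
        inf_le_inf_right _ hS.le
      rw [c.cent_E1 h1 hRE₁ hRc] at this
      exact this.trans inf_le_right
  obtain ⟨r, R', hr, hR', hR'X⟩ := c.exists_sylow_not_centralizing h1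
  haveI : Fact r.Prime := ⟨hr⟩
  have hR'1 : R' ≠ ⊥ := by
    intro h
    apply hR'X
    rw [h]; exact bot_le
  obtain ⟨x, hxR', hox, hcx⟩ := exists_le_card_eq_prime' hR'.isPGroup hR'1
  have hx1 : x ≠ 1 := by
    rintro rfl
    rw [orderOf_one] at hox
    exact hr.one_lt.ne hox
  have hZE₁ : zpowers x ≤ E₁ := by rw [Subgroup.zpowers_le]; exact hR'.le hxR'
  have hZE : zpowers x ≤ E := hZE₁.trans h1.1
  have hrτ : r ∈ tau1 M :=
    h1.2.1 r hr (by rw [← hcx]; exact Subgroup.card_dvd_of_le hZE₁)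
  have hfR := hfpf_all (zpowers x) hZE₁ (by rw [hcx]; exact hr)
  have hbad : ¬ sigmaCore M ⊓ H ≤ centralizer ((zpowers x : Subgroup G) : Set G) := by
    intro h
    apply hS1
    rw [eq_bot_iff, ← hfR]
    exact le_inf le_rfl (hSY.trans h)
  obtain ⟨hrH, hpH⟩ := c.tau1_of_not_centralized hZE hcx hr hbad
  have hRX : ¬ zpowers x ≤ centralizer (X : Set G) := by
    intro h
    apply hR'X
    apply le_centralizer_symm
    apply c.centralizes_of_elt hpH hrH hR'.isPGroup (hR'.le.trans h1.1) hxR' hx1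
    rw [← centralizer_zpowers_eq]
    exact le_centralizer_symm h
  exact c.kill hr hZE hcx hrτ hRX (hSM.of_le (le_inf hSM.le hSH) inf_le_left) hS.le hS1
    (hZE.trans hEP) hfR (normalizer_le_of_mem_sigma hqM hSM)

end Ctx

end Cfsg.Agent.Helper5.BG1311
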