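import Mathlib
import Cfsg.Agent.Lib.Helper5.BG1311D

/-!
# Bender-Glauberman 13.11 (the "tau3-world"), part E: subgroups of prime order of `E₁`
centralize `X` (helper5)
-/

set_option autoImplicit false
set_option linter.style.haveILetI false
set_option linter.unusedSectionVars false
set_option linter.unusedVariables false

namespace Cfsg.Agent.Helper5.BG1311

open Cfsg Subgroup
open scoped commutatorElement
open Cfsg.Agent.Helper14.BGTrans Cfsg.Agent.Helper14.BGUniq
open Cfsg.Agent.Helper10 (IsPiNum)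
open Cfsg.Agent.Helper15 (IsSylowIn isSylowIn_map_subtype exists_isSylowIn_ge exists_isSylowIn
  isSylowIn_of_not_dvd_relIndex card_map_conj map_conj_mono map_conj_one)
open Cfsg.Agent.Helper22.BG13
open Cfsg.Agent.Helper22.BG127 (isSylowIn_of_isPiHallOf)
open Cfsg.Agent.Helper18.BG13P
open Cfsg.Agent.Helper18.BG13Q (Hyps comm_of_isCyclic isCyclic_of_pRankLE_one_of_le prime_action'
  lemmaX mem_of_pow_eq_one_of_isCyclic pRankLE_one_of_isSylowIn_cyclic
  normalizer_le_of_inUniqueMaximal)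
open Cfsg.Agent.Helper20.MinInv (comm_le_of_le_normalizer le_centralizer_of_comm_comm_eq_bot)

universe u

variable {G : Type u} [Group G] [Finite G]

/-- `C_{M_α}(P)` has rank at most one for `P ≤ M` of prime order `p ∉ σ(M)`, `M` of `p`-rank
one -/
theorem rank_alphaCore_inf_centralizer (h : Hyps G) {M P : Subgroup G} {p : ℕ} [Fact p.Prime]
    (hM : IsCoatom M) (hpM : p ∉ sigma M) (hr1 : PRankLE p 1 ↥M) (hPM : P ≤ M)
    (hPc : Nat.card ↥P = p) : RankLE 1 ↥(alphaCore M ⊓ centralizer (P : Set G)) := by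
  have hp : p.Prime := Fact.out
  have hPp : IsPGroup p ↥P := IsPGroup.of_card (n := 1) (by rw [hPc, pow_one])
  have hP1 : P ≠ ⊥ := card_prime_ne_bot hPc
  have hpα : p ∉ alpha M := fun hα =>
    hpM (Cfsg.Agent.Helper23.BG10.alpha_subset_sigma h.hG h.h1403 hM hα)
  by_contra hr
  have hU := h.h1406 M hM P hPM (by
    intro s hs hsd
    rw [hPc] at hsd
    rw [(Nat.prime_dvd_prime_iff_eq hs hp).mp hsd]
    exact hpα) hr
  have hN := normalizer_le_of_inUniqueMaximal hM hU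
    (normalizer_ne_top_of_isPGroup h.hG hPp hP1) hPM
  exact (h.h1409 M hM p hpM P hPc hN).1.2 hr1

/-- the centralizer of such a `P` in a `t`-subgroup of `M_α` is cyclic -/
theorem isCyclic_inf_centralizer (h : Hyps G) {M P T : Subgroup G} {p t : ℕ} [Fact p.Prime]
    [Fact t.Prime] (hM : IsCoatom M) (hpM : p ∉ sigma M) (hr1 : PRankLE p 1 ↥M) (hPM : P ≤ M)
    (hPc : Nat.card ↥P = p) (hT : IsPGroup t ↥T) (hTα : T ≤ alphaCore M) :
    IsCyclic ↥(T ⊓ centralizer (P : Set G)) := by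
  by_cases h1 : T ⊓ centralizer (P : Set G) = ⊥
  · rw [h1]; exact isCyclic_of_subsingleton
  · exact isCyclic_of_pRankLE_one_of_le h.hG (inf_le_inf_right _ hTα) (hT.to_le inf_le_left) h1
      (rank_alphaCore_inf_centralizer h hM hpM hr1 hPM hPc t Fact.out)

namespace Ctx

variable {M E X : Subgroup G} {p : ℕ} {H : Subgroup G}

/-- **Case 2**: every subgroup of prime order of `E₁` centralizes `X` -/
theorem centralizes_X (c : Ctx M E X p H) {E₁ : Subgroup G} (h1 : IsPiHallOf (tau1 M) E₁ E)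
    {R : Subgroup G} (hRE₁ : R ≤ E₁) (hRc : (Nat.card ↥R).Prime) :
    R ≤ centralizer (X : Set G) := by
  by_contra hRX
  haveI : Fact p.Prime := ⟨c.pp⟩
  have hG := c.y.h.hG
  generalize hrdef : Nat.card ↥R = r at hRc
  have hr : r.Prime := hRc
  haveI : Fact r.Prime := ⟨hr⟩
  have hRE : R ≤ E := hRE₁.trans h1.1
  have hRM : R ≤ M := hRE.trans c.hE.1
  have hrτ : r ∈ tau1 M := h1.2.1 r hr (by rw [← hrdef]; exact Subgroup.card_dvd_of_le hRE₁)
  -- a prime `t` dividing `|Y|`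
  have hY1 : Nat.card ↥(sigmaCore M ⊓ H : Subgroup G) ≠ 1 :=
    fun h => c.hYH (Subgroup.card_eq_one.mp h)
  obtain ⟨t, ht, htd⟩ := Nat.exists_prime_and_dvd hY1
  haveI : Fact t.Prime := ⟨ht⟩
  have htσ : t ∈ sigma M :=
    isPiNum_card_sigmaCore M t ht (htd.trans (Subgroup.card_dvd_of_le inf_le_left))
  have htβ : t ∈ beta M := c.sigma_subset_beta htσ
  have htα : t ∈ alpha M := htβ.1
  -- an `E`-invariant Sylow `t`-subgroup `TY` of `Y`
  have hcopY : (Nat.card ↥E).Coprime (Nat.card ↥(sigmaCore M ⊓ H : Subgroup G)) :=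
    Nat.Coprime.coprime_dvd_right (Subgroup.card_dvd_of_le inf_le_left) c.hcop
  obtain ⟨PY, hEPY⟩ := Cfsg.Agent.S0023.result E (sigmaCore M ⊓ H) c.hEY hcopY
    (Or.inl c.hsolvE) t
  set TY := (PY : Subgroup ↥(sigmaCore M ⊓ H : Subgroup G)).map
    (sigmaCore M ⊓ H : Subgroup G).subtype with hTYdef
  have hTY : IsSylowIn t TY (sigmaCore M ⊓ H) := isSylowIn_map_subtype PY
  have hTY1 : TY ≠ ⊥ := by
    intro h'
    have := hTY.not_dvd_relIndex
    rw [h', Subgroup.relIndex_bot_left] at this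
    exact this htd
  have hTYσ : TY ≤ sigmaCore M := hTY.le.trans inf_le_left
  have hTYX : TY ≤ centralizer (X : Set G) := by
    have := hTY.le
    rw [c.hYeq] at this
    exact this.trans inf_le_right
  -- an `E`-invariant Sylow `t`-subgroup `T` of `M_σ` containing `TY`
  obtain ⟨P, hTYP, hEP⟩ := Cfsg.Agent.S0025.result E (sigmaCore M) c.hEσ c.hcop
    (Or.inl c.hsolvE) t TY hTYσ hTY.isPGroup hEPY
  set T := (P : Subgroup ↥(sigmaCore M)).map (sigmaCore M).subtype with hTdef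
  have hT : IsSylowIn t T (sigmaCore M) := isSylowIn_map_subtype P
  have hTM : IsSylowIn t T M := isSylowIn_of_isSylowIn_sigmaCore c.y.h.h1350 c.hM htσ hT
  have hTα : T ≤ alphaCore M :=
    Cfsg.Agent.Helper4.BGSig.le_of_isPiHallOf_normal (c.y.h.h1405 M c.hM).1
      (le_normalizer_piCoreOf (alpha M) M) hTM.le (isPiNum_of_isPGroup htα hT.isPGroup)
  have hTX : T ⊓ centralizer (X : Set G) = TY := by
    apply hTY.eq_of_le (hT.isPGroup.to_le inf_le_left) (le_inf hTYP hTYX)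
    rw [c.hYeq]
    exact inf_le_inf_right _ hT.le
  have hcX : IsCyclic ↥(T ⊓ centralizer (X : Set G)) :=
    isCyclic_inf_centralizer c.y.h c.hM c.hpM c.hr1 c.hXM c.hXc hT.isPGroup hTα
  have hcR : IsCyclic ↥(T ⊓ centralizer (R : Set G)) :=
    isCyclic_inf_centralizer c.y.h c.hM hrτ.2.1 hrτ.2.2.2.2 hRM hrdef hT.isPGroup hTα
  -- `T` is not centralized by `X`
  have hTnX : ¬ T ≤ centralizer (X : Set G) := by
    intro h
    have hTeq : T ⊓ centralizer (X : Set G) = T := inf_eq_left.mpr h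
    rw [hTeq] at hcX
    have h1' := pRankLE_one_of_isSylowIn_cyclic hTM hcX
    apply htα.2
    intro B hBc hBe
    exact (h1' B hBc hBe).trans (Nat.pow_le_pow_right ht.pos (by norm_num))
  have hcop : (Nat.card ↥T).Coprime (Nat.card ↥(X ⊔ R : Subgroup G)) := by
    have h2 : (Nat.card ↥(X ⊔ R : Subgroup G)).Coprime (Nat.card ↥(sigmaCore M)) :=
      Nat.Coprime.coprime_dvd_left (Subgroup.card_dvd_of_le (sup_le c.hXE hRE)) c.hcop
    exact (Nat.Coprime.coprime_dvd_right (Subgroup.card_dvd_of_le hT.le) h2).symm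
  have hXc' : (Nat.card ↥X).Prime := by rw [c.hXc]; exact c.pp
  have hRc' : (Nat.card ↥R).Prime := by rw [hrdef]; exact hr
  have hΩ : ¬ ∀ c' ∈ T ⊓ centralizer (R : Set G), c' ^ t = 1 →
      c' ∈ centralizer (X : Set G) := by
    intro hΩ
    apply hTnX
    exact lemmaX (p := t) X R c.hXp.isNilpotent (hRE.trans c.hEX)
      (fpf_of_not_le_centralizer hRc' hXc' hRX) (Nat.card ↥T) T rfl hT.isPGroup
      (c.hXE.trans hEP) (hRE.trans hEP) hcop hcX hcR hΩ
  push Not at hΩ
  obtain ⟨c', hc', hc't, hc'X⟩ := hΩ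
  -- `R` is fixed-point-free on `TY`
  have hfpf : TY ⊓ centralizer (R : Set G) = ⊥ := by
    by_contra hne
    obtain ⟨d, hdD, hod, hcd⟩ :=
      exists_le_card_eq_prime' (hTY.isPGroup.to_le inf_le_left) hne
    have hZD : zpowers d ≤ TY ⊓ centralizer (R : Set G) := by
      rw [Subgroup.zpowers_le]; exact hdD
    have hZ : zpowers d ≤ T ⊓ centralizer (R : Set G) := hZD.trans (inf_le_inf_right _ hTYP)
    have := mem_of_pow_eq_one_of_isCyclic hcR hZ hcd hc' hc't
    exact hc'X (hTYX ((hZD.trans inf_le_left) this))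
  -- `N_G(TY) ≤ M`
  have hTYcyc : IsCyclic ↥TY := by rw [← hTX]; exact hcX
  obtain ⟨x₀, hx₀, hox₀, hcx₀⟩ := exists_le_card_eq_prime' hTY.isPGroup hTY1
  have hZTY : zpowers x₀ ≤ TY := by rw [Subgroup.zpowers_le]; exact hx₀
  have hZM : zpowers x₀ ≤ M := hZTY.trans (hTYσ.trans (sigmaCore_le M))
  have h23 := (c.y.h1423 M c.hM t htσ (zpowers x₀) hZM hcx₀ P (Or.inl htβ)).1.1
  have h04 := (c.y.h.h1404 M c.hM t htσ (zpowers x₀) (hTY.isPGroup.to_le hZTY)
    (card_prime_ne_bot hcx₀) hZM).2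
  have hNTY : normalizer (TY : Set G) ≤ M := by
    refine (normalizer_le_normalizer_of_le_cyclic hTYcyc hZTY).trans ?_
    rw [h04]
    exact sup_le inf_le_left h23
  -- `TY` is a Sylow subgroup of `M ∩ H`
  have hTYMH : IsSylowIn t TY (M ⊓ H) := by
    refine ⟨hTY.le.trans (inf_le_inf_right _ (sigmaCore_le M)), hTY.isPGroup, ?_⟩
    intro T' hT' hQT' hT'MH
    apply hTY.eq_of_le hT' hQT'
    refine le_inf ?_ (hT'MH.trans inf_le_right)
    exact le_sigmaCore_of_isPiNum c.y.h.h1350 c.hM (hT'MH.trans inf_le_left)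
      (isPiNum_of_isPGroup htσ hT')
  exact c.kill hr hRE hrdef hrτ hRX hTYMH hTYσ hTY1 (hRE.trans hEPY) hfpf hNTY

end Ctx

end Cfsg.Agent.Helper5.BG1311
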