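import Mathlib
import Cfsg.Agent.Lib.Helper5.BG1311E

/-!
# Bender-Glauberman 13.11 (the "tau3-world"), part F: `E` acts in a prime manner on `M_σ`
(helper5)
-/

set_option autoImplicit false
set_option linter.style.haveILetI false
set_option linter.unusedSectionVars false
set_option linter.unusedVariables false

namespace Cfsg.Agent.Helper5.BG1311

open Cfsg Subgroup
open scoped commutatorElement
open Cfsg.Agent.Helper14.BGTrans Cfsg.Agent.Helper14.BGUniq
open Cfsg.Agent.Helper10 (IsPiNum)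
open Cfsg.Agent.Helper15 (IsSylowIn isSylowIn_map_subtype exists_isSylowIn_ge exists_isSylowIn
  isSylowIn_of_not_dvd_relIndex card_map_conj map_conj_mono map_conj_one)
open Cfsg.Agent.Helper22.BG13
open Cfsg.Agent.Helper22.BG127 (isSylowIn_of_isPiHallOf)
open Cfsg.Agent.Helper18.BG13P
open Cfsg.Agent.Helper18.BG13Q (Hyps comm_of_isCyclic isCyclic_of_pRankLE_one_of_le prime_action'
  lemmaX mem_of_pow_eq_one_of_isCyclic pRankLE_one_of_isSylowIn_cyclic
  normalizer_le_of_inUniqueMaximal)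
open Cfsg.Agent.Helper20.MinInv (comm_le_of_le_normalizer le_centralizer_of_comm_comm_eq_bot)

universe u

variable {G : Type u} [Group G] [Finite G]

namespace Ctx

variable {M E X : Subgroup G} {p : ℕ} {H : Subgroup G}

/-- `C_{M_σ}(R) = Y` for every subgroup `R` of prime order of a Hall `τ₁(M)`-subgroup of `E` -/
theorem cent_prime_tau1 (c : Ctx M E X p H) {E₁ : Subgroup G} (h1 : IsPiHallOf (tau1 M) E₁ E)
    {R : Subgroup G} (hRE₁ : R ≤ E₁) (hRc : (Nat.card ↥R).Prime) :
    sigmaCore M ⊓ centralizer (R : Set G) = sigmaCore M ⊓ H := by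
  apply le_antisymm
  · rw [c.hYeq]
    have hRX := c.centralizes_X h1 hRE₁ hRc
    have hrτ : Nat.card ↥R ∈ tau1 M := h1.2.1 _ hRc (Subgroup.card_dvd_of_le hRE₁)
    exact c.y.h1428 M c.hM E c.hE _ hrτ R (hRE₁.trans h1.1) rfl X
      (le_inf c.hXE (le_centralizer_symm hRX)) (by rw [c.hXc]; exact c.pp)
  · rw [c.cent_E1 h1 hRE₁ hRc]
    obtain ⟨r', R', hr', hR', hR'X⟩ := c.exists_sylow_not_centralizing h1
    haveI : Fact r'.Prime := ⟨hr'⟩
    have hR'1 : R' ≠ ⊥ := by
      intro h
      apply hR'X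
      rw [h]; exact bot_le
    obtain ⟨x, hxR', hox, hcx⟩ := exists_le_card_eq_prime' hR'.isPGroup hR'1
    have hx1 : x ≠ 1 := by
      rintro rfl
      rw [orderOf_one] at hox
      exact hr'.one_lt.ne hox
    have hZE₁ : zpowers x ≤ E₁ := by rw [Subgroup.zpowers_le]; exact hR'.le hxR'
    have hZE : zpowers x ≤ E := hZE₁.trans h1.1
    have hZc : (Nat.card ↥(zpowers x)).Prime := by rw [hcx]; exact hr'
    have hZX := c.centralizes_X h1 hZE₁ hZc
    have hcent : sigmaCore M ⊓ H ≤ centralizer ((zpowers x : Subgroup G) : Set G) := by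
      by_contra hbad
      obtain ⟨hrH, hpH⟩ := c.tau1_of_not_centralized hZE hcx hr' hbad
      apply hR'X
      apply le_centralizer_symm
      apply c.centralizes_of_elt hpH hrH hR'.isPGroup (hR'.le.trans h1.1) hxR' hx1
      rw [← centralizer_zpowers_eq]
      exact le_centralizer_symm hZX
    rw [← c.cent_E1 h1 hZE₁ hZc]
    exact le_inf inf_le_left hcent

/-- `C_{M_σ}(R) = Y` for every subgroup `R ≤ E` of prime order in `τ₃(M)` -/
theorem cent_prime_tau3 (c : Ctx M E X p H) {R : Subgroup G} {s : ℕ} (hs : s ∈ tau3 M)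
    (hRE : R ≤ E) (hRc : Nat.card ↥R = s) :
    sigmaCore M ⊓ centralizer (R : Set G) = sigmaCore M ⊓ H := by
  haveI : Fact s.Prime := ⟨hs.1⟩
  haveI : Fact p.Prime := ⟨c.pp⟩
  have hRp : IsPGroup s ↥R := IsPGroup.of_card (n := 1) (by rw [hRc, pow_one])
  have hR1 : R ≠ ⊥ := card_prime_ne_bot hRc
  obtain ⟨E₃', hRE₃', h3'⟩ :=
    Cfsg.Agent.Helper4.BGSig.exists_isPiHallOf_ge c.hsolvE (tau3 M) hRE (by
      intro q hq hqd
      rw [hRc] at hqd
      rw [(Nat.prime_dvd_prime_iff_eq hq hs.1).mp hqd]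
      exact hs)
  have hRE' : R ≤ ⁅E, E⁆ := hRE₃'.trans (c.E3le h3')
  have h1 : sigmaCore M ⊓ H ≤ centralizer (R : Set G) := c.cent_comm hRp hR1 hRE'
  apply le_antisymm
  · have hY' : sigmaCore M ⊓ centralizer (R : Set G) ≠ ⊥ := by
      intro h
      apply c.hYH
      rw [eq_bot_iff, ← h]
      exact le_inf inf_le_left h1
    obtain ⟨H', hH', hNH'⟩ :=
      exists_isCoatom_ge (normalizer_ne_top_of_isPGroup c.y.h.hG hRp hR1)
    have c' : Ctx M E R s H' := ⟨c.y, c.hM, c.hE, hs, hRE, hRc, hY', hH', hNH'⟩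
    have h2 : sigmaCore M ⊓ H' ≤ centralizer (X : Set G) := c'.cent_comm c.hXp c.hX1 c.hXE'
    rw [← c'.hYeq, c.hYeq]
    exact le_inf inf_le_left h2
  · exact le_inf inf_le_left h1

/-- `C_{M_σ}(R) = Y` for every subgroup `R ≤ E` of prime order -/
theorem cent_prime (c : Ctx M E X p H) {R : Subgroup G} (hRE : R ≤ E)
    (hRc : (Nat.card ↥R).Prime) :
    sigmaCore M ⊓ centralizer (R : Set G) = sigmaCore M ⊓ H := by
  rcases (c.tau_cases hRc (Subgroup.card_dvd_of_le hRE)).2.2 with h | h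
  · obtain ⟨E₁, hRE₁, h1⟩ := c.exists_E1 hRE (fun s hs hsd => by
      rw [(Nat.prime_dvd_prime_iff_eq hs hRc).mp hsd]; exact h)
    exact c.cent_prime_tau1 h1 hRE₁ hRc
  · exact c.cent_prime_tau3 h hRE rfl

/-- `E` centralizes `Y` -/
theorem E_le_centralizer (c : Ctx M E X p H) :
    E ≤ centralizer ((sigmaCore M ⊓ H : Subgroup G) : Set G) := by
  apply le_of_forall_sylow_le
  intro s _ S hS
  have hs : s.Prime := Fact.out
  by_cases hS1 : S = ⊥
  · rw [hS1]; exact bot_le
  obtain ⟨x, hxS, hox, hcx⟩ := exists_le_card_eq_prime' hS.isPGroup hS1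
  have hx1 : x ≠ 1 := by
    rintro rfl
    rw [orderOf_one] at hox
    exact hs.one_lt.ne hox
  have hZE : zpowers x ≤ E := by rw [Subgroup.zpowers_le]; exact hS.le hxS
  have hsE : s ∣ Nat.card ↥E := by rw [← hcx]; exact Subgroup.card_dvd_of_le hZE
  have hr1 := (c.tau_cases hs hsE).2.1
  have hScyc : IsCyclic ↥S :=
    isCyclic_of_pRankLE_one_of_le c.y.h.hG (hS.le.trans c.hE.1) hS.isPGroup hS1 hr1
  have hpa := prime_action' c.y.h c.hM c.hE hS hS1 hScyc x hxS hx1
  have h2 := c.cent_prime hZE (by rw [hcx]; exact hs)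
  rw [centralizer_zpowers_eq, hpa] at h2
  apply le_centralizer_symm
  rw [← h2]
  exact inf_le_right

/-- `C_{M_σ}(e) = Y` for every `e ∈ E^#` -/
theorem cent_elt (c : Ctx M E X p H) {e : G} (he : e ∈ E) (he1 : e ≠ 1) :
    sigmaCore M ⊓ centralizer ({e} : Set G) = sigmaCore M ⊓ H := by
  apply le_antisymm
  · have ho : orderOf e ≠ 1 := fun h => he1 (orderOf_eq_one_iff.mp h)
    obtain ⟨s, hs, hsd⟩ := Nat.exists_prime_and_dvd ho
    have hoe' : orderOf (e ^ (orderOf e / s)) = s :=
      orderOf_pow_orderOf_div (orderOf_pos e).ne' hsd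
    have hZE : zpowers (e ^ (orderOf e / s)) ≤ E := by
      rw [Subgroup.zpowers_le]; exact E.pow_mem he _
    have hZc : Nat.card ↥(zpowers (e ^ (orderOf e / s))) = s := by
      rw [Nat.card_zpowers, hoe']
    have h2 := c.cent_prime hZE (by rw [hZc]; exact hs)
    rw [← h2, centralizer_zpowers_eq]
    apply inf_le_inf_left
    intro c0 hc0
    rw [Subgroup.mem_centralizer_singleton_iff] at hc0 ⊢
    exact ((show Commute c0 e from hc0).pow_right _).eq
  · refine le_inf inf_le_left ?_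
    intro y hy
    rw [Subgroup.mem_centralizer_singleton_iff]
    exact (Subgroup.mem_centralizer_iff.mp (c.E_le_centralizer he)) y hy

/-- every subgroup of prime order of `E` is normal in `E` -/
theorem le_normalizer_of_card_prime (c : Ctx M E X p H) {X' : Subgroup G} (hX'E : X' ≤ E)
    (hX'c : (Nat.card ↥X').Prime) : E ≤ normalizer (X' : Set G) := by
  haveI : Fact p.Prime := ⟨c.pp⟩
  have hG := c.y.h.hG
  rcases (c.tau_cases hX'c (Subgroup.card_dvd_of_le hX'E)).2.2 with h | h
  · -- `τ₁`: `X'` is central in `E`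
    obtain ⟨E₁, hX'E₁, h1⟩ := c.exists_E1 hX'E (fun s hs hsd => by
      rw [(Nat.prime_dvd_prime_iff_eq hs hX'c).mp hsd]; exact h)
    obtain ⟨E₃, hXE₃, h3⟩ := c.exists_E3
    have hcomm1 := comm_of_isCyclic (c.E1cyc h1)
    have hE₁X' : E₁ ≤ centralizer (X' : Set G) := by
      intro a ha
      rw [Subgroup.mem_centralizer_iff]
      intro b hb
      exact hcomm1 b (hX'E₁ hb) a ha
    have hE₃X' : E₃ ≤ centralizer (X' : Set G) := by
      apply le_of_forall_sylow_le
      intro s _ S hS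
      have hs : s.Prime := Fact.out
      by_cases hS1 : S = ⊥
      · rw [hS1]; exact bot_le
      obtain ⟨x, hxS, hox, hcx⟩ := exists_le_card_eq_prime' hS.isPGroup hS1
      have hZS : zpowers x ≤ S := by rw [Subgroup.zpowers_le]; exact hxS
      have hZE₃ : zpowers x ≤ E₃ := hZS.trans hS.le
      have hZE : zpowers x ≤ E := hZE₃.trans h3.1
      have hsτ : s ∈ tau3 M := h3.2.1 s hs (by rw [← hcx]; exact Subgroup.card_dvd_of_le hZE₃)
      have hZp : IsPGroup s ↥(zpowers x) := hS.isPGroup.to_le hZS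
      have hZ1 : zpowers x ≠ ⊥ := card_prime_ne_bot hcx
      -- the context of `zpowers x`
      have hY' : sigmaCore M ⊓ centralizer ((zpowers x : Subgroup G) : Set G) ≠ ⊥ := by
        rw [c.cent_prime hZE (by rw [hcx]; exact hs)]
        exact c.hYH
      obtain ⟨H', hH', hNH'⟩ := exists_isCoatom_ge (normalizer_ne_top_of_isPGroup hG hZp hZ1)
      have c' : Ctx M E (zpowers x) s H' := ⟨c.y, c.hM, c.hE, hsτ, hZE, hcx, hY', hH', hNH'⟩
      have hX'Z : X' ≤ centralizer ((zpowers x : Subgroup G) : Set G) :=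
        c'.centralizes_X h1 hX'E₁ hX'c
      have hScyc : IsCyclic ↥S := isCyclic_of_le_aux hS.le (c.E3cyc h3)
      have hsG : s ∣ Nat.card G := by
        rw [← hcx]; exact Subgroup.card_subgroup_dvd_card _
      have hs2 : s ≠ 2 := prime_ne_two_of_dvd hG hsG
      have hES : E ≤ normalizer (S : Set G) :=
        (c.E3norm h3).trans (normalizer_le_normalizer_of_le_cyclic (c.E3cyc h3) hS.le)
      have hcop : (Nat.card ↥X').Coprime s := by
        rw [Nat.coprime_primes hX'c hs]
        intro heq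
        exact h.2.2.2.1 (heq ▸ hsτ.2.2.1)
      apply le_centralizer_symm
      apply Cfsg.Agent.S1443.result s hs2 S (zpowers x) X' hS.isPGroup hZS
        (Cfsg.Agent.Helper23.BG10.isElementaryAbelian_of_card_eq hcx) (hX'E.trans hES) hcop
      intro y hy hoy
      have hyZ : y ∈ zpowers x :=
        mem_of_pow_eq_one_of_isCyclic hScyc hZS hcx hy.1 (by rw [← hoy]; exact pow_orderOf_eq_one y)
      intro a ha
      rw [Subgroup.mem_centralizer_singleton_iff]
      exact ((Subgroup.mem_centralizer_iff.mp (hX'Z ha)) y hyZ).symm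
    have hEX' : E ≤ centralizer (X' : Set G) := by
      rw [← c.sup_E3_E1 h3 h1]
      exact sup_le hE₃X' hE₁X'
    exact hEX'.trans (Subgroup.centralizer_le_normalizer _)
  · -- `τ₃`: `X'` lies in a cyclic normal subgroup of `E`
    obtain ⟨E₃', hX'E₃', h3'⟩ :=
      Cfsg.Agent.Helper4.BGSig.exists_isPiHallOf_ge c.hsolvE (tau3 M) hX'E (by
        intro q hq hqd
        rw [(Nat.prime_dvd_prime_iff_eq hq hX'c).mp hqd]
        exact h)
    exact (c.E3norm h3').trans (normalizer_le_normalizer_of_le_cyclic (c.E3cyc h3') hX'E₃')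

end Ctx

end Cfsg.Agent.Helper5.BG1311
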