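import Mathlib
import Cfsg.Agent.Lib.Helper5.BG1311F

/-!
# Bender-Glauberman 13.11 (the "tau3-world"), part G: the structure theorem (helper5)

`tau3_world`: if `M` is maximal, `E` a complement of `M_σ` in `M`, `p ∈ τ₃(M)` and some
`X ≤ E` of order `p` has `C_{M_σ}(X) ≠ 1`, then `τ₂(M) = ∅`, `σ(M) = β(M)`,
`C_{M_σ}(e) = C_{M_σ}(X)` for every `e ∈ E^#`, every subgroup of prime order of `E` is normal in
`E`, and every prime divisor of `|E|` lies in `κ(M)`.
-/

set_option autoImplicit false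
set_option linter.style.haveILetI false
set_option linter.unusedSectionVars false
set_option linter.unusedVariables false

namespace Cfsg.Agent.Helper5.BG1311

open Cfsg Subgroup
open scoped commutatorElement
open Cfsg.Agent.Helper14.BGTrans Cfsg.Agent.Helper14.BGUniq
open Cfsg.Agent.Helper10 (IsPiNum)
open Cfsg.Agent.Helper15 (IsSylowIn isSylowIn_map_subtype exists_isSylowIn_ge exists_isSylowIn
  isSylowIn_of_not_dvd_relIndex card_map_conj map_conj_mono map_conj_one)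
open Cfsg.Agent.Helper22.BG13
open Cfsg.Agent.Helper18.BG13P
open Cfsg.Agent.Helper18.BG13Q (Hyps comm_of_isCyclic isCyclic_of_pRankLE_one_of_le)

universe u

variable {G : Type u} [Group G] [Finite G]

namespace Ctx

variable {M E X : Subgroup G} {p : ℕ} {H : Subgroup G}

/-- every prime divisor of `|E|` lies in `κ(M)` -/
theorem mem_kappa_of_dvd (c : Ctx M E X p H) {q : ℕ} (hq : q.Prime) (hqE : q ∣ Nat.card ↥E) :
    q ∈ kappa M := by
  haveI : Fact q.Prime := ⟨hq⟩
  have hG := c.y.h.hG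
  obtain ⟨hqM, hr1, -⟩ := c.tau_cases hq hqE
  refine ⟨hq, hqE.trans (Subgroup.card_dvd_of_le c.hE.1), hqM, ?_⟩
  intro P
  set P' := (P : Subgroup ↥M).map M.subtype with hP'def
  have hP' : IsSylowIn q P' M := isSylowIn_map_subtype P
  obtain ⟨S, hS⟩ := exists_isSylowIn (p := q) E
  have hSM : IsSylowIn q S M := isSylowIn_of_compl c.hE hqM hS
  have hS1 : S ≠ ⊥ := by
    intro h'
    have := hS.not_dvd_relIndex
    rw [h', Subgroup.relIndex_bot_left] at this
    exact this hqE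
  obtain ⟨m, hmM, hm⟩ := hSM.exists_conj hP'
  have hP'1 : P' ≠ ⊥ := by
    intro h
    apply hS1
    rw [← Subgroup.card_eq_one, ← card_map_conj S m, hm, h, Subgroup.card_bot]
  have hP'cyc : IsCyclic ↥P' :=
    isCyclic_of_pRankLE_one_of_le hG hP'.le hP'.isPGroup hP'1 hr1
  constructor
  · haveI := hP'cyc
    exact isCyclic_of_surjective
      (Subgroup.equivMapOfInjective (P : Subgroup ↥M) M.subtype M.subtype_injective).symm
      (Subgroup.equivMapOfInjective (P : Subgroup ↥M) M.subtype M.subtype_injective).symm.surjective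
  · obtain ⟨x₀, hx₀S, hox₀, hcx₀⟩ := exists_le_card_eq_prime' hS.isPGroup hS1
    have hx₀1 : x₀ ≠ 1 := by
      rintro rfl
      rw [orderOf_one] at hox₀
      exact hq.one_lt.ne hox₀
    have hce := c.cent_elt (hS.le hx₀S) hx₀1
    rcases (sigmaCore M ⊓ H).bot_or_exists_ne_one with hb | ⟨y₀, hy₀, hy₀1⟩
    · exact absurd hb c.hYH
    have hy₀' : y₀ ∈ sigmaCore M ⊓ centralizer ({x₀} : Set G) := by rw [hce]; exact hy₀
    have hcomm : y₀ * x₀ = x₀ * y₀ := Subgroup.mem_centralizer_singleton_iff.mp hy₀'.2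
    have hxP' : m * x₀ * m⁻¹ ∈ P' := by
      rw [← hm]
      exact ⟨x₀, hx₀S, by simp [MulAut.conj_apply]⟩
    obtain ⟨z, hz, hzx⟩ := hxP'
    refine ⟨z, hz, ?_, m * y₀ * m⁻¹, ?_, ?_, ?_⟩
    · intro h1
      apply hx₀1
      have h2 : (z : G) = 1 := by rw [h1]; rfl
      have h3 : m * x₀ * m⁻¹ = 1 := by rw [← h2]; exact hzx.symm
      have h4 := congrArg (fun w => m⁻¹ * w * m) h3
      simpa [mul_assoc] using h4
    · exact (Subgroup.mem_normalizer_iff.mp (le_normalizer_sigmaCore M hmM) y₀).mp hy₀.1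
    · intro h3
      apply hy₀1
      have h4 := congrArg (fun w => m⁻¹ * w * m) h3
      simpa [mul_assoc] using h4
    · have hz' : (z : G) = m * x₀ * m⁻¹ := hzx
      rw [hz']
      calc m * x₀ * m⁻¹ * (m * y₀ * m⁻¹) = m * (x₀ * y₀) * m⁻¹ := by group
        _ = m * (y₀ * x₀) * m⁻¹ := by rw [hcomm]
        _ = m * y₀ * m⁻¹ * (m * x₀ * m⁻¹) := by group

end Ctx

/-- **the structure theorem of the `τ₃`-world (BG 13.11)** -/
theorem tau3_world (y : Hyps3 G) {M E X : Subgroup G} {p : ℕ} (hM : IsCoatom M)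
    (hE : IsComplIn E (sigmaCore M) M) (hp : p ∈ tau3 M) (hXE : X ≤ E) (hXc : Nat.card ↥X = p)
    (hY : sigmaCore M ⊓ centralizer (X : Set G) ≠ ⊥) :
    (∀ q, q ∉ tau2 M) ∧ (∀ q, q ∈ sigma M → q ∈ beta M) ∧
      (∀ e ∈ E, e ≠ 1 → sigmaCore M ⊓ centralizer ({e} : Set G) =
        sigmaCore M ⊓ centralizer (X : Set G)) ∧
      (∀ X' : Subgroup G, X' ≤ E → (Nat.card ↥X').Prime → E ≤ normalizer (X' : Set G)) ∧
      (∀ q : ℕ, q.Prime → q ∣ Nat.card ↥E → q ∈ kappa M) := by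
  haveI : Fact p.Prime := ⟨hp.1⟩
  have hXp : IsPGroup p ↥X := IsPGroup.of_card (n := 1) (by rw [hXc, pow_one])
  have hX1 : X ≠ ⊥ := card_prime_ne_bot hXc
  obtain ⟨H, hH, hNH⟩ := exists_isCoatom_ge
    (normalizer_ne_top_of_isPGroup y.h.hG hXp hX1)
  have c : Ctx M E X p H := ⟨y, hM, hE, hp, hXE, hXc, hY, hH, hNH⟩
  refine ⟨c.tau2_empty, fun q hq => c.sigma_subset_beta hq, ?_,
    fun X' hX'E hX'c => c.le_normalizer_of_card_prime hX'E hX'c,
    fun q hq hqE => c.mem_kappa_of_dvd hq hqE⟩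
  intro e he he1
  rw [c.cent_elt he he1, c.hYeq]

/-- complement: in the `τ₃`-world `E` centralizes `C_{M_σ}(X)` -/
theorem tau3_world_centralizes (y : Hyps3 G) {M E X : Subgroup G} {p : ℕ} (hM : IsCoatom M)
    (hE : IsComplIn E (sigmaCore M) M) (hp : p ∈ tau3 M) (hXE : X ≤ E) (hXc : Nat.card ↥X = p)
    (hY : sigmaCore M ⊓ centralizer (X : Set G) ≠ ⊥) :
    sigmaCore M ⊓ centralizer (E : Set G) = sigmaCore M ⊓ centralizer (X : Set G) := by
  haveI : Fact p.Prime := ⟨hp.1⟩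
  have hXp : IsPGroup p ↥X := IsPGroup.of_card (n := 1) (by rw [hXc, pow_one])
  have hX1 : X ≠ ⊥ := card_prime_ne_bot hXc
  obtain ⟨H, hH, hNH⟩ := exists_isCoatom_ge
    (normalizer_ne_top_of_isPGroup y.h.hG hXp hX1)
  have c : Ctx M E X p H := ⟨y, hM, hE, hp, hXE, hXc, hY, hH, hNH⟩
  apply le_antisymm
  · exact inf_le_inf_left _ (Subgroup.centralizer_le hXE)
  · rw [← c.hYeq]
    exact le_inf inf_le_left (le_centralizer_symm c.E_le_centralizer)

end Cfsg.Agent.Helper5.BG1311
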