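import Mathlib
import Cfsg.Agent.Lib.Helper5.BG1311G
import Cfsg.Agent.Lib.Helper25.BG1217C
import Cfsg.Agent.Lib.Helper8.BG14R0D
import Cfsg.Agent.S1378

/-!
# Bender-Glauberman 13.11 (the "tau3-world"), part H: the unconditional form (helper5)

All hypotheses of `tau3_world` are supplied from the proved rows S1350, S1403-S1409, S1411,
S1413-S1418, S1422, S1423, S1426-S1428, S1378 and helper25's asymmetry theorem (BG 12.17).
-/

set_option autoImplicit false

namespace Cfsg.Agent.Helper5.BG1311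

open Cfsg Subgroup

universe u

variable {G : Type u} [Group G] [Finite G]

/-- helper4's bundle of frozen rows -/
theorem hyps4 (hG : IsMinSimpleOddOrder G) : Cfsg.Agent.Helper4.BGSig.Hyps G :=
  ⟨hG,
   fun M hM => Cfsg.Agent.S1350.result hG M hM,
   fun M hM => Cfsg.Agent.S1414.result hG M hM,
   fun M hM p _ hp A hA => Cfsg.Agent.S1417.result hG M hM p hp A hA,
   fun p _ P hP hPna => Cfsg.Agent.S1422.result hG p P hP hPna,
   fun M hM p _ hp X hXM hX P h => Cfsg.Agent.S1423.result hG M hM p hp X hXM hX P h,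
   fun M hM E hE => Cfsg.Agent.S1426.result hG M hM E hE,
   fun M hM E hE p _ S hS1 hSc => Cfsg.Agent.S1427.result hG M hM E hE p S hS1 hSc,
   fun M hM E hE p hp P hPE hP R hRE hR =>
     Cfsg.Agent.S1428.result hG M hM E hE p hp P hPE hP R hRE hR⟩

/-- all hypotheses of `tau3_world` -/
theorem hyps3 (hG : IsMinSimpleOddOrder G) : Hyps3 G where
  h := Cfsg.Agent.S1428.hyps hG
  h1423 := fun M hM p _ hp X hXM hX P h => Cfsg.Agent.S1423.result hG M hM p hp X hXM hX P h
  h1426 := fun M hM E hE => Cfsg.Agent.S1426.result hG M hM E hE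
  h1428 := fun M hM E hE p hp P hPE hP R hRE hR =>
    Cfsg.Agent.S1428.result hG M hM E hE p hp P hPE hP R hRE hR
  h1378 := Cfsg.Agent.S1378.result hG
  asym := Cfsg.Agent.Helper25.BG1217.asymS (hyps4 hG)

/-- **BG 13.11**, in helper8's shape -/
theorem tau3World (hG : IsMinSimpleOddOrder G) : Cfsg.Agent.Helper8.BG14R0.Tau3World G :=
  fun _ _ _ _ hM hE hp hXE hXc hY => tau3_world (hyps3 hG) hM hE hp hXE hXc hY

end Cfsg.Agent.Helper5.BG1311
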