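import Mathlib
import Cfsg.Agent.Lib.Helper5.BGFwK
import Cfsg.Agent.Lib.Helper14.BG1369A
import Cfsg.Agent.Lib.Helper13.A4Recog
import Cfsg.Agent.Lib.Helper14.BGTransB
import Cfsg.Agent.S1350

/-!
# `K ≠ 1`, `U ≠ 1` ⇒ `|K|` prime, for a maximal subgroup of a minimal simple group of odd order
(helper5)

In helper14's `Half H K` context (maximal `H`, nontrivial Hall `κ(H)`-subgroup `K`, frozen S1430 and
S1431 as hypotheses): if the abelian Hall subgroup `U` of S1430 is nontrivial then `|K|` is prime;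
hence if `|K|` is not prime then `|H| = |K| |H_σ|`.
-/

set_option autoImplicit false

namespace Cfsg.Agent.Helper5.BGFwK

open Cfsg Subgroup
open Cfsg.Agent.Helper10 (IsPiNum)
open Cfsg.Agent.Helper15 (IsSylowIn exists_isSylowIn isSylowIn_of_not_dvd_relIndex)
open Cfsg.Agent.Helper16.BG147
open Cfsg.Agent.Helper14.BG1369

variable {G : Type*} [Group G] [Finite G]

/-- the primes outside `κ(H) ∪ σ(H)` -/
abbrev rest (H : Subgroup G) : Set ℕ := {q | q.Prime ∧ q ∉ kappa H ∧ q ∉ sigma H}

/-- `H = H_σ U K` for Hall subgroups `U`, `K` for the complementary sets of primes -/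
theorem le_sup_of_hall {H K U : Subgroup G}
    (hσ : IsPiHallOf (sigma H) (sigmaCore H) H) (hK : IsPiHallOf (kappa H) K H)
    (hU : IsPiHallOf (rest H) U H) : H ≤ sigmaCore H ⊔ U ⊔ K := by
  rw [← Subgroup.relIndex_eq_one]
  by_contra hne
  obtain ⟨q, hq, hqd⟩ := Nat.exists_prime_and_dvd hne
  have h1 : q ∣ (sigmaCore H).relIndex H :=
    hqd.trans (Subgroup.relIndex_dvd_of_le_left H (le_sup_left.trans le_sup_left))
  have h2 : q ∣ U.relIndex H :=
    hqd.trans (Subgroup.relIndex_dvd_of_le_left H (le_sup_right.trans le_sup_left))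
  have h3 : q ∣ K.relIndex H :=
    hqd.trans (Subgroup.relIndex_dvd_of_le_left H le_sup_right)
  by_cases hqσ : q ∈ sigma H
  · exact hσ.2.2 q hq hqσ h1
  · by_cases hqκ : q ∈ kappa H
    · exact hK.2.2 q hq hqκ h3
    · exact hU.2.2 q hq ⟨hq, hqκ, hqσ⟩ h2

theorem half_card_prime_of_U_ne_bot {H K : Subgroup G} (c : Half H K) (U : Subgroup G)
    (hUab : IsMulCommutative U) (hUhall : IsPiHallOf (rest H) U H)
    (hKU : K ≤ normalizer (U : Set G))
    (hfpf : ∀ k ∈ K, k ≠ 1 → U ⊓ centralizer ({k} : Set G) = ⊥) (hU1 : U ≠ ⊥) :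
    (Nat.card K).Prime := by
  have hG := c.hG
  have hH := c.hH
  have h50 := (Cfsg.Agent.S1350.result hG H hH).1
  haveI : Group.IsSolvable ↥H := hG.2.2.2 H hH.1
  have hSsolv : Group.IsSolvable ↥(sigmaCore H) :=
    solvable_of_solvable_injective (Subgroup.inclusion_injective (sigmaCore_le H))
  have hHS : H ≤ normalizer ((sigmaCore H : Subgroup G) : Set G) := le_normalizer_sigmaCore H
  have hcopKU : (Nat.card K).Coprime (Nat.card U) :=
    coprime_of_isPiNum (π := kappa H) (π' := rest H) (fun p hp hp' => hp'.2.1 hp)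
      c.hall.2.1 hUhall.2.1
  have hcardKU : Nat.card ↥(U ⊔ K) = Nat.card K * Nat.card U := by
    rw [sup_comm]
    exact Cfsg.Agent.Helper13.A4Recog.card_sup_of_le_normalizer K U hKU hcopKU
  have hcop : (Nat.card ↥(sigmaCore H)).Coprime (Nat.card ↥(U ⊔ K)) := by
    rw [hcardKU]
    apply Nat.Coprime.mul_right
    · exact (c.coprime_K_sigmaCore).symm
    · exact coprime_of_isPiNum (π := sigma H) (π' := rest H) (fun p hp hp' => hp'.2.2 hp)
        (card_sigmaCore H) hUhall.2.1
  apply card_prime_of_prime_action (sigmaCore H) U K hSsolv hUab (hUhall.1.trans hHS)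
    (c.K_le.trans hHS) hKU hcop hfpf (fun k hk hk1 => (c.h30 H hH K c.hall c.hK1).1 k hk hk1) c.hK1
  -- `U` does not centralise `H_σ`
  intro hcent
  have hc1 : Nat.card ↥U ≠ 1 := fun h => hU1 (Subgroup.card_eq_one.mp h)
  obtain ⟨r, hr, hrd⟩ := Nat.exists_prime_and_dvd hc1
  haveI := Fact.mk hr
  have hrrest : r ∈ rest H := hUhall.2.1 r hr hrd
  obtain ⟨R, hR⟩ := exists_isSylowIn (p := r) U
  -- `R` is the only Sylow `r`-subgroup of `U`
  have hRuniq : ∀ g ∈ normalizer (U : Set G), R.map (MulAut.conj g).toMonoidHom = R := by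
    intro g hg
    have h1 : IsSylowIn r (R.map (MulAut.conj g).toMonoidHom) U := hR.map_conj_of_mem_normalizer hg
    obtain ⟨u, hu, hu2⟩ := hR.exists_conj h1
    rw [← hu2]
    apply Cfsg.Agent.Helper15.map_conj_eq_of_mem_normalizer
    -- `u ∈ U` normalises `R` as `U` is abelian
    rw [mem_normalizer_iff]
    intro x
    have hcomm : ∀ y ∈ R, u * y * u⁻¹ = y := by
      intro y hy
      have := mul_comm_of_mem_isMulCommutative U hu (hR.le hy)
      rw [this, mul_inv_cancel_right]
    constructor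
    · intro hx
      rw [hcomm x hx]
      exact hx
    · intro hx
      have h2 := hcomm _ hx
      have h3 : u * x * u⁻¹ = x := by
        have h4 : u * (u * x * u⁻¹) * u⁻¹ = u * x * u⁻¹ := h2
        have h5 : u⁻¹ * (u * (u * x * u⁻¹) * u⁻¹) * u = u⁻¹ * (u * x * u⁻¹) * u := by rw [h4]
        have e1 : u⁻¹ * (u * (u * x * u⁻¹) * u⁻¹) * u = u * x * u⁻¹ := by group
        have e2 : u⁻¹ * (u * x * u⁻¹) * u = x := by group
        rw [e1, e2] at h5
        exact h5
      rw [← h3]
      exact hx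
  have hRne : R ≠ ⊥ := by
    intro h
    have h1 := hR.card_eq
    rw [h, Subgroup.card_bot] at h1
    have h2 : (Nat.card ↥U).factorization r = 0 := by
      by_contra h0
      have : 1 < r ^ (Nat.card ↥U).factorization r := Nat.one_lt_pow h0 hr.one_lt
      omega
    rcases (Nat.factorization_eq_zero_iff _ _).mp h2 with h3 | h3 | h3
    · exact h3 hr
    · exact h3 hrd
    · exact Nat.card_pos.ne' h3
  -- `H ≤ N(R)`
  have hHR : H ≤ normalizer (R : Set G) := by
    refine (le_sup_of_hall h50 c.hall hUhall).trans (sup_le (sup_le ?_ ?_) ?_)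
    · -- `H_σ` centralises `U ≥ R`
      refine le_trans ?_ (centralizer_le_normalizer _)
      exact (le_centralizer_iff.mp hcent).trans
        (centralizer_le (SetLike.coe_subset_coe.mpr hR.le))
    · intro u hu
      exact Cfsg.Agent.Helper15.mem_normalizer_of_map_conj_eq (hRuniq u (le_normalizer hu))
    · intro k hk
      exact Cfsg.Agent.Helper15.mem_normalizer_of_map_conj_eq (hRuniq k (hKU hk))
  have hNR : normalizer (R : Set G) = H :=
    (hH.le_iff_eq (Cfsg.Agent.Helper14.BGTrans.normalizer_ne_top_of_isPGroup hG hR.isPGroup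
      hRne)).mp hHR
  -- `R` is a Sylow `r`-subgroup of `H`, so `r ∈ σ(H)`
  have hRH : IsSylowIn r R H := by
    apply isSylowIn_of_not_dvd_relIndex hR.isPGroup (hR.le.trans hUhall.1)
    rw [← Subgroup.relIndex_mul_relIndex R U H hR.le hUhall.1]
    intro hd
    rcases (Nat.Prime.dvd_mul hr).mp hd with h1 | h1
    · exact hR.not_dvd_relIndex h1
    · exact hUhall.2.2 r hr hrrest h1
  apply hrrest.2.2
  refine ⟨hr, hrd.trans (card_dvd_of_le hUhall.1), hRH.toSylow, ?_⟩
  rw [hRH.map_toSylow, hNR]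

/-- if `|K|` is not prime then `H = H_σ K` -/
theorem half_card_eq_of_not_prime {H K : Subgroup G} (c : Half H K)
    (hnp : ¬ (Nat.card K).Prime) : Nat.card H = Nat.card K * Nat.card ↥(sigmaCore H) := by
  have hG := c.hG
  have hH := c.hH
  have h50 := (Cfsg.Agent.S1350.result hG H hH).1
  obtain ⟨U, hUab, hUhall, hKU, hfpf⟩ := (c.h30 H hH K c.hall c.hK1).2.1
  have hU1 : U = ⊥ := by
    by_contra hU1
    exact hnp (half_card_prime_of_U_ne_bot c U hUab hUhall hKU hfpf hU1)
  have hle := le_sup_of_hall h50 c.hall hUhall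
  rw [hU1, sup_bot_eq] at hle
  have heq : sigmaCore H ⊔ K = H := le_antisymm (sup_le (sigmaCore_le H) c.K_le) hle
  have hcard := Cfsg.Agent.Helper13.A4Recog.card_sup_of_le_normalizer K (sigmaCore H)
    (c.K_le.trans (le_normalizer_sigmaCore H)) c.coprime_K_sigmaCore
  rw [sup_comm, heq] at hcard
  exact hcard

end Cfsg.Agent.Helper5.BGFwK
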