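import Mathlib
import Cfsg.Prelude.Def_Blocks
import Cfsg.Agent.Lib.Helper24.CharLinear
import Cfsg.Agent.Lib.Helper16.ITODefs

/-!
# S4705 (Brauer: faithful irreducible character of degree `p - 2`): definitions (helper5)

Paper proof: `plans/S4705_proof.md`.  Skeleton with all piece statements: `plans/S4705_Skel.lean.txt`.
-/

set_option autoImplicit false

namespace Cfsg.Agent.Helper5.BP2

open scoped ComplexConjugate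
open Cfsg Cfsg.Agent.Helper24

universe u

variable {G : Type u} [Group G] [Fintype G]

/-- The shape of the `p`-block `B` of a faithful irreducible character of degree `p - 2` when a Sylow
`p`-subgroup `P` has order `p`, `C_G(P) = P × Z(G)` and `|N_G(P) : C_G(P)| = 2`:
`B = {μ₁, μ₂} ⊔ Y`; all members of `B` lie over the linear character `ω` of `Z(G)`;
`μ₁ = -1`, `μ₂ = 1` on `P ∖ 1`, `μ₂(1) = m p + 1`, `μ₁(1) = (m + 1) p - 1`;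
the `(p-1)/2` exceptional characters `η ∈ Y` have degree `p - 2`, agree on `p`-regular elements,
`η(a) = -(ψ(a) + conj ψ(a))` on `P ∖ 1` (hence `sq_rel`), sum to `1` on `P ∖ 1` and are linearly
independent there modulo that relation (`indep`);
`uniq`: EVERY irreducible character over `ω` of degree prime to `p` is in `B`;
`vanish`: irreducible characters of degree divisible by `p` vanish on `P ∖ 1`. -/
structure BZData (p : ℕ) (P : Subgroup G) where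
  ω : G → ℂ
  μ₁ : IrrCharacter G
  μ₂ : IrrCharacter G
  Y : Finset (IrrCharacter G)
  ω_norm : ∀ z ∈ Subgroup.center G, ‖ω z‖ = 1
  ω_mul : ∀ z ∈ Subgroup.center G, ∀ z' ∈ Subgroup.center G, ω (z * z') = ω z * ω z'
  over_μ₁ : ∀ z ∈ Subgroup.center G, ∀ g : G, (μ₁ : G → ℂ) (g * z) = ω z * (μ₁ : G → ℂ) g
  over_μ₂ : ∀ z ∈ Subgroup.center G, ∀ g : G, (μ₂ : G → ℂ) (g * z) = ω z * (μ₂ : G → ℂ) g
  over_Y : ∀ η ∈ Y, ∀ z ∈ Subgroup.center G, ∀ g : G,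
    (η : G → ℂ) (g * z) = ω z * (η : G → ℂ) g
  μ₁_notMem : μ₁ ∉ Y
  μ₂_notMem : μ₂ ∉ Y
  μ₁_ne_μ₂ : μ₁ ≠ μ₂
  valμ₁ : ∀ a ∈ P, a ≠ 1 → (μ₁ : G → ℂ) a = -1
  valμ₂ : ∀ a ∈ P, a ≠ 1 → (μ₂ : G → ℂ) a = 1
  degμ : ∃ m : ℕ, charDegree (μ₂ : G → ℂ) = m * p + 1 ∧ charDegree (μ₁ : G → ℂ) + 1 = (m + 1) * p
  degY : ∀ η ∈ Y, (η : G → ℂ) 1 = (p : ℂ) - 2
  cardY : 2 * Y.card = p - 1
  regY : ∀ η ∈ Y, ∀ η' ∈ Y, ∀ g : G, ¬ p ∣ orderOf g → (η : G → ℂ) g = (η' : G → ℂ) g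
  valY : ∀ η ∈ Y, ∃ ψ : IrrCharacter P, ψ ≠ principalChar P ∧
    ∀ a : P, a ≠ 1 → (η : G → ℂ) (a : G) = -((ψ : P → ℂ) a + conj ((ψ : P → ℂ) a))
  sq_rel : ∀ η ∈ Y, ∀ a ∈ P, a ≠ 1 → (η : G → ℂ) a ^ 2 = 2 - (η : G → ℂ) (a * a)
  sumY : ∀ a ∈ P, a ≠ 1 → ∑ η ∈ Y, (η : G → ℂ) a = 1
  indep : ∀ (c : IrrCharacter G → ℂ) (c₀ : ℂ),
    (∀ a ∈ P, a ≠ 1 → ∑ η ∈ Y, c η * (η : G → ℂ) a = c₀) → ∀ η ∈ Y, c η = c₀
  uniq : ∀ χ : IrrCharacter G,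
    (∀ z ∈ Subgroup.center G, (χ : G → ℂ) z = (χ : G → ℂ) 1 * ω z) →
    ¬ p ∣ charDegree (χ : G → ℂ) → χ = μ₁ ∨ χ = μ₂ ∨ χ ∈ Y
  vanish : ∀ χ : IrrCharacter G, p ∣ charDegree (χ : G → ℂ) →
    ∀ a ∈ P, a ≠ 1 → (χ : G → ℂ) a = 0

end Cfsg.Agent.Helper5.BP2
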