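import Mathlib

set_option autoImplicit false

/-!
# S4503: the group `autN P` of automorphisms of `P` induced by `N_G(P)`
-/

namespace Cfsg.Agent.Helper5.BP

variable {p : ℕ} {G : Type*} [Group G]

/-- the automorphisms of `P` induced by conjugation with elements of `N_G(P)`. -/
def autN (P : Sylow p G) : Subgroup (MulAut (P : Subgroup G)) :=
  (P : Subgroup G).normalizerMonoidHom.range

theorem mem_autN (P : Sylow p G) (α : MulAut (P : Subgroup G)) :
    α ∈ autN P ↔ ∃ n ∈ Subgroup.normalizer ((P : Subgroup G) : Set G),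
      ∀ a : (P : Subgroup G), ((α a : (P : Subgroup G)) : G) = n * (a : G) * n⁻¹ := by
  unfold autN
  rw [MonoidHom.mem_range]
  constructor
  · rintro ⟨n, rfl⟩
    exact ⟨n, n.2, fun a => rfl⟩
  · rintro ⟨n, hn, h⟩
    refine ⟨⟨n, hn⟩, ?_⟩
    ext a
    rw [h a]
    rfl

theorem card_autN (P : Sylow p G) [Finite G] :
    Nat.card (autN P) = (Subgroup.centralizer ((P : Subgroup G) : Set G)).relIndex
      (Subgroup.normalizer ((P : Subgroup G) : Set G)) := by
  unfold autN
  rw [Subgroup.relIndex, ← Subgroup.normalizerMonoidHom_ker, Subgroup.index,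
    Nat.card_congr (QuotientGroup.quotientKerEquivRange _).toEquiv]

end Cfsg.Agent.Helper5.BP
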