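import Mathlib
import Cfsg.Agent.Lib.Helper7.TLDABS2

/-!
# S4503, Theorem A: the abstract numerics on a group of prime order

* `const_of_const_off_one`: a character of degree `n`, `n + 1 < p`, of a group of prime order `p`
  which is constant off the identity is constant;
* `psip_shape`: the shape of the `θ`-part of an exceptional character of small degree
  (`c' = 0`, `δ = 1`, `ε = -1`, `dd = 0`).
-/

set_option autoImplicit false
set_option linter.unusedSectionVars false
set_option linter.unusedVariables false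
set_option linter.style.haveILetI false

namespace Cfsg.Agent.Helper5.BP

open scoped ComplexConjugate
open Cfsg Cfsg.Agent.Helper24 Cfsg.Agent.Helper7.Homo Cfsg.Agent.Helper7.Frob
open Cfsg.Agent.Helper5.TLD

universe u

variable {A : Type u} [Group A] [Finite A]

/-- the sum of the conjugates of a linear character over the nonidentity elements -/
theorem bpshape_sum_erase [Fintype A] [Fintype (IrrCharacter A)] [DecidableEq A]
    (hcomm : ∀ a b : A, a * b = b * a) (μ : IrrCharacter A) :
    ∑ a ∈ Finset.univ.erase (1 : A), conj ((μ : A → ℂ) a) =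
      (if μ = principalChar A then (Nat.card A : ℂ) else 0) - 1 := by
  have := Finset.add_sum_erase Finset.univ (fun a : A => conj ((μ : A → ℂ) a))
    (Finset.mem_univ (1 : A))
  rw [sum_lin_conj', lin_one hcomm, map_one] at this
  linear_combination this

/-- a character of degree `n`, `n + 1 < p`, constant off the identity, is constant -/
theorem const_of_const_off_one (p : ℕ) [Fact p.Prime] (hA : Nat.card A = p)
    (Ψ : A → ℂ) (hΨ : IsCharacter A Ψ) (c : ℂ) (hc : ∀ a : A, a ≠ 1 → Ψ a = c) (n : ℕ)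
    (hn : Ψ 1 = (n : ℂ)) (hsmall : n + 1 < p) : ∀ a : A, Ψ a = Ψ 1 := by
  classical
  haveI : Fintype A := Fintype.ofFinite A
  haveI : Fintype (IrrCharacter A) := irrFintype
  have hpp : p.Prime := Fact.out
  have hcomm : ∀ a b : A, a * b = b * a := abs_comm hA
  have hp0 : (p : ℂ) ≠ 0 := by exact_mod_cast hpp.ne_zero
  have key : ∀ μ : IrrCharacter A, (p : ℂ) * classInner Ψ (μ : A → ℂ) =
      (n : ℂ) + c * ((if μ = principalChar A then (p : ℂ) else 0) - 1) := by
    intro μ
    unfold classInner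
    rw [hA, ← mul_assoc, mul_inv_cancel₀ hp0, one_mul,
      ← Finset.add_sum_erase _ _ (Finset.mem_univ (1 : A)), hn, lin_one hcomm, map_one, mul_one]
    have h1 : ∑ a ∈ Finset.univ.erase (1 : A), Ψ a * conj ((μ : A → ℂ) a) =
        c * ∑ a ∈ Finset.univ.erase (1 : A), conj ((μ : A → ℂ) a) := by
      rw [Finset.mul_sum]
      refine Finset.sum_congr rfl fun a ha => ?_
      rw [hc a (Finset.ne_of_mem_erase ha)]
    rw [h1, bpshape_sum_erase hcomm, hA]
  have hcard : 1 < Fintype.card (IrrCharacter A) := by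
    rw [card_irr_abelian hcomm, hA]
    exact hpp.one_lt
  obtain ⟨μ₀, hμ₀⟩ := Fintype.exists_ne_of_one_lt_card hcard (principalChar A)
  obtain ⟨k, hk⟩ := (isCharacter_decomp hΨ).1 μ₀
  obtain ⟨m1, hm1⟩ := (isCharacter_decomp hΨ).1 (principalChar A)
  have e0 := key μ₀
  have e1 := key (principalChar A)
  rw [hk, if_neg hμ₀] at e0
  rw [hm1, if_pos rfl] at e1
  -- `c = n - p k`
  have hceq : c = (n : ℂ) - (p : ℂ) * (k : ℂ) := by linear_combination e0
  have hm1eq : (p : ℂ) * ((m1 : ℂ) + (k : ℂ) * ((p : ℂ) - 1) - (n : ℂ)) = 0 := by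
    rw [hceq] at e1
    linear_combination e1
  have h3 : (m1 : ℂ) + (k : ℂ) * ((p : ℂ) - 1) - (n : ℂ) = 0 := by
    rcases mul_eq_zero.1 hm1eq with h | h
    · exact absurd h hp0
    · exact h
  have h4 : m1 + k * (p - 1) = n := by
    have hp1 : 1 ≤ p := hpp.one_lt.le
    have : ((m1 + k * (p - 1) : ℕ) : ℂ) = (n : ℂ) := by
      push_cast [Nat.cast_sub hp1]
      linear_combination h3
    exact_mod_cast this
  have hk0 : k = 0 := by
    by_contra hne
    have hk1 : 1 ≤ k := Nat.one_le_iff_ne_zero.2 hne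
    have : p - 1 ≤ k * (p - 1) := Nat.le_mul_of_pos_left _ hk1
    omega
  have hcn : c = (n : ℂ) := by
    rw [hceq, hk0]
    simp
  intro a
  by_cases ha : a = 1
  · rw [ha]
  · rw [hc a ha, hcn, hn]

/-- the shape of the `θ`-part of an exceptional character of small degree -/
theorem psip_shape (p : ℕ) [Fact p.Prime] (hA : Nat.card A = p) (F : A → ℂ)
    (hF : IsCharacter A F) (z : ℕ) (hz : F 1 = (z : ℂ)) (hsmall : 2 * z + 1 < p)
    (ν : MulAut A) (e : ℕ) (he0 : 0 < e) (hed : e ∣ p - 1) (hνe : ν ^ e = 1)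
    (hfpf : ∀ k : ℕ, 0 < k → k < e → ∀ a : A, (ν ^ k) a = a → a = 1)
    (ε δ dd : ℤ) (hε : ε = 1 ∨ ε = -1) (hδ : δ = 1 ∨ δ = -1)
    (hcong : (z : ℤ) ≡ -ε * (e : ℤ) [ZMOD p])
    (lam : IrrCharacter A) (hlam : lam ≠ principalChar A)
    (hval : ∀ a : A, a ≠ 1 →
      F a = (dd : ℂ) + (δ : ℂ) * ∑ k ∈ Finset.range e, (lam : A → ℂ) ((ν ^ k) a)) :
    (e = p - 1 ∧ ∃ s : ℂ, ∀ a : A, a ≠ 1 → F a = s) ∨
    (3 * e ≤ p - 1 ∧ ∀ a : A, F a = ∑ k ∈ Finset.range e, (lam : A → ℂ) ((ν ^ k) a)) := by
  classical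
  haveI : Fintype A := Fintype.ofFinite A
  haveI : Fintype (IrrCharacter A) := irrFintype
  have hpp : p.Prime := Fact.out
  have hcomm : ∀ a b : A, a * b = b * a := abs_comm hA
  have hp0 : (p : ℂ) ≠ 0 := by exact_mod_cast hpp.ne_zero
  have hp1 : 1 ≤ p := hpp.one_lt.le
  set orb : Finset (IrrCharacter A) :=
    (Finset.range e).image (fun k => compIrr (ν ^ k) lam) with horb
  have hinj := abs_fibre_injOn ν e hcomm hfpf hlam
  have horbcard : orb.card = e := by
    rw [horb, Finset.card_image_of_injOn hinj, Finset.card_range]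
  have horbsub : orb ⊆ Finset.univ.erase (principalChar A) := by
    intro μ hμ
    rw [horb, Finset.mem_image] at hμ
    obtain ⟨k, -, rfl⟩ := hμ
    exact Finset.mem_erase.2 ⟨compIrr_pow_ne_principal ν k hlam, Finset.mem_univ _⟩
  have hS : ∀ a : A, ∑ k ∈ Finset.range e, (lam : A → ℂ) ((ν ^ k) a) =
      ∑ μ ∈ orb, (μ : A → ℂ) a := by
    intro a
    rw [horb, Finset.sum_image hinj]
    rfl
  have herase : (Finset.univ.erase (principalChar A)).card = p - 1 := by
    rw [Finset.card_erase_of_mem (Finset.mem_univ _), Finset.card_univ, card_irr_abelian hcomm, hA]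
  by_cases hep : e = p - 1
  · left
    refine ⟨hep, (dd : ℂ) - (δ : ℂ), fun a ha => ?_⟩
    have horbeq : orb = Finset.univ.erase (principalChar A) :=
      Finset.eq_of_subset_of_card_le horbsub (by rw [herase, horbcard, hep])
    rw [hval a ha, hS a, horbeq, sum_nontrivial hcomm a ha]
    ring
  · right
    have hp1pos : 0 < p - 1 := by have := hpp.two_le; omega
    obtain ⟨t, ht⟩ := hed
    have ht2 : 2 ≤ t := by
      rcases t with _ | _ | t
      · omega
      · omega
      · omega
    have h2e : 2 * e ≤ p - 1 := by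
      rw [ht, mul_comm]
      exact Nat.mul_le_mul_left e ht2
    -- the multiplicities
    have key : ∀ μ : IrrCharacter A, (p : ℂ) * classInner F (μ : A → ℂ) =
        (z : ℂ) + (dd : ℂ) * ((if μ = principalChar A then (p : ℂ) else 0) - 1) +
          (δ : ℂ) * ((if μ ∈ orb then (p : ℂ) else 0) - (e : ℂ)) := by
      intro μ
      unfold classInner
      rw [hA, ← mul_assoc, mul_inv_cancel₀ hp0, one_mul,
        ← Finset.add_sum_erase _ _ (Finset.mem_univ (1 : A)), hz, lin_one hcomm, map_one, mul_one]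
      have h1 : ∑ a ∈ Finset.univ.erase (1 : A), F a * conj ((μ : A → ℂ) a) =
          (dd : ℂ) * ∑ a ∈ Finset.univ.erase (1 : A), conj ((μ : A → ℂ) a) +
            (δ : ℂ) * ∑ a ∈ Finset.univ.erase (1 : A),
              (∑ μ' ∈ orb, (μ' : A → ℂ) a) * conj ((μ : A → ℂ) a) := by
        rw [Finset.mul_sum, Finset.mul_sum, ← Finset.sum_add_distrib]
        refine Finset.sum_congr rfl fun a ha => ?_
        rw [hval a (Finset.ne_of_mem_erase ha), hS a]
        ring
      have h2 : ∑ a ∈ Finset.univ.erase (1 : A),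
          (∑ μ' ∈ orb, (μ' : A → ℂ) a) * conj ((μ : A → ℂ) a) =
          (if μ ∈ orb then (p : ℂ) else 0) - (e : ℂ) := by
        have h3 := Finset.add_sum_erase Finset.univ
          (fun a : A => (∑ μ' ∈ orb, (μ' : A → ℂ) a) * conj ((μ : A → ℂ) a))
          (Finset.mem_univ (1 : A))
        have h4 : ∑ a : A, (∑ μ' ∈ orb, (μ' : A → ℂ) a) * conj ((μ : A → ℂ) a) =
            (if μ ∈ orb then (p : ℂ) else 0) := by
          simp only [Finset.sum_mul]
          rw [Finset.sum_comm]
          simp only [sum_lin_conj, hA]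
          rw [Finset.sum_ite_eq' orb μ]
        have h5 : (∑ μ' ∈ orb, (μ' : A → ℂ) 1) * conj ((μ : A → ℂ) 1) = (e : ℂ) := by
          simp only [lin_one hcomm, map_one, mul_one, Finset.sum_const, horbcard, nsmul_eq_mul]
        rw [h4] at h3
        simp only [h5] at h3
        linear_combination h3
      rw [h1, h2, bpshape_sum_erase hcomm, hA]
      ring
    -- a character outside the orbit
    have hlt : orb.card < (Finset.univ.erase (principalChar A)).card := by
      rw [herase, horbcard]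
      exact lt_of_le_of_ne (Nat.le_of_dvd hp1pos ⟨t, ht⟩) hep
    obtain ⟨μ₀, hμ₀mem, hμ₀orb⟩ := Finset.exists_mem_notMem_of_card_lt_card hlt
    have hμ₀ne : μ₀ ≠ principalChar A := Finset.ne_of_mem_erase hμ₀mem
    have hlamorb : lam ∈ orb := by
      rw [horb, Finset.mem_image]
      exact ⟨0, Finset.mem_range.2 he0, by rw [pow_zero, compIrr_one]⟩
    have hprincorb : principalChar A ∉ orb := fun h =>
      (Finset.ne_of_mem_erase (horbsub h)) rfl
    obtain ⟨m₀, hm₀⟩ := (isCharacter_decomp hF).1 μ₀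
    obtain ⟨m₁, hm₁⟩ := (isCharacter_decomp hF).1 (principalChar A)
    obtain ⟨ml, hml⟩ := (isCharacter_decomp hF).1 lam
    have e0 := key μ₀
    have e1 := key (principalChar A)
    have el := key lam
    rw [hm₀, if_neg hμ₀ne, if_neg hμ₀orb] at e0
    rw [hm₁, if_pos rfl, if_neg hprincorb] at e1
    rw [hml, if_neg hlam, if_pos hlamorb] at el
    have E0 : (p : ℤ) * (m₀ : ℤ) = (z : ℤ) - dd - δ * (e : ℤ) := by
      have : ((p : ℤ) * (m₀ : ℤ) : ℂ) = (((z : ℤ) - dd - δ * (e : ℤ) : ℤ) : ℂ) := by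
        push_cast
        linear_combination e0
      exact_mod_cast this
    have E1 : (p : ℤ) * (m₁ : ℤ) = (z : ℤ) + dd * ((p : ℤ) - 1) - δ * (e : ℤ) := by
      have : ((p : ℤ) * (m₁ : ℤ) : ℂ) = (((z : ℤ) + dd * ((p : ℤ) - 1) - δ * (e : ℤ) : ℤ) : ℂ) := by
        push_cast
        linear_combination e1
      exact_mod_cast this
    have El : (p : ℤ) * (ml : ℤ) = (z : ℤ) - dd + δ * ((p : ℤ) - (e : ℤ)) := by
      have : ((p : ℤ) * (ml : ℤ) : ℂ) = (((z : ℤ) - dd + δ * ((p : ℤ) - (e : ℤ)) : ℤ) : ℂ) := by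
        push_cast
        linear_combination el
      exact_mod_cast this
    have hpZ : (0 : ℤ) < (p : ℤ) := by exact_mod_cast hpp.pos
    have hdd : dd = (m₁ : ℤ) - (m₀ : ℤ) := by
      have : (p : ℤ) * (dd - ((m₁ : ℤ) - (m₀ : ℤ))) = 0 := by linear_combination E0 - E1
      rcases mul_eq_zero.1 this with h | h
      · omega
      · omega
    have hδeq : δ = (ml : ℤ) - (m₀ : ℤ) := by
      have : (p : ℤ) * (δ - ((ml : ℤ) - (m₀ : ℤ))) = 0 := by linear_combination E0 - El
      rcases mul_eq_zero.1 this with h | h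
      · omega
      · omega
    have hzlt : 2 * (z : ℤ) + 1 < (p : ℤ) := by exact_mod_cast hsmall
    have h2eZ : 2 * (e : ℤ) ≤ (p : ℤ) - 1 := by
      have : ((2 * e : ℕ) : ℤ) ≤ ((p - 1 : ℕ) : ℤ) := by exact_mod_cast h2e
      rw [Nat.cast_sub hp1] at this
      push_cast at this
      exact this
    have hm₀0 : m₀ = 0 := by
      by_contra hne
      have h1 : (1 : ℤ) ≤ (m₀ : ℤ) := by exact_mod_cast Nat.one_le_iff_ne_zero.2 hne
      have h2 : (p : ℤ) ≤ (p : ℤ) * (m₀ : ℤ) := le_mul_of_one_le_right hpZ.le h1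
      have h3 : ((p : ℤ) - 1) * ((m₀ : ℤ) - 1) ≥ 0 :=
        mul_nonneg (by linarith) (by linarith)
      have hm₁0 : (0 : ℤ) ≤ (m₁ : ℤ) := Int.natCast_nonneg _
      have hml0 : (0 : ℤ) ≤ (ml : ℤ) := Int.natCast_nonneg _
      have he0Z : (0 : ℤ) ≤ (e : ℤ) := Int.natCast_nonneg _
      rcases hδ with hδ1 | hδ1
      · rw [hδ1] at E0
        nlinarith
      · rw [hδ1] at E0
        nlinarith
    subst hm₀0
    have hm₁0 : (0 : ℤ) ≤ (m₁ : ℤ) := Int.natCast_nonneg _
    have hml0 : (0 : ℤ) ≤ (ml : ℤ) := Int.natCast_nonneg _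
    have hδ1 : δ = 1 := by
      rcases hδ with h | h
      · exact h
      · rw [h] at hδeq
        simp only [Nat.cast_zero, sub_zero] at hδeq
        omega
    have hddnn : 0 ≤ dd := by
      rw [hdd]
      simp only [Nat.cast_zero, sub_zero]
      exact hm₁0
    have hzeq : (z : ℤ) = dd + (e : ℤ) := by
      rw [hδ1] at E0
      simp only [Nat.cast_zero, mul_zero] at E0
      linarith
    have he0Z : (0 : ℤ) < (e : ℤ) := by exact_mod_cast he0
    have hdvd := hcong.dvd
    -- `p ∣ -ε e - z`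
    have hdd0 : dd = 0 := by
      rcases hε with h | h
      · exfalso
        rw [h] at hdvd
        have h1 : (p : ℤ) ∣ (z : ℤ) + (e : ℤ) := by
          have : (z : ℤ) + (e : ℤ) = -(-(1 : ℤ) * (e : ℤ) - (z : ℤ)) := by ring
          rw [this]
          exact (dvd_neg).2 hdvd
        have h2 : (p : ℤ) ≤ (z : ℤ) + (e : ℤ) := Int.le_of_dvd (by linarith) h1
        linarith
      · rw [h] at hdvd
        have h1 : (p : ℤ) ∣ dd := by
          have : dd = -(-(-1 : ℤ) * (e : ℤ) - (z : ℤ)) := by rw [hzeq]; ring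
          rw [this]
          exact (dvd_neg).2 hdvd
        by_contra hne
        have hpos : 0 < dd := lt_of_le_of_ne hddnn (Ne.symm hne)
        have h2 : (p : ℤ) ≤ dd := Int.le_of_dvd hpos h1
        linarith
    have hze : z = e := by
      rw [hdd0] at hzeq
      have : (z : ℤ) = (e : ℤ) := by linarith
      exact_mod_cast this
    refine ⟨?_, ?_⟩
    · have ht3 : 3 ≤ t := by
        by_contra hcon
        have : t = 2 := by omega
        subst this
        rw [hze] at hsmall
        omega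
      rw [ht, mul_comm]
      exact Nat.mul_le_mul_left e ht3
    · intro a
      by_cases ha : a = 1
      · rw [ha, hz, hze]
        simp only [map_one, lin_one hcomm, Finset.sum_const, Finset.card_range, nsmul_eq_mul,
          mul_one]
      · rw [hval a ha, hdd0, hδ1]
        push_cast
        ring

end Cfsg.Agent.Helper5.BP
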