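import Mathlib
import Cfsg.Agent.Lib.Helper5.CharCenter
import Cfsg.Agent.Lib.Helper24.CharComplete
import Cfsg.Agent.Lib.Helper24.CharAlgebra
import Cfsg.Agent.Lib.Helper8.IndFun

/-!
# Counting the irreducible characters over a faithful character of a central subgroup
(helper5's shared library)
-/

set_option autoImplicit false

universe u

namespace Cfsg.Agent.Helper5.CentralCount

open Cfsg Cfsg.Agent.Helper24

open scoped ComplexConjugate

open Classical

section ClassCount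

variable {X : Type u} [Group X] [Fintype X]

/-- The number of `y` conjugating `x` to itself. -/
noncomputable def cnt (x : X) : ℕ := (Finset.univ.filter (fun y : X => y * x * y⁻¹ = x)).card

theorem sum_fibre_conj (x₀ : X) :
    ∑ x : X, (Finset.univ.filter (fun y : X => y * x₀ * y⁻¹ = x)).card = Fintype.card X := by
  have := Finset.card_eq_sum_card_fiberwise (s := (Finset.univ : Finset X))
    (t := (Finset.univ : Finset X)) (f := fun y : X => y * x₀ * y⁻¹)
    (fun _ _ => Finset.mem_univ _)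
  rw [Finset.card_univ] at this
  exact this.symm

theorem cnt_eq_of_conj (x₀ a : X) :
    cnt (a * x₀ * a⁻¹) =
      (Finset.univ.filter (fun y : X => y * x₀ * y⁻¹ = a * x₀ * a⁻¹)).card := by
  unfold cnt
  apply Finset.card_equiv (Equiv.mulRight a)
  intro y
  simp only [Finset.mem_filter, Finset.mem_univ, true_and, Equiv.coe_mulRight]
  have h1 : y * a * x₀ * (y * a)⁻¹ = y * (a * x₀ * a⁻¹) * y⁻¹ := by group
  rw [h1]

/-- Summing the centralizer orders over a conjugation-invariant set of elements counts the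
classes in it. -/
theorem sum_cnt_of_invariant (T : X → Prop) (hT : ∀ x y : X, T (y * x * y⁻¹) ↔ T x) :
    ∑ x : X, (if T x then cnt x else 0) =
      Fintype.card X * Nat.card {C : ConjClasses X // ∃ x, ConjClasses.mk x = C ∧ T x} := by
  rw [← Finset.sum_fiberwise (s := (Finset.univ : Finset X)) (g := ConjClasses.mk)
    (f := fun x => if T x then cnt x else 0)]
  have hC : ∀ C : ConjClasses X,
      ∑ x ∈ Finset.univ.filter (fun x : X => ConjClasses.mk x = C), (if T x then cnt x else 0) =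
        if (∃ x, ConjClasses.mk x = C ∧ T x) then Fintype.card X else 0 := by
    intro C
    obtain ⟨x₀, rfl⟩ := ConjClasses.mk_surjective C
    have hconj : ∀ x : X, ConjClasses.mk x = ConjClasses.mk x₀ → ∃ a : X, x = a * x₀ * a⁻¹ := by
      intro x hx
      rw [ConjClasses.mk_eq_mk_iff_isConj, isConj_comm, isConj_iff] at hx
      obtain ⟨a, ha⟩ := hx
      exact ⟨a, ha.symm⟩
    by_cases h : ∃ x, ConjClasses.mk x = ConjClasses.mk x₀ ∧ T x
    · rw [if_pos h]
      obtain ⟨x₁, hx₁, hTx₁⟩ := h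
      have hT0 : T x₀ := by
        obtain ⟨a, rfl⟩ := hconj x₁ hx₁
        exact (hT x₀ a).1 hTx₁
      have h1 : ∀ x ∈ Finset.univ.filter (fun x : X => ConjClasses.mk x = ConjClasses.mk x₀),
          (if T x then cnt x else 0) =
            (Finset.univ.filter (fun y : X => y * x₀ * y⁻¹ = x)).card := by
        intro x hx
        obtain ⟨a, rfl⟩ := hconj x (Finset.mem_filter.1 hx).2
        rw [if_pos ((hT x₀ a).2 hT0), cnt_eq_of_conj]
      rw [Finset.sum_congr rfl h1, ← sum_fibre_conj x₀]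
      apply Finset.sum_subset (Finset.subset_univ _)
      intro x _ hx
      rw [Finset.card_eq_zero, Finset.filter_eq_empty_iff]
      intro y _ hy
      apply hx
      rw [Finset.mem_filter]
      refine ⟨Finset.mem_univ _, ?_⟩
      rw [ConjClasses.mk_eq_mk_iff_isConj, isConj_comm, isConj_iff]
      exact ⟨y, hy⟩
    · rw [if_neg h]
      apply Finset.sum_eq_zero
      intro x hx
      rw [if_neg]
      intro hTx
      exact h ⟨x, (Finset.mem_filter.1 hx).2, hTx⟩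
  rw [Finset.sum_congr rfl (fun C _ => hC C), Finset.sum_ite, Finset.sum_const_zero, add_zero,
    Finset.sum_const, smul_eq_mul, mul_comm, Nat.card_eq_fintype_card, Fintype.card_subtype]

end ClassCount

section Main

variable {G : Type u} [Group G] [Fintype G] (N : Subgroup G) [hNn : N.Normal] [Fintype N]

/-- The speciality condition of the statement. -/
def Sp (g : G) : Prop := ∀ x : G, x⁻¹ * g⁻¹ * x * g ∈ N → x * g = g * x

variable {N}

theorem comm_of_le_center (hN : N ≤ Subgroup.center G) (a b : N) : a * b = b * a := by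
  apply Subtype.ext
  show (a : G) * b = b * a
  exact Subgroup.mem_center_iff.mp (hN b.2) a

theorem psi_one (hN : N ≤ Subgroup.center G) {ψ : N → ℂ} (hψ : IsIrrCharacter N ψ) :
    ψ 1 = 1 := by
  letI := irrFintype (G := ↥N)
  rw [irr_one_eq_charDegree hψ, charDegree_eq_one_of_comm (comm_of_le_center hN) hψ]
  simp

theorem psi_mul (hN : N ≤ Subgroup.center G) {ψ : N → ℂ} (hψ : IsIrrCharacter N ψ) (a b : N) :
    ψ (a * b) = ψ a * ψ b :=
  char_mul_of_degree_one (isCharacter_of_isIrrCharacter hψ) (psi_one hN hψ) a b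

/-- The multiplicity of `ψ` in `χ_N` is `0` or `χ 1`. -/
theorem inner_zero_or (hN : N ≤ Subgroup.center G) {ψ : N → ℂ} (hψ : IsIrrCharacter N ψ)
    {χ : G → ℂ} (hχ : IsIrrCharacter G χ) :
    classInner (fun n : N => χ n) ψ = 0 ∨ classInner (fun n : N => χ n) ψ = χ 1 := by
  obtain ⟨φ, hφ, -, he⟩ := restrict_central_eq N hN hχ
  rw [he, classInner_smul_left, irr_orthogonality hφ hψ]
  by_cases h : φ = ψ
  · right; rw [if_pos h, mul_one]
  · left; rw [if_neg h, mul_zero]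

theorem sum_conj_psi_mul (hN : N ≤ Subgroup.center G) (ψ : N → ℂ)
    {χ : G → ℂ} (hχ : IsIrrCharacter G χ) (g : G) :
    ∑ n : N, conj (ψ n) * χ (n * g) =
      (Nat.card N : ℂ) * classInner (fun n : N => χ n) ψ / χ 1 * χ g := by
  have h1 : ∀ n : N, conj (ψ n) * χ (n * g) = (χ g / χ 1) * (χ n * conj (ψ n)) := by
    intro n
    rw [Cfsg.Agent.Helper23.irr_central_mul χ hχ n (hN n.2) g]
    ring
  rw [Finset.sum_congr rfl (fun n _ => h1 n), ← Finset.mul_sum]
  unfold classInner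
  have hN0 : (Nat.card N : ℂ) ≠ 0 := by
    have : Nat.card N ≠ 0 := Nat.card_pos.ne'
    exact_mod_cast this
  field_simp

/-- Part 1: the character side of the count. -/
theorem part1 (hN : N ≤ Subgroup.center G) {ψ : N → ℂ} (hψ : IsIrrCharacter N ψ)
    [Fintype (IrrCharacter G)] :
    ∑ g : G, ∑ n : N, conj (ψ n) * (Nat.card {y : G // y * g * y⁻¹ = (n : G) * g} : ℂ) =
      (Nat.card N : ℂ) * (Nat.card G : ℂ) *
        (Nat.card {χ : IrrCharacter G // classInner (fun n : N => (χ : G → ℂ) n) ψ ≠ 0} : ℂ) := by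
  have h1 : ∀ g : G, ∀ n : N,
      conj (ψ n) * (Nat.card {y : G // y * g * y⁻¹ = (n : G) * g} : ℂ) =
        ∑ χ : IrrCharacter G, conj (ψ n) * (χ : G → ℂ) ((n : G) * g) * conj ((χ : G → ℂ) g) := by
    intro g n
    rw [← second_orthogonality ((n : G) * g) g, Finset.mul_sum]
    refine Finset.sum_congr rfl fun χ _ => ?_
    ring
  simp only [h1]
  have h2 : ∑ g : G, ∑ n : N, ∑ χ : IrrCharacter G,
      conj (ψ n) * (χ : G → ℂ) ((n : G) * g) * conj ((χ : G → ℂ) g) =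
      ∑ χ : IrrCharacter G, ∑ g : G,
        (∑ n : N, conj (ψ n) * (χ : G → ℂ) ((n : G) * g)) * conj ((χ : G → ℂ) g) := by
    rw [Finset.sum_comm]
    have : ∀ n : N, ∑ g : G, ∑ χ : IrrCharacter G,
        conj (ψ n) * (χ : G → ℂ) ((n : G) * g) * conj ((χ : G → ℂ) g) =
        ∑ χ : IrrCharacter G, ∑ g : G,
          conj (ψ n) * (χ : G → ℂ) ((n : G) * g) * conj ((χ : G → ℂ) g) :=
      fun n => Finset.sum_comm
    simp only [this]
    rw [Finset.sum_comm]
    refine Finset.sum_congr rfl fun χ _ => ?_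
    rw [Finset.sum_comm]
    refine Finset.sum_congr rfl fun g _ => ?_
    rw [Finset.sum_mul]
  rw [h2]
  have h3 : ∀ χ : IrrCharacter G, ∑ g : G,
      (∑ n : N, conj (ψ n) * (χ : G → ℂ) ((n : G) * g)) * conj ((χ : G → ℂ) g) =
      (Nat.card N : ℂ) * (Nat.card G : ℂ) *
        (if classInner (fun n : N => (χ : G → ℂ) n) ψ ≠ 0 then 1 else 0) := by
    intro χ
    have hχ1 : (χ : G → ℂ) 1 ≠ 0 := Cfsg.Agent.Helper23.irr_one_ne_zero _ χ.2
    simp only [sum_conj_psi_mul hN ψ χ.2]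
    have h4 : ∀ g : G, (Nat.card N : ℂ) * classInner (fun n : N => (χ : G → ℂ) n) ψ /
        (χ : G → ℂ) 1 * (χ : G → ℂ) g * conj ((χ : G → ℂ) g) =
        ((Nat.card N : ℂ) * classInner (fun n : N => (χ : G → ℂ) n) ψ / (χ : G → ℂ) 1) *
          ((χ : G → ℂ) g * conj ((χ : G → ℂ) g)) := fun g => by ring
    rw [Finset.sum_congr rfl (fun g _ => h4 g), ← Finset.mul_sum, sum_mul_conj_irr χ.2]
    rcases inner_zero_or hN hψ χ.2 with h | h
    · rw [h, if_neg (by simp)]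
      simp
    · rw [h, if_pos hχ1]
      field_simp
  rw [Finset.sum_congr rfl (fun χ _ => h3 χ), ← Finset.mul_sum, Finset.sum_boole,
    Nat.card_eq_fintype_card (α := {χ : IrrCharacter G //
      classInner (fun n : N => (χ : G → ℂ) n) ψ ≠ 0}), Fintype.card_subtype]

/-- Part 2: the inner sum in terms of the extension by zero. -/
theorem part2 (ψ : N → ℂ) (g : G) :
    ∑ n : N, conj (ψ n) * (Nat.card {y : G // y * g * y⁻¹ = (n : G) * g} : ℂ) =
      ∑ y : G, conj (extendByZero N ψ (y * g * y⁻¹ * g⁻¹)) := by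
  have h1 : ∀ n : N, (Nat.card {y : G // y * g * y⁻¹ = (n : G) * g} : ℂ) =
      ∑ y : G, if y * g * y⁻¹ = (n : G) * g then (1 : ℂ) else 0 := by
    intro n
    rw [Finset.sum_boole, Nat.card_eq_fintype_card, Fintype.card_subtype]
  simp only [h1, Finset.mul_sum]
  rw [Finset.sum_comm]
  refine Finset.sum_congr rfl fun y _ => ?_
  by_cases hk : y * g * y⁻¹ * g⁻¹ ∈ N
  · rw [Cfsg.Agent.Helper8.extendByZero_of_mem N ψ _ hk]
    rw [Finset.sum_eq_single (⟨y * g * y⁻¹ * g⁻¹, hk⟩ : N)]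
    · rw [if_pos (by simp), mul_one]
    · intro n _ hn
      rw [if_neg, mul_zero]
      intro h
      apply hn
      apply Subtype.ext
      show (n : G) = y * g * y⁻¹ * g⁻¹
      rw [h]
      group
    · intro h
      exact absurd (Finset.mem_univ _) h
  · rw [Cfsg.Agent.Helper8.extendByZero_of_not_mem N ψ _ hk, map_zero]
    apply Finset.sum_eq_zero
    intro n _
    rw [if_neg, mul_zero]
    intro h
    apply hk
    have : y * g * y⁻¹ * g⁻¹ = (n : G) := by rw [h]; group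
    rw [this]
    exact n.2

end Main

section Special

variable {G : Type u} [Group G] [Fintype G] {N : Subgroup G} [hNn : N.Normal] [Fintype N]

theorem kappa_mul (hN : N ≤ Subgroup.center G) (g y y₀ : G) (h₀ : y₀ * g * y₀⁻¹ * g⁻¹ ∈ N) :
    (y * y₀) * g * (y * y₀)⁻¹ * g⁻¹ = (y₀ * g * y₀⁻¹ * g⁻¹) * (y * g * y⁻¹ * g⁻¹) := by
  have hc : ∀ z : G, z * (y₀ * g * y₀⁻¹ * g⁻¹) = (y₀ * g * y₀⁻¹ * g⁻¹) * z :=
    Subgroup.mem_center_iff.1 (hN h₀)
  calc (y * y₀) * g * (y * y₀)⁻¹ * g⁻¹ = y * (y₀ * g * y₀⁻¹ * g⁻¹) * (g * y⁻¹ * g⁻¹) := by group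
    _ = (y₀ * g * y₀⁻¹ * g⁻¹) * y * (g * y⁻¹ * g⁻¹) := by rw [hc y]
    _ = _ := by group

theorem sp_iff (g : G) :
    Sp N g ↔ ∀ y : G, y * g * y⁻¹ * g⁻¹ ∈ N → y * g * y⁻¹ * g⁻¹ = 1 := by
  constructor
  · intro h y hy
    have h1 : y⁻¹⁻¹ * g⁻¹ * y⁻¹ * g ∈ N := by
      have h2 : y⁻¹⁻¹ * g⁻¹ * y⁻¹ * g = g⁻¹ * (y * g * y⁻¹ * g⁻¹)⁻¹ * g⁻¹⁻¹ := by group
      rw [h2]
      exact hNn.conj_mem _ (N.inv_mem hy) g⁻¹
    have h3 := h y⁻¹ h1
    calc y * g * y⁻¹ * g⁻¹ = y * (g * y⁻¹) * g⁻¹ := by group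
      _ = y * (y⁻¹ * g) * g⁻¹ := by rw [h3]
      _ = 1 := by group
  · intro h x hx
    have h1 : x⁻¹ * g * x⁻¹⁻¹ * g⁻¹ ∈ N := by
      have h2 : x⁻¹ * g * x⁻¹⁻¹ * g⁻¹ = g * (x⁻¹ * g⁻¹ * x * g)⁻¹ * g⁻¹ := by group
      rw [h2]
      exact hNn.conj_mem _ (N.inv_mem hx) g
    have h3 := h x⁻¹ h1
    rw [inv_inv] at h3
    calc x * g = x * 1 * g := by group
      _ = x * (x⁻¹ * g * x * g⁻¹) * g := by rw [h3]
      _ = g * x := by group

theorem sp_coset (hN : N ≤ Subgroup.center G) (g n : G) (hn : n ∈ N) (h : Sp N g) :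
    Sp N (g * n) := by
  have hc : ∀ z : G, z * n = n * z := Subgroup.mem_center_iff.1 (hN hn)
  intro x hx
  have h1 : x⁻¹ * (g * n)⁻¹ * x * (g * n) = x⁻¹ * g⁻¹ * x * g := by
    calc x⁻¹ * (g * n)⁻¹ * x * (g * n) = x⁻¹ * n⁻¹ * g⁻¹ * x * g * n := by group
      _ = x⁻¹ * n⁻¹ * (g⁻¹ * x * g) * n := by group
      _ = x⁻¹ * n⁻¹ * (n * (g⁻¹ * x * g)) := by rw [mul_assoc, hc]
      _ = _ := by group
  rw [h1] at hx
  have h2 := h x hx
  calc x * (g * n) = (x * g) * n := by group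
    _ = (g * x) * n := by rw [h2]
    _ = g * (x * n) := by group
    _ = g * (n * x) := by rw [hc]
    _ = _ := by group

theorem sp_conj (g y : G) (h : Sp N g) : Sp N (y * g * y⁻¹) := by
  intro x hx
  have h1 : (y⁻¹ * x * y)⁻¹ * g⁻¹ * (y⁻¹ * x * y) * g ∈ N := by
    have h2 : (y⁻¹ * x * y)⁻¹ * g⁻¹ * (y⁻¹ * x * y) * g =
        y⁻¹ * (x⁻¹ * (y * g * y⁻¹)⁻¹ * x * (y * g * y⁻¹)) * y⁻¹⁻¹ := by group
    rw [h2]
    exact hNn.conj_mem _ hx y⁻¹
  have h3 := h _ h1
  calc x * (y * g * y⁻¹) = y * ((y⁻¹ * x * y) * g) * y⁻¹ := by group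
    _ = y * (g * (y⁻¹ * x * y)) * y⁻¹ := by rw [h3]
    _ = _ := by group

/-- Part 3: the inner sum vanishes unless `g` is special. -/
theorem part3 (hN : N ≤ Subgroup.center G) {ψ : N → ℂ} (hψ : IsIrrCharacter N ψ)
    (hfaith : ∀ n : N, ψ n = ψ 1 → n = 1) (g : G) :
    ∑ y : G, conj (extendByZero N ψ (y * g * y⁻¹ * g⁻¹)) =
      if Sp N g then ((Finset.univ.filter (fun y : G => y * g * y⁻¹ * g⁻¹ ∈ N)).card : ℂ)
        else 0 := by
  have hψ1 := psi_one hN hψ
  by_cases hsp : Sp N g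
  · rw [if_pos hsp, ← Finset.sum_boole]
    refine Finset.sum_congr rfl fun y _ => ?_
    by_cases hk : y * g * y⁻¹ * g⁻¹ ∈ N
    · rw [if_pos hk, Cfsg.Agent.Helper8.extendByZero_of_mem N ψ _ hk]
      have h1 : (⟨y * g * y⁻¹ * g⁻¹, hk⟩ : N) = 1 := Subtype.ext ((sp_iff g).1 hsp y hk)
      rw [h1, hψ1, map_one]
    · rw [if_neg hk, Cfsg.Agent.Helper8.extendByZero_of_not_mem N ψ _ hk, map_zero]
  · rw [if_neg hsp]
    rw [sp_iff] at hsp
    push_neg at hsp
    obtain ⟨y₀, h₀, hne⟩ := hsp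
    set k₀ : N := ⟨y₀ * g * y₀⁻¹ * g⁻¹, h₀⟩ with hk₀
    have hψk : ψ k₀ ≠ 1 := by
      intro h
      apply hne
      have := hfaith k₀ (by rw [h, hψ1])
      exact congrArg Subtype.val this
    set S := ∑ y : G, conj (extendByZero N ψ (y * g * y⁻¹ * g⁻¹)) with hS
    have h1 : S = conj (ψ k₀) * S := by
      rw [hS, Finset.mul_sum, ← Equiv.sum_comp (Equiv.mulRight y₀)]
      refine Finset.sum_congr rfl fun y _ => ?_
      simp only [Equiv.coe_mulRight]
      rw [kappa_mul hN g y y₀ h₀]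
      by_cases hk : y * g * y⁻¹ * g⁻¹ ∈ N
      · rw [Cfsg.Agent.Helper8.extendByZero_of_mem N ψ _ hk,
          Cfsg.Agent.Helper8.extendByZero_of_mem N ψ _ (N.mul_mem h₀ hk)]
        have h2 : (⟨y₀ * g * y₀⁻¹ * g⁻¹ * (y * g * y⁻¹ * g⁻¹), N.mul_mem h₀ hk⟩ : N) =
            k₀ * ⟨y * g * y⁻¹ * g⁻¹, hk⟩ := rfl
        rw [h2, psi_mul hN hψ, map_mul]
      · have hk' : y₀ * g * y₀⁻¹ * g⁻¹ * (y * g * y⁻¹ * g⁻¹) ∉ N := by
          intro h
          apply hk
          have h3 : y * g * y⁻¹ * g⁻¹ =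
              (y₀ * g * y₀⁻¹ * g⁻¹)⁻¹ * (y₀ * g * y₀⁻¹ * g⁻¹ * (y * g * y⁻¹ * g⁻¹)) := by group
          rw [h3]
          exact N.mul_mem (N.inv_mem h₀) h
        rw [Cfsg.Agent.Helper8.extendByZero_of_not_mem N ψ _ hk,
          Cfsg.Agent.Helper8.extendByZero_of_not_mem N ψ _ hk', map_zero, mul_zero]
    have h2 : (1 - conj (ψ k₀)) * S = 0 := by
      rw [sub_mul, one_mul, ← h1, sub_self]
    rcases mul_eq_zero.1 h2 with h | h
    · exfalso
      apply hψk
      have h3 : conj (ψ k₀) = 1 := (sub_eq_zero.1 h).symm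
      have h4 := congrArg conj h3
      rwa [Complex.conj_conj, map_one] at h4
    · exact h

theorem card_filter_kappa [Fintype (G ⧸ N)] (g : G) :
    ((Finset.univ.filter (fun y : G => y * g * y⁻¹ * g⁻¹ ∈ N)).card : ℂ) =
      (Nat.card N : ℂ) * (cnt ((g : G ⧸ N)) : ℂ) := by
  have h1 : ∀ y : G, (y * g * y⁻¹ * g⁻¹ ∈ N) ↔
      (QuotientGroup.mk' N y) * (g : G ⧸ N) * (QuotientGroup.mk' N y)⁻¹ = (g : G ⧸ N) := by
    intro y
    rw [← QuotientGroup.eq_one_iff]
    show ((y * g * y⁻¹ * g⁻¹ : G) : G ⧸ N) = 1 ↔ _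
    rw [QuotientGroup.mk_mul, QuotientGroup.mk_inv, mul_inv_eq_one]
    rfl
  rw [← Finset.sum_boole]
  simp only [h1]
  have h2 := Cfsg.Agent.Helper8.sum_comp_surjective_hom (QuotientGroup.mk' N)
    (QuotientGroup.mk'_surjective N)
    (fun b : G ⧸ N => if b * (g : G ⧸ N) * b⁻¹ = (g : G ⧸ N) then (1 : ℂ) else 0)
  rw [h2, Finset.sum_boole]
  have h3 : Nat.card (QuotientGroup.mk' N).ker = Nat.card N := by
    rw [QuotientGroup.ker_mk']
  rw [h3]
  unfold cnt
  congr 3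
  ext b
  simp only [Finset.mem_filter]

/-- Part 4: passing to the quotient. -/
theorem part4 (hN : N ≤ Subgroup.center G) [Fintype (G ⧸ N)] :
    ∑ g : G, (if Sp N g then
      ((Finset.univ.filter (fun y : G => y * g * y⁻¹ * g⁻¹ ∈ N)).card : ℂ) else 0) =
      (Nat.card N : ℂ) * ((Nat.card N : ℂ) * ∑ a : G ⧸ N,
        (if (∃ g : G, (g : G ⧸ N) = a ∧ Sp N g) then (cnt a : ℂ) else 0)) := by
  have hsp : ∀ g : G, Sp N g ↔ ∃ g' : G, (g' : G ⧸ N) = (g : G ⧸ N) ∧ Sp N g' := by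
    intro g
    constructor
    · intro h
      exact ⟨g, rfl, h⟩
    · rintro ⟨g', hg', h⟩
      have h1 : g'⁻¹ * g ∈ N := QuotientGroup.eq.1 hg'
      have h2 : g = g' * (g'⁻¹ * g) := by group
      rw [h2]
      exact sp_coset hN g' _ h1 h
  have h1 : ∀ g : G, (if Sp N g then
      ((Finset.univ.filter (fun y : G => y * g * y⁻¹ * g⁻¹ ∈ N)).card : ℂ) else 0) =
      (fun a : G ⧸ N => if (∃ g' : G, (g' : G ⧸ N) = a ∧ Sp N g') then
        (Nat.card N : ℂ) * (cnt a : ℂ) else 0) (QuotientGroup.mk' N g) := by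
    intro g
    show _ = if (∃ g' : G, (g' : G ⧸ N) = (g : G ⧸ N) ∧ Sp N g') then
      (Nat.card N : ℂ) * (cnt (g : G ⧸ N) : ℂ) else 0
    by_cases h : Sp N g
    · rw [if_pos h, if_pos ((hsp g).1 h), card_filter_kappa]
    · rw [if_neg h, if_neg (fun h' => h ((hsp g).2 h'))]
  have h2 := Cfsg.Agent.Helper8.sum_comp_surjective_hom (QuotientGroup.mk' N)
    (QuotientGroup.mk'_surjective N)
    (fun a : G ⧸ N => if (∃ g' : G, (g' : G ⧸ N) = a ∧ Sp N g') then
        (Nat.card N : ℂ) * (cnt a : ℂ) else 0)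
  rw [Finset.sum_congr rfl (fun g _ => h1 g), h2]
  have h3 : Nat.card (QuotientGroup.mk' N).ker = Nat.card N := by
    rw [QuotientGroup.ker_mk']
  rw [h3]
  congr 1
  rw [Finset.mul_sum]
  refine Finset.sum_congr rfl fun a _ => ?_
  split_ifs
  · rfl
  · rw [mul_zero]

end Special

end Cfsg.Agent.Helper5.CentralCount
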