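import Mathlib

set_option autoImplicit false

namespace Cfsg.Agent.Helper5

open MulAction

/-- A finite `p`-group acting linearly on a vector space over a field of characteristic `p`
fixes a nonzero vector in any nonzero stable subspace. -/
theorem exists_fixed_of_pgroup {p : ℕ} [Fact p.Prime] {F : Type*} [Field F] [CharP F p]
    {P : Type*} [Group P] [Finite P] (hP : IsPGroup p P)
    {V : Type*} [AddCommGroup V] [Module F V] (ρ : P →* Module.End F V)
    (W : Submodule F V) (hW : W ≠ ⊥) (hst : ∀ y : P, ∀ w ∈ W, ρ y w ∈ W) :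
    ∃ w ∈ W, w ≠ 0 ∧ ∀ y : P, ρ y w = w := by
  obtain ⟨w₀, hw₀W, hw₀⟩ := (Submodule.ne_bot_iff W).1 hW
  letI : Module (ZMod p) V := Module.compHom V (ZMod.castHom (dvd_refl p) F)
  let S : Set V := Set.range fun y : P => ρ y w₀
  let U : Submodule (ZMod p) V := Submodule.span (ZMod p) S
  have hUW : ∀ u ∈ U, u ∈ W := by
    intro u hu
    induction hu using Submodule.span_induction with
    | mem x hx => obtain ⟨y, rfl⟩ := hx; exact hst y _ hw₀W
    | zero => exact W.zero_mem
    | add x y _ _ hx hy => exact W.add_mem hx hy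
    | smul c x _ hx => exact W.smul_mem (ZMod.castHom (dvd_refl p) F c) hx
  have hUst : ∀ y : P, ∀ u ∈ U, ρ y u ∈ U := by
    intro y u hu
    induction hu using Submodule.span_induction with
    | mem x hx =>
      obtain ⟨y', rfl⟩ := hx
      apply Submodule.subset_span
      exact ⟨y * y', by simp [map_mul]⟩
    | zero => simp
    | add x z _ _ hx hz => rw [map_add]; exact U.add_mem hx hz
    | smul c x _ hx =>
      have : ρ y (c • x) = c • ρ y x := (ρ y).map_smul (ZMod.castHom (dvd_refl p) F c) x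
      rw [this]; exact U.smul_mem c hx
  haveI : Module.Finite (ZMod p) U := Module.Finite.span_of_finite (ZMod p) (Set.finite_range _)
  haveI : Finite U := Module.finite_of_finite (ZMod p)
  letI : MulAction P U :=
    { smul := fun y u => ⟨ρ y u.1, hUst y u.1 u.2⟩
      one_smul := fun u => Subtype.ext (by show ρ 1 u.1 = u.1; simp)
      mul_smul := fun a b u => Subtype.ext (by show ρ (a * b) u.1 = ρ a (ρ b u.1); simp [map_mul]) }
  have hsmul : ∀ (y : P) (u : U), ((y • u : U) : V) = ρ y u.1 := fun _ _ => rfl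
  have hpV : ∀ v : V, p • v = 0 := by
    intro v
    rw [← Nat.cast_smul_eq_nsmul F p v, CharP.cast_eq_zero F p, zero_smul]
  have hw₀U : w₀ ∈ U := by
    apply Submodule.subset_span
    exact ⟨1, by simp⟩
  have hdvd : p ∣ Nat.card U := by
    have h1 : addOrderOf (⟨w₀, hw₀U⟩ : U) = p := by
      apply addOrderOf_eq_prime
      · apply Subtype.ext
        simpa using hpV w₀
      · intro h
        exact hw₀ (congrArg Subtype.val h)
    have h2 := addOrderOf_dvd_natCard (⟨w₀, hw₀U⟩ : U)
    rwa [h1] at h2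
  have h0 : (0 : U) ∈ fixedPoints P U := by
    intro y
    apply Subtype.ext
    rw [hsmul]
    simp
  obtain ⟨b, hb, hb0⟩ := hP.exists_fixed_point_of_prime_dvd_card_of_fixed_point U hdvd h0
  refine ⟨b.1, hUW _ b.2, ?_, ?_⟩
  · intro h
    exact hb0 (Subtype.ext h.symm)
  · intro y
    have := hb y
    rw [← hsmul, this]

/-- A function invariant under a `p`-group action sums to zero over a stable finite set without
fixed points, when the values live in a group of exponent `p`. -/
theorem sum_eq_zero_of_pgroup_invariant {p : ℕ} [Fact p.Prime] {P : Type*} [Group P] [Finite P]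
    (hP : IsPGroup p P) {X : Type*} [MulAction P X] {M : Type*} [AddCommGroup M]
    (hM : ∀ m : M, p • m = 0) (f : X → M) (C : Finset X)
    (hC : ∀ y : P, ∀ x ∈ C, y • x ∈ C) (hf : ∀ y : P, ∀ x ∈ C, f (y • x) = f x)
    (hfix : ∀ x ∈ C, ∃ y : P, y • x ≠ x) : ∑ x ∈ C, f x = 0 := by
  classical
  let q : X → orbitRel.Quotient P X := Quotient.mk''
  rw [← Finset.sum_fiberwise_of_maps_to (g := q) (t := C.image q)
    (fun x hx => Finset.mem_image_of_mem q hx)]
  apply Finset.sum_eq_zero
  intro b hb
  obtain ⟨x₀, hx₀, rfl⟩ := Finset.mem_image.1 hb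
  have hfin : (orbit P x₀).Finite := Set.finite_range _
  have hfilter : C.filter (fun x => q x = q x₀) = hfin.toFinset := by
    ext x
    simp only [Finset.mem_filter, Set.Finite.mem_toFinset]
    constructor
    · rintro ⟨_, hq⟩
      exact Quotient.exact' hq
    · rintro ⟨y, rfl⟩
      exact ⟨hC y _ hx₀, Quotient.sound' ⟨y, rfl⟩⟩
  rw [hfilter]
  have hconst : ∀ x ∈ hfin.toFinset, f x = f x₀ := by
    intro x hx
    rw [Set.Finite.mem_toFinset] at hx
    obtain ⟨y, rfl⟩ := hx
    exact hf y _ hx₀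
  rw [Finset.sum_congr rfl hconst, Finset.sum_const]
  haveI : Finite (orbit P x₀) := hfin.to_subtype
  obtain ⟨n, hn⟩ := hP.card_orbit x₀
  rw [Nat.card_eq_card_finite_toFinset hfin] at hn
  rw [hn]
  have hn0 : n ≠ 0 := by
    rintro rfl
    rw [pow_zero] at hn
    obtain ⟨y, hy⟩ := hfix x₀ hx₀
    have h1 : 1 < hfin.toFinset.card := by
      rw [Finset.one_lt_card]
      refine ⟨y • x₀, ?_, x₀, ?_, hy⟩
      · rw [Set.Finite.mem_toFinset]; exact ⟨y, rfl⟩
      · rw [Set.Finite.mem_toFinset]; exact mem_orbit_self x₀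
    omega
  obtain ⟨k, rfl⟩ := Nat.exists_eq_succ_of_ne_zero hn0
  rw [pow_succ, mul_smul, hM, smul_zero]

end Cfsg.Agent.Helper5
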