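import Mathlib
import Cfsg.Agent.Lib.Helper5.PFixed

set_option autoImplicit false

namespace Cfsg.Agent.Helper5

open MonoidAlgebra in
/-- If a conjugation-stable finite set `C` avoids the centralizer of a normal `p`-subgroup,
its sum in the group algebra over a field of characteristic `p` is nilpotent. -/
theorem class_sum_nilpotent {G : Type*} [Group G] [Finite G] (p : ℕ) [Fact p.Prime]
    (F : Type*) [Field F] [CharP F p] (P : Subgroup G) [hPn : P.Normal] (hP : IsPGroup p P)
    (C : Finset G) (hC : ∀ y x : G, x ∈ C → y * x * y⁻¹ ∈ C)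
    (hfix : ∀ x ∈ C, x ∉ Subgroup.centralizer (P : Set G)) :
    IsNilpotent (∑ x ∈ C, MonoidAlgebra.single x (1 : F) : MonoidAlgebra F G) := by
  classical
  set K : MonoidAlgebra F G := ∑ x ∈ C, MonoidAlgebra.single x (1 : F) with hK
  have hcomm : ∀ y : G, single y (1 : F) * K = K * single y (1 : F) := by
    intro y
    rw [hK, Finset.mul_sum, Finset.sum_mul]
    simp only [MonoidAlgebra.single_mul_single, mul_one]
    apply Finset.sum_nbij' (fun x => y * x * y⁻¹) (fun x => y⁻¹ * x * y)
    · intro x hx; exact hC y x hx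
    · intro x hx; simpa using hC y⁻¹ x hx
    · intro x _; group
    · intro x _; group
    · intro x _; simp [mul_assoc]
  let T : Module.End F (MonoidAlgebra F G) := LinearMap.mulLeft F K
  have hT : ∀ v, T v = K * v := fun _ => rfl
  have hTpow : ∀ n : ℕ, ∀ v, (T ^ n) v = K ^ n * v := by
    intro n
    induction n with
    | zero => intro v; simp
    | succ n ih => intro v; rw [pow_succ', Module.End.mul_apply, ih, hT, pow_succ', mul_assoc]
  let ρ : P →* Module.End F (MonoidAlgebra F G) :=
    { toFun := fun y => LinearMap.mulLeft F (single (y : G) (1 : F))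
      map_one' := by
        apply LinearMap.ext; intro v
        simp [← MonoidAlgebra.one_def]
      map_mul' := fun a b => by
        apply LinearMap.ext; intro v
        simp [MonoidAlgebra.single_mul_single, ← mul_assoc] }
  have hρ : ∀ (y : P) v, ρ y v = single (y : G) (1 : F) * v := fun _ _ => rfl
  by_contra hnil
  obtain ⟨k, -, hk⟩ := Module.End.exists_ker_pow_eq_ker_pow_succ T
  let W : Submodule F (MonoidAlgebra F G) := LinearMap.range (T ^ k)
  have hW : W ≠ ⊥ := by
    intro h
    apply hnil
    refine ⟨k, ?_⟩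
    have h1 : (T ^ k) 1 ∈ W := LinearMap.mem_range_self _ _
    rw [h] at h1
    have h2 := (Submodule.mem_bot F).1 h1
    rw [hTpow, mul_one] at h2
    exact h2
  have hst : ∀ y : P, ∀ w ∈ W, ρ y w ∈ W := by
    rintro y w ⟨v, rfl⟩
    refine ⟨ρ y v, ?_⟩
    rw [hρ, hρ, hTpow, hTpow, ← mul_assoc, ← mul_assoc]
    congr 1
    exact ((Commute.pow_right (hcomm y) k)).eq.symm
  obtain ⟨w, hwW, hw0, hwfix⟩ := exists_fixed_of_pgroup hP ρ W hW hst
  have hfixw : ∀ z ∈ P, single z (1 : F) * w = w := fun z hz => hwfix ⟨z, hz⟩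
  have hM : ∀ m : MonoidAlgebra F G, p • m = 0 := by
    intro m
    rw [← Nat.cast_smul_eq_nsmul F p m, CharP.cast_eq_zero F p, zero_smul]
  have hKw : K * w = 0 := by
    rw [hK, Finset.sum_mul]
    letI : MulAction P G := MulAction.compHom G ((MulAut.conj : G →* MulAut G).comp P.subtype)
    have hact : ∀ (y : P) (x : G), y • x = (y : G) * x * (y : G)⁻¹ := fun _ _ => rfl
    apply sum_eq_zero_of_pgroup_invariant hP hM (fun x => single x (1 : F) * w) C
    · intro y x hx
      rw [hact]
      exact hC _ _ hx
    · intro y x hx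
      rw [hact]
      show single ((y : G) * x * (y : G)⁻¹) (1 : F) * w = single x (1 : F) * w
      have e1 : single ((y : G) * x * (y : G)⁻¹) (1 : F) * w
          = single x (1 : F) * (single (x⁻¹ * (y : G) * x) (1 : F)
            * (single ((y : G)⁻¹) (1 : F) * w)) := by
        rw [← mul_assoc, ← mul_assoc, single_mul_single, single_mul_single]
        simp [mul_assoc]
      rw [e1, hfixw _ (inv_mem y.2)]
      have h2 : x⁻¹ * (y : G) * x ∈ P := by
        have := hPn.conj_mem (y : G) y.2 x⁻¹
        simpa using this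
      rw [hfixw _ h2]
    · intro x hx
      by_contra h
      push_neg at h
      apply hfix x hx
      rw [Subgroup.mem_centralizer_iff]
      intro z hz
      have h3 := h ⟨z, hz⟩
      rw [hact] at h3
      exact mul_inv_eq_iff_eq_mul.1 h3
  obtain ⟨v, rfl⟩ := hwW
  have h1 : v ∈ LinearMap.ker (T ^ k.succ) := by
    rw [LinearMap.mem_ker, pow_succ', Module.End.mul_apply, hT]
    exact hKw
  rw [← hk, LinearMap.mem_ker] at h1
  exact hw0 h1

end Cfsg.Agent.Helper5
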