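import Mathlib

/-!
# The metacyclic presentation `⟨x, y | x^n, y^m, x⁻¹ y x = y^r⟩` has at most `n * m` elements
(helper5)
-/

set_option autoImplicit false

namespace Cfsg.Agent.Helper5

open scoped Pointwise

/-- Iterating the relation `x⁻¹ y x = y ^ r`. -/
theorem conj_pow_iter {G : Type*} [Group G] {x y : G} {r : ℕ} (h : x⁻¹ * y * x = y ^ r) (j : ℕ) :
    (x ^ j)⁻¹ * y * x ^ j = y ^ (r ^ j) := by
  induction j with
  | zero => simp
  | succ j ih =>
    have e : (x ^ (j + 1))⁻¹ * y * x ^ (j + 1) = x⁻¹ * ((x ^ j)⁻¹ * y * x ^ j) * x := by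
      rw [pow_succ]; group
    rw [e, ih]
    have e2 : x⁻¹ * y ^ (r ^ j) * x = (x⁻¹ * y * x) ^ (r ^ j) := by
      have := conj_pow (a := x⁻¹) (b := y) (i := r ^ j)
      rw [inv_inv] at this
      exact this.symm
    rw [e2, h, ← pow_mul, ← pow_succ']

/-- The relator set of the metacyclic presentation. -/
def zrels (n m r : ℕ) : Set (FreeGroup (Fin 2)) :=
  {FreeGroup.of (0 : Fin 2) ^ n, FreeGroup.of (1 : Fin 2) ^ m,
    (FreeGroup.of (0 : Fin 2))⁻¹ * FreeGroup.of 1 * FreeGroup.of 0 * (FreeGroup.of (1 : Fin 2) ^ r)⁻¹}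

section

variable (n m r : ℕ)

theorem zrels_X_pow : (PresentedGroup.of (rels := zrels n m r) (0 : Fin 2)) ^ n = 1 := by
  have h : FreeGroup.of (0 : Fin 2) ^ n ∈ zrels n m r := by
    unfold zrels; simp
  have := PresentedGroup.one_of_mem h
  rwa [map_pow] at this

theorem zrels_Y_pow : (PresentedGroup.of (rels := zrels n m r) (1 : Fin 2)) ^ m = 1 := by
  have h : FreeGroup.of (1 : Fin 2) ^ m ∈ zrels n m r := by
    unfold zrels; simp
  have := PresentedGroup.one_of_mem h
  rwa [map_pow] at this

theorem zrels_rel : (PresentedGroup.of (rels := zrels n m r) (0 : Fin 2))⁻¹ *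
    PresentedGroup.of 1 * PresentedGroup.of 0 = (PresentedGroup.of (rels := zrels n m r) 1) ^ r := by
  have h : (FreeGroup.of (0 : Fin 2))⁻¹ * FreeGroup.of 1 * FreeGroup.of 0 *
      (FreeGroup.of (1 : Fin 2) ^ r)⁻¹ ∈ zrels n m r := by
    unfold zrels; simp
  have := PresentedGroup.one_of_mem h
  rw [map_mul, map_mul, map_mul, map_inv, map_inv, map_pow] at this
  exact mul_inv_eq_one.mp this

/-- The presented group is finite of order at most `n * m`. -/
theorem zrels_finite_card_le (hn : 0 < n) (hm : 0 < m) :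
    Finite (PresentedGroup (zrels n m r)) ∧ Nat.card (PresentedGroup (zrels n m r)) ≤ n * m := by
  set X : PresentedGroup (zrels n m r) := PresentedGroup.of 0 with hX
  set Y : PresentedGroup (zrels n m r) := PresentedGroup.of 1 with hY
  have hXn : X ^ n = 1 := zrels_X_pow n m r
  have hYm : Y ^ m = 1 := zrels_Y_pow n m r
  have hrel : X⁻¹ * Y * X = Y ^ r := zrels_rel n m r
  -- `X Y X⁻¹` is a power of `Y`
  have hrel' : X * Y * X⁻¹ = Y ^ (r ^ (n - 1)) := by
    have h1 := conj_pow_iter hrel (n - 1)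
    have hinv : X ^ (n - 1) = X⁻¹ := by
      have hp1 : n - 1 + 1 = n := Nat.sub_add_cancel hn
      have : X ^ (n - 1) * X = 1 := by rw [← pow_succ, hp1, hXn]
      exact eq_inv_of_mul_eq_one_left this
    rw [hinv, inv_inv] at h1
    exact h1
  -- the normalizer of `zpowers Y` is everything
  have hXnorm : X ∈ Subgroup.normalizer (Subgroup.zpowers Y : Set _) := by
    have h1 : ∀ g, g ∈ Subgroup.zpowers Y → X * g * X⁻¹ ∈ Subgroup.zpowers Y := by
      intro g hg
      obtain ⟨k, rfl⟩ := Subgroup.mem_zpowers_iff.mp hg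
      rw [← conj_zpow, hrel']
      exact Subgroup.zpow_mem _ (Subgroup.pow_mem _ (Subgroup.mem_zpowers Y) _) k
    have h2 : ∀ g, g ∈ Subgroup.zpowers Y → X⁻¹ * g * X ∈ Subgroup.zpowers Y := by
      intro g hg
      obtain ⟨k, rfl⟩ := Subgroup.mem_zpowers_iff.mp hg
      have : X⁻¹ * Y ^ k * X = (X⁻¹ * Y * X) ^ k := by
        have := conj_zpow (a := X⁻¹) (b := Y) (i := k)
        rw [inv_inv] at this
        exact this.symm
      rw [this, hrel]
      exact Subgroup.zpow_mem _ (Subgroup.pow_mem _ (Subgroup.mem_zpowers Y) _) k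
    rw [Subgroup.mem_normalizer_iff]
    intro g
    constructor
    · exact h1 g
    · intro hg
      have := h2 _ hg
      have e : X⁻¹ * (X * g * X⁻¹) * X = g := by group
      rwa [e] at this
  have hYnorm : Y ∈ Subgroup.normalizer (Subgroup.zpowers Y : Set _) :=
    Subgroup.le_normalizer (Subgroup.mem_zpowers Y)
  have hnormtop : Subgroup.normalizer (Subgroup.zpowers Y : Set (PresentedGroup (zrels n m r))) = ⊤ := by
    rw [eq_top_iff]
    intro g _
    apply PresentedGroup.generated_by
    intro j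
    fin_cases j
    · exact hXnorm
    · exact hYnorm
  have hsup : Subgroup.zpowers X ⊔ Subgroup.zpowers Y = ⊤ := by
    rw [eq_top_iff]
    intro g _
    apply PresentedGroup.generated_by
    intro j
    fin_cases j
    · exact (le_sup_left : Subgroup.zpowers X ≤ _) (Subgroup.mem_zpowers X)
    · exact (le_sup_right : Subgroup.zpowers Y ≤ _) (Subgroup.mem_zpowers Y)
  have hset : ((Subgroup.zpowers X ⊔ Subgroup.zpowers Y : Subgroup _) : Set _)
      = (Subgroup.zpowers X : Set (PresentedGroup (zrels n m r))) * (Subgroup.zpowers Y : Set _) :=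
    Subgroup.coe_mul_of_left_le_normalizer_right _ _ (by rw [hnormtop]; exact le_top)
  rw [hsup, Subgroup.coe_top] at hset
  have hXfin : (Subgroup.zpowers X : Set (PresentedGroup (zrels n m r))).Finite :=
    finite_zpowers.mpr (isOfFinOrder_iff_pow_eq_one.mpr ⟨n, hn, hXn⟩)
  have hYfin : (Subgroup.zpowers Y : Set (PresentedGroup (zrels n m r))).Finite :=
    finite_zpowers.mpr (isOfFinOrder_iff_pow_eq_one.mpr ⟨m, hm, hYm⟩)
  have hfin : (Set.univ : Set (PresentedGroup (zrels n m r))).Finite := by
    rw [hset]; exact hXfin.mul hYfin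
  have hF : Finite (PresentedGroup (zrels n m r)) := Set.finite_univ_iff.mp hfin
  refine ⟨hF, ?_⟩
  have h1 : Nat.card (PresentedGroup (zrels n m r))
      = Nat.card ((Subgroup.zpowers X : Set (PresentedGroup (zrels n m r))) * (Subgroup.zpowers Y : Set _) : Set _) := by
    rw [← hset, Nat.card_univ]
  rw [h1]
  refine (Set.natCard_mul_le).trans ?_
  have h2 : Nat.card (Subgroup.zpowers X : Set (PresentedGroup (zrels n m r))) ≤ n := by
    have : Nat.card (Subgroup.zpowers X : Set (PresentedGroup (zrels n m r))) = orderOf X :=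
      Nat.card_zpowers X
    rw [this]
    exact orderOf_le_of_pow_eq_one hn hXn
  have h3 : Nat.card (Subgroup.zpowers Y : Set (PresentedGroup (zrels n m r))) ≤ m := by
    have : Nat.card (Subgroup.zpowers Y : Set (PresentedGroup (zrels n m r))) = orderOf Y :=
      Nat.card_zpowers Y
    rw [this]
    exact orderOf_le_of_pow_eq_one hm hYm
  exact Nat.mul_le_mul h2 h3

end

/-- Recognition: a group of order `n * m` generated by `x, y` satisfying the relations is
isomorphic to the presented group. -/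
theorem nonempty_mulEquiv_zrels {Γ : Type*} [Group Γ] [Finite Γ] {n m r : ℕ} (hn : 0 < n)
    (hm : 0 < m) {x y : Γ} (hxn : x ^ n = 1) (hym : y ^ m = 1) (hrel : x⁻¹ * y * x = y ^ r)
    (hcard : Nat.card Γ = n * m) (hgen : Subgroup.closure {x, y} = ⊤) :
    Nonempty (Γ ≃* PresentedGroup (zrels n m r)) := by
  let f : Fin 2 → Γ := ![x, y]
  have hf : ∀ w ∈ zrels n m r, FreeGroup.lift f w = 1 := by
    intro w hw
    unfold zrels at hw
    rcases hw with rfl | rfl | hw
    · simp [f, hxn]
    · simp [f, hym]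
    · rw [Set.mem_singleton_iff] at hw
      subst hw
      simp only [map_mul, map_inv, map_pow, FreeGroup.lift_apply_of, f, Matrix.cons_val_zero,
        Matrix.cons_val_one]
      rw [hrel, mul_inv_cancel]
  let φ : PresentedGroup (zrels n m r) →* Γ := PresentedGroup.toGroup hf
  have hφ0 : φ (PresentedGroup.of 0) = x := by
    show PresentedGroup.toGroup hf (PresentedGroup.of 0) = x
    rw [PresentedGroup.toGroup.of]; rfl
  have hφ1 : φ (PresentedGroup.of 1) = y := by
    show PresentedGroup.toGroup hf (PresentedGroup.of 1) = y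
    rw [PresentedGroup.toGroup.of]; rfl
  have hsurj : Function.Surjective φ := by
    rw [← MonoidHom.range_eq_top, eq_top_iff, ← hgen, Subgroup.closure_le]
    intro g hg
    rcases hg with rfl | hg
    · exact ⟨_, hφ0⟩
    · rw [Set.mem_singleton_iff] at hg; subst hg; exact ⟨_, hφ1⟩
  obtain ⟨hF, hle⟩ := zrels_finite_card_le n m r hn hm
  have hbij : Function.Bijective φ :=
    hsurj.bijective_of_nat_card_le (by rw [hcard]; exact hle)
  exact ⟨(MulEquiv.ofBijective φ hbij).symm⟩

end Cfsg.Agent.Helper5
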