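import Mathlib
import Cfsg.Agent.Lib.Helper5.FCSylow
import Cfsg.Agent.Lib.Helper5.FCPres

/-!
# Z-groups satisfying `FCFacts` have the expected metacyclic presentation (helper5)
-/

set_option autoImplicit false

namespace Cfsg.Agent.Helper5

open Cfsg

/-- If all `a ^ (n / p)` are trivial then so is `a ^ (n / rad n)`. -/
theorem pow_div_rad_eq_one {M : Type*} [Monoid M] (a : M) {n : ℕ} (hn : 0 < n) (han : a ^ n = 1)
    (h : ∀ p ∈ n.primeFactors, a ^ (n / p) = 1) : a ^ (n / ∏ p ∈ n.primeFactors, p) = 1 := by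
  have hdn : orderOf a ∣ n := orderOf_dvd_of_pow_eq_one han
  obtain ⟨e, he⟩ := hdn
  have hdpos : 0 < orderOf a := by
    rcases Nat.eq_zero_or_pos (orderOf a) with h0 | h0
    · rw [h0, zero_mul] at he; omega
    · exact h0
  have hpe : ∀ p ∈ n.primeFactors, p ∣ e := by
    intro p hp
    have hpn := Nat.dvd_of_mem_primeFactors hp
    have h1 : orderOf a ∣ n / p := orderOf_dvd_of_pow_eq_one (h p hp)
    have h2 : orderOf a * p ∣ n := by
      obtain ⟨f, hf⟩ := h1
      have h3 : n = p * (n / p) := (Nat.mul_div_cancel' hpn).symm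
      rw [h3, hf]
      exact ⟨f, by ring⟩
    rw [he] at h2
    exact Nat.dvd_of_mul_dvd_mul_left hdpos h2
  have hrad : ∏ p ∈ n.primeFactors, p ∣ e :=
    Finset.prod_primes_dvd e (fun p hp => (Nat.prime_of_mem_primeFactors hp).prime) hpe
  obtain ⟨e', he'⟩ := hrad
  have hradpos : 0 < ∏ p ∈ n.primeFactors, p :=
    Finset.prod_pos (fun p hp => (Nat.prime_of_mem_primeFactors hp).pos)
  have h4 : n / ∏ p ∈ n.primeFactors, p = orderOf a * e' := by
    apply Nat.div_eq_of_eq_mul_right hradpos
    rw [he'] at he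
    exact he.trans (by ring)
  rw [h4, pow_mul, pow_orderOf_eq_one, one_pow]

theorem exists_presentation_of_isZGroup {Γ : Type*} [Group Γ] [Finite Γ] [hZ : IsZGroup Γ]
    (h : FCFacts Γ) :
    ∃ n m r : ℕ, 0 < n ∧ 0 < m ∧ Nat.Coprime (r - 1) m ∧ Nat.Coprime n m ∧ 1 ≤ r ∧
      r ^ (n / ∏ p ∈ n.primeFactors, p) % m = 1 % m ∧
      Nonempty (Γ ≃* PresentedGroup (zrels n m r)) := by
  classical
  -- the commutator subgroup and its complement
  have hcop := IsZGroup.coprime_commutator_index Γ
  obtain ⟨H, hH⟩ := Subgroup.exists_right_complement'_of_coprime hcop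
  have hNcyc : IsCyclic (commutator Γ) := IsZGroup.isCyclic_commutator Γ
  have hHcyc : IsCyclic H := by
    have h1 : Abelianization Γ ≃* H := hH.symm.QuotientMulEquiv
    exact isCyclic_of_surjective _ h1.surjective
  obtain ⟨y₀, hy₀⟩ := hNcyc.exists_generator
  obtain ⟨x₀, hx₀⟩ := hHcyc.exists_generator
  set y : Γ := (y₀ : Γ) with hy
  set x : Γ := (x₀ : Γ) with hx
  set m := Nat.card (commutator Γ) with hm
  set n := Nat.card H with hn
  have hmpos : 0 < m := Nat.card_pos
  have hnpos : 0 < n := Nat.card_pos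
  have hyo : orderOf y = m := by
    rw [hy, Subgroup.orderOf_coe]
    exact orderOf_eq_card_of_forall_mem_zpowers hy₀
  have hxo : orderOf x = n := by
    rw [hx, Subgroup.orderOf_coe]
    exact orderOf_eq_card_of_forall_mem_zpowers hx₀
  have hNeq : ∀ g : Γ, g ∈ commutator Γ → g ∈ Subgroup.zpowers y := by
    intro g hg
    obtain ⟨k, hk⟩ := Subgroup.mem_zpowers_iff.mp (hy₀ ⟨g, hg⟩)
    refine Subgroup.mem_zpowers_iff.mpr ⟨k, ?_⟩
    have := congrArg Subtype.val hk
    simpa using this
  have hHeq : ∀ g : Γ, g ∈ H → g ∈ Subgroup.zpowers x := by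
    intro g hg
    obtain ⟨k, hk⟩ := Subgroup.mem_zpowers_iff.mp (hx₀ ⟨g, hg⟩)
    refine Subgroup.mem_zpowers_iff.mpr ⟨k, ?_⟩
    have := congrArg Subtype.val hk
    simpa using this
  have hyN : y ∈ commutator Γ := y₀.2
  have hxH : x ∈ H := x₀.2
  have hcard : Nat.card Γ = n * m := by
    rw [← hH.card_mul, mul_comm]
  have hnm : Nat.Coprime n m := by
    have h1 : (commutator Γ).index = n := hH.symm.index_eq_card
    rw [h1] at hcop
    exact hcop.symm
  have hxn : x ^ n = 1 := by rw [← hxo]; exact pow_orderOf_eq_one x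
  have hym : y ^ m = 1 := by rw [← hyo]; exact pow_orderOf_eq_one y
  -- every element is a product
  have hprod : ∀ g : Γ, ∃ (j i : ℤ), g = y ^ j * x ^ i := by
    intro g
    obtain ⟨⟨a, b⟩, hab⟩ := hH.2 g
    obtain ⟨j, hj⟩ := Subgroup.mem_zpowers_iff.mp (hNeq a a.2)
    obtain ⟨i, hi⟩ := Subgroup.mem_zpowers_iff.mp (hHeq b b.2)
    refine ⟨j, i, ?_⟩
    rw [hj, hi]
    exact hab.symm
  -- conjugates of `y` are powers of `y`
  have hconj : ∀ g : Γ, g * y * g⁻¹ ∈ Subgroup.zpowers y := by
    intro g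
    apply hNeq
    exact (inferInstance : (commutator Γ).Normal).conj_mem y hyN g
  -- the exponent `r`
  have hr0 : ∃ r₀ : ℕ, y ^ r₀ = x⁻¹ * y * x⁻¹⁻¹ := by
    have h1 := hconj x⁻¹
    rw [← mem_powers_iff_mem_zpowers] at h1
    exact h1
  obtain ⟨r₀, hr₀⟩ := hr0
  rw [inv_inv] at hr₀
  set r := r₀ + m with hr
  have hrel : x⁻¹ * y * x = y ^ r := by
    rw [hr, pow_add, hym, mul_one, hr₀]
  have hr1 : 1 ≤ r := by omega
  -- coprimality of `r - 1` and `m`
  have hcop1 : Nat.Coprime (r - 1) m := by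
    set M : Subgroup Γ := Subgroup.zpowers (y ^ (r - 1)) with hM
    have hMn : M.Normal := by
      constructor
      intro u hu g
      obtain ⟨k, rfl⟩ := Subgroup.mem_zpowers_iff.mp hu
      obtain ⟨j, hj⟩ := Subgroup.mem_zpowers_iff.mp (hconj g)
      have e : g * (y ^ (r - 1)) ^ k * g⁻¹ = ((g * y * g⁻¹) ^ (r - 1)) ^ k := by
        rw [← conj_zpow, ← conj_pow]
      rw [e, ← hj]
      apply Subgroup.zpow_mem
      have e2 : (y ^ j) ^ (r - 1) = (y ^ (r - 1)) ^ j := by
        rw [← zpow_natCast, ← zpow_natCast, ← zpow_mul, ← zpow_mul, mul_comm]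
      rw [e2]
      exact Subgroup.zpow_mem _ (Subgroup.mem_zpowers _) j
    have hXY : Commute (QuotientGroup.mk' M x) (QuotientGroup.mk' M y) := by
      have h1 : QuotientGroup.mk' M (x⁻¹ * y * x) = QuotientGroup.mk' M y := by
        rw [hrel]
        have h2 : y ^ r = y * y ^ (r - 1) := by
          rw [← pow_succ']; congr 1; omega
        rw [h2, map_mul]
        have h3 : QuotientGroup.mk' M (y ^ (r - 1)) = 1 := by
          rw [QuotientGroup.mk'_apply, QuotientGroup.eq_one_iff]
          exact Subgroup.mem_zpowers _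
        rw [h3, mul_one]
      rw [map_mul, map_mul, map_inv] at h1
      show QuotientGroup.mk' M x * QuotientGroup.mk' M y = QuotientGroup.mk' M y * QuotientGroup.mk' M x
      calc QuotientGroup.mk' M x * QuotientGroup.mk' M y
          = QuotientGroup.mk' M x * ((QuotientGroup.mk' M x)⁻¹ * QuotientGroup.mk' M y *
              QuotientGroup.mk' M x) := by rw [h1]
        _ = QuotientGroup.mk' M y * QuotientGroup.mk' M x := by group
    have hcomm : ∀ g k : Γ, Commute (QuotientGroup.mk' M g) (QuotientGroup.mk' M k) := by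
      intro g k
      obtain ⟨j, i, rfl⟩ := hprod g
      obtain ⟨j', i', rfl⟩ := hprod k
      simp only [map_mul, map_zpow]
      have hYY : Commute (QuotientGroup.mk' M y) (QuotientGroup.mk' M y) := Commute.refl _
      have hXX : Commute (QuotientGroup.mk' M x) (QuotientGroup.mk' M x) := Commute.refl _
      exact Commute.mul_left
        (Commute.mul_right (hYY.zpow_zpow j j') (hXY.symm.zpow_zpow j i'))
        (Commute.mul_right (hXY.zpow_zpow i j') (hXX.zpow_zpow i i'))
    have hle : commutator Γ ≤ M := by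
      rw [commutator_def, Subgroup.commutator_le]
      intro g _ k _
      rw [← QuotientGroup.eq_one_iff, ← QuotientGroup.mk'_apply, map_commutatorElement,
        commutatorElement_eq_one_iff_commute]
      exact hcomm g k
    have hyM : y ∈ M := hle hyN
    have hMeq : Subgroup.zpowers y = M :=
      le_antisymm (Subgroup.zpowers_le.mpr hyM)
        (Subgroup.zpowers_le.mpr (Subgroup.pow_mem _ (Subgroup.mem_zpowers y) _))
    have hord : orderOf (y ^ (r - 1)) = m := by
      have h1 : Nat.card (Subgroup.zpowers y) = Nat.card M := by rw [hMeq]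
      rw [Nat.card_zpowers, hM, Nat.card_zpowers, hyo] at h1
      exact h1.symm
    rw [orderOf_pow, hyo] at hord
    have h2 : m = 0 ∨ Nat.gcd m (r - 1) = 1 := (Nat.div_eq_self).mp hord
    rcases h2 with h2 | h2
    · omega
    · rw [Nat.Coprime, Nat.gcd_comm]; exact h2
  -- the congruence for `r`
  have hpowcomm : ∀ j : ℕ, x ^ j * y = y * x ^ j → ((r : ZMod m)) ^ j = 1 := by
    intro j hj
    have h1 := conj_pow_iter hrel j
    have h2 : (x ^ j)⁻¹ * y * x ^ j = y := by
      rw [mul_assoc, ← hj, ← mul_assoc, inv_mul_cancel, one_mul]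
    rw [h2] at h1
    have h3 : y ^ 1 = y ^ (r ^ j) := by rw [pow_one]; exact h1
    rw [pow_eq_pow_iff_modEq, hyo] at h3
    have h4 : ((1 : ℕ) : ZMod m) = ((r ^ j : ℕ) : ZMod m) := (ZMod.natCast_eq_natCast_iff _ _ _).mpr h3
    rw [Nat.cast_one, Nat.cast_pow] at h4
    exact h4.symm
  have hcong : r ^ (n / ∏ p ∈ n.primeFactors, p) % m = 1 % m := by
    have h1 : ((r : ZMod m)) ^ (n / ∏ p ∈ n.primeFactors, p) = 1 := by
      apply pow_div_rad_eq_one _ hnpos
      · apply hpowcomm
        rw [hxn, one_mul, mul_one]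
      · intro p hp
        have hpp := Nat.prime_of_mem_primeFactors hp
        have hpn := Nat.dvd_of_mem_primeFactors hp
        apply hpowcomm
        have hwo : orderOf (x ^ (n / p)) = p := by
          rw [orderOf_pow, hxo, Nat.gcd_eq_right (Nat.div_dvd_of_dvd hpn)]
          exact Nat.div_div_self hpn hnpos.ne'
        have hmp : m.Coprime p := (Nat.Coprime.coprime_dvd_left hpn hnm).symm
        exact h.commute_of_normalizes hpp hwo m y hyo hmp (hconj _)
    have h2 : ((r ^ (n / ∏ p ∈ n.primeFactors, p) : ℕ) : ZMod m) = ((1 : ℕ) : ZMod m) := by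
      rw [Nat.cast_pow, h1, Nat.cast_one]
    exact (ZMod.natCast_eq_natCast_iff' _ _ _).mp h2
  -- generation
  have hgen : Subgroup.closure {x, y} = ⊤ := by
    rw [eq_top_iff]
    intro g _
    obtain ⟨j, i, rfl⟩ := hprod g
    have hxc : x ∈ Subgroup.closure ({x, y} : Set Γ) := Subgroup.subset_closure (by simp)
    have hyc : y ∈ Subgroup.closure ({x, y} : Set Γ) := Subgroup.subset_closure (by simp)
    exact Subgroup.mul_mem _ (Subgroup.zpow_mem _ hyc j) (Subgroup.zpow_mem _ hxc i)
  exact ⟨n, m, r, hnpos, hmpos, hcop1, hnm, hr1, hcong,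
    nonempty_mulEquiv_zrels hnpos hmpos hxn hym hrel hcard hgen⟩

end Cfsg.Agent.Helper5
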