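import Mathlib
import Cfsg.Prelude.Def_Solvable
import Cfsg.Agent.Lib.Helper21.BaerSuzuki

set_option autoImplicit false

namespace Cfsg.Agent.Helper5.FourGroupO2

variable {G : Type*} [Group G]

theorem inv_eq_self_of_sq {x : G} (hx : x * x = 1) : x⁻¹ = x :=
  inv_eq_of_mul_eq_one_right hx

theorem eq_one_of_odd_pow_four {s : G} (hodd : Odd (orderOf s)) (h4 : s ^ 4 = 1) : s = 1 := by
  have hd : orderOf s ∣ 2 ^ 2 := by
    have := orderOf_dvd_of_pow_eq_one h4
    simpa using this
  have hcop : Nat.Coprime (orderOf s) (2 ^ 2) := by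
    apply Nat.Coprime.pow_right
    exact (Nat.coprime_comm.1 (Nat.coprime_two_left.2 hodd))
  exact orderOf_eq_one_iff.1 (Nat.Coprime.eq_one_of_dvd hcop hd)

theorem eq_one_of_odd_sq {s : G} (hodd : Odd (orderOf s)) (h2 : s * s = 1) : s = 1 := by
  apply eq_one_of_odd_pow_four hodd
  have : s ^ 4 = (s * s) * (s * s) := by simp only [pow_succ, pow_zero, one_mul, mul_assoc]
  rw [this, h2, one_mul]

/-- Commuting involutions whose product has odd order have trivial product. -/
theorem mul_eq_one_of_commute_invol {x z : G} (hx : x * x = 1) (hz : z * z = 1)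
    (hc : Commute x z) (hodd : Odd (orderOf (x * z))) : x * z = 1 := by
  apply eq_one_of_odd_sq hodd
  calc x * z * (x * z) = x * (z * x) * z := by group
    _ = x * (x * z) * z := by rw [hc.eq]
    _ = (x * x) * (z * z) := by group
    _ = 1 := by rw [hx, hz, one_mul]

theorem pow_four_eq_one {b w : G} (hb : b * b = 1) (hw : w * w = 1)
    (hc : Commute b ((b * w) * (b * w))) : (b * w) ^ 4 = 1 := by
  have h1 : w * b * w = b * w * b * w * b := by
    calc w * b * w = (b * b) * w * b * w := by rw [hb, one_mul]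
      _ = b * (b * w * (b * w)) := by group
      _ = b * w * (b * w) * b := hc.eq
      _ = b * w * b * w * b := by group
  calc (b * w) ^ 4 = (b * w * b * w * b) * (w * b * w) := by
        simp only [pow_succ, pow_zero, one_mul, mul_assoc]
    _ = (w * b * w) * (w * b * w) := by rw [← h1]
    _ = w * b * (w * w) * b * w := by group
    _ = 1 := by rw [hw, mul_one, mul_assoc w b b, hb, mul_one, hw]

theorem pow_four_eq_one' {b w : G} (hb : b * b = 1) (hw : w * w = 1)
    (hc : Commute b ((w * b) * (w * b))) : (b * w) ^ 4 = 1 := by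
  apply pow_four_eq_one hb hw
  have : (b * w) * (b * w) = ((w * b) * (w * b))⁻¹ := by
    rw [mul_inv_rev, mul_inv_rev, inv_eq_self_of_sq hb, inv_eq_self_of_sq hw]
  rw [this]
  exact hc.inv_right

/-- For involutions `a`, `y` with `a * y` of odd order, some power of `a * y` conjugates `a` to `y`. -/
theorem exists_pow_conj {a y : G} (ha : a * a = 1) (hy : y * y = 1) (hodd : Odd (orderOf (a * y))) :
    ∃ j : ℕ, (a * y) ^ j * a * ((a * y) ^ j)⁻¹ = y := by
  obtain ⟨j, hj⟩ := hodd
  refine ⟨j, ?_⟩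
  obtain ⟨t, ht⟩ : ∃ t, t = a * y := ⟨_, rfl⟩
  rw [← ht] at hj ⊢
  have hconj : a * t * a⁻¹ = t⁻¹ := by
    rw [ht, mul_inv_rev, inv_eq_self_of_sq ha, inv_eq_self_of_sq hy]
    calc a * (a * y) * a = (a * a) * y * a := by group
      _ = y * a := by rw [ha, one_mul]
  have e1 : a * t ^ j * a⁻¹ = (t ^ j)⁻¹ := by
    rw [← conj_pow, hconj, inv_pow]
  have e2 : t ^ j * t ^ j * t = 1 := by
    rw [← pow_add, ← pow_succ, ← two_mul, ← hj, pow_orderOf_eq_one]
  have e3 : t ^ j * t ^ j = t⁻¹ := eq_inv_of_mul_eq_one_left e2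
  calc t ^ j * a * (t ^ j)⁻¹ = t ^ j * a * (a * t ^ j * a⁻¹) := by rw [e1]
    _ = t ^ j * (a * a) * t ^ j * a⁻¹ := by group
    _ = t ^ j * t ^ j * a⁻¹ := by rw [ha, mul_one]
    _ = t⁻¹ * a⁻¹ := by rw [e3]
    _ = y := by
      rw [ht, mul_inv_rev, inv_eq_self_of_sq ha, inv_eq_self_of_sq hy]
      calc y * a * a = y * (a * a) := by group
        _ = y := by rw [ha, mul_one]

/-- If `t` inverts `s` and both have odd order then `s = 1`. -/
theorem eq_one_of_inverted_by_odd {t s : G} (h : SemiconjBy t s s⁻¹) (ht : Odd (orderOf t))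
    (hs : Odd (orderOf s)) : s = 1 := by
  have h' : SemiconjBy t s⁻¹ s := by simpa using h.inv_right
  have h2 : Commute (t * t) s := SemiconjBy.mul_left h' h
  obtain ⟨j, hj⟩ := ht
  have h3 : Commute ((t * t) ^ j) s := h2.pow_left j
  have e2 : (t * t) ^ j * t = 1 := by
    rw [← pow_two, ← pow_mul, ← pow_succ, ← hj, pow_orderOf_eq_one]
  have e3 : t = ((t * t) ^ j)⁻¹ := eq_inv_of_mul_eq_one_right e2
  have h4 : Commute t s := by
    rw [e3]; exact h3.inv_left
  have e4 : s * t = s⁻¹ * t := by rw [← h4.eq]; exact h.eq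
  have e5 : s = s⁻¹ := mul_right_cancel e4
  apply eq_one_of_odd_sq hs
  nth_rewrite 2 [e5]
  exact mul_inv_cancel s

/-- An involution inverts its product with another involution. -/
theorem semiconj_left_of_invol {b w : G} (hb : b * b = 1) (hw : w * w = 1) :
    SemiconjBy b (b * w) (b * w)⁻¹ := by
  show b * (b * w) = (b * w)⁻¹ * b
  rw [mul_inv_rev, inv_eq_self_of_sq hb, inv_eq_self_of_sq hw]
  calc b * (b * w) = (b * b) * w := by group
    _ = w * (b * b) := by rw [hb, one_mul, mul_one]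
    _ = w * b * b := by group

theorem key_word {b w x : G} (hb2 : b * b = 1) (hw2 : w * w = 1) (hc : Commute w (x * b)) :
    w * x = x * ((b * w) * (b * w)) * w := by
  calc w * x = w * (x * b) * b := by rw [mul_assoc w, mul_assoc x, hb2, mul_one]
    _ = x * b * w * b := by rw [hc.eq]
    _ = x * b * w * b * (w * w) := by rw [hw2, mul_one]
    _ = x * (b * w * (b * w)) * w := by group

/-- An involution outside `O_2(G)` has a conjugate such that the product has odd order `> 1`. -/
theorem exists_odd_witness [Finite G] {x : G} (hx2 : x * x = 1) (hx : x ∉ Cfsg.pCore 2 G) :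
    ∃ g : G, Odd (orderOf (x * (g * x * g⁻¹))) ∧ x * (g * x * g⁻¹) ≠ 1 := by
  by_contra hcon
  push_neg at hcon
  apply hx
  haveI : Fact (Nat.Prime 2) := ⟨Nat.prime_two⟩
  have hx1 : x ≠ 1 := fun h => hx (h ▸ Subgroup.one_mem _)
  have hxinv : x⁻¹ = x := inv_eq_self_of_sq hx2
  have key : ∀ g : G, IsPGroup 2
      ↥(Subgroup.zpowers x ⊔ (Subgroup.zpowers x).map (MulAut.conj g).toMonoidHom) := by
    intro g
    obtain ⟨y, hy⟩ : ∃ y, y = g * x * g⁻¹ := ⟨_, rfl⟩
    have hy2 : y * y = 1 := by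
      rw [hy]
      calc g * x * g⁻¹ * (g * x * g⁻¹) = g * (x * x) * g⁻¹ := by group
        _ = 1 := by rw [hx2]; group
    obtain ⟨ρ, hρ⟩ : ∃ ρ, ρ = x * y := ⟨_, rfl⟩
    have hρpos : 0 < orderOf ρ := orderOf_pos ρ
    obtain ⟨e, k, hk, hek⟩ := Nat.exists_eq_two_pow_mul_odd hρpos.ne'
    have hconj : x * ρ * x⁻¹ = ρ⁻¹ := by
      rw [hρ, mul_inv_rev, hxinv, inv_eq_self_of_sq hy2]
      calc x * (x * y) * x = (x * x) * y * x := by group
        _ = y * x := by rw [hx2, one_mul]
    have hconj' : x * ρ⁻¹ * x⁻¹ = ρ := by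
      rw [← conj_inv, hconj, inv_inv]
    have e1 : x * (ρ ^ (2 ^ e))⁻¹ * x⁻¹ = ρ ^ (2 ^ e) := by
      rw [← inv_pow, ← conj_pow, hconj']
    have hxρ : x * ((ρ ^ (2 ^ e))⁻¹ * x * ((ρ ^ (2 ^ e))⁻¹)⁻¹) = ρ ^ (2 ^ e * 2) := by
      calc x * ((ρ ^ (2 ^ e))⁻¹ * x * ((ρ ^ (2 ^ e))⁻¹)⁻¹)
          = (x * (ρ ^ (2 ^ e))⁻¹ * x) * ρ ^ (2 ^ e) := by group
        _ = (x * (ρ ^ (2 ^ e))⁻¹ * x⁻¹) * ρ ^ (2 ^ e) := by rw [hxinv]
        _ = ρ ^ (2 ^ e) * ρ ^ (2 ^ e) := by rw [e1]
        _ = ρ ^ (2 ^ e * 2) := by rw [pow_mul, pow_two]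
    have hord2 : orderOf (ρ ^ (2 ^ e * 2)) = k := by
      rw [orderOf_pow' ρ (by positivity), hek, Nat.gcd_mul_left]
      have : Nat.gcd k 2 = 1 := (Nat.coprime_comm.1 (Nat.coprime_two_left.2 hk))
      rw [this, mul_one, Nat.mul_div_cancel_left _ (by positivity)]
    have hk1 : k = 1 := by
      have h1 := hcon ((ρ ^ (2 ^ e))⁻¹)
      rw [hxρ, hord2] at h1
      have h2 := h1 hk
      rw [← hord2, h2, orderOf_one]
    have hord : orderOf ρ = 2 ^ e := by rw [hek, hk1, mul_one]
    have hT : IsPGroup 2 ↥(Subgroup.zpowers ρ) :=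
      IsPGroup.of_card (n := e) (by rw [Nat.card_zpowers, hord])
    have hX : IsPGroup 2 ↥(Subgroup.zpowers x) := by
      apply IsPGroup.of_card (n := 1)
      rw [Nat.card_zpowers, orderOf_eq_prime (by rw [pow_two]; exact hx2) hx1, pow_one]
    have hnorm : Subgroup.zpowers x ≤ Subgroup.normalizer (Subgroup.zpowers ρ : Set G) := by
      rw [Subgroup.zpowers_le]
      apply Subgroup.mem_normalizer_fintype
      intro n hn
      obtain ⟨i, rfl⟩ := Subgroup.mem_zpowers_iff.1 hn
      show x * ρ ^ i * x⁻¹ ∈ Subgroup.zpowers ρ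
      rw [← conj_zpow, hconj]
      exact Subgroup.zpow_mem _ (Subgroup.inv_mem _ (Subgroup.mem_zpowers ρ)) i
    have hD := IsPGroup.to_sup_of_normal_right' hX hT hnorm
    apply hD.to_le
    apply sup_le le_sup_left
    rw [MonoidHom.map_zpowers, Subgroup.zpowers_le]
    show g * x * g⁻¹ ∈ Subgroup.zpowers x ⊔ Subgroup.zpowers ρ
    rw [← hy]
    have hyρ : y = x * ρ := by
      rw [hρ, ← mul_assoc, hx2, one_mul]
    rw [hyρ]
    exact mul_mem (Subgroup.mem_sup_left (Subgroup.mem_zpowers x))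
      (Subgroup.mem_sup_right (Subgroup.mem_zpowers ρ))
  obtain ⟨N, hN, hNp, hXN⟩ := Cfsg.Agent.Helper21.baer_suzuki (p := 2) (Subgroup.zpowers x) key
  exact (le_sSup ⟨hN, hNp⟩ : N ≤ Cfsg.pCore 2 G) (hXN (Subgroup.mem_zpowers x))

/-- Hypothesis: every conjugate of `a`, `b` or `a * b` commutes with some element of each conjugate
of the triple. -/
def HypH (a b : G) : Prop :=
  ∀ g₀ d : G, (∃ g x : G, (x = a ∨ x = b ∨ x = a * b) ∧ d = g * x * g⁻¹) →
    Commute d (g₀ * a * g₀⁻¹) ∨ Commute d (g₀ * b * g₀⁻¹) ∨ Commute d (g₀ * (a * b) * g₀⁻¹)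

theorem conj_sq {x g : G} (hx : x * x = 1) : g * x * g⁻¹ * (g * x * g⁻¹) = 1 := by
  calc g * x * g⁻¹ * (g * x * g⁻¹) = g * (x * x) * g⁻¹ := by group
    _ = 1 := by rw [hx]; group

theorem core [Finite G] {a b y : G} (ha2 : a * a = 1) (hb2 : b * b = 1) (hab : Commute a b)
    (hH : HypH a b) (hyD : ∃ g, y = g * a * g⁻¹)
    (ht : Odd (orderOf (a * y))) (ht1 : a * y ≠ 1) (hyb : Commute y b)
    (hb : b ∉ Cfsg.pCore 2 G) : False := by
  obtain ⟨g₁, hy⟩ := hyD
  have hy2 : y * y = 1 := by rw [hy]; exact conj_sq ha2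
  obtain ⟨g₂, hs, hs1⟩ := exists_odd_witness hb2 hb
  obtain ⟨w, hw⟩ : ∃ w, w = g₂ * b * g₂⁻¹ := ⟨_, rfl⟩
  rw [← hw] at hs hs1
  have hw2 : w * w = 1 := by rw [hw]; exact conj_sq hb2
  have hyDset : ∃ g x : G, (x = a ∨ x = b ∨ x = a * b) ∧ y = g * x * g⁻¹ :=
    ⟨g₁, a, Or.inl rfl, hy⟩
  have hwDset : ∃ g x : G, (x = a ∨ x = b ∨ x = a * b) ∧ w = g * x * g⁻¹ :=
    ⟨g₂, b, Or.inr (Or.inl rfl), hw⟩
  have hH1 : ∀ d : G, (∃ g x : G, (x = a ∨ x = b ∨ x = a * b) ∧ d = g * x * g⁻¹) →
      Commute d a ∨ Commute d b ∨ Commute d (a * b) := by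
    intro d hd
    simpa using hH 1 d hd
  have Ca : Commute y a → False := fun h =>
    ht1 (mul_eq_one_of_commute_invol ha2 hy2 h.symm ht)
  have Cb : Commute w b → False := fun h =>
    hs1 (mul_eq_one_of_commute_invol hb2 hw2 h.symm hs)
  have hbt : Commute b (a * y) := hab.symm.mul_right hyb.symm
  have hbinv : SemiconjBy b (b * w) (b * w)⁻¹ := semiconj_left_of_invol hb2 hw2
  have Fin1 : Commute b ((b * w) * (b * w)) → False := fun h =>
    hs1 (eq_one_of_odd_pow_four hs (pow_four_eq_one hb2 hw2 h))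
  have Fin2 : Commute b ((w * b) * (w * b)) → False := fun h =>
    hs1 (eq_one_of_odd_pow_four hs (pow_four_eq_one' hb2 hw2 h))
  have hbtt : Commute b ((a * y) * (a * y)) := hbt.mul_right hbt
  have i2 : (a * y) * (y * a) = 1 := by
    calc (a * y) * (y * a) = a * (y * y) * a := by group
      _ = 1 := by rw [hy2, mul_one, ha2]
  obtain ⟨j, hu⟩ := exists_pow_conj ha2 hy2 ht
  obtain ⟨u, hudef⟩ : ∃ u, u = (a * y) ^ j := ⟨_, rfl⟩
  rw [← hudef] at hu
  have hub : Commute u b := by rw [hudef]; exact hbt.symm.pow_left j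
  have hub' : u * b * u⁻¹ = b := by rw [hub.eq, mul_inv_cancel_right]
  have huc : u * (a * b) * u⁻¹ = y * b := by
    calc u * (a * b) * u⁻¹ = (u * a * u⁻¹) * (u * b * u⁻¹) := by group
      _ = y * b := by rw [hu, hub']
  have hline := hH u w hwDset
  rw [hu, hub', huc] at hline
  have hyinv : Commute w (y * b) → SemiconjBy y (b * w) (b * w)⁻¹ := by
    intro h
    have h1 : Commute (y * b) (b * w) := (hyb.mul_left (Commute.refl b)).mul_right h.symm
    have h2 : SemiconjBy (y * b * b) (b * w) (b * w)⁻¹ := SemiconjBy.mul_left h1.inv_right hbinv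
    rwa [mul_assoc, hb2, mul_one] at h2
  obtain ⟨i, hu₂⟩ := exists_pow_conj hb2 hw2 hs
  obtain ⟨u₂, hu₂def⟩ : ∃ u₂, u₂ = (b * w) ^ i := ⟨_, rfl⟩
  rw [← hu₂def] at hu₂
  rcases hH1 w hwDset with hwa | hwb | hwc
  · -- Case I : w commutes with a
    rcases hline with hwy | hwb | hwyb
    · -- d = y * w
      have hys : Commute y (b * w) := hyb.mul_right hwy.symm
      have hu₂y : Commute u₂ y := by rw [hu₂def]; exact hys.symm.pow_left i
      have hu₂y' : u₂ * y * u₂⁻¹ = y := by rw [hu₂y.eq, mul_inv_cancel_right]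
      have hdD : ∃ g x : G, (x = a ∨ x = b ∨ x = a * b) ∧ y * w = g * x * g⁻¹ := by
        refine ⟨u₂ * u, a * b, Or.inr (Or.inr rfl), ?_⟩
        calc y * w = (u₂ * y * u₂⁻¹) * (u₂ * b * u₂⁻¹) := by rw [hu₂y', hu₂]
          _ = u₂ * (y * b) * u₂⁻¹ := by group
          _ = u₂ * (u * (a * b) * u⁻¹) * u₂⁻¹ := by rw [huc]
          _ = u₂ * u * (a * b) * (u₂ * u)⁻¹ := by group
      rcases hH1 (y * w) hdD with h | h | h
      · apply Ca
        have h3 := h.mul_left hwa.inv_left
        rwa [mul_inv_cancel_right] at h3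
      · apply Cb
        have h3 := (hyb.inv_left).mul_left h
        rwa [inv_mul_cancel_left] at h3
      · have e : y * w * (a * b) = a * b * (y * w) := h.eq
        have e1 : (y * a) * (w * b) = (a * y) * (b * w) := by
          calc (y * a) * (w * b) = y * (a * w) * b := by group
            _ = y * (w * a) * b := by rw [hwa.eq]
            _ = y * w * (a * b) := by group
            _ = a * b * (y * w) := e
            _ = a * (b * y) * w := by group
            _ = a * (y * b) * w := by rw [hyb.eq]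
            _ = (a * y) * (b * w) := by group
        have i1 : (b * w) * (w * b) = 1 := by
          calc (b * w) * (w * b) = b * (w * w) * b := by group
            _ = 1 := by rw [hw2, mul_one, hb2]
        have e2 : (a * y) * (a * y) = (w * b) * (w * b) := by
          calc (a * y) * (a * y) = (a * y) * ((a * y) * ((b * w) * (w * b))) := by
                rw [i1, mul_one]
            _ = (a * y) * (((a * y) * (b * w)) * (w * b)) := by group
            _ = (a * y) * (((y * a) * (w * b)) * (w * b)) := by rw [e1]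
            _ = ((a * y) * (y * a)) * ((w * b) * (w * b)) := by group
            _ = (w * b) * (w * b) := by rw [i2, one_mul]
        apply Fin2
        rw [← e2]; exact hbtt
    · exact Cb hwb
    · have h1 : Commute a (b * w) := hab.mul_right hwa.symm
      have h2 : SemiconjBy (a * y) (b * w) (b * w)⁻¹ :=
        SemiconjBy.mul_left h1.inv_right (hyinv hwyb)
      exact hs1 (eq_one_of_inverted_by_odd h2 ht hs)
  · exact Cb hwb
  · -- Case II : w commutes with a * b
    have hcs : Commute (a * b) (b * w) :=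
      (hab.mul_left (Commute.refl b)).mul_right hwc.symm
    have hainv : SemiconjBy a (b * w) (b * w)⁻¹ := by
      have h2 : SemiconjBy (a * b * b) (b * w) (b * w)⁻¹ :=
        SemiconjBy.mul_left hcs.inv_right hbinv
      rwa [mul_assoc, hb2, mul_one] at h2
    rcases hline with hwy | hwb | hwyb
    · have h1 : Commute y (b * w) := hyb.mul_right hwy.symm
      have h2 : SemiconjBy (a * y) (b * w) (b * w)⁻¹ := SemiconjBy.mul_left hainv h1
      exact hs1 (eq_one_of_inverted_by_odd h2 ht hs)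
    · exact Cb hwb
    · have hu₂c : Commute u₂ (a * b) := by rw [hu₂def]; exact hcs.symm.pow_left i
      have hu₂c' : u₂ * (a * b) * u₂⁻¹ = a * b := by rw [hu₂c.eq, mul_inv_cancel_right]
      have hu₂a : u₂ * a * u₂⁻¹ = a * b * w := by
        calc u₂ * a * u₂⁻¹ = u₂ * ((a * b) * b) * u₂⁻¹ := by rw [mul_assoc a b b, hb2, mul_one]
          _ = (u₂ * (a * b) * u₂⁻¹) * (u₂ * b * u₂⁻¹) := by group
          _ = a * b * w := by rw [hu₂c', hu₂]
      have hline2 := hH u₂ y hyDset
      rw [hu₂a, hu₂, hu₂c'] at hline2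
      rcases hline2 with hyz | hyw | hyc
      · have e1 : w * y = y * ((b * w) * (b * w)) * w := key_word hb2 hw2 hwyb
        have e : y * (a * b * w) = a * b * w * y := hyz.eq
        have e3 : (y * a) * (b * w) = (a * y) * (w * b) := by
          calc (y * a) * (b * w) = y * (a * b * w) := by group
            _ = a * b * w * y := e
            _ = a * b * (w * y) := by group
            _ = a * b * (y * ((b * w) * (b * w)) * w) := by rw [e1]
            _ = a * (b * y) * (b * w * b) * (w * w) := by group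
            _ = a * (y * b) * (b * w * b) * (w * w) := by rw [hyb.eq]
            _ = a * y * (b * b) * w * b * (w * w) := by group
            _ = (a * y) * (w * b) := by rw [hb2, hw2]; group
        have i1 : (w * b) * (b * w) = 1 := by
          calc (w * b) * (b * w) = w * (b * b) * w := by group
            _ = 1 := by rw [hb2, mul_one, hw2]
        have e2 : (a * y) * (a * y) = (b * w) * (b * w) := by
          calc (a * y) * (a * y) = (a * y) * ((a * y) * ((w * b) * (b * w))) := by
                rw [i1, mul_one]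
            _ = (a * y) * (((a * y) * (w * b)) * (b * w)) := by group
            _ = (a * y) * (((y * a) * (b * w)) * (b * w)) := by rw [e3]
            _ = ((a * y) * (y * a)) * ((b * w) * (b * w)) := by group
            _ = (b * w) * (b * w) := by rw [i2, one_mul]
        apply Fin1
        rw [← e2]; exact hbtt
      · apply Cb
        have h3 := (hyw.symm.inv_right).mul_right hwyb
        rwa [inv_mul_cancel_left] at h3
      · apply Ca
        have h3 := hyc.mul_right hyb.inv_right
        rwa [mul_inv_cancel_right] at h3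

end Cfsg.Agent.Helper5.FourGroupO2
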