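import Mathlib
import Cfsg.Prelude.Def_Characters
import Cfsg.Agent.Lib.Helper24.CharOrtho

/-!
# Frobenius–Schur indicator of a real character of odd degree (helper5)
-/

set_option autoImplicit false
set_option linter.unusedSectionVars false
set_option linter.unusedVariables false
set_option linter.style.haveILetI false

namespace Cfsg.Agent.Helper5.FS

open Cfsg Cfsg.Agent.Helper24 Matrix
open scoped ComplexConjugate

variable {n : ℕ}

theorem stdBasis_repr_apply (M : Matrix (Fin n) (Fin n) ℂ) (i j : Fin n) :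
    (Matrix.stdBasis ℂ (Fin n) (Fin n)).repr M (i, j) = M i j := by
  simp [Matrix.stdBasis]

theorem trace_eq_sum_entries (f : Matrix (Fin n) (Fin n) ℂ →ₗ[ℂ] Matrix (Fin n) (Fin n) ℂ) :
    LinearMap.trace ℂ _ f = ∑ i, ∑ j, f (Matrix.single i j 1) i j := by
  rw [LinearMap.trace_eq_matrix_trace ℂ (Matrix.stdBasis ℂ (Fin n) (Fin n)), Matrix.trace,
    Fintype.sum_prod_type]
  refine Finset.sum_congr rfl fun i _ => Finset.sum_congr rfl fun j _ => ?_
  rw [Matrix.diag_apply, LinearMap.toMatrix_apply, Matrix.stdBasis_eq_single, stdBasis_repr_apply]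

/-- `B ↦ Aᵀ * B * A`. -/
def conjMap (A : Matrix (Fin n) (Fin n) ℂ) :
    Matrix (Fin n) (Fin n) ℂ →ₗ[ℂ] Matrix (Fin n) (Fin n) ℂ where
  toFun B := Aᵀ * B * A
  map_add' B C := by rw [Matrix.mul_add, Matrix.add_mul]
  map_smul' c B := by simp

/-- `B ↦ Bᵀ`. -/
def transMap : Matrix (Fin n) (Fin n) ℂ →ₗ[ℂ] Matrix (Fin n) (Fin n) ℂ where
  toFun B := Bᵀ
  map_add' B C := Matrix.transpose_add B C
  map_smul' c B := Matrix.transpose_smul c B

@[simp] theorem conjMap_apply (A B : Matrix (Fin n) (Fin n) ℂ) : conjMap A B = Aᵀ * B * A := rfl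
@[simp] theorem transMap_apply (B : Matrix (Fin n) (Fin n) ℂ) : transMap B = Bᵀ := rfl

theorem trace_conjMap (A : Matrix (Fin n) (Fin n) ℂ) :
    LinearMap.trace ℂ _ (conjMap A) = A.trace ^ 2 := by
  rw [trace_eq_sum_entries]
  have h : ∀ i j : Fin n, (conjMap A (Matrix.single i j 1)) i j = A i i * A j j := by
    intro i j
    rw [conjMap_apply, Matrix.mul_apply]
    simp only [Matrix.mul_apply, Matrix.transpose_apply, Matrix.single_apply]
    simp only [mul_ite, mul_one, mul_zero]
    have h : ∀ x, (∑ x_1, if i = x_1 ∧ j = x then A x_1 i else 0) =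
        if j = x then A i i else 0 := by
      intro x
      by_cases hx : j = x
      · simp [hx]
      · simp [hx]
    simp_rw [h]
    simp
  simp_rw [h]
  rw [pow_two, Matrix.trace, Finset.sum_mul_sum]
  rfl

theorem trace_conjMap_comp_transMap (A : Matrix (Fin n) (Fin n) ℂ) :
    LinearMap.trace ℂ _ (conjMap A ∘ₗ transMap) = (A * A).trace := by
  rw [trace_eq_sum_entries]
  have h : ∀ i j : Fin n, ((conjMap A ∘ₗ transMap) (Matrix.single i j 1)) i j = A j i * A i j := by
    intro i j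
    rw [LinearMap.comp_apply, transMap_apply, conjMap_apply, Matrix.mul_apply]
    simp only [Matrix.mul_apply, Matrix.transpose_apply, Matrix.single_apply]
    simp only [mul_ite, mul_one, mul_zero]
    have h : ∀ x, (∑ x_1, if i = x ∧ j = x_1 then A x_1 i else 0) =
        if i = x then A j i else 0 := by
      intro x
      by_cases hx : i = x
      · simp [hx]
      · simp [hx]
    simp_rw [h]
    simp
  simp_rw [h]
  rw [Matrix.trace, Finset.sum_comm]
  refine Finset.sum_congr rfl fun j _ => ?_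
  rw [Matrix.diag_apply, Matrix.mul_apply]

section Main

variable {G : Type*} [Group G] [Fintype G]

/-- The matrices of a representation on `Fin n → ℂ`. -/
noncomputable def mat (ρ : Representation ℂ G (Fin n → ℂ)) (g : G) : Matrix (Fin n) (Fin n) ℂ :=
  LinearMap.toMatrix' (ρ g)

theorem mat_mul (ρ : Representation ℂ G (Fin n → ℂ)) (g h : G) :
    mat ρ (g * h) = mat ρ g * mat ρ h := by
  unfold mat
  rw [map_mul, LinearMap.toMatrix'_mul]

theorem mat_one (ρ : Representation ℂ G (Fin n → ℂ)) : mat ρ 1 = 1 := by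
  unfold mat
  rw [map_one, LinearMap.toMatrix'_one]

theorem trace_mat (ρ : Representation ℂ G (Fin n → ℂ)) (g : G) :
    (mat ρ g).trace = ρ.character g := by
  unfold mat
  rw [Representation.character, LinearMap.trace_eq_matrix_trace ℂ (Pi.basisFun ℂ (Fin n)),
    LinearMap.toMatrix_eq_toMatrix']

theorem mat_mulVec (ρ : Representation ℂ G (Fin n → ℂ)) (g : G) (v : Fin n → ℂ) :
    mat ρ g *ᵥ v = ρ g v := by
  unfold mat
  rw [← Matrix.toLin'_apply, Matrix.toLin'_toMatrix']

/-- The averaging operator on bilinear forms. -/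
noncomputable def avg (ρ : Representation ℂ G (Fin n → ℂ)) :
    Matrix (Fin n) (Fin n) ℂ →ₗ[ℂ] Matrix (Fin n) (Fin n) ℂ :=
  (Nat.card G : ℂ)⁻¹ • ∑ g : G, conjMap (mat ρ g)

theorem avg_apply (ρ : Representation ℂ G (Fin n → ℂ)) (B : Matrix (Fin n) (Fin n) ℂ) :
    avg ρ B = (Nat.card G : ℂ)⁻¹ • ∑ g : G, (mat ρ g)ᵀ * B * mat ρ g := by
  unfold avg
  rw [LinearMap.smul_apply, LinearMap.sum_apply]
  rfl

theorem card_ne_zero' : (Nat.card G : ℂ) ≠ 0 := by
  exact_mod_cast (Nat.card_pos (α := G)).ne'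

theorem conj_avg (ρ : Representation ℂ G (Fin n → ℂ)) (h : G) (B : Matrix (Fin n) (Fin n) ℂ) :
    (mat ρ h)ᵀ * avg ρ B * mat ρ h = avg ρ B := by
  rw [avg_apply, Matrix.mul_smul, Matrix.smul_mul, Finset.mul_sum, Finset.sum_mul]
  congr 1
  conv_rhs => rw [← Equiv.sum_comp (Equiv.mulRight h)]
  refine Finset.sum_congr rfl fun g _ => ?_
  rw [Equiv.coe_mulRight, mat_mul, Matrix.transpose_mul]
  simp only [Matrix.mul_assoc]

theorem avg_avg (ρ : Representation ℂ G (Fin n → ℂ)) (B : Matrix (Fin n) (Fin n) ℂ) :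
    avg ρ (avg ρ B) = avg ρ B := by
  conv_lhs => rw [avg_apply]
  simp_rw [conj_avg]
  rw [Finset.sum_const, Finset.card_univ, ← Nat.card_eq_fintype_card, ← Nat.cast_smul_eq_nsmul ℂ,
    smul_smul, inv_mul_cancel₀ card_ne_zero', one_smul]

theorem avg_transpose (ρ : Representation ℂ G (Fin n → ℂ)) (B : Matrix (Fin n) (Fin n) ℂ) :
    avg ρ Bᵀ = (avg ρ B)ᵀ := by
  rw [avg_apply, avg_apply, Matrix.transpose_smul, Matrix.transpose_sum]
  congr 1
  refine Finset.sum_congr rfl fun g _ => ?_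
  rw [Matrix.transpose_mul, Matrix.transpose_mul, Matrix.transpose_transpose, Matrix.mul_assoc]

theorem trace_avg (ρ : Representation ℂ G (Fin n → ℂ)) :
    LinearMap.trace ℂ _ (avg ρ) = (Nat.card G : ℂ)⁻¹ * ∑ g : G, ρ.character g ^ 2 := by
  unfold avg
  rw [map_smul, map_sum, smul_eq_mul]
  congr 1
  refine Finset.sum_congr rfl fun g _ => ?_
  rw [trace_conjMap, trace_mat]

theorem trace_avg_comp_transMap (ρ : Representation ℂ G (Fin n → ℂ)) :
    LinearMap.trace ℂ _ (avg ρ ∘ₗ transMap) =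
      (Nat.card G : ℂ)⁻¹ * ∑ g : G, ρ.character (g * g) := by
  have e : avg ρ ∘ₗ transMap =
      (Nat.card G : ℂ)⁻¹ • ∑ g : G, (conjMap (mat ρ g) ∘ₗ transMap) := by
    apply LinearMap.ext
    intro B
    unfold avg
    simp only [LinearMap.comp_apply, LinearMap.smul_apply, LinearMap.sum_apply]
  rw [e, map_smul, map_sum, smul_eq_mul]
  congr 1
  refine Finset.sum_congr rfl fun g _ => ?_
  rw [trace_conjMap_comp_transMap, ← mat_mul, trace_mat]

theorem trace_avg_eq_one (ρ : Representation ℂ G (Fin n → ℂ)) (hρ : ρ.IsIrreducible)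
    (hreal : ∀ g, (ρ.character g).im = 0) : LinearMap.trace ℂ _ (avg ρ) = 1 := by
  rw [trace_avg]
  have h1 := irr_orthogonality (isIrrCharacter_of_rep ρ hρ) (isIrrCharacter_of_rep ρ hρ)
  rw [if_pos rfl] at h1
  rw [← h1]
  unfold classInner
  congr 1
  refine Finset.sum_congr rfl fun g _ => ?_
  rw [pow_two]
  congr 1
  exact (Complex.conj_eq_iff_im.mpr (hreal g)).symm

/-- The Frobenius–Schur indicator of a real-valued irreducible character of odd degree is `1`. -/
theorem indicator_eq_one_of_odd (ρ : Representation ℂ G (Fin n → ℂ)) (hρ : ρ.IsIrreducible)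
    (hreal : ∀ g, (ρ.character g).im = 0) (hodd : Odd n) :
    (Nat.card G : ℂ)⁻¹ * ∑ s : G, ρ.character (s * s) = 1 := by
  classical
  rw [← trace_avg_comp_transMap]
  -- avg is a projection of trace one
  have hproj : LinearMap.IsProj (LinearMap.range (avg ρ)) (avg ρ) :=
    ⟨fun B => LinearMap.mem_range_self _ B, by
      rintro _ ⟨B, rfl⟩
      exact avg_avg ρ B⟩
  have htr := hproj.trace
  rw [trace_avg_eq_one ρ hρ hreal] at htr
  have hrank : Module.finrank ℂ (LinearMap.range (avg ρ)) = 1 := by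
    exact_mod_cast htr.symm
  obtain ⟨⟨b₀, hb₀r⟩, hb₀ne, hspan⟩ := finrank_eq_one_iff'.mp hrank
  have hb₀0 : b₀ ≠ 0 := fun h => hb₀ne (Subtype.ext h)
  have hPb₀ : avg ρ b₀ = b₀ := hproj.map_id b₀ hb₀r
  -- transpose preserves the range
  have hτr : b₀ᵀ ∈ LinearMap.range (avg ρ) := by
    refine ⟨b₀ᵀ, ?_⟩
    rw [avg_transpose, hPb₀]
  obtain ⟨c, hc⟩ := hspan ⟨b₀ᵀ, hτr⟩
  have hc' : c • b₀ = b₀ᵀ := congrArg Subtype.val hc
  have hcc : c * c = 1 := by
    have h1 : (c * c) • b₀ = b₀ := by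
      rw [mul_smul, hc', ← Matrix.transpose_smul, hc', Matrix.transpose_transpose]
    have h2 : (c * c - 1) • b₀ = 0 := by rw [sub_smul, h1, one_smul, sub_self]
    rcases smul_eq_zero.mp h2 with h3 | h3
    · exact sub_eq_zero.mp h3
    · exact absurd h3 hb₀0
  -- avg ∘ transpose = c • avg
  have hPτ : avg ρ ∘ₗ transMap = c • avg ρ := by
    apply LinearMap.ext
    intro B
    rw [LinearMap.comp_apply, transMap_apply, avg_transpose, LinearMap.smul_apply]
    obtain ⟨t, ht⟩ := hspan ⟨avg ρ B, LinearMap.mem_range_self _ B⟩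
    have ht' : t • b₀ = avg ρ B := congrArg Subtype.val ht
    rw [← ht', Matrix.transpose_smul, ← hc', smul_comm]
  rw [hPτ, map_smul, trace_avg_eq_one ρ hρ hreal, smul_eq_mul, mul_one]
  -- c = 1 or c = -1
  have hc1 : c = 1 ∨ c = -1 := mul_self_eq_one_iff.mp hcc
  rcases hc1 with h | h
  · exact h
  · exfalso
    rw [h, neg_smul, one_smul] at hc'
    -- b₀ is an invariant skew form
    have hinv : ∀ g : G, (mat ρ g)ᵀ * b₀ * mat ρ g = b₀ := by
      intro g
      have := conj_avg ρ g b₀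
      rwa [hPb₀] at this
    have hinv2 : ∀ g : G, b₀ * mat ρ g = (mat ρ g⁻¹)ᵀ * b₀ := by
      intro g
      have h1 : (mat ρ g⁻¹)ᵀ * (mat ρ g)ᵀ = 1 := by
        rw [← Matrix.transpose_mul, ← mat_mul, mul_inv_cancel, mat_one, Matrix.transpose_one]
      calc b₀ * mat ρ g = ((mat ρ g⁻¹)ᵀ * (mat ρ g)ᵀ) * b₀ * mat ρ g := by rw [h1, Matrix.one_mul]
        _ = (mat ρ g⁻¹)ᵀ * ((mat ρ g)ᵀ * b₀ * mat ρ g) := by simp only [Matrix.mul_assoc]
        _ = (mat ρ g⁻¹)ᵀ * b₀ := by rw [hinv g]
    -- the kernel is invariant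
    let W : Submodule ℂ (Fin n → ℂ) := LinearMap.ker (Matrix.toLin' b₀)
    have hW : ∀ g : G, ∀ v ∈ W, ρ g v ∈ W := by
      intro g v hv
      rw [LinearMap.mem_ker, Matrix.toLin'_apply] at hv ⊢
      rw [← mat_mulVec, Matrix.mulVec_mulVec, hinv2, ← Matrix.mulVec_mulVec, hv,
        Matrix.mulVec_zero]
    rcases ((isIrreducible_iff ρ).mp hρ).2 W hW with hbot | htop
    · -- b₀ is invertible, contradiction with skew-symmetry in odd dimension
      have hdet : b₀.det ≠ 0 := by
        intro hd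
        obtain ⟨v, hv0, hv⟩ := Matrix.exists_mulVec_eq_zero_iff.mpr hd
        have : v ∈ W := by
          rw [LinearMap.mem_ker, Matrix.toLin'_apply]; exact hv
        rw [hbot] at this
        exact hv0 ((Submodule.mem_bot ℂ).mp this)
      have h2 : b₀.det = -b₀.det := by
        conv_lhs => rw [← Matrix.det_transpose, ← hc', Matrix.det_neg, Fintype.card_fin,
          hodd.neg_one_pow]
        ring
      have h3 : b₀.det = 0 := by
        have : (2 : ℂ) * b₀.det = 0 := by linear_combination h2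
        rcases mul_eq_zero.mp this with h4 | h4
        · norm_num at h4
        · exact h4
      exact hdet h3
    · apply hb₀0
      have : Matrix.toLin' b₀ = 0 := LinearMap.ker_eq_top.mp htop
      have h2 := congrArg LinearMap.toMatrix' this
      rwa [LinearMap.toMatrix'_toLin', map_zero] at h2

end Main

end Cfsg.Agent.Helper5.FS
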