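import Mathlib
import Cfsg.Agent.Lib.Helper8.GRDefs
import Cfsg.Agent.Lib.Helper19.XSOF

/-!
# S3085 piece GR-TOP (helper5): elementwise extraspecial data for a whole group from
`IsExtraspecial 2 Q` (type-level version of `Helper19/XSOF.xsp_of`).
-/

set_option autoImplicit false
set_option linter.unusedSectionVars false
set_option linter.unusedVariables false
set_option linter.style.haveILetI false

namespace Cfsg.Agent.Helper8.GR

open scoped commutatorElement
open Cfsg.Agent.Helper8.XS

/-! ### PIECE GR-TOP : elementwise data from `IsExtraspecial 2 Q` (type level) -/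
theorem top {Q : Type*} [Group Q] [Finite Q] (hQ : Cfsg.IsExtraspecial 2 Q) : ∃ z : Q, XQ z := by
  classical
  haveI : Fact (Nat.Prime 2) := ⟨Nat.prime_two⟩
  obtain ⟨⟨hpg, hfrat, hcomm⟩, hcard⟩ := hQ
  haveI : Nontrivial ↥(Subgroup.center Q) := by
    rw [← Finite.one_lt_card_iff_nontrivial, hcard]
    norm_num
  obtain ⟨zc, hzc1⟩ := exists_ne (1 : ↥(Subgroup.center Q))
  have hzmem : (zc : Q) ∈ Subgroup.center Q := zc.2
  have hz1 : (zc : Q) ≠ 1 := by
    intro h
    exact hzc1 (Subtype.ext h)
  have hzz : (zc : Q) * (zc : Q) = 1 := by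
    have h1 : zc ^ Nat.card ↥(Subgroup.center Q) = 1 := pow_card_eq_one'
    rw [hcard, pow_two] at h1
    exact congrArg Subtype.val h1
  have hcenQ : ∀ f : Q, f ∈ Subgroup.center Q → f = 1 ∨ f = (zc : Q) := by
    intro f hf
    rcases xsof_two hcard zc hzc1 ⟨f, hf⟩ with h | h
    · left
      exact congrArg Subtype.val h
    · right
      exact congrArg Subtype.val h
  refine ⟨(zc : Q), hz1, hzz, ?_, ?_, ?_, ?_⟩
  · intro x
    exact (Subgroup.mem_center_iff.1 hzmem x)
  · intro w hw
    apply hcenQ w
    rw [Subgroup.mem_center_iff]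
    intro y
    exact (hw y).symm
  · intro x y
    have h1 : ⁅x, y⁆ ∈ Subgroup.center Q := by
      rw [← hcomm, commutator_def]
      exact Subgroup.commutator_mem_commutator (Subgroup.mem_top _) (Subgroup.mem_top _)
    have h2 := hcenQ _ h1
    rw [commutatorElement_def] at h2
    rcases h2 with h | h
    · left
      have : x * y = (x * y * x⁻¹ * y⁻¹) * (y * x) := by group
      rw [this, h, one_mul]
    · right
      have : x * y = (x * y * x⁻¹ * y⁻¹) * (y * x) := by group
      rw [this, h]
  · intro x
    have h1 : x ^ 2 ∈ Subgroup.center Q := by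
      rw [← hfrat]
      exact Cfsg.Agent.Helper22.pow_prime_mem_frattini hpg _
    have h2 := hcenQ _ h1
    simpa [pow_two] using h2

end Cfsg.Agent.Helper8.GR
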