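import Mathlib

/-!
# Graded ideals with nilpotent identity component (helper5's library)

Pure ring theory: in a ring graded by a finite group, a multiplicatively closed family of
homogeneous elements whose identity component is uniformly nilpotent consists of elements
generating a nil subring.  Used for Dade / Knörr type arguments in group algebras.
-/

set_option autoImplicit false

namespace Cfsg.Agent.Helper5.GradedNil

section Visits

variable {Γ : Type*} [Group Γ] [DecidableEq Γ]

/-- number of positive times at which the partial products of the list equal `s` -/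
def visits (s : Γ) : List Γ → ℕ
  | [] => 0
  | t :: l => (if t = s then 1 else 0) + visits (t⁻¹ * s) l

theorem visits_nil (s : Γ) : visits s ([] : List Γ) = 0 := rfl

theorem visits_cons (s t : Γ) (l : List Γ) :
    visits s (t :: l) = (if t = s then 1 else 0) + visits (t⁻¹ * s) l := rfl

theorem sum_visits [Fintype Γ] (l : List Γ) : ∑ s : Γ, visits s l = l.length := by
  induction l with
  | nil => simp [visits_nil]
  | cons t l ih =>
    simp only [visits_cons, List.length_cons]
    rw [Finset.sum_add_distrib]
    have h1 : ∑ s : Γ, (if t = s then 1 else 0) = 1 := by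
      rw [Finset.sum_ite_eq]
      simp
    have h2 : ∑ s : Γ, visits (t⁻¹ * s) l = ∑ s : Γ, visits s l :=
      Fintype.sum_equiv (Equiv.mulLeft t⁻¹) _ _ (fun s => rfl)
    rw [h1, h2, ih, add_comm]

theorem exists_le_visits [Fintype Γ] (l : List Γ) (r : ℕ)
    (h : Fintype.card Γ * r ≤ l.length) (hr : 0 < r ∨ True) : ∃ s : Γ, r ≤ visits s l := by
  by_contra hcon
  push Not at hcon
  rcases Nat.eq_zero_or_pos r with h0 | hpos
  · subst h0
    exact absurd (hcon 1) (by simp)
  · have h1 : ∑ s : Γ, visits s l ≤ ∑ _s : Γ, (r - 1) := by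
      apply Finset.sum_le_sum
      intro s _
      have := hcon s
      omega
    rw [sum_visits, Finset.sum_const, Finset.card_univ, smul_eq_mul] at h1
    have hc : 0 < Fintype.card Γ := Fintype.card_pos
    have h2 : Fintype.card Γ * (r - 1) < Fintype.card Γ * r := by
      apply Nat.mul_lt_mul_of_pos_left _ hc
      omega
    omega

end Visits

section Words

variable {A : Type*} [Ring A] {Γ : Type*} [Group Γ] [DecidableEq Γ]

/-- products of `r` elements of `S`, times anything -/
def NSet (S : Set A) (r : ℕ) : Set A :=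
  {x | ∃ l : List A, (∀ z ∈ l, z ∈ S) ∧ l.length = r ∧ ∃ y, x = l.prod * y}

theorem mem_NSet_zero (S : Set A) (x : A) : x ∈ NSet S 0 :=
  ⟨[], by simp, rfl, x, by simp⟩

theorem mul_mem_NSet_succ {S : Set A} {r : ℕ} {z x : A} (hz : z ∈ S) (hx : x ∈ NSet S r) :
    z * x ∈ NSet S (r + 1) := by
  obtain ⟨l, hl, hlen, y, rfl⟩ := hx
  refine ⟨z :: l, ?_, by simp [hlen], y, ?_⟩
  · intro w hw
    rcases List.mem_cons.1 hw with rfl | hw
    · exact hz
    · exact hl w hw
  · rw [List.prod_cons, mul_assoc]

variable (H : Γ → Set A) (hmul : ∀ s t a b, a ∈ H s → b ∈ H t → a * b ∈ H (s * t))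

include hmul in
theorem val_mem_NSet : ∀ (l : List (Γ × A)), (∀ x ∈ l, x.2 ∈ H x.1) →
    (∀ r, r ≤ visits 1 (l.map Prod.fst) → (l.map Prod.snd).prod ∈ NSet (H 1) r) ∧
    (∀ r s a, a ∈ H s → r ≤ visits s⁻¹ (l.map Prod.fst) →
      a * (l.map Prod.snd).prod ∈ NSet (H 1) r) := by
  intro l
  induction l with
  | nil =>
    intro _
    constructor
    · intro r hr
      simp only [List.map_nil, visits_nil, Nat.le_zero] at hr
      subst hr
      exact mem_NSet_zero _ _
    · intro r s a _ hr
      simp only [List.map_nil, visits_nil, Nat.le_zero] at hr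
      subst hr
      exact mem_NSet_zero _ _
  | cons x l ih =>
    intro hl
    obtain ⟨t, b⟩ := x
    have hb : b ∈ H t := hl (t, b) (List.mem_cons_self)
    have hl' : ∀ x ∈ l, x.2 ∈ H x.1 := fun x hx => hl x (List.mem_cons_of_mem _ hx)
    obtain ⟨ih1, ih2⟩ := ih hl'
    constructor
    · intro r hr
      simp only [List.map_cons, visits_cons, List.prod_cons, mul_one] at hr ⊢
      by_cases ht : t = 1
      · subst ht
        rw [if_pos rfl] at hr
        rcases r with _ | r'
        · exact mem_NSet_zero _ _
        · have hr' : r' ≤ visits 1 (l.map Prod.fst) := by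
            rw [inv_one] at hr
            omega
          exact mul_mem_NSet_succ hb (ih1 r' hr')
      · rw [if_neg ht, zero_add] at hr
        exact ih2 r t b hb hr
    · intro r s a ha hr
      simp only [List.map_cons, visits_cons, List.prod_cons] at hr ⊢
      rw [← mul_assoc]
      have hab : a * b ∈ H (s * t) := hmul s t a b ha hb
      have hinv : t⁻¹ * s⁻¹ = (s * t)⁻¹ := by rw [mul_inv_rev]
      by_cases ht : t = s⁻¹
      · rw [if_pos ht] at hr
        have hst : s * t = 1 := by rw [ht, mul_inv_cancel]
        rw [hst] at hab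
        rcases r with _ | r'
        · exact mem_NSet_zero _ _
        · have hr' : r' ≤ visits 1 (l.map Prod.fst) := by
            rw [hinv, hst, inv_one] at hr
            omega
          exact mul_mem_NSet_succ hab (ih1 r' hr')
      · rw [if_neg ht, zero_add, hinv] at hr
        exact ih2 r (s * t) (a * b) hab hr

theorem exists_split_of_visits {r : ℕ} : ∀ (l : List (Γ × A)) (s : Γ),
    r + 1 ≤ visits s (l.map Prod.fst) →
    ∃ l₀ l₁, l = l₀ ++ l₁ ∧ r ≤ visits 1 (l₁.map Prod.fst) := by
  intro l
  induction l with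
  | nil =>
    intro s hs
    simp [visits_nil] at hs
  | cons x l ih =>
    intro s hs
    simp only [List.map_cons, visits_cons] at hs
    by_cases ht : x.1 = s
    · rw [if_pos ht] at hs
      refine ⟨[x], l, rfl, ?_⟩
      rw [ht, inv_mul_cancel] at hs
      omega
    · rw [if_neg ht, zero_add] at hs
      obtain ⟨l₀, l₁, h1, h2⟩ := ih _ hs
      exact ⟨x :: l₀, l₁, by rw [h1]; rfl, h2⟩

include hmul in
/-- long words vanish -/
theorem word_eq_zero [Fintype Γ] (r : ℕ)
    (hr : ∀ l : List A, (∀ z ∈ l, z ∈ H 1) → l.length = r → l.prod = 0)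
    (l : List (Γ × A)) (hl : ∀ x ∈ l, x.2 ∈ H x.1)
    (hlen : Fintype.card Γ * (r + 1) ≤ l.length) : (l.map Prod.snd).prod = 0 := by
  have hlen' : Fintype.card Γ * (r + 1) ≤ (l.map Prod.fst).length := by
    rw [List.length_map]
    exact hlen
  obtain ⟨s, hs⟩ := exists_le_visits (l.map Prod.fst) (r + 1) hlen' (Or.inr trivial)
  obtain ⟨l₀, l₁, h1, h2⟩ := exists_split_of_visits l s hs
  have hl₁ : ∀ x ∈ l₁, x.2 ∈ H x.1 := by
    intro x hx
    apply hl
    rw [h1]
    exact List.mem_append_right _ hx
  obtain ⟨l', hl', hlen'', y, hy⟩ := (val_mem_NSet H hmul l₁ hl₁).1 r h2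
  rw [h1, List.map_append, List.prod_append, hy, hr l' hl' hlen'', zero_mul, mul_zero]

include hmul in
/-- an element all of whose homogeneous components lie in the family is nilpotent -/
theorem pow_eq_zero_of_components [Fintype Γ] (r : ℕ)
    (hr : ∀ l : List A, (∀ z ∈ l, z ∈ H 1) → l.length = r → l.prod = 0)
    (ε : A) (c : Γ → A) (hc : ∀ t, c t ∈ H t) (hsum : ε = ∑ t, c t) :
    ε ^ (Fintype.card Γ * (r + 1)) = 0 := by
  have key : ∀ L : ℕ, ε ^ L ∈ AddSubmonoid.closure
      {x : A | ∃ l : List (Γ × A), (∀ x ∈ l, x.2 ∈ H x.1) ∧ l.length = L ∧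
        x = (l.map Prod.snd).prod} := by
    intro L
    induction L with
    | zero =>
      rw [pow_zero]
      apply AddSubmonoid.subset_closure
      exact ⟨[], by simp, rfl, by simp⟩
    | succ L ih =>
      rw [pow_succ]
      refine AddSubmonoid.closure_induction (motive := fun w _ => w * ε ∈ AddSubmonoid.closure
        {x : A | ∃ l : List (Γ × A), (∀ x ∈ l, x.2 ∈ H x.1) ∧ l.length = L + 1 ∧
          x = (l.map Prod.snd).prod}) ?_ ?_ ?_ ih
      · rintro w ⟨l, hl, hlen, rfl⟩
        rw [hsum, Finset.mul_sum]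
        apply AddSubmonoid.sum_mem
        intro t _
        apply AddSubmonoid.subset_closure
        refine ⟨l ++ [(t, c t)], ?_, by simp [hlen], by simp⟩
        intro x hx
        rcases List.mem_append.1 hx with hx | hx
        · exact hl x hx
        · rw [List.mem_singleton] at hx
          subst hx
          exact hc t
      · rw [zero_mul]
        exact AddSubmonoid.zero_mem _
      · intro x y _ _ hx hy
        rw [add_mul]
        exact AddSubmonoid.add_mem _ hx hy
  have h0 : AddSubmonoid.closure
      {x : A | ∃ l : List (Γ × A), (∀ x ∈ l, x.2 ∈ H x.1) ∧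
        l.length = Fintype.card Γ * (r + 1) ∧ x = (l.map Prod.snd).prod} ≤ ⊥ := by
    rw [AddSubmonoid.closure_le]
    rintro x ⟨l, hl, hlen, rfl⟩
    rw [SetLike.mem_coe, AddSubmonoid.mem_bot]
    exact word_eq_zero H hmul r hr l hl (le_of_eq hlen.symm)
  exact (AddSubmonoid.mem_bot).1 (h0 (key _))

end Words

section Uniform

theorem list_prod_mem_pow {R : Type*} [CommRing R] (I : Ideal R) :
    ∀ l : List R, (∀ z ∈ l, z ∈ I) → l.prod ∈ I ^ l.length := by
  intro l
  induction l with
  | nil => intro _; simp
  | cons a l ih =>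
    intro h
    rw [List.prod_cons, List.length_cons, pow_succ']
    exact Ideal.mul_mem_mul (h a List.mem_cons_self)
      (ih fun z hz => h z (List.mem_cons_of_mem _ hz))

set_option linter.deprecated false in
set_option linter.style.haveILetI false in
/-- a set of pairwise commuting nilpotent elements of a finite-dimensional algebra is uniformly
nilpotent -/
theorem exists_uniform_nilpotent {k : Type*} [Field k] {A : Type*} [Ring A] [Algebra k A]
    [FiniteDimensional k A] (S : Set A) (hcomm : ∀ a ∈ S, ∀ b ∈ S, a * b = b * a)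
    (hnil : ∀ a ∈ S, IsNilpotent a) :
    ∃ r : ℕ, ∀ l : List A, (∀ z ∈ l, z ∈ S) → l.length = r → l.prod = 0 := by
  letI : CommRing (Algebra.adjoin k S) := Algebra.adjoinCommRingOfComm k hcomm
  haveI : IsNoetherianRing (Algebra.adjoin k S) := IsNoetherianRing.of_finite k _
  obtain ⟨r, hr⟩ := IsNoetherianRing.isNilpotent_nilradical (Algebra.adjoin k S)
  refine ⟨r, ?_⟩
  intro l hl hlen
  have hmem : ∀ z ∈ l, z ∈ Algebra.adjoin k S := fun z hz => Algebra.subset_adjoin (hl z hz)
  obtain ⟨l', hl'⟩ : ∃ l' : List (Algebra.adjoin k S), l'.map Subtype.val = l :=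
    ⟨l.pmap (fun z hz => ⟨z, hz⟩) hmem, by simp [List.map_pmap]⟩
  have h1 : ∀ z ∈ l', z ∈ nilradical (Algebra.adjoin k S) := by
    intro z hz
    rw [mem_nilradical]
    have hzS : (z : A) ∈ S := by
      apply hl
      rw [← hl']
      exact List.mem_map_of_mem hz
    obtain ⟨n, hn⟩ := hnil _ hzS
    refine ⟨n, ?_⟩
    apply Subtype.ext
    rw [SubmonoidClass.coe_pow, hn]
    rfl
  have h2 := list_prod_mem_pow _ l' h1
  have hlen' : l'.length = r := by
    rw [← hlen, ← hl', List.length_map]
  rw [hlen', hr] at h2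
  have h3 : l'.prod = 0 := h2
  have h4 : l.prod = ((Algebra.adjoin k S).val : _ →ₐ[k] A) l'.prod := by
    rw [map_list_prod, ← hl']
    rfl
  rw [h4, h3, map_zero]

end Uniform

end Cfsg.Agent.Helper5.GradedNil
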