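import Mathlib
import Cfsg.Prelude.Def_Blocks
import Cfsg.Prelude.Def_BlockLocal
import Cfsg.Agent.Lib.Helper18.BlockCover2
import Cfsg.Agent.Lib.Helper23.BlockFR2
import Cfsg.Agent.Lib.Helper23.BlockConj3

/-!
# Relative induction of blocks and double counting (helper5)

Tools for the Harris–Knörr correspondence: induced central characters as sums over classes,
transitivity of block induction, transport between a subgroup of a subgroup and the subgroup of
the big group.
-/

set_option autoImplicit false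

namespace Cfsg.Agent.Helper5.HK

open Cfsg Cfsg.Agent.Helper24 Cfsg.Agent.Helper23.Blk Cfsg.Agent.Helper18

universe u

section Sums

variable {G : Type u} [Group G] [Fintype G]

open Classical in
/-- the induced central character as a sum over the classes of the subgroup -/
theorem inducedCentralChar_eq_sum (H : Subgroup G) [Fintype (ConjClasses H)] {ξ : H → ℂ}
    (hξ : IsClassFunction H ξ) (g : G) :
    inducedCentralChar H ξ g =
      ∑ K ∈ Finset.univ.filter
        (fun K : ConjClasses H => IsConj g ((Quotient.out K : H) : G)),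
        centralChar ξ (Quotient.out K) := by
  classical
  haveI : Fintype H := Fintype.ofFinite H
  unfold inducedCentralChar
  rw [finsum_mem_def, finsum_eq_sum_of_fintype]
  have hcf : IsClassFunction H (fun y : H =>
      ({h : H | IsConj g (h : G)} : Set H).indicator
        (fun h : H => ξ h / ξ 1) y) := by
    intro y x
    have hiff : IsConj g ((x * y * x⁻¹ : H) : G) ↔ IsConj g (y : G) := by
      have hc' : IsConj ((x * y * x⁻¹ : H) : G) (y : G) := by
        rw [isConj_comm, isConj_iff]
        exact ⟨(x : G), by push_cast; rfl⟩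
      constructor
      · intro h1
        exact h1.trans hc'
      · intro h1
        exact h1.trans hc'.symm
    beta_reduce
    by_cases hy : IsConj g (y : G)
    · rw [Set.indicator_of_mem (show (x * y * x⁻¹ : H) ∈ {h : H | IsConj g (h : G)} from
        hiff.2 hy), Set.indicator_of_mem (show y ∈ {h : H | IsConj g (h : G)} from hy),
        hξ y x]
    · rw [Set.indicator_of_notMem (show (x * y * x⁻¹ : H) ∉ {h : H | IsConj g (h : G)}
        from fun h1 => hy (hiff.1 h1)),
        Set.indicator_of_notMem (show y ∉ {h : H | IsConj g (h : G)} from hy)]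
  rw [sum_classFunction_eq hcf, Finset.sum_filter]
  apply Finset.sum_congr rfl
  intro K _
  by_cases hK : IsConj g ((Quotient.out K : H) : G)
  · rw [if_pos hK, Set.indicator_of_mem (show (Quotient.out K : H) ∈
      {h : H | IsConj g (h : G)} from hK)]
    unfold centralChar
    rw [mul_div_assoc]
  · rw [if_neg hK, Set.indicator_of_notMem (show (Quotient.out K : H) ∉
      {h : H | IsConj g (h : G)} from hK), mul_zero]

open Classical in
/-- **double counting**: summing, over the classes of `H` inside the `G`-class of `g`, the sums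
of `f` over the elements of `K ≤ H` that are `H`-conjugate to the class gives the sum of `f` over
the elements of `K` that are `G`-conjugate to `g` -/
theorem sum_classes_inducedIn {H K : Subgroup G} [Fintype (ConjClasses H)] (hKH : K ≤ H)
    (f : K → ℂ) (g : G) :
    ∑ C ∈ Finset.univ.filter
        (fun C : ConjClasses H => IsConj g ((Quotient.out C : H) : G)),
      ∑ᶠ k ∈ {k : K | ∃ x : H, (x : G) * (k : G) * (x : G)⁻¹ = ((Quotient.out C : H) : G)}, f k =
    ∑ᶠ k ∈ {k : K | IsConj g (k : G)}, f k := by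
  classical
  haveI : Fintype K := Fintype.ofFinite K
  simp_rw [finsum_mem_def, finsum_eq_sum_of_fintype]
  rw [Finset.sum_comm]
  apply Finset.sum_congr rfl
  intro k _
  obtain ⟨C₀, hC₀⟩ : ∃ C₀ : ConjClasses H, C₀ = ConjClasses.mk (⟨(k : G), hKH k.2⟩ : H) :=
    ⟨_, rfl⟩
  have hmem : ∀ C : ConjClasses H,
      (k ∈ {k : K | ∃ x : H, (x : G) * (k : G) * (x : G)⁻¹ = ((Quotient.out C : H) : G)}) ↔
        C = C₀ := by
    intro C
    have h2 : ConjClasses.mk (Quotient.out C) = C := Quotient.out_eq C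
    rw [Set.mem_setOf_eq, hC₀]
    constructor
    · rintro ⟨x, hx⟩
      rw [← h2, eq_comm, ConjClasses.mk_eq_mk_iff_isConj, isConj_iff]
      exact ⟨x, Subtype.ext hx⟩
    · intro h
      rw [← h2, eq_comm, ConjClasses.mk_eq_mk_iff_isConj, isConj_iff] at h
      obtain ⟨x, hx⟩ := h
      exact ⟨x, congrArg Subtype.val hx⟩
  have hout : IsConj g ((Quotient.out C₀ : H) : G) ↔ IsConj g (k : G) := by
    have h2 : ConjClasses.mk (Quotient.out C₀) = C₀ := Quotient.out_eq C₀
    rw [hC₀] at h2
    rw [ConjClasses.mk_eq_mk_iff_isConj, isConj_iff] at h2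
    obtain ⟨x, hx⟩ := h2
    have hx' : (x : G) * ((Quotient.out C₀ : H) : G) * (x : G)⁻¹ = (k : G) := by
      rw [hC₀]
      exact congrArg Subtype.val hx
    have hc : IsConj ((Quotient.out C₀ : H) : G) (k : G) := isConj_iff.2 ⟨x, hx'⟩
    constructor
    · intro h
      exact h.trans hc
    · intro h
      exact h.trans hc.symm
  rw [Finset.sum_filter, Finset.sum_eq_single C₀]
  · by_cases hk : IsConj g (k : G)
    · rw [if_pos (hout.2 hk), Set.indicator_of_mem ((hmem C₀).2 rfl),
        Set.indicator_of_mem (show k ∈ {k : K | IsConj g (k : G)} from hk)]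
    · rw [if_neg (fun h => hk (hout.1 h)),
        Set.indicator_of_notMem (show k ∉ {k : K | IsConj g (k : G)} from hk)]
  · intro C _ hne
    rw [Set.indicator_of_notMem (fun h => hne ((hmem C).1 h)), ite_self]
  · intro hC
    exact absurd (Finset.mem_univ _) hC

end Sums

section Rel

variable {G : Type u} [Group G] {M : Ideal AlgInt}
  (H : Subgroup G) (K' : Subgroup H) (K : Subgroup G) (σ : K' ≃* K)
  (hσ : ∀ x : K', ((σ x : K) : G) = ((x : H) : G))

include hσ in
/-- the induced central character computed in the group `H` from the subgroup `K'` of `H` is the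
relative induced central character from the corresponding subgroup `K` of `G` -/
theorem inducedCentralChar_rel (ξ : K → ℂ) (h : H) :
    inducedCentralChar K' (ξ ∘ σ) h = inducedCentralCharIn H K ξ (h : G) := by
  unfold inducedCentralChar inducedCentralCharIn
  have hS : {k : K | ∃ x : H, (x : G) * (k : G) * (x : G)⁻¹ = (h : G)} =
      σ '' {k' : K' | IsConj h (k' : H)} := by
    ext k
    constructor
    · rintro ⟨x, hx⟩
      refine ⟨σ.symm k, ?_, σ.apply_symm_apply k⟩
      rw [Set.mem_setOf_eq, isConj_comm, isConj_iff]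
      refine ⟨x, ?_⟩
      apply Subtype.ext
      rw [Subgroup.coe_mul, Subgroup.coe_mul, Subgroup.coe_inv, ← hσ, σ.apply_symm_apply]
      exact hx
    · rintro ⟨k', hk', rfl⟩
      rw [Set.mem_setOf_eq, isConj_comm, isConj_iff] at hk'
      obtain ⟨x, hx⟩ := hk'
      refine ⟨x, ?_⟩
      rw [hσ]
      have h1 := congrArg Subtype.val hx
      rw [Subgroup.coe_mul, Subgroup.coe_mul, Subgroup.coe_inv] at h1
      exact h1
  rw [hS, finsum_mem_image (σ.injective.injOn)]
  apply finsum_mem_congr rfl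
  intro k' _
  rw [Function.comp_apply, Function.comp_apply, map_one]

include hσ in
theorem isInducedBlock_rel_iff {β : Set (IrrCharacter K)} {c : Set (IrrCharacter H)} :
    IsInducedBlock M K' (irrComp σ '' β) c ↔ IsInducedBlockIn M H K β c := by
  constructor
  · rintro ⟨h1, h2, h3⟩
    refine ⟨?_, h2, ?_⟩
    · have h4 := isPBlock_image_irrComp (M := M) σ.symm h1
      rw [Set.image_image] at h4
      have h5 : (fun x => irrComp σ.symm (irrComp σ x)) = id :=
        funext (irrComp_symm_irrComp σ)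
      rwa [h5, Set.image_id] at h4
    · intro ξ hξ χ hχ h
      have h4 := h3 (irrComp σ ξ) ⟨ξ, hξ, rfl⟩ χ hχ h
      rwa [show ((irrComp σ ξ : IrrCharacter K') : K' → ℂ) = (ξ : K → ℂ) ∘ σ from rfl,
        inducedCentralChar_rel H K' K σ hσ] at h4
  · rintro ⟨h1, h2, h3⟩
    refine ⟨isPBlock_image_irrComp σ h1, h2, ?_⟩
    rintro _ ⟨ξ, hξ, rfl⟩ χ hχ h
    rw [show ((irrComp σ ξ : IrrCharacter K') : K' → ℂ) = (ξ : K → ℂ) ∘ σ from rfl,
      inducedCentralChar_rel H K' K σ hσ]
    exact h3 ξ hξ χ hχ h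

end Rel

section Passman

variable {G : Type u} [Group G] [Fintype G] {M : Ideal AlgInt}

/-- **Passman, relative form**: if the block `c` of `H` covers the block `e` of the subgroup
`L` normal in `H`, the central characters of `c` agree on `L` with the central characters of `e`
induced inside `H` -/
theorem passman_rel (hMp : M.IsPrime) (H L : Subgroup G) [Fintype L] (hLH : L ≤ H)
    [hLn : (L.subgroupOf H).Normal] {c : Set (IrrCharacter H)} (hc : IsPBlock M c)
    {e : Set (IrrCharacter L)} (he : IsPBlock M e)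
    (hcov : ∃ ψ ∈ c, ∃ ξ ∈ e, classInner (fun l : L => (ψ : H → ℂ) (Subgroup.inclusion hLH l))
      (ξ : L → ℂ) ≠ 0) :
    ∀ ψ ∈ c, ∀ ξ ∈ e, ∀ l : L, MemLocalIdeal M
      (centralChar (ψ : H → ℂ) (Subgroup.inclusion hLH l) -
        inducedCentralCharIn H L (ξ : L → ℂ) (l : G)) := by
  classical
  haveI : Fintype H := Fintype.ofFinite H
  haveI : Fintype (L.subgroupOf H) := Fintype.ofFinite _
  obtain ⟨σ, hσ⟩ : ∃ σ : L.subgroupOf H ≃* L, ∀ x, ((σ x : L) : G) = ((x : H) : G) :=
    ⟨Subgroup.subgroupOfEquivOfLe hLH, fun _ => rfl⟩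
  have hincl : ∀ x : L.subgroupOf H, Subgroup.inclusion hLH (σ x) = (x : H) := by
    intro x
    apply Subtype.ext
    rw [Subgroup.coe_inclusion, hσ]
  obtain ⟨ψ₁, hψ₁, ξ₁, hξ₁, hcon⟩ := hcov
  have he' : IsPBlock M (irrComp σ '' e) := isPBlock_image_irrComp σ he
  have hcon' : classInner (fun n : L.subgroupOf H => (ψ₁ : H → ℂ) n)
      ((irrComp σ ξ₁ : IrrCharacter (L.subgroupOf H)) : L.subgroupOf H → ℂ) ≠ 0 := by
    have h1 := Cfsg.Agent.Helper5.classInner_comp_equiv σ
      (fun l : L => (ψ₁ : H → ℂ) (Subgroup.inclusion hLH l)) (ξ₁ : L → ℂ)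
    rw [← h1] at hcon
    have h2 : (fun l : L => (ψ₁ : H → ℂ) (Subgroup.inclusion hLH l)) ∘ σ =
        fun n : L.subgroupOf H => (ψ₁ : H → ℂ) n := by
      funext n
      rw [Function.comp_apply, hincl]
    rw [h2] at hcon
    exact hcon
  intro ψ hψ ξ hξ l
  have h3 := passman_of_cover (L.subgroupOf H) hMp hc he' hψ₁ ⟨ξ₁, hξ₁, rfl⟩ hcon' ψ hψ
    (irrComp σ ξ) ⟨ξ, hξ, rfl⟩ (σ.symm l)
  rw [show ((irrComp σ ξ : IrrCharacter (L.subgroupOf H)) : L.subgroupOf H → ℂ) =
    (ξ : L → ℂ) ∘ σ from rfl, inducedCentralChar_rel H (L.subgroupOf H) L σ hσ,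
    ← hincl, σ.apply_symm_apply] at h3
  have h4 : ((Subgroup.inclusion hLH l : H) : G) = (l : G) := Subgroup.coe_inclusion hLH l
  rw [h4] at h3
  exact h3

end Passman

section Trans

variable {G : Type u} [Group G] [Fintype G] {M : Ideal AlgInt}

theorem exists_mem_of_isPBlock [hMp : M.IsPrime] {K : Type u} [Group K] [Fintype K]
    {b : Set (IrrCharacter K)} (hb : IsPBlock M b) : ∃ ξ, ξ ∈ b := by
  obtain ⟨ξ₀, rfl⟩ := hb
  exact ⟨ξ₀, mem_blockOf_self ξ₀⟩

open Classical in
/-- the induced central character from `K` as a sum, over the classes of `H ≥ K`, of the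
central characters induced inside `H` -/
theorem inducedCentralChar_eq_sum_inducedIn {H K : Subgroup G} [Fintype (ConjClasses H)]
    (hKH : K ≤ H) (ξ : K → ℂ) (g : G) :
    inducedCentralChar K ξ g =
      ∑ C ∈ Finset.univ.filter
        (fun C : ConjClasses H => IsConj g ((Quotient.out C : H) : G)),
        inducedCentralCharIn H K ξ ((Quotient.out C : H) : G) := by
  unfold inducedCentralChar inducedCentralCharIn
  exact (sum_classes_inducedIn hKH (fun k => ξ k / ξ 1) g).symm

/-- **transitivity of block induction** -/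
theorem isInducedBlock_trans (hMp : M.IsPrime) {K H : Subgroup G} (hKH : K ≤ H)
    {β : Set (IrrCharacter K)} {c : Set (IrrCharacter H)} {B : Set (IrrCharacter G)}
    (h1 : IsInducedBlockIn M H K β c) (h2 : IsInducedBlock M H c B) :
    IsInducedBlock M K β B := by
  classical
  haveI := hMp
  haveI : Fintype H := Fintype.ofFinite H
  haveI : Fintype (ConjClasses H) := Fintype.ofFinite _
  refine ⟨h1.1, h2.2.1, ?_⟩
  intro ξ hξ χ hχ g
  obtain ⟨ψ, hψ⟩ := exists_mem_of_isPBlock h2.1
  have e1 := inducedCentralChar_eq_sum H (isClassFunction_of_isIrrCharacter ψ.2) g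
  have e3 := inducedCentralChar_eq_sum_inducedIn hKH (ξ : K → ℂ) g
  have h3 : MemLocalIdeal M (inducedCentralChar K (ξ : K → ℂ) g -
      inducedCentralChar H (ψ : H → ℂ) g) := by
    rw [e3, e1, ← Finset.sum_sub_distrib]
    apply memLocalIdeal_sum
    intro C _
    exact h1.2.2 ξ hξ ψ hψ (Quotient.out C)
  exact cong_trans h3 (h2.2.2 ψ hψ χ hχ g)

/-- **covering and induction**: if `c` covers `e`, `c` induces `B` and `e` induces `d` inside the
normal subgroup `N`, then `B` covers `d` -/
theorem cover_of_induced (hMp : M.IsPrime) (N : Subgroup G) [hN : N.Normal] [Fintype N]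
    (H : Subgroup G) [Fintype ↥(H ⊓ N)] [((H ⊓ N).subgroupOf H).Normal]
    {c : Set (IrrCharacter H)} {B : Set (IrrCharacter G)} (hcB : IsInducedBlock M H c B)
    {e : Set (IrrCharacter ↥(H ⊓ N))} {d : Set (IrrCharacter N)}
    (hed : IsInducedBlockIn M N (H ⊓ N) e d)
    (hcov : ∃ ψ ∈ c, ∃ ξ ∈ e,
      classInner (fun l : ↥(H ⊓ N) => (ψ : H → ℂ) (Subgroup.inclusion inf_le_left l))
        (ξ : ↥(H ⊓ N) → ℂ) ≠ 0) :
    ∃ χ ∈ B, ∃ θ ∈ d, classInner (fun n : N => (χ : G → ℂ) n) (θ : N → ℂ) ≠ 0 := by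
  classical
  haveI := hMp
  haveI : Fintype H := Fintype.ofFinite H
  haveI : Fintype (ConjClasses H) := Fintype.ofFinite _
  haveI : Fintype (ConjClasses N) := Fintype.ofFinite _
  obtain ⟨χ, hχ⟩ := exists_mem_of_isPBlock hcB.2.1
  obtain ⟨θ, hθ⟩ := exists_mem_of_isPBlock hed.2.1
  obtain ⟨ψ, hψ⟩ := exists_mem_of_isPBlock hcB.1
  obtain ⟨ξ, hξ⟩ := exists_mem_of_isPBlock hed.1
  have hpass := passman_rel hMp H (H ⊓ N) inf_le_left hcB.1 hed.1 hcov ψ hψ ξ hξ
  have hkey : ∀ n : N, MemLocalIdeal M
      (centralChar (χ : G → ℂ) (n : G) - inducedCentralChar N (θ : N → ℂ) (n : G)) := by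
    intro n
    -- the common value
    have hA : MemLocalIdeal M (inducedCentralChar H (ψ : H → ℂ) (n : G) -
        inducedCentralChar (H ⊓ N) (ξ : ↥(H ⊓ N) → ℂ) (n : G)) := by
      rw [inducedCentralChar_eq_sum H (isClassFunction_of_isIrrCharacter ψ.2) (n : G),
        inducedCentralChar_eq_sum_inducedIn (inf_le_left : H ⊓ N ≤ H) (ξ : ↥(H ⊓ N) → ℂ) (n : G),
        ← Finset.sum_sub_distrib]
      apply memLocalIdeal_sum
      intro C hC
      rw [Finset.mem_filter] at hC
      have hCN : ((Quotient.out C : H) : G) ∈ N := by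
        obtain ⟨x, hx⟩ := isConj_iff.1 hC.2
        rw [← hx]
        exact hN.conj_mem _ n.2 x
      have h1 := hpass ⟨((Quotient.out C : H) : G), ⟨(Quotient.out C : H).2, hCN⟩⟩
      have h2 : Subgroup.inclusion (inf_le_left : H ⊓ N ≤ H)
          ⟨((Quotient.out C : H) : G), ⟨(Quotient.out C : H).2, hCN⟩⟩ = Quotient.out C :=
        Subtype.ext rfl
      rw [h2] at h1
      exact h1
    have hB' : MemLocalIdeal M (inducedCentralChar N (θ : N → ℂ) (n : G) -
        inducedCentralChar (H ⊓ N) (ξ : ↥(H ⊓ N) → ℂ) (n : G)) := by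
      rw [inducedCentralChar_eq_sum N (isClassFunction_of_isIrrCharacter θ.2) (n : G),
        inducedCentralChar_eq_sum_inducedIn (inf_le_right : H ⊓ N ≤ N) (ξ : ↥(H ⊓ N) → ℂ) (n : G),
        ← Finset.sum_sub_distrib]
      apply memLocalIdeal_sum
      intro C _
      exact cong_symm (hed.2.2 ξ hξ θ hθ (Quotient.out C))
    have hC' := cong_symm (hcB.2.2 ψ hψ χ hχ (n : G))
    exact cong_trans (cong_trans hC' hA) (cong_symm hB')
  obtain ⟨θ', hθ', hne⟩ := cover_of_passman N hMp hed.2.1 hθ hkey
  exact ⟨χ, hχ, θ', hθ', hne⟩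

end Trans

end Cfsg.Agent.Helper5.HK
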