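import Mathlib
import Cfsg.Agent.Lib.Helper5.HKBase
import Cfsg.Agent.Lib.Helper23.BlockFirstMain
import Cfsg.Agent.Lib.Helper18.PairRel2
import Cfsg.Agent.S4726

/-!
# The first main theorem over a subgroup containing the normalizer (helper5)
-/

set_option autoImplicit false

namespace Cfsg.Agent.Helper5.HK

open Cfsg Cfsg.Agent.Helper24 Cfsg.Agent.Helper23.Blk Cfsg.Agent.Helper18

universe u

section NormEquiv

variable {G : Type u} [Group G] (P H : Subgroup G)

open Cfsg.Agent.Helper18.PairRel in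
/-- the normalizer of `P` computed inside `H ⊇ N_G(P)` is `N_G(P)` -/
def normEquiv (hH : Subgroup.normalizer (P : Set G) ≤ H) :
    Subgroup.normalizer ((P.subgroupOf H : Subgroup H) : Set H) ≃*
      Subgroup.normalizer (P : Set G) where
  toFun x := ⟨((x : H) : G),
    (mem_normalizer_subgroupOf_iff H P (le_trans Subgroup.le_normalizer hH) x.1).1 x.2⟩
  invFun n := ⟨⟨(n : G), hH n.2⟩,
    (mem_normalizer_subgroupOf_iff H P (le_trans Subgroup.le_normalizer hH) ⟨n, hH n.2⟩).2 n.2⟩
  left_inv x := by ext; rfl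
  right_inv n := by ext; rfl
  map_mul' x y := by ext; rfl

theorem normEquiv_coe (hH : Subgroup.normalizer (P : Set G) ≤ H)
    (x : Subgroup.normalizer ((P.subgroupOf H : Subgroup H) : Set H)) :
    ((normEquiv P H hH x : Subgroup.normalizer (P : Set G)) : G) = ((x : H) : G) := rfl

theorem map_normEquiv_symm (hH : Subgroup.normalizer (P : Set G) ≤ H) :
    (P.subgroupOf (Subgroup.normalizer (P : Set G))).map
      (normEquiv P H hH).symm.toMonoidHom =
    (P.subgroupOf H).subgroupOf (Subgroup.normalizer ((P.subgroupOf H : Subgroup H) : Set H)) := by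
  ext y
  rw [Subgroup.mem_map_equiv, Subgroup.mem_subgroupOf, Subgroup.mem_subgroupOf,
    Subgroup.mem_subgroupOf, MulEquiv.symm_symm]
  rfl

theorem map_normEquiv (hH : Subgroup.normalizer (P : Set G) ≤ H) :
    ((P.subgroupOf H).subgroupOf
      (Subgroup.normalizer ((P.subgroupOf H : Subgroup H) : Set H))).map
      (normEquiv P H hH).symm.symm.toMonoidHom =
    P.subgroupOf (Subgroup.normalizer (P : Set G)) := by
  ext y
  rw [Subgroup.mem_map_equiv, Subgroup.mem_subgroupOf, Subgroup.mem_subgroupOf,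
    Subgroup.mem_subgroupOf]
  rfl

end NormEquiv

section EFM

variable {G : Type u} [Group G] [Fintype G] {M : Ideal AlgInt} {p : ℕ} [Fact p.Prime]
  (P H : Subgroup G)

/-- a block of `H ⊇ N_G(P)` with defect group `P` comes from a block of `N_G(P)` with defect
group `P` -/
theorem exists_normalizer_block (hM : IsPModular p M) (hP : IsPGroup p P)
    (hH : Subgroup.normalizer (P : Set G) ≤ H) {c : Set (IrrCharacter H)} (hc : IsPBlock M c)
    (hDc : IsDefectGroup p M c (P.subgroupOf H)) :
    ∃ β : Set (IrrCharacter (Subgroup.normalizer (P : Set G))), IsPBlock M β ∧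
      IsDefectGroup p M β (P.subgroupOf (Subgroup.normalizer (P : Set G))) ∧
      IsInducedBlockIn M H (Subgroup.normalizer (P : Set G)) β c := by
  classical
  haveI : Fintype H := Fintype.ofFinite H
  haveI : Fintype (Subgroup.normalizer ((P.subgroupOf H : Subgroup H) : Set H)) :=
    Fintype.ofFinite _
  letI : Fintype (IrrCharacter H) := irrFintype
  letI : Fintype (IrrCharacter (Subgroup.normalizer ((P.subgroupOf H : Subgroup H) : Set H))) :=
    irrFintype
  have hP' : IsPGroup p (P.subgroupOf H) := hP.comap_subtype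
  obtain ⟨β', hβ', hDβ', hind'⟩ := firstMain_exists (P.subgroupOf H) hM hP' hc hDc
  obtain ⟨σ, hσdef⟩ : ∃ σ, σ = normEquiv P H hH := ⟨_, rfl⟩
  have hσ : ∀ x, ((σ x : Subgroup.normalizer (P : Set G)) : G) = ((x : H) : G) := by
    intro x
    rw [hσdef]
    rfl
  obtain ⟨β, hβdef⟩ : ∃ β, β = irrComp σ.symm '' β' := ⟨_, rfl⟩
  have hβ : IsPBlock M β := by
    rw [hβdef]
    exact isPBlock_image_irrComp σ.symm hβ'
  have hβ'eq : β' = irrComp σ '' β := by
    rw [hβdef, Set.image_image]
    have h5 : (fun x => irrComp σ (irrComp σ.symm x)) = id :=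
      funext (irrComp_irrComp_symm σ)
    rw [h5, Set.image_id]
  refine ⟨β, hβ, ?_, ?_⟩
  · have h1 := isDefectGroup_image_irrComp hM σ.symm hβ' hDβ'
    rw [← hβdef, hσdef, map_normEquiv] at h1
    exact h1
  · rw [hβ'eq] at hind'
    exact (isInducedBlock_rel_iff H _ _ σ hσ).1 hind'

/-- **first main theorem over `H ⊇ N_G(P)`, existence** -/
theorem efm_exists (hM : IsPModular p M) (hP : IsPGroup p P)
    (hH : Subgroup.normalizer (P : Set G) ≤ H) {B : Set (IrrCharacter G)} (hB : IsPBlock M B)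
    (hDB : IsDefectGroup p M B P) :
    ∃ c : Set (IrrCharacter H), IsPBlock M c ∧ IsDefectGroup p M c (P.subgroupOf H) ∧
      IsInducedBlock M H c B := by
  classical
  haveI hMp : M.IsPrime := hM.2.1.isPrime
  haveI : Fintype H := Fintype.ofFinite H
  haveI : Fintype (Subgroup.normalizer ((P.subgroupOf H : Subgroup H) : Set H)) :=
    Fintype.ofFinite _
  haveI : Fintype (Subgroup.normalizer (P : Set G)) := Fintype.ofFinite _
  letI : Fintype (IrrCharacter G) := irrFintype
  letI : Fintype (IrrCharacter H) := irrFintype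
  letI : Fintype (IrrCharacter (Subgroup.normalizer (P : Set G))) := irrFintype
  letI : Fintype (IrrCharacter (Subgroup.normalizer ((P.subgroupOf H : Subgroup H) : Set H))) :=
    irrFintype
  have hP' : IsPGroup p (P.subgroupOf H) := hP.comap_subtype
  have hPH : P ≤ H := le_trans Subgroup.le_normalizer hH
  obtain ⟨β, hβ, hDβ, hind⟩ := firstMain_exists P hM hP hB hDB
  obtain ⟨σ, hσdef⟩ : ∃ σ, σ = normEquiv P H hH := ⟨_, rfl⟩
  have hσ : ∀ x, ((σ x : Subgroup.normalizer (P : Set G)) : G) = ((x : H) : G) := by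
    intro x
    rw [hσdef]
    rfl
  have hβ' : IsPBlock M (irrComp σ '' β) := isPBlock_image_irrComp σ hβ
  have hDβ' := isDefectGroup_image_irrComp hM σ hβ hDβ
  rw [hσdef, map_normEquiv_symm] at hDβ'
  rw [← hσdef] at hDβ'
  -- induce inside `H`
  have hmapP : ((P.subgroupOf H).subgroupOf
      (Subgroup.normalizer ((P.subgroupOf H : Subgroup H) : Set H))).map
      (Subgroup.normalizer ((P.subgroupOf H : Subgroup H) : Set H)).subtype = P.subgroupOf H := by
    apply Subgroup.map_subgroupOf_eq_of_le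
    exact Subgroup.le_normalizer
  obtain ⟨⟨c, hindc⟩, -⟩ := Cfsg.Agent.S4726.result p M hM
    (Subgroup.normalizer ((P.subgroupOf H : Subgroup H) : Set H)) (irrComp σ '' β) hβ' _ hDβ' (by
      rw [hmapP]
      exact Subgroup.centralizer_le_normalizer _)
  have hc : IsPBlock M c := hindc.2.1
  have hDc : IsDefectGroup p M c (P.subgroupOf H) :=
    firstMain_forward (P.subgroupOf H) hM hP' hβ' hDβ' hc hindc
  have hrel : IsInducedBlockIn M H (Subgroup.normalizer (P : Set G)) β c :=
    (isInducedBlock_rel_iff H _ _ σ hσ).1 hindc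
  -- induce to `G`
  have hmapP' : (P.subgroupOf H).map H.subtype = P := Subgroup.map_subgroupOf_eq_of_le hPH
  obtain ⟨⟨B₂, hB₂⟩, -⟩ := Cfsg.Agent.S4726.result p M hM H c hc _ hDc (by
      rw [hmapP']
      exact le_trans (Subgroup.centralizer_le_normalizer _) hH)
  have htr := isInducedBlock_trans hMp hH hrel hB₂
  have hBB : B₂ = B := isInducedBlock_unique' hM htr hind
  rw [hBB] at hB₂
  exact ⟨c, hc, hDc, hB₂⟩

/-- **first main theorem over `H ⊇ N_G(P)`, defect groups** -/
theorem efm_forward (hM : IsPModular p M) (hP : IsPGroup p P)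
    (hH : Subgroup.normalizer (P : Set G) ≤ H) {c : Set (IrrCharacter H)} (hc : IsPBlock M c)
    (hDc : IsDefectGroup p M c (P.subgroupOf H)) {B : Set (IrrCharacter G)}
    (hind : IsInducedBlock M H c B) : IsDefectGroup p M B P := by
  classical
  haveI hMp : M.IsPrime := hM.2.1.isPrime
  haveI : Fintype (Subgroup.normalizer (P : Set G)) := Fintype.ofFinite _
  letI : Fintype (IrrCharacter G) := irrFintype
  letI : Fintype (IrrCharacter (Subgroup.normalizer (P : Set G))) := irrFintype
  obtain ⟨β, hβ, hDβ, hrel⟩ := exists_normalizer_block P H hM hP hH hc hDc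
  have htr := isInducedBlock_trans hMp hH hrel hind
  exact firstMain_forward P hM hP hβ hDβ hind.2.1 htr

/-- **first main theorem over `H ⊇ N_G(P)`, uniqueness** -/
theorem efm_unique (hM : IsPModular p M) (hP : IsPGroup p P)
    (hH : Subgroup.normalizer (P : Set G) ≤ H) {c₁ c₂ : Set (IrrCharacter H)}
    (hc₁ : IsPBlock M c₁) (hc₂ : IsPBlock M c₂)
    (hD₁ : IsDefectGroup p M c₁ (P.subgroupOf H)) (hD₂ : IsDefectGroup p M c₂ (P.subgroupOf H))
    {B : Set (IrrCharacter G)} (hind₁ : IsInducedBlock M H c₁ B)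
    (hind₂ : IsInducedBlock M H c₂ B) : c₁ = c₂ := by
  classical
  haveI hMp : M.IsPrime := hM.2.1.isPrime
  haveI : Fintype H := Fintype.ofFinite H
  haveI : Fintype (Subgroup.normalizer (P : Set G)) := Fintype.ofFinite _
  letI : Fintype (IrrCharacter G) := irrFintype
  letI : Fintype (IrrCharacter (Subgroup.normalizer (P : Set G))) := irrFintype
  obtain ⟨β₁, hβ₁, hDβ₁, hrel₁⟩ := exists_normalizer_block P H hM hP hH hc₁ hD₁
  obtain ⟨β₂, hβ₂, hDβ₂, hrel₂⟩ := exists_normalizer_block P H hM hP hH hc₂ hD₂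
  have htr₁ := isInducedBlock_trans hMp hH hrel₁ hind₁
  have htr₂ := isInducedBlock_trans hMp hH hrel₂ hind₂
  have hββ : β₁ = β₂ := firstMain_unique P hM hP hβ₁ hβ₂ hDβ₁ hDβ₂ htr₁ htr₂
  rw [hββ] at hrel₁
  obtain ⟨σ, hσdef⟩ : ∃ σ, σ = normEquiv P H hH := ⟨_, rfl⟩
  have hσ : ∀ x, ((σ x : Subgroup.normalizer (P : Set G)) : G) = ((x : H) : G) := by
    intro x
    rw [hσdef]
    rfl
  have h1 := (isInducedBlock_rel_iff H _ _ σ hσ).2 hrel₁
  have h2 := (isInducedBlock_rel_iff H _ _ σ hσ).2 hrel₂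
  exact isInducedBlock_unique' hM h1 h2

end EFM

end Cfsg.Agent.Helper5.HK
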