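import Mathlib
import Cfsg.Agent.Lib.Helper5.GradedNil

/-!
# The group algebra of a finite group over a field, graded by a normal subgroup
(helper5's library)

Coefficient formulas, the grading of `k[G]` by `G ⧸ N`, elements invariant under conjugation
by `N`, and the vanishing theorem `eq_zero_of_graded_nil`: an `N`-invariant idempotent all of
whose homogeneous components are in the graded radical of `(k[G])^N` is zero.
-/

set_option autoImplicit false

namespace Cfsg.Agent.Helper5.KG

open Cfsg.Agent.Helper5.GradedNil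

variable {k : Type*} [Field k] {G : Type*} [Group G]

section Basic

variable [Fintype G]

theorem coeff_mul_eq_sum (x y : MonoidAlgebra k G) (g : G) :
    (x * y).coeff g = ∑ a : G, x.coeff a * y.coeff (a⁻¹ * g) := by
  rw [MonoidAlgebra.coeff_mul_apply_left, Finsupp.sum_fintype]
  intro a
  simp

theorem coeff_mul_eq_sum' (x y : MonoidAlgebra k G) (g : G) :
    (x * y).coeff g = ∑ a : G, x.coeff (g * a⁻¹) * y.coeff a := by
  rw [MonoidAlgebra.coeff_mul_apply_right, Finsupp.sum_fintype]
  intro a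
  simp

/-- the element of the group algebra with prescribed coefficients -/
noncomputable def ofFun (f : G → k) : MonoidAlgebra k G :=
  MonoidAlgebra.ofCoeff (Finsupp.equivFunOnFinite.symm f)

theorem coeff_ofFun (f : G → k) (g : G) : (ofFun f).coeff g = f g := by
  simp [ofFun]

theorem ext_coeff {x y : MonoidAlgebra k G} (h : ∀ g, x.coeff g = y.coeff g) : x = y :=
  MonoidAlgebra.ext (Finsupp.ext h)

theorem ofFun_coeff (x : MonoidAlgebra k G) : ofFun (fun g => x.coeff g) = x :=
  ext_coeff fun g => coeff_ofFun _ g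

theorem coeff_one_eq (g : G) [Decidable (g = 1)] :
    (1 : MonoidAlgebra k G).coeff g = if g = 1 then 1 else 0 := by
  classical
  rw [MonoidAlgebra.one_def, MonoidAlgebra.coeff_single, Finsupp.single_apply]
  by_cases h : g = 1
  · rw [if_pos h, if_pos h.symm]
  · rw [if_neg h, if_neg (fun h' => h h'.symm)]

theorem ofFun_mul (f f' : G → k) :
    ofFun f * ofFun f' = ofFun (fun g => ∑ a : G, f a * f' (a⁻¹ * g)) := by
  apply ext_coeff
  intro g
  rw [coeff_mul_eq_sum, coeff_ofFun]
  apply Finset.sum_congr rfl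
  intro a _
  rw [coeff_ofFun, coeff_ofFun]

theorem ofFun_add (f f' : G → k) : ofFun (f + f') = ofFun f + ofFun f' := by
  apply ext_coeff
  intro g
  rw [MonoidAlgebra.coeff_add, Finsupp.add_apply, coeff_ofFun, coeff_ofFun, coeff_ofFun,
    Pi.add_apply]

theorem ofFun_zero : ofFun (fun _ : G => (0 : k)) = 0 := by
  apply ext_coeff
  intro g
  rw [coeff_ofFun, MonoidAlgebra.coeff_zero, Finsupp.zero_apply]

end Basic

section Graded

variable (N : Subgroup G) [hN : N.Normal]

/-- homogeneous of degree `t` for the grading by `G ⧸ N` -/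
def HomDeg (t : G ⧸ N) (x : MonoidAlgebra k G) : Prop :=
  ∀ g : G, (g : G ⧸ N) ≠ t → x.coeff g = 0

/-- invariant under conjugation by `N` -/
def NInv (x : MonoidAlgebra k G) : Prop :=
  ∀ n ∈ N, ∀ g : G, x.coeff (n * g * n⁻¹) = x.coeff g

variable [Fintype G]

open Classical in
/-- the homogeneous component of degree `t` -/
noncomputable def comp (t : G ⧸ N) (x : MonoidAlgebra k G) : MonoidAlgebra k G :=
  ofFun (fun g => if (g : G ⧸ N) = t then x.coeff g else 0)

theorem coeff_comp_of_eq {t : G ⧸ N} (x : MonoidAlgebra k G) {g : G} (h : (g : G ⧸ N) = t) :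
    (comp N t x).coeff g = x.coeff g := by
  unfold comp
  rw [coeff_ofFun, if_pos h]

theorem coeff_comp_of_ne {t : G ⧸ N} (x : MonoidAlgebra k G) {g : G} (h : (g : G ⧸ N) ≠ t) :
    (comp N t x).coeff g = 0 := by
  unfold comp
  rw [coeff_ofFun, if_neg h]

theorem homDeg_comp (t : G ⧸ N) (x : MonoidAlgebra k G) : HomDeg N t (comp N t x) :=
  fun _ hg => coeff_comp_of_ne N x hg

theorem sum_comp [Fintype (G ⧸ N)] (x : MonoidAlgebra k G) : x = ∑ t : G ⧸ N, comp N t x := by
  classical
  apply ext_coeff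
  intro g
  rw [MonoidAlgebra.coeff_sum, Finsupp.finset_sum_apply,
    Finset.sum_eq_single (g : G ⧸ N)]
  · rw [coeff_comp_of_eq N x rfl]
  · intro t _ ht
    exact coeff_comp_of_ne N x (fun h => ht h.symm)
  · intro h
    exact absurd (Finset.mem_univ _) h

theorem homDeg_mul {s t : G ⧸ N} {x y : MonoidAlgebra k G} (hx : HomDeg N s x)
    (hy : HomDeg N t y) : HomDeg N (s * t) (x * y) := by
  intro g hg
  rw [coeff_mul_eq_sum]
  apply Finset.sum_eq_zero
  intro a _
  by_cases ha : (a : G ⧸ N) = s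
  · have h2 : ((a⁻¹ * g : G) : G ⧸ N) ≠ t := by
      intro h
      apply hg
      rw [← ha, ← h, ← QuotientGroup.mk_mul, mul_inv_cancel_left]
    rw [hy _ h2, mul_zero]
  · rw [hx _ ha, zero_mul]

theorem homDeg_one : HomDeg N (1 : G ⧸ N) (1 : MonoidAlgebra k G) := by
  classical
  intro g hg
  rw [coeff_one_eq, if_neg]
  intro h
  apply hg
  rw [h]
  rfl

theorem nInv_one : NInv N (1 : MonoidAlgebra k G) := by
  classical
  intro n _ g
  rw [coeff_one_eq, coeff_one_eq]
  by_cases h : g = 1
  · subst h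
    rw [if_pos rfl, if_pos (by group)]
  · rw [if_neg h, if_neg]
    intro h'
    apply h
    have : g = n⁻¹ * (n * g * n⁻¹) * n := by group
    rw [this, h']
    group

theorem nInv_mul {x y : MonoidAlgebra k G} (hx : NInv N x) (hy : NInv N y) :
    NInv N (x * y) := by
  intro n hn g
  rw [coeff_mul_eq_sum, coeff_mul_eq_sum]
  apply Fintype.sum_equiv (MulAut.conj n⁻¹).toEquiv
  intro a
  simp only [MulEquiv.toEquiv_eq_coe, MulEquiv.coe_toEquiv, MulAut.conj_apply, inv_inv]
  have h1 : x.coeff (n⁻¹ * a * n) = x.coeff a := by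
    have := hx n⁻¹ (N.inv_mem hn) a
    rwa [inv_inv] at this
  have h2 : y.coeff ((n⁻¹ * a * n)⁻¹ * g) = y.coeff (a⁻¹ * (n * g * n⁻¹)) := by
    have := hy n hn ((n⁻¹ * a * n)⁻¹ * g)
    rw [← this]
    congr 1
    group
  rw [h1, h2]

theorem nInv_comp {x : MonoidAlgebra k G} (hx : NInv N x) (t : G ⧸ N) :
    NInv N (comp N t x) := by
  intro n hn g
  have h1 : ((n * g * n⁻¹ : G) : G ⧸ N) = (g : G ⧸ N) := by
    rw [QuotientGroup.eq]
    have : (n * g * n⁻¹)⁻¹ * g = n * (g⁻¹ * n⁻¹ * g) := by group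
    rw [this]
    apply N.mul_mem hn
    have := hN.conj_mem n⁻¹ (N.inv_mem hn) g⁻¹
    rwa [inv_inv] at this
  by_cases hg : (g : G ⧸ N) = t
  · rw [coeff_comp_of_eq N x hg, coeff_comp_of_eq N x (h1.trans hg), hx n hn g]
  · rw [coeff_comp_of_ne N x hg, coeff_comp_of_ne N x (fun h => hg (h1.symm.trans h))]

/-- elements supported on `N` commute with `N`-invariant elements -/
theorem commute_of_homDeg_one {u v : MonoidAlgebra k G} (hu : HomDeg N (1 : G ⧸ N) u)
    (hv : NInv N v) : u * v = v * u := by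
  apply ext_coeff
  intro g
  rw [coeff_mul_eq_sum, coeff_mul_eq_sum']
  apply Finset.sum_congr rfl
  intro a _
  by_cases ha : a ∈ N
  · have h1 : v.coeff (g * a⁻¹) = v.coeff (a⁻¹ * g) := by
      have := hv a⁻¹ (N.inv_mem ha) (g * a⁻¹)
      rw [← this]
      congr 1
      group
    rw [h1, mul_comm]
  · have h1 : u.coeff a = 0 := by
      apply hu
      intro h
      apply ha
      exact (QuotientGroup.eq_one_iff a).1 h
    rw [h1, zero_mul, mul_zero]

theorem comp_mul_of_homDeg (x : MonoidAlgebra k G) {t : G ⧸ N} {y : MonoidAlgebra k G}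
    (hy : HomDeg N t⁻¹ y) : comp N t x * y = comp N (1 : G ⧸ N) (x * y) := by
  apply ext_coeff
  intro g
  by_cases hg : (g : G ⧸ N) = 1
  · rw [coeff_comp_of_eq N _ hg, coeff_mul_eq_sum, coeff_mul_eq_sum]
    apply Finset.sum_congr rfl
    intro a _
    by_cases ha : (a : G ⧸ N) = t
    · rw [coeff_comp_of_eq N x ha]
    · have h2 : ((a⁻¹ * g : G) : G ⧸ N) ≠ t⁻¹ := by
        intro h
        apply ha
        rw [QuotientGroup.mk_mul, hg, mul_one, QuotientGroup.mk_inv, inv_inj] at h
        exact h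
      rw [hy _ h2, mul_zero, mul_zero]
  · rw [coeff_comp_of_ne N _ hg]
    have := homDeg_mul N (homDeg_comp N t x) hy
    rw [mul_inv_cancel] at this
    exact this g hg

/-- **Vanishing theorem**: an `N`-invariant idempotent whose homogeneous components all lie in
the graded radical of the algebra of `N`-invariants is zero. -/
theorem eq_zero_of_graded_nil (ε : MonoidAlgebra k G) (hidem : ε * ε = ε) (hinv : NInv N ε)
    (h : ∀ (t : G ⧸ N) (y : MonoidAlgebra k G), NInv N y → HomDeg N t⁻¹ y →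
      IsNilpotent (comp N t ε * y)) : ε = 0 := by
  classical
  haveI : Fintype (G ⧸ N) := Fintype.ofFinite _
  obtain ⟨H, hH⟩ : ∃ H : G ⧸ N → Set (MonoidAlgebra k G), H = fun t =>
      {u | NInv N u ∧ HomDeg N t u ∧
        ∀ y, NInv N y → HomDeg N t⁻¹ y → IsNilpotent (u * y)} := ⟨_, rfl⟩
  have hmem : ∀ t u, u ∈ H t ↔ (NInv N u ∧ HomDeg N t u ∧
        ∀ y, NInv N y → HomDeg N t⁻¹ y → IsNilpotent (u * y)) := by
    intro t u
    rw [hH]
    rfl
  have hmul : ∀ s t a b, a ∈ H s → b ∈ H t → a * b ∈ H (s * t) := by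
    intro s t a b ha hb
    rw [hmem] at ha hb ⊢
    refine ⟨nInv_mul N ha.1 hb.1, homDeg_mul N ha.2.1 hb.2.1, ?_⟩
    intro y hy1 hy2
    rw [mul_assoc]
    apply ha.2.2 _ (nInv_mul N hb.1 hy1)
    have := homDeg_mul N hb.2.1 hy2
    rw [mul_inv_rev, mul_inv_cancel_left] at this
    exact this
  obtain ⟨r, hr⟩ := exists_uniform_nilpotent (k := k) (H 1)
    (by
      intro a ha b hb
      rw [hmem] at ha hb
      exact commute_of_homDeg_one N ha.2.1 hb.1)
    (by
      intro a ha
      rw [hmem] at ha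
      have := ha.2.2 1 (nInv_one N) (by rw [inv_one]; exact homDeg_one N)
      rwa [mul_one] at this)
  have h0 := pow_eq_zero_of_components H hmul r hr ε (fun t => comp N t ε)
    (by
      intro t
      rw [hmem]
      exact ⟨nInv_comp N hinv t, homDeg_comp N t ε, h t⟩)
    (sum_comp N ε)
  have hpos : 0 < Fintype.card (G ⧸ N) * (r + 1) :=
    Nat.mul_pos Fintype.card_pos (Nat.succ_pos r)
  obtain ⟨m, hm⟩ := Nat.exists_eq_succ_of_ne_zero hpos.ne'
  rw [hm] at h0
  have hid : IsIdempotentElem ε := hidem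
  rw [← h0, hid.pow_succ_eq]

end Graded

end Cfsg.Agent.Helper5.KG
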