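import Mathlib
import Cfsg.Agent.Lib.Helper5.KGAlg
import Cfsg.Agent.Lib.Helper23.BlockResidue
import Cfsg.Agent.Lib.Helper23.BlockBrauer
import Cfsg.Agent.Lib.Helper23.BlockPairs2

/-!
# Reduction of coefficient functions into the modular group algebra (helper5's library)

`redAlg M a` is the element of `(AlgInt ⧸ M)[G]` whose coefficients are the reductions of the
values of `a : G → ℂ`.  It is multiplicative on functions with local-integer values.  Main result:
`isNilpotent_redAlg_ext0`: a class function on a subgroup all of whose central character values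
lie in the local ideal reduces to a nilpotent element.
-/

set_option autoImplicit false

namespace Cfsg.Agent.Helper5.KG

open Cfsg Cfsg.Agent.Helper23.Blk Cfsg.Agent.Helper24

universe u

variable {G : Type u} [Group G] [Fintype G] {M : Ideal AlgInt} [hMax : M.IsMaximal]

/-- reduction of a coefficient function into the modular group algebra -/
noncomputable def redAlg (M : Ideal AlgInt) [M.IsMaximal] (a : G → ℂ) :
    MonoidAlgebra (AlgInt ⧸ M) G :=
  ofFun (fun g => red M (a g))

theorem coeff_redAlg (a : G → ℂ) (g : G) : (redAlg M a).coeff g = red M (a g) :=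
  coeff_ofFun _ g

theorem redAlg_congr {a b : G → ℂ} (h : ∀ g, red M (a g) = red M (b g)) :
    redAlg M a = redAlg M b := by
  apply ext_coeff
  intro g
  rw [coeff_redAlg, coeff_redAlg, h g]

theorem redAlg_conv {a b : G → ℂ} (ha : ∀ g, MemLocalRing M (a g))
    (hb : ∀ g, MemLocalRing M (b g)) : redAlg M (conv a b) = redAlg M a * redAlg M b := by
  haveI hMp : M.IsPrime := hMax.isPrime
  apply ext_coeff
  intro g
  rw [coeff_redAlg, coeff_mul_eq_sum, conv_apply,
    red_sum _ _ (fun h _ => memLocalRing_mul (ha h) (hb _))]
  apply Finset.sum_congr rfl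
  intro h _
  rw [red_mul (ha h) (hb _), coeff_redAlg, coeff_redAlg]

theorem redAlg_zero : redAlg M (fun _ : G => (0 : ℂ)) = 0 := by
  apply ext_coeff
  intro g
  rw [coeff_redAlg, red_zero, MonoidAlgebra.coeff_zero, Finsupp.zero_apply]

theorem redAlg_delta : redAlg M (by classical exact fun g : G => if g = 1 then (1 : ℂ) else 0) = 1 := by
  classical
  apply ext_coeff
  intro g
  rw [coeff_redAlg, coeff_one_eq]
  by_cases hg : g = 1
  · rw [if_pos hg, if_pos hg, red_one]
  · rw [if_neg hg, if_neg hg, red_zero]

/-- the reduction only sees the values modulo the local ideal -/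
theorem red_eq_of_sub_mem {x y : ℂ} (hx : MemLocalRing M x) (hy : MemLocalRing M y)
    (h : MemLocalIdeal M (x - y)) : red M x = red M y := by
  haveI hMp : M.IsPrime := hMax.isPrime
  have h1 : x = (x - y) + y := by ring
  rw [h1, red_add (memLocalRing_sub hx hy) hy,
    (red_eq_zero_iff (memLocalRing_sub hx hy)).2 h, zero_add]

section Nilpotent

variable (N : Subgroup G) [Fintype N]

/-- **Nilpotency criterion**: a class function on the subgroup `N` with local-integer values all
of whose central character values lie in the local ideal reduces to a nilpotent element of the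
modular group algebra. -/
theorem isNilpotent_redAlg_ext0 {z : N → ℂ} (hz : IsClassFunction N z)
    (hzR : ∀ n, MemLocalRing M (z n))
    (hω : ∀ φ : IrrCharacter N, MemLocalIdeal M (omega (φ : N → ℂ) z)) :
    IsNilpotent (redAlg M (ext0 N z)) := by
  classical
  haveI hMp : M.IsPrime := hMax.isPrime
  letI : Fintype (IrrCharacter N) := irrFintype
  obtain ⟨c, hc⟩ : ∃ c : IrrCharacter N → ℂ,
      c = fun φ : IrrCharacter N => omega (φ : N → ℂ) z := ⟨_, rfl⟩
  have hcz : synth c = z := by
    funext n
    rw [hc]
    exact synth_omega hz n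
  have hcint : IsIntegralVec M c := by
    rw [hc]
    exact isIntegralVec_omega hz hzR
  have hcR : ∀ φ, MemLocalRing M (c φ) := by
    intro φ
    rw [hc]
    exact memLocalRing_omega φ hz hzR
  have hcI : ∀ φ, MemLocalIdeal M (c φ) := by
    intro φ
    rw [hc]
    exact hω φ
  -- the factors
  obtain ⟨d, hd⟩ : ∃ d : IrrCharacter N → IrrCharacter N → ℂ,
      d = fun φ => c - fun _ : IrrCharacter N => c φ := ⟨_, rfl⟩
  have hdint : ∀ φ, IsIntegralVec M (d φ) := by
    intro φ
    rw [hd]
    exact IsIntegralVec.sub hcint (isIntegralVec_const (hcR φ))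
  have hext0R : ∀ {a : N → ℂ}, (∀ n, MemLocalRing M (a n)) → ∀ g, MemLocalRing M (ext0 N a g) := by
    intro a ha g
    by_cases hg : g ∈ N
    · rw [ext0_of_mem N a hg]
      exact ha _
    · rw [ext0_of_not_mem N a hg]
      exact memLocalRing_zero ne_top
  -- each factor reduces to the same element
  have hfac : ∀ φ, redAlg M (ext0 N (synth (d φ))) = redAlg M (ext0 N z) := by
    intro φ
    apply redAlg_congr
    intro g
    by_cases hg : g ∈ N
    · rw [ext0_of_mem N _ hg, ext0_of_mem N _ hg]
      apply red_eq_of_sub_mem (hdint φ _) (hzR _)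
      have h1 : synth (d φ) ⟨g, hg⟩ - z ⟨g, hg⟩ =
          - (c φ * synth (fun _ : IrrCharacter N => (1 : ℂ)) ⟨g, hg⟩) := by
        rw [hd, synth_sub, hcz]
        have h2 : (fun _ : IrrCharacter N => c φ) = c φ • (fun _ : IrrCharacter N => (1 : ℂ)) := by
          funext ψ
          simp
        rw [h2, synth_smul]
        ring
      rw [h1]
      exact memLocalIdeal_neg (memLocalIdeal_mul_right (hcI φ) (isIntegralVec_one _))
    · rw [ext0_of_not_mem N _ hg, ext0_of_not_mem N _ hg]
  -- powers
  have key : ∀ S : Finset (IrrCharacter N),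
      redAlg M (ext0 N z) ^ S.card = redAlg M (ext0 N (synth (∏ φ ∈ S, d φ))) := by
    intro S
    induction S using Finset.induction_on with
    | empty =>
      rw [Finset.card_empty, pow_zero, Finset.prod_empty]
      have h1 : ext0 N (synth (1 : IrrCharacter N → ℂ)) =
          (fun g : G => if g = 1 then (1 : ℂ) else 0) := by
        funext g
        by_cases hg : g ∈ N
        · rw [ext0_of_mem N _ hg]
          have h2 : (1 : IrrCharacter N → ℂ) = fun _ => (1 : ℂ) := rfl
          rw [h2, synth_one]
          by_cases h1 : g = 1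
          · subst h1
            rw [if_pos rfl, if_pos (show (⟨1, hg⟩ : N) = 1 from rfl)]
          · rw [if_neg h1, if_neg]
            intro h
            exact h1 (congrArg Subtype.val h)
        · rw [ext0_of_not_mem N _ hg, if_neg]
          intro h
          apply hg
          rw [h]
          exact N.one_mem
      rw [h1]
      exact (redAlg_delta (G := G) (M := M)).symm
    | insert φ S hφ ih =>
      rw [Finset.card_insert_of_notMem hφ, pow_succ', ih, Finset.prod_insert hφ, ← hfac φ,
        ← redAlg_conv (hext0R (hdint φ)) (hext0R (isIntegralVec_prod S d fun ψ _ => hdint ψ)),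
        conv_ext0, conv_synth]
  refine ⟨(Finset.univ : Finset (IrrCharacter N)).card, ?_⟩
  rw [key]
  have h0 : (∏ φ : IrrCharacter N, d φ) = 0 := by
    funext ψ
    rw [Finset.prod_apply, Pi.zero_apply]
    apply Finset.prod_eq_zero (Finset.mem_univ ψ)
    rw [hd]
    simp
  rw [h0]
  have h1 : ext0 N (synth (0 : IrrCharacter N → ℂ)) = fun _ : G => (0 : ℂ) := by
    funext g
    by_cases hg : g ∈ N
    · rw [ext0_of_mem N _ hg, synth_zero]
    · rw [ext0_of_not_mem N _ hg]
  rw [h1, redAlg_zero]

end Nilpotent

end Cfsg.Agent.Helper5.KG
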