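import Mathlib
import Cfsg.Agent.Lib.Helper5.KGRed
import Cfsg.Agent.Lib.Helper23.BlockCount
import Cfsg.Agent.Lib.Helper23.BlockDefectGroup2
import Cfsg.Agent.Lib.Helper18.BlockCover

/-!
# A block idempotent is not in the graded radical relative to a normal subgroup
(helper5's library)

`exists_omega_not_mem`: for a block `B` of `G` and a normal subgroup `N` there are an
`N`-invariant coefficient function `y` with local-integer values and an irreducible character
`φ` of `N` such that the central character of `φ` does not vanish modulo the local ideal on the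
restriction to `N` of `e_B * y`.

`omega_res_conv_eq_zero`: that central character value is zero when no member of `B` lies over `φ`.
-/

set_option autoImplicit false

namespace Cfsg.Agent.Helper5.KG

open Cfsg Cfsg.Agent.Helper23.Blk Cfsg.Agent.Helper24 Cfsg.Agent.Helper18

universe u

variable {G : Type u} [Group G] [Fintype G] {M : Ideal AlgInt} {p : ℕ}

section Invariant

variable (N : Subgroup G) [hN : N.Normal]

/-- the convolution of a class function with an `N`-invariant function is `N`-invariant -/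
theorem conv_conj_of_invariant {a y : G → ℂ} (ha : IsClassFunction G a)
    (hy : ∀ n ∈ N, ∀ g : G, y (n * g * n⁻¹) = y g) {m : G} (hm : m ∈ N) (g : G) :
    conv a y (m * g * m⁻¹) = conv a y g := by
  rw [conv_apply, conv_apply]
  symm
  apply Fintype.sum_equiv (MulAut.conj m).toEquiv
  intro h
  simp only [MulEquiv.toEquiv_eq_coe, MulEquiv.coe_toEquiv, MulAut.conj_apply]
  rw [ha h m]
  have h1 : (m * h * m⁻¹)⁻¹ * (m * g * m⁻¹) = m * (h⁻¹ * g) * m⁻¹ := by group
  rw [h1, hy m hm]

theorem isClassFunction_res_conv [Fintype N] {a y : G → ℂ} (ha : IsClassFunction G a)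
    (hy : ∀ n ∈ N, ∀ g : G, y (n * g * n⁻¹) = y g) :
    IsClassFunction N (fun n : N => conv a y (n : G)) := by
  intro n m
  show conv a y ((m * n * m⁻¹ : N) : G) = conv a y (n : G)
  rw [Subgroup.coe_mul, Subgroup.coe_mul, Subgroup.coe_inv]
  exact conv_conj_of_invariant N ha hy m.2 _

end Invariant

section Radical

variable (N : Subgroup G) [hN : N.Normal] [Fintype N]

/-- **A block idempotent is not in the graded radical.** -/
theorem exists_omega_not_mem (hM : IsPModular p M) {B : Set (IrrCharacter G)}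
    (hB : IsPBlock M B) :
    ∃ y : G → ℂ, (∀ n ∈ N, ∀ g : G, y (n * g * n⁻¹) = y g) ∧ (∀ g, MemLocalRing M (y g)) ∧
      ∃ φ : IrrCharacter N, ¬ MemLocalIdeal M
        (omega (φ : N → ℂ) (fun n : N => conv (blockCoeff B) y (n : G))) := by
  classical
  haveI hMax : M.IsMaximal := hM.2.1
  haveI hMp : M.IsPrime := hM.2.1.isPrime
  by_contra hcon
  push Not at hcon
  have hloc : ∀ g : G, MemLocalRing M (blockCoeff B g) :=
    fun g => memLocalRing_blockCoeff hMp hB g
  have hcl : IsClassFunction G (blockCoeff B) := fun g x => blockCoeff_conj B g x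
  obtain ⟨E, hE⟩ : ∃ E : MonoidAlgebra (AlgInt ⧸ M) G, E = redAlg M (blockCoeff B) := ⟨_, rfl⟩
  have hidem : E * E = E := by
    rw [hE, ← redAlg_conv hloc hloc, conv_blockCoeff hB hB, if_pos rfl]
  have hinv : NInv N E := by
    intro n _ g
    rw [hE, coeff_redAlg, coeff_redAlg, blockCoeff_conj]
  have hne : E ≠ 0 := by
    obtain ⟨g₀, hg₀⟩ := exists_isDefectClass hMp hB
    intro h0
    have h1 : E.coeff g₀ = 0 := by
      rw [h0, MonoidAlgebra.coeff_zero, Finsupp.zero_apply]
    rw [hE, coeff_redAlg, red_eq_zero_iff (hloc g₀)] at h1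
    exact hg₀.2.1 h1
  apply hne
  apply eq_zero_of_graded_nil N E hidem hinv
  intro t y hy1 hy2
  rw [comp_mul_of_homDeg N E hy2]
  -- lift `y`
  obtain ⟨y', hy'⟩ : ∃ y' : G → ℂ, ∀ g, MemLocalRing M (y' g) ∧ red M (y' g) = y.coeff g :=
    ⟨fun g => (exists_red_eq (M := M) (y.coeff g)).choose,
      fun g => (exists_red_eq (M := M) (y.coeff g)).choose_spec⟩
  -- make the lift invariant: choose it as a function of the value
  obtain ⟨lift, hlift⟩ : ∃ lift : AlgInt ⧸ M → ℂ, ∀ x, MemLocalRing M (lift x) ∧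
      red M (lift x) = x :=
    ⟨fun x => (exists_red_eq (M := M) x).choose, fun x => (exists_red_eq (M := M) x).choose_spec⟩
  obtain ⟨w, hw⟩ : ∃ w : G → ℂ, w = fun g => lift (y.coeff g) := ⟨_, rfl⟩
  have hwR : ∀ g, MemLocalRing M (w g) := by
    intro g
    rw [hw]
    exact (hlift _).1
  have hwinv : ∀ n ∈ N, ∀ g : G, w (n * g * n⁻¹) = w g := by
    intro n hn g
    rw [hw]
    show lift (y.coeff (n * g * n⁻¹)) = lift (y.coeff g)
    rw [hy1 n hn g]
  have hwy : redAlg M w = y := by
    apply ext_coeff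
    intro g
    rw [coeff_redAlg, hw]
    exact (hlift _).2
  have hEy : E * y = redAlg M (conv (blockCoeff B) w) := by
    rw [hE, ← hwy, redAlg_conv hloc hwR]
  have hconvR : ∀ g, MemLocalRing M (conv (blockCoeff B) w g) := by
    intro g
    rw [conv_apply]
    exact memLocalRing_sum _ _ fun h _ => memLocalRing_mul (hloc h) (hwR _)
  have hcomp : comp N (1 : G ⧸ N) (E * y) =
      redAlg M (ext0 N (fun n : N => conv (blockCoeff B) w (n : G))) := by
    apply ext_coeff
    intro g
    by_cases hg : g ∈ N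
    · have hg1 : (g : G ⧸ N) = 1 := (QuotientGroup.eq_one_iff g).2 hg
      rw [coeff_comp_of_eq N _ hg1, hEy, coeff_redAlg, coeff_redAlg, ext0_of_mem N _ hg]
    · have hg1 : (g : G ⧸ N) ≠ 1 := fun h => hg ((QuotientGroup.eq_one_iff g).1 h)
      rw [coeff_comp_of_ne N _ hg1, coeff_redAlg, ext0_of_not_mem N _ hg, red_zero]
  rw [hcomp]
  apply isNilpotent_redAlg_ext0 N (isClassFunction_res_conv N hcl hwinv)
    (fun n => hconvR _)
  intro φ
  exact hcon w hwinv hwR φ

end Radical

section Vanish

variable (N : Subgroup G) [hN : N.Normal] [Fintype N]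

/-- If no member of `B` lies over `φ`, the central character of `φ` vanishes on the restriction
to `N` of `e_B * y`. -/
theorem omega_res_conv_eq_zero {B : Set (IrrCharacter G)} (φ : IrrCharacter N)
    (hφ : ∀ χ ∈ B, classInner (fun n : N => (χ : G → ℂ) n) (φ : N → ℂ) = 0) {y : G → ℂ}
    (hy : ∀ n ∈ N, ∀ g : G, y (n * g * n⁻¹) = y g) :
    omega (φ : N → ℂ) (fun n : N => conv (blockCoeff B) y (n : G)) = 0 := by
  classical
  letI : Fintype (IrrCharacter G) := irrFintype
  letI : Fintype (IrrCharacter N) := irrFintype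
  obtain ⟨U, hU⟩ : ∃ U : Set (IrrCharacter N), U = orbitSet N {φ} := ⟨_, rfl⟩
  have hUst : ∀ g : G, ∀ θ ∈ U, conjIrr N g θ ∈ U := by
    intro g θ hθ
    rw [hU] at hθ ⊢
    exact conjIrr_mem_orbitSet N g hθ
  have hφU : φ ∈ U := by
    rw [hU]
    exact subset_orbitSet N {φ} rfl
  obtain ⟨A, hA⟩ : ∃ A : Set (IrrCharacter G), A = overSet N U := ⟨_, rfl⟩
  have hAB : ∀ χ : IrrCharacter G, χ ∈ A → χ ∉ B := by
    intro χ hχA hχB
    rw [hA, hU] at hχA
    obtain ⟨θ, hθ, hne⟩ := exists_mem_of_mem_overSet N hχA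
    rw [Set.mem_singleton_iff] at hθ
    subst hθ
    exact hne (hφ χ hχB)
  -- the product of the two idempotents vanishes
  have hprod : conv (blockCoeff A) (blockCoeff B) = 0 := by
    funext g
    rw [conv_apply]
    have h1 : ∀ h : G, blockCoeff A h * blockCoeff B (h⁻¹ * g) =
        synth (fun χ => if χ ∈ A then (1 : ℂ) else 0) h *
          synth (fun χ => if χ ∈ B then (1 : ℂ) else 0) (h⁻¹ * g) := by
      intro h
      rw [blockCoeff_eq_synth, blockCoeff_eq_synth]
    rw [Finset.sum_congr rfl (fun h _ => h1 h), synth_conv]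
    have h2 : ((fun χ : IrrCharacter G => if χ ∈ A then (1 : ℂ) else 0) *
        fun χ => if χ ∈ B then (1 : ℂ) else 0) = 0 := by
      funext χ
      rw [Pi.mul_apply, Pi.zero_apply]
      by_cases hχ : χ ∈ A
      · rw [if_neg (hAB χ hχ), mul_zero]
      · rw [if_neg hχ, zero_mul]
    rw [h2, synth_zero, Pi.zero_apply]
  -- restrict to `N`
  obtain ⟨w, hw⟩ : ∃ w : G → ℂ, w = conv (blockCoeff B) y := ⟨_, rfl⟩
  have hAw : conv (blockCoeff A) w = 0 := by
    rw [hw, ← conv_assoc, hprod]
    funext g
    rw [conv_apply]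
    simp
  have hAext : ∀ g : G, blockCoeff A g = ext0 N (blockCoeff U) g := by
    intro g
    rw [hA, blockCoeff_overSet N hUst g]
    by_cases hg : g ∈ N
    · rw [dif_pos hg, ext0_of_mem N _ hg]
    · rw [dif_neg hg, ext0_of_not_mem N _ hg]
  have hres : conv (blockCoeff U) (fun n : N => w (n : G)) = 0 := by
    funext n
    have h1 := congrFun hAw (n : G)
    rw [conv_apply, Pi.zero_apply] at h1
    rw [conv_apply, Pi.zero_apply, ← h1,
      sum_eq_sum_subgroup N (fun h => blockCoeff A h * w (h⁻¹ * (n : G)))]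
    · apply Finset.sum_congr rfl
      intro m _
      rw [hAext, ext0_coe]
      rfl
    · intro x hx
      rw [hAext, ext0_of_not_mem N _ hx, zero_mul]
  -- apply the central character
  have hUcl : IsClassFunction N (blockCoeff U) := fun n m => blockCoeff_conj U n m
  have hUω : omega (φ : N → ℂ) (blockCoeff U) = 1 := by
    have h1 : blockCoeff U = synth (fun θ : IrrCharacter N => if θ ∈ U then (1 : ℂ) else 0) := by
      funext n
      rw [blockCoeff_eq_synth]
    rw [h1, omega_synth, if_pos hφU]
  have hBcl : IsClassFunction G (blockCoeff B) := fun g x => blockCoeff_conj B g x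
  have hzcl : IsClassFunction N (fun n : N => w (n : G)) := by
    rw [hw]
    exact isClassFunction_res_conv N hBcl hy
  have h3 := omega_conv φ hUcl hzcl
  rw [hres, hUω, one_mul] at h3
  rw [← hw, ← h3]
  unfold omega
  simp

end Vanish

end Cfsg.Agent.Helper5.KG
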