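import Mathlib
import Cfsg.Agent.Lib.Helper5.HKFirstMain
import Cfsg.Agent.S4671

/-!
# Pieces of the Harris–Knörr correspondence (helper5)
-/

set_option autoImplicit false

namespace Cfsg.Agent.Helper5.HK

open Cfsg Cfsg.Agent.Helper24 Cfsg.Agent.Helper23.Blk Cfsg.Agent.Helper18

universe u

section Knorr

variable {G : Type u} [Group G] [Fintype G] {M : Ideal AlgInt} {p : ℕ} [Fact p.Prime]

theorem inf_subgroupOf_normal (N H : Subgroup G) [hN : N.Normal] :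
    ((H ⊓ N).subgroupOf H).Normal := by
  have h1 : (H ⊓ N).subgroupOf H = N.subgroupOf H := by
    ext x
    rw [Subgroup.mem_subgroupOf, Subgroup.mem_subgroupOf, Subgroup.mem_inf]
    exact ⟨fun h => h.2, fun h => ⟨x.2, h⟩⟩
  rw [h1]
  infer_instance

/-- the relative covering relation read in the group `H` -/
theorem cover_rel (H L : Subgroup G) [Fintype L] (hLH : L ≤ H) [Fintype (L.subgroupOf H)]
    (σ : L.subgroupOf H ≃* L) (hσ : ∀ x, ((σ x : L) : G) = ((x : H) : G))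
    (ψ : H → ℂ) (ξ : L → ℂ) :
    classInner (fun n : L.subgroupOf H => ψ n) (ξ ∘ σ) =
      classInner (fun l : L => ψ (Subgroup.inclusion hLH l)) ξ := by
  have h1 := Cfsg.Agent.Helper5.classInner_comp_equiv σ
    (fun l : L => ψ (Subgroup.inclusion hLH l)) ξ
  rw [← h1]
  congr 1
  funext n
  rw [Function.comp_apply]
  congr 1
  apply Subtype.ext
  rw [Subgroup.coe_inclusion, hσ]

/-- **Knörr's theorem read in a subgroup**: a block of `H` covering the block `e` of `H ∩ N`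
with defect group `Q` has a defect group meeting `N` in `Q` -/
theorem knorr_rel (hM : IsPModular p M) (N : Subgroup G) [hN : N.Normal] (H : Subgroup G)
    [Fintype ↥(H ⊓ N)] (Q : Subgroup G) (hQH : Q ≤ H) (hQN : Q ≤ N)
    {e : Set (IrrCharacter ↥(H ⊓ N))} (he : IsPBlock M e)
    (heQ : IsDefectGroup p M e (Q.subgroupOf (H ⊓ N)))
    {c : Set (IrrCharacter H)} (hc : IsPBlock M c)
    (hcov : ∃ ψ ∈ c, ∃ ξ ∈ e,
      classInner (fun l : ↥(H ⊓ N) => (ψ : H → ℂ) (Subgroup.inclusion inf_le_left l))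
        (ξ : ↥(H ⊓ N) → ℂ) ≠ 0) :
    ∃ P : Subgroup G, P ≤ H ∧ IsDefectGroup p M c (P.subgroupOf H) ∧ P ⊓ N = Q := by
  classical
  haveI : Fintype H := Fintype.ofFinite H
  haveI : Fintype ((H ⊓ N).subgroupOf H) := Fintype.ofFinite _
  haveI : ((H ⊓ N).subgroupOf H).Normal := inf_subgroupOf_normal N H
  obtain ⟨σ, hσ⟩ : ∃ σ : (H ⊓ N).subgroupOf H ≃* ↥(H ⊓ N),
      ∀ x, ((σ x : ↥(H ⊓ N)) : G) = ((x : H) : G) :=
    ⟨Subgroup.subgroupOfEquivOfLe inf_le_left, fun _ => rfl⟩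
  have he' : IsPBlock M (irrComp σ '' e) := isPBlock_image_irrComp σ he
  have hQ' : IsDefectGroup p M (irrComp σ '' e)
      ((Q.subgroupOf H).subgroupOf ((H ⊓ N).subgroupOf H)) := by
    have h1 := isDefectGroup_image_irrComp hM σ he heQ
    have h2 : (Q.subgroupOf (H ⊓ N)).map σ.symm.toMonoidHom =
        (Q.subgroupOf H).subgroupOf ((H ⊓ N).subgroupOf H) := by
      ext y
      rw [Subgroup.mem_map_equiv, Subgroup.mem_subgroupOf, Subgroup.mem_subgroupOf,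
        Subgroup.mem_subgroupOf, MulEquiv.symm_symm, hσ]
    rw [h2] at h1
    exact h1
  have hQle : Q.subgroupOf H ≤ (H ⊓ N).subgroupOf H := by
    intro y hy
    rw [Subgroup.mem_subgroupOf] at hy ⊢
    exact ⟨y.2, hQN hy⟩
  obtain ⟨ψ, hψ, ξ, hξ, hcon⟩ := hcov
  have hcov' : ∃ ψ' ∈ c, ∃ θ ∈ irrComp σ '' e,
      classInner (fun n : (H ⊓ N).subgroupOf H => (ψ' : H → ℂ) n)
        (θ : (H ⊓ N).subgroupOf H → ℂ) ≠ 0 := by
    refine ⟨ψ, hψ, irrComp σ ξ, ⟨ξ, hξ, rfl⟩, ?_⟩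
    rw [show ((irrComp σ ξ : IrrCharacter ((H ⊓ N).subgroupOf H)) :
      (H ⊓ N).subgroupOf H → ℂ) = (ξ : ↥(H ⊓ N) → ℂ) ∘ σ from rfl,
      cover_rel H (H ⊓ N) inf_le_left σ hσ]
    exact hcon
  obtain ⟨P', hP', hPinf⟩ := Cfsg.Agent.S4438.result p M hM ((H ⊓ N).subgroupOf H)
    (irrComp σ '' e) he' (Q.subgroupOf H) hQle hQ' c hc hcov'
  refine ⟨P'.map H.subtype, ?_, ?_, ?_⟩
  · rintro _ ⟨y, -, rfl⟩
    exact y.2
  · have h1 : (P'.map H.subtype).subgroupOf H = P' :=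
      Subgroup.comap_map_eq_self_of_injective (Subgroup.subtype_injective H) P'
    rw [h1]
    exact hP'
  · ext x
    constructor
    · rintro ⟨⟨y, hy, rfl⟩, hxN⟩
      have h0 : y ∈ (H ⊓ N).subgroupOf H := by
        rw [Subgroup.mem_subgroupOf]
        exact ⟨y.2, hxN⟩
      have h1 : y ∈ P' ⊓ (H ⊓ N).subgroupOf H := ⟨hy, h0⟩
      rw [hPinf, Subgroup.mem_subgroupOf] at h1
      exact h1
    · intro hx
      have h1 : (⟨x, hQH hx⟩ : H) ∈ Q.subgroupOf H := by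
        rw [Subgroup.mem_subgroupOf]
        exact hx
      rw [← hPinf] at h1
      exact ⟨⟨⟨x, hQH hx⟩, h1.1, rfl⟩, hQN hx⟩

/-- if `P ∩ N = Q` with `N` normal then `N_G(P) ≤ N_G(Q)` -/
theorem normalizer_le_of_inf_eq (N P Q : Subgroup G) [hN : N.Normal] (h : P ⊓ N = Q) :
    Subgroup.normalizer (P : Set G) ≤ Subgroup.normalizer (Q : Set G) := by
  intro g hg
  rw [Subgroup.mem_normalizer_iff] at hg ⊢
  intro x
  rw [← h, Subgroup.mem_inf, Subgroup.mem_inf, ← hg x]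
  constructor
  · rintro ⟨h1, h2⟩
    exact ⟨h1, hN.conj_mem x h2 g⟩
  · rintro ⟨h1, h2⟩
    refine ⟨h1, ?_⟩
    have h3 := hN.conj_mem _ h2 g⁻¹
    have e : g⁻¹ * (g * x * g⁻¹) * g⁻¹⁻¹ = x := by group
    rwa [e] at h3

end Knorr

section RelInduce

variable {G : Type u} [Group G] [Fintype G] {M : Ideal AlgInt} {p : ℕ} [Fact p.Prime]

/-- a block of `L ≤ N` whose defect group has its `N`-centralizer inside `L` induces a block of
`N`, some defect group of which contains the defect group of the block of `L` -/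
theorem induced_rel_defined (hM : IsPModular p M) (N L : Subgroup G) [Fintype N] [Fintype L]
    (hLN : L ≤ N) {e₁ : Set (IrrCharacter L)} (he₁ : IsPBlock M e₁) {D₁ : Subgroup L}
    (hD₁ : IsDefectGroup p M e₁ D₁)
    (hC : ∀ z ∈ N, (∀ x ∈ D₁.map L.subtype, z * x = x * z) → z ∈ L) :
    ∃ d₁ : Set (IrrCharacter N), IsInducedBlockIn M N L e₁ d₁ ∧
      ∃ D : Subgroup N, IsDefectGroup p M d₁ D ∧ (D₁.map L.subtype).subgroupOf N ≤ D := by
  classical
  haveI : Fintype (L.subgroupOf N) := Fintype.ofFinite _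
  obtain ⟨τ, hτ⟩ : ∃ τ : L.subgroupOf N ≃* L, ∀ x, ((τ x : L) : G) = ((x : N) : G) :=
    ⟨Subgroup.subgroupOfEquivOfLe hLN, fun _ => rfl⟩
  have he₁' : IsPBlock M (irrComp τ '' e₁) := isPBlock_image_irrComp τ he₁
  have hD₁' := isDefectGroup_image_irrComp hM τ he₁ hD₁
  have hmem : ∀ y : L, y ∈ D₁ →
      ∃ w : N, w ∈ (D₁.map τ.symm.toMonoidHom).map (L.subgroupOf N).subtype ∧
        (w : G) = (y : G) := by
    intro y hy
    refine ⟨((τ.symm y : L.subgroupOf N) : N), ⟨τ.symm y, ⟨y, hy, rfl⟩, rfl⟩, ?_⟩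
    rw [← hτ, τ.apply_symm_apply]
  have hC' : Subgroup.centralizer (((D₁.map τ.symm.toMonoidHom).map
      (L.subgroupOf N).subtype : Subgroup N) : Set N) ≤ L.subgroupOf N := by
    intro z hz
    rw [Subgroup.mem_subgroupOf]
    apply hC (z : G) z.2
    rintro _ ⟨y, hy, rfl⟩
    obtain ⟨w, hw, hwy⟩ := hmem y hy
    rw [Subgroup.mem_centralizer_iff] at hz
    have h1 := hz w hw
    have h2 := congrArg Subtype.val h1
    rw [Subgroup.coe_mul, Subgroup.coe_mul, hwy] at h2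
    exact h2.symm
  obtain ⟨⟨d₁, hd₁⟩, hall⟩ := Cfsg.Agent.S4726.result p M hM (L.subgroupOf N)
    (irrComp τ '' e₁) he₁' _ hD₁' hC'
  obtain ⟨⟨D, hD, -, -, hle⟩, -⟩ := hall d₁ hd₁
  refine ⟨d₁, (isInducedBlock_rel_iff N _ _ τ hτ).1 hd₁, D, hD, ?_⟩
  intro y' hy'
  rw [Subgroup.mem_subgroupOf] at hy'
  obtain ⟨y, hy, hyy'⟩ := hy'
  obtain ⟨w, hw, hwy⟩ := hmem y hy
  have h1 : w = y' := Subtype.ext (hwy.trans hyy')
  rw [← h1]
  exact hle hw

end RelInduce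

section Conj

variable {G : Type u} [Group G]

/-- conjugation by an element normalizing the subgroup `L`, as an automorphism of `L` -/
def conjEquiv (L : Subgroup G) (h : G) (h1 : ∀ l ∈ L, h * l * h⁻¹ ∈ L)
    (h2 : ∀ l ∈ L, h⁻¹ * l * h ∈ L) : L ≃* L where
  toFun l := ⟨h * l * h⁻¹, h1 l l.2⟩
  invFun l := ⟨h⁻¹ * l * h, h2 l l.2⟩
  left_inv l := by
    apply Subtype.ext
    show h⁻¹ * (h * (l : G) * h⁻¹) * h = (l : G)
    group
  right_inv l := by
    apply Subtype.ext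
    show h * (h⁻¹ * (l : G) * h) * h⁻¹ = (l : G)
    group
  map_mul' a b := by
    apply Subtype.ext
    show h * ((a : G) * (b : G)) * h⁻¹ = (h * (a : G) * h⁻¹) * (h * (b : G) * h⁻¹)
    group

theorem conjEquiv_coe (L : Subgroup G) (h : G) (h1 : ∀ l ∈ L, h * l * h⁻¹ ∈ L)
    (h2 : ∀ l ∈ L, h⁻¹ * l * h ∈ L) (l : L) :
    ((conjEquiv L h h1 h2 l : L) : G) = h * (l : G) * h⁻¹ := rfl

variable [Fintype G] {M : Ideal AlgInt}

/-- conjugating both blocks preserves relative induction -/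
theorem isInducedBlockIn_conj (N L : Subgroup G) [hN : N.Normal] (hLN : L ≤ N) (h : G)
    (h1 : ∀ l ∈ L, h * l * h⁻¹ ∈ L) (h2 : ∀ l ∈ L, h⁻¹ * l * h ∈ L)
    {e : Set (IrrCharacter L)} {d : Set (IrrCharacter N)} (hed : IsInducedBlockIn M N L e d) :
    IsInducedBlockIn M N L (irrComp (conjEquiv L h h1 h2) '' e)
      (irrComp (MulAut.conjNormal h : MulAut N) '' d) := by
  refine ⟨isPBlock_image_irrComp _ hed.1, isPBlock_image_irrComp _ hed.2.1, ?_⟩
  rintro _ ⟨ξ, hξ, rfl⟩ _ ⟨θ, hθ, rfl⟩ n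
  obtain ⟨ρ, hρ⟩ : ∃ ρ : L ≃* L, ρ = conjEquiv L h h1 h2 := ⟨_, rfl⟩
  obtain ⟨γ, hγ⟩ : ∃ γ : N ≃* N, γ = (MulAut.conjNormal h : MulAut N) := ⟨_, rfl⟩
  have hρc : ∀ l : L, ((ρ l : L) : G) = h * (l : G) * h⁻¹ := by
    intro l
    rw [hρ]
    rfl
  have hγc : ∀ x : N, ((γ x : N) : G) = h * (x : G) * h⁻¹ := by
    intro x
    rw [hγ]
    exact MulAut.conjNormal_apply h x
  rw [← hρ, ← hγ]
  have e1 : inducedCentralCharIn N L ((irrComp ρ ξ : IrrCharacter L) : L → ℂ) (n : G) =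
      inducedCentralCharIn N L (ξ : L → ℂ) ((γ n : N) : G) := by
    unfold inducedCentralCharIn
    have hS : {k : L | ∃ x : N, (x : G) * (k : G) * (x : G)⁻¹ = ((γ n : N) : G)} =
        ρ '' {k : L | ∃ x : N, (x : G) * (k : G) * (x : G)⁻¹ = (n : G)} := by
      ext k
      constructor
      · rintro ⟨x, hx⟩
        refine ⟨ρ.symm k, ⟨γ.symm x, ?_⟩, ρ.apply_symm_apply k⟩
        have hk : (k : G) = h * ((ρ.symm k : L) : G) * h⁻¹ := by
          rw [← hρc, ρ.apply_symm_apply]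
        have hx' : (x : G) = h * ((γ.symm x : N) : G) * h⁻¹ := by
          rw [← hγc, γ.apply_symm_apply]
        rw [hγc, hk, hx'] at hx
        have e2 : h * ((γ.symm x : N) : G) * h⁻¹ * (h * ((ρ.symm k : L) : G) * h⁻¹) *
            (h * ((γ.symm x : N) : G) * h⁻¹)⁻¹ =
            h * (((γ.symm x : N) : G) * ((ρ.symm k : L) : G) * ((γ.symm x : N) : G)⁻¹) * h⁻¹ := by
          group
        rw [e2] at hx
        exact mul_left_cancel (mul_right_cancel hx)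
      · rintro ⟨k', ⟨x, hx⟩, rfl⟩
        refine ⟨γ x, ?_⟩
        rw [hγc, hγc, hρc, ← hx]
        group
    rw [hS, finsum_mem_image (ρ.injective.injOn)]
    apply finsum_mem_congr rfl
    intro k _
    rw [irrComp_apply, irrComp_apply, map_one]
  rw [e1, show ((irrComp γ θ : IrrCharacter N) : N → ℂ) = (θ : N → ℂ) ∘ γ from rfl,
    Cfsg.Agent.Helper23.Blk.centralChar_comp_equiv]
  exact hed.2.2 ξ hξ θ hθ (γ n)

/-- covering is unchanged by conjugating the covered character by an element of `H` -/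
theorem classInner_conj_rel (H L : Subgroup G) [Fintype L] (hLH : L ≤ H) (h : G) (hh : h ∈ H)
    (h1 : ∀ l ∈ L, h * l * h⁻¹ ∈ L) (h2 : ∀ l ∈ L, h⁻¹ * l * h ∈ L) {ψ : H → ℂ}
    (hψ : IsClassFunction H ψ) (ξ : L → ℂ) :
    classInner (fun l : L => ψ (Subgroup.inclusion hLH l)) (ξ ∘ conjEquiv L h h1 h2) =
      classInner (fun l : L => ψ (Subgroup.inclusion hLH l)) ξ := by
  have e1 := Cfsg.Agent.Helper5.classInner_comp_equiv (conjEquiv L h h1 h2)
    (fun l : L => ψ (Subgroup.inclusion hLH l)) ξ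
  rw [← e1]
  congr 1
  funext l
  rw [Function.comp_apply]
  have e2 : Subgroup.inclusion hLH (conjEquiv L h h1 h2 l) =
      (⟨h, hh⟩ : H) * Subgroup.inclusion hLH l * (⟨h, hh⟩ : H)⁻¹ := by
    apply Subtype.ext
    rfl
  rw [e2, hψ]

end Conj

end Cfsg.Agent.Helper5.HK
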