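import Mathlib

/-!
# An irregular 3-group with a Frobenius-type action (for S3439)

`AG L` is the group `1 + J` for a graded nilpotent algebra `J = L² ⊕ L⁴ ⊕ L` over a field `L`
of characteristic 3 in which `x ^ 81 = x`.
-/

namespace Cfsg.Agent.Helper5.IsoSpec

/-- The facts about the field with 81 elements that we use. -/
class IsF81 (L : Type) [Field L] : Prop where
  three : (3 : L) = 0
  pow81 : ∀ x : L, x ^ 81 = x
  exists_u : ∃ u : L, u ^ 9 ≠ u
  exists_zeta : ∃ z : L, z ^ 5 = 1 ∧ z ≠ 1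

variable {L : Type} [Field L] [IsF81 L]

/-- cubing (the Frobenius map) -/
def fr (x : L) : L := x ^ 3

omit [IsF81 L] in
theorem fr_def (x : L) : fr x = x ^ 3 := rfl

theorem fr_add (x y : L) : fr (x + y) = fr x + fr y := by
  have h3 : (3 : L) = 0 := IsF81.three
  simp only [fr_def]
  linear_combination (x ^ 2 * y + x * y ^ 2) * h3

omit [IsF81 L] in
theorem fr_mul (x y : L) : fr (x * y) = fr x * fr y := by
  simp only [fr_def]; ring

omit [IsF81 L] in
theorem fr_neg (x : L) : fr (-x) = - fr x := by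
  simp only [fr_def]; ring

omit [IsF81 L] in
@[simp] theorem fr_zero : fr (0 : L) = 0 := by simp [fr_def]

omit [IsF81 L] in
@[simp] theorem fr_one : fr (1 : L) = 1 := by simp [fr_def]

theorem fr_sub (x y : L) : fr (x - y) = fr x - fr y := by
  rw [sub_eq_add_neg, fr_add, fr_neg, ← sub_eq_add_neg]

theorem fr4 (x : L) : fr (fr (fr (fr x))) = x := by
  have := IsF81.pow81 x
  simp only [fr_def]
  rw [← pow_mul, ← pow_mul, ← pow_mul]
  simpa using this

omit [IsF81 L] in
theorem fr_pow (x : L) (n : ℕ) : fr (x ^ n) = fr x ^ n := by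
  simp only [fr_def]; ring

/-- The underlying type of the group. -/
@[ext] structure AG (L : Type) where
  v : L
  w : L
  p : L
  q : L
  r : L
  s : L
  t : L

namespace AG

instance : One (AG L) := ⟨⟨0, 0, 0, 0, 0, 0, 0⟩⟩

instance : Mul (AG L) := ⟨fun a b =>
  ⟨a.v + b.v, a.w + b.w,
   a.p + b.p + a.v * fr b.v,
   a.q + b.q + fr (fr a.v) * fr b.v,
   a.r + b.r + fr a.v * fr (fr b.w),
   a.s + b.s + fr a.v * b.w,
   a.t + b.t + (a.v * b.r - fr (fr a.v) * b.s + a.p * fr (fr b.w) - a.q * b.w)⟩⟩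

instance : Inv (AG L) := ⟨fun a =>
  ⟨-a.v, -a.w,
   -a.p + a.v * fr a.v,
   -a.q + fr (fr a.v) * fr a.v,
   -a.r + fr a.v * fr (fr a.w),
   -a.s + fr a.v * a.w,
   -a.t + (a.v * a.r - fr (fr a.v) * a.s + a.p * fr (fr a.w) - a.q * a.w)
     - (a.v * fr a.v * fr (fr a.w) - fr (fr a.v) * fr a.v * a.w)⟩⟩

omit [IsF81 L] in
@[simp] theorem one_v : (1 : AG L).v = 0 := rfl
omit [IsF81 L] in
@[simp] theorem one_w : (1 : AG L).w = 0 := rfl
omit [IsF81 L] in
@[simp] theorem one_p : (1 : AG L).p = 0 := rfl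
omit [IsF81 L] in
@[simp] theorem one_q : (1 : AG L).q = 0 := rfl
omit [IsF81 L] in
@[simp] theorem one_r : (1 : AG L).r = 0 := rfl
omit [IsF81 L] in
@[simp] theorem one_s : (1 : AG L).s = 0 := rfl
omit [IsF81 L] in
@[simp] theorem one_t : (1 : AG L).t = 0 := rfl

omit [IsF81 L] in
@[simp] theorem mul_v (a b : AG L) : (a * b).v = a.v + b.v := rfl
omit [IsF81 L] in
@[simp] theorem mul_w (a b : AG L) : (a * b).w = a.w + b.w := rfl
omit [IsF81 L] in
@[simp] theorem mul_p (a b : AG L) : (a * b).p = a.p + b.p + a.v * fr b.v := rfl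
omit [IsF81 L] in
@[simp] theorem mul_q (a b : AG L) : (a * b).q = a.q + b.q + fr (fr a.v) * fr b.v := rfl
omit [IsF81 L] in
@[simp] theorem mul_r (a b : AG L) : (a * b).r = a.r + b.r + fr a.v * fr (fr b.w) := rfl
omit [IsF81 L] in
@[simp] theorem mul_s (a b : AG L) : (a * b).s = a.s + b.s + fr a.v * b.w := rfl
omit [IsF81 L] in
@[simp] theorem mul_t (a b : AG L) : (a * b).t =
    a.t + b.t + (a.v * b.r - fr (fr a.v) * b.s + a.p * fr (fr b.w) - a.q * b.w) := rfl

omit [IsF81 L] in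
@[simp] theorem inv_v (a : AG L) : (a⁻¹).v = -a.v := rfl
omit [IsF81 L] in
@[simp] theorem inv_w (a : AG L) : (a⁻¹).w = -a.w := rfl
omit [IsF81 L] in
@[simp] theorem inv_p (a : AG L) : (a⁻¹).p = -a.p + a.v * fr a.v := rfl
omit [IsF81 L] in
@[simp] theorem inv_q (a : AG L) : (a⁻¹).q = -a.q + fr (fr a.v) * fr a.v := rfl
omit [IsF81 L] in
@[simp] theorem inv_r (a : AG L) : (a⁻¹).r = -a.r + fr a.v * fr (fr a.w) := rfl
omit [IsF81 L] in
@[simp] theorem inv_s (a : AG L) : (a⁻¹).s = -a.s + fr a.v * a.w := rfl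
omit [IsF81 L] in
@[simp] theorem inv_t (a : AG L) : (a⁻¹).t =
    -a.t + (a.v * a.r - fr (fr a.v) * a.s + a.p * fr (fr a.w) - a.q * a.w)
     - (a.v * fr a.v * fr (fr a.w) - fr (fr a.v) * fr a.v * a.w) := rfl

instance : Group (AG L) :=
  Group.ofLeftAxioms
    (by
      intro a b c
      ext <;> simp only [mul_v, mul_w, mul_p, mul_q, mul_r, mul_s, mul_t, fr_add] <;> ring)
    (by
      intro a
      ext <;> simp)
    (by
      intro a
      ext <;> simp only [mul_v, mul_w, mul_p, mul_q, mul_r, mul_s, mul_t, inv_v, inv_w, inv_p, inv_q,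
        inv_r, inv_s, inv_t, fr_neg, one_v, one_w, one_p, one_q, one_r, one_s, one_t] <;> ring)

/-- the cube of an element -/
theorem cube (a : AG L) : a ^ 3 =
    ⟨0, 0, 0, 0, 0, 0, a.v * fr a.v * fr (fr a.w) - fr (fr a.v) * fr a.v * a.w⟩ := by
  have h3 : (3 : L) = 0 := IsF81.three
  rw [pow_succ, pow_succ, pow_one]
  ext <;> simp only [mul_v, mul_w, mul_p, mul_q, mul_r, mul_s, mul_t, fr_add]
  · linear_combination a.v * h3
  · linear_combination a.w * h3
  · linear_combination (a.p + a.v * fr a.v) * h3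
  · linear_combination (a.q + fr (fr a.v) * fr a.v) * h3
  · linear_combination (a.r + fr a.v * fr (fr a.w)) * h3
  · linear_combination (a.s + fr a.v * a.w) * h3
  · linear_combination (a.t + (a.v * a.r - fr (fr a.v) * a.s + a.p * fr (fr a.w) - a.q * a.w)) * h3

theorem pow_nine (a : AG L) : a ^ 9 = 1 := by
  rw [show 9 = 3 * 3 from rfl, pow_mul, cube a, cube]
  ext <;> simp

theorem cube_eq_one_of (a : AG L) (h : fr (fr a.v) * a.w = a.v * fr (fr a.w)) : a ^ 3 = 1 := by
  rw [cube]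
  ext <;> simp only [one_v, one_w, one_p, one_q, one_r, one_s, one_t]
  linear_combination (- fr a.v) * h

end AG

end Cfsg.Agent.Helper5.IsoSpec
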