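import Mathlib
import Cfsg.Agent.Lib.Helper5.IsoSpecA

/-!
# Automorphisms of `AG L` : scalings and the Frobenius map; the acting group `Hs`
-/

namespace Cfsg.Agent.Helper5.IsoSpec

variable {L : Type} [Field L] [IsF81 L]

namespace AG

/-- scaling with weights `1,1 | 4,12,12,4 | 13` -/
def scalFun (c : L) (a : AG L) : AG L :=
  ⟨c * a.v, c * a.w, c * fr c * a.p, fr (fr c) * fr c * a.q, fr c * fr (fr c) * a.r,
    fr c * c * a.s, c * fr c * fr (fr c) * a.t⟩

omit [IsF81 L] in
theorem scalFun_mul (c : L) (a b : AG L) : scalFun c (a * b) = scalFun c a * scalFun c b := by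
  ext <;> simp only [scalFun, mul_v, mul_w, mul_p, mul_q, mul_r, mul_s, mul_t, fr_mul] <;> ring

omit [IsF81 L] in
theorem scalFun_scalFun (c d : L) (a : AG L) : scalFun c (scalFun d a) = scalFun (c * d) a := by
  ext <;> simp only [scalFun, fr_mul] <;> ring

omit [IsF81 L] in
theorem scalFun_one (a : AG L) : scalFun 1 a = a := by
  ext <;> simp [scalFun]

/-- scaling by a unit, as an automorphism -/
def scal : Lˣ →* MulAut (AG L) where
  toFun c :=
    { toFun := scalFun (c : L)
      invFun := scalFun ((c⁻¹ : Lˣ) : L)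
      left_inv := fun a => by rw [scalFun_scalFun]; simp [scalFun_one]
      right_inv := fun a => by rw [scalFun_scalFun]; simp [scalFun_one]
      map_mul' := scalFun_mul _ }
  map_one' := by
    ext a : 1
    exact scalFun_one a
  map_mul' c d := by
    ext a : 1
    show scalFun ((c * d : Lˣ) : L) a = scalFun (c : L) (scalFun (d : L) a)
    rw [scalFun_scalFun]; simp

omit [IsF81 L] in
@[simp] theorem scal_apply (c : Lˣ) (a : AG L) : scal c a = scalFun (c : L) a := rfl

/-- the Frobenius map on all coordinates -/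
def frobFun (a : AG L) : AG L :=
  ⟨fr a.v, fr a.w, fr a.p, fr a.q, fr a.r, fr a.s, fr a.t⟩

theorem frobFun_mul (a b : AG L) : frobFun (a * b) = frobFun a * frobFun b := by
  ext <;> simp only [frobFun, mul_v, mul_w, mul_p, mul_q, mul_r, mul_s, mul_t, fr_mul, fr_add, fr_sub]

theorem frobFun4 (a : AG L) : frobFun (frobFun (frobFun (frobFun a))) = a := by
  ext <;> simp only [frobFun, fr4]

/-- the Frobenius automorphism -/
def frobA : MulAut (AG L) :=
  { toFun := frobFun
    invFun := fun a => frobFun (frobFun (frobFun a))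
    left_inv := fun a => by
      have := frobFun4 a
      exact this
    right_inv := fun a => frobFun4 a
    map_mul' := frobFun_mul }

@[simp] theorem frobA_apply (a : AG L) : frobA a = frobFun a := rfl

theorem frobA_pow_four : (frobA : MulAut (AG L)) ^ 4 = 1 := by
  ext a : 1
  simp only [pow_succ, pow_zero, one_mul, MulAut.mul_apply, frobA_apply, MulAut.one_apply]
  exact frobFun4 a

theorem frob_scal (c : Lˣ) : (frobA : MulAut (AG L)) * scal c = scal (c ^ 3) * frobA := by
  ext a : 1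
  simp only [MulAut.mul_apply, frobA_apply, scal_apply, Units.val_pow_eq_pow_val]
  rw [← fr_def]
  ext <;> simp only [frobFun, scalFun, fr_mul]

theorem frob_pow_scal (k : ℕ) (c : Lˣ) :
    (frobA : MulAut (AG L)) ^ k * scal c = scal (c ^ (3 ^ k)) * frobA ^ k := by
  induction k with
  | zero => simp
  | succ k ih =>
    rw [pow_succ', mul_assoc, ih, ← mul_assoc, frob_scal, mul_assoc, ← pow_mul, ← pow_succ]

theorem mul_form (c d : Lˣ) (k l : ℕ) :
    (scal c * (frobA : MulAut (AG L)) ^ k) * (scal d * frobA ^ l)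
      = scal (c * d ^ (3 ^ k)) * frobA ^ (k + l) := by
  rw [mul_assoc, ← mul_assoc (frobA ^ k), frob_pow_scal, mul_assoc, ← pow_add, ← mul_assoc,
    ← map_mul]

end AG

open AG

/-- the acting group: scalings by fifth roots of unity times powers of Frobenius -/
def Hs (L : Type) [Field L] [IsF81 L] : Subgroup (MulAut (AG L)) where
  carrier := {h | ∃ (c : Lˣ) (k : ℕ), c ^ 5 = 1 ∧ h = scal c * frobA ^ k}
  one_mem' := ⟨1, 0, by simp, by simp⟩
  mul_mem' := by
    rintro _ _ ⟨c, k, hc, rfl⟩ ⟨d, l, hd, rfl⟩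
    refine ⟨c * d ^ (3 ^ k), k + l, ?_, mul_form c d k l⟩
    rw [mul_pow, hc, one_mul, ← pow_mul, mul_comm, pow_mul, hd, one_pow]
  inv_mem' := by
    rintro _ ⟨c, k, hc, rfl⟩
    refine ⟨(c⁻¹) ^ (3 ^ (3 * k)), 3 * k, ?_, ?_⟩
    · rw [← pow_mul, mul_comm, pow_mul, inv_pow, hc, inv_one, one_pow]
    · rw [← frob_pow_scal, mul_inv_rev, map_inv]
      congr 1
      rw [inv_eq_iff_mul_eq_one, ← pow_add, show k + 3 * k = 4 * k by ring, pow_mul,
        frobA_pow_four, one_pow]

theorem mem_Hs {h : MulAut (AG L)} :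
    h ∈ Hs L ↔ ∃ (c : Lˣ) (k : ℕ), c ^ 5 = 1 ∧ h = scal c * frobA ^ k := Iff.rfl

/-- reduction of the Frobenius exponent mod 4 -/
theorem mem_Hs' {h : MulAut (AG L)} (hh : h ∈ Hs L) :
    ∃ (c : Lˣ) (k : ℕ), k < 4 ∧ c ^ 5 = 1 ∧ h = scal c * frobA ^ k := by
  obtain ⟨c, k, hc, rfl⟩ := hh
  refine ⟨c, k % 4, Nat.mod_lt _ (by norm_num), hc, ?_⟩
  congr 1
  conv_lhs => rw [← Nat.div_add_mod k 4]
  rw [pow_add, pow_mul, frobA_pow_four, one_pow, one_mul]

end Cfsg.Agent.Helper5.IsoSpec
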