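import Mathlib
import Cfsg.Agent.Lib.Helper5.IsoSpecB

/-!
# The solvable group `GG L = AG L ⋊ Hs L` and the orders of its elements
-/

namespace Cfsg.Agent.Helper5.IsoSpec

open AG

/-- General lemma: an element of a semidirect product over a fixed-point-free automorphism. -/
theorem sdp_pow_eq_one_of_fpf {N H : Type*} [Group N] [Group H] [Finite N] (φ : H →* MulAut N)
    (h : H) (n : ℕ) (hn : h ^ n = 1) (hfpf : ∀ x : N, φ h x = x → x = 1) (a : N) :
    (⟨a, h⟩ : N ⋊[φ] H) ^ n = 1 := by
  have hinj : Function.Injective (fun x : N => x⁻¹ * φ h x) := by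
    intro x y hxy
    simp only at hxy
    have h1 : φ h y = y * x⁻¹ * φ h x := by
      rw [mul_assoc, hxy, mul_inv_cancel_left]
    have h2 : φ h (y * x⁻¹) = y * x⁻¹ := by
      rw [map_mul, map_inv, h1, mul_inv_cancel_right]
    have h3 := hfpf _ h2
    exact (mul_inv_eq_one.mp h3).symm
  obtain ⟨x, hx⟩ := (Finite.injective_iff_surjective.mp hinj) a
  simp only at hx
  have hg : (⟨a, h⟩ : N ⋊[φ] H) =
      (SemidirectProduct.inl x)⁻¹ * SemidirectProduct.inr h * ((SemidirectProduct.inl x)⁻¹)⁻¹ := by
    rw [inv_inv]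
    refine SemidirectProduct.ext ?_ ?_
    · simp [← hx]
    · simp
  rw [hg, conj_pow, ← map_pow, hn, map_one, mul_one, mul_inv_cancel]

variable {L : Type} [Field L] [IsF81 L]

/-- the group -/
abbrev GG (L : Type) [Field L] [IsF81 L] := AG L ⋊[(Hs L).subtype] (Hs L)

instance [Finite L] : Finite (AG L) :=
  Finite.of_injective (fun a : AG L => (a.v, a.w, a.p, a.q, a.r, a.s, a.t)) (by
    intro a b h
    simp only [Prod.mk.injEq] at h
    ext <;> simp [h])

instance [Finite L] : Finite (GG L) :=
  Finite.of_equiv _ SemidirectProduct.equivProd.symm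

/-- the "good fixed points" property -/
def FixGood (h : MulAut (AG L)) : Prop :=
  ∀ x : AG L, (h x).v = x.v → (h x).w = x.w → fr (fr x.v) * x.w = x.v * fr (fr x.w)

theorem pow_twelve_of_fixGood (h : Hs L) (h4 : h ^ 4 = 1) (hf : FixGood (h : MulAut (AG L)))
    (a : AG L) : (⟨a, h⟩ : GG L) ^ 12 = 1 := by
  set g : GG L := ⟨a, h⟩ with hg
  have hr : (g ^ 4).right = 1 := by
    have : SemidirectProduct.rightHom (g ^ 4) = (SemidirectProduct.rightHom g) ^ 4 := map_pow _ _ _
    simp only [SemidirectProduct.rightHom_eq_right] at this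
    rw [this]; exact h4
  have hN : g ^ 4 = SemidirectProduct.inl (g ^ 4).left := by
    refine SemidirectProduct.ext ?_ ?_
    · simp
    · simp [hr]
  set N : AG L := (g ^ 4).left with hNdef
  have hcomm : g * g ^ 4 = g ^ 4 * g := by
    rw [← pow_succ, ← pow_succ']
  rw [hN] at hcomm
  have hl := congrArg SemidirectProduct.left hcomm
  simp only [SemidirectProduct.mul_left, SemidirectProduct.left_inl, SemidirectProduct.right_inl,
    map_one, MulAut.one_apply] at hl
  have hgl : g.left = a := rfl
  have hgr : g.right = h := rfl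
  rw [hgl, hgr] at hl
  have hv := congrArg AG.v hl
  have hw := congrArg AG.w hl
  simp only [mul_v, mul_w, Subgroup.coe_subtype] at hv hw
  have hv' : ((h : MulAut (AG L)) N).v = N.v := by linear_combination hv
  have hw' : ((h : MulAut (AG L)) N).w = N.w := by linear_combination hw
  have hc := cube_eq_one_of N (hf N hv' hw')
  rw [show 12 = 4 * 3 from rfl, pow_mul, hN, ← map_pow, hc, map_one]

/-- elements of the form `scal c * frobA ^ j`, `j = 1, 2, 3` have good fixed points -/
theorem fixGood_one (c : Lˣ) : FixGood (scal c * (frobA : MulAut (AG L)) ^ 1) := by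
  intro x hv hw
  simp only [pow_one, MulAut.mul_apply, frobA_apply, scal_apply, scalFun, frobFun] at hv hw
  have hv2 := congrArg fr hv
  have hw2 := congrArg fr hw
  rw [fr_mul] at hv2 hw2
  linear_combination (-(fr (fr x.v))) * hw + (-(fr (fr x.v)) * (c : L)) * hw2
    + (fr (fr x.w)) * hv + (fr (fr x.w) * (c : L)) * hv2

theorem fixGood_two (c : Lˣ) : FixGood (scal c * (frobA : MulAut (AG L)) ^ 2) := by
  intro x hv hw
  simp only [pow_succ, pow_zero, one_mul, MulAut.mul_apply, frobA_apply, scal_apply, scalFun,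
    frobFun] at hv hw
  linear_combination (-(fr (fr x.v))) * hw + (fr (fr x.w)) * hv

theorem fixGood_three (c : Lˣ) : FixGood (scal c * (frobA : MulAut (AG L)) ^ 3) := by
  intro x hv hw
  simp only [pow_succ, pow_zero, one_mul, MulAut.mul_apply, frobA_apply, scal_apply, scalFun,
    frobFun] at hv hw
  have hv2 := congrArg (fun y => fr (fr (fr y))) hv
  have hw2 := congrArg (fun y => fr (fr (fr y))) hw
  simp only [fr_mul, fr4] at hv2 hw2
  -- hv : c * fr³ v = v ; hv2 : fr³ c * fr² v = fr³ v
  linear_combination (-(fr (fr x.v))) * hw + (-(fr (fr x.v)) * (c : L)) * hw2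
    + (fr (fr x.w)) * hv + (fr (fr x.w) * (c : L)) * hv2

end Cfsg.Agent.Helper5.IsoSpec
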