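import Mathlib
import Cfsg.Agent.Lib.Helper5.IsoSpecC

/-!
# Element orders of `GG L`, solvability, and the instance for `GaloisField 3 4`
-/

namespace Cfsg.Agent.Helper5.IsoSpec

open AG

/-- A group all of whose elements satisfy `g^9 = 1`, `g^5 = 1` or `g^12 = 1`, and which has elements
of orders 12, 9, 5, has spectrum `{1,2,3,4,5,6,9,12}`. -/
theorem range_orderOf_eq {G : Type*} [Group G]
    (h1 : ∀ g : G, g ^ 9 = 1 ∨ g ^ 5 = 1 ∨ g ^ 12 = 1)
    (h12 : ∃ g : G, orderOf g = 12) (h9 : ∃ g : G, orderOf g = 9) (h5 : ∃ g : G, orderOf g = 5) :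
    Set.range (orderOf : G → ℕ) = {1, 2, 3, 4, 5, 6, 9, 12} := by
  have key : ∀ m : ℕ, m ≠ 0 → (∃ g : G, orderOf g = m) → ∀ n, n ∣ m → ∃ g : G, orderOf g = n := by
    rintro m hm ⟨g, rfl⟩ n hn
    exact ⟨_, orderOf_pow_orderOf_div hm hn⟩
  ext n
  simp only [Set.mem_range, Set.mem_insert_iff, Set.mem_singleton_iff]
  constructor
  · rintro ⟨g, rfl⟩
    rcases h1 g with h | h | h
    · have hd := orderOf_dvd_of_pow_eq_one h
      have : orderOf g ∈ Nat.divisors 9 := Nat.mem_divisors.mpr ⟨hd, by norm_num⟩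
      rw [show Nat.divisors 9 = {1, 3, 9} from by decide] at this
      simp only [Finset.mem_insert, Finset.mem_singleton] at this
      omega
    · have hd := orderOf_dvd_of_pow_eq_one h
      have : orderOf g ∈ Nat.divisors 5 := Nat.mem_divisors.mpr ⟨hd, by norm_num⟩
      rw [show Nat.divisors 5 = {1, 5} from by decide] at this
      simp only [Finset.mem_insert, Finset.mem_singleton] at this
      omega
    · have hd := orderOf_dvd_of_pow_eq_one h
      have : orderOf g ∈ Nat.divisors 12 := Nat.mem_divisors.mpr ⟨hd, by norm_num⟩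
      rw [show Nat.divisors 12 = {1, 2, 3, 4, 6, 12} from by decide] at this
      simp only [Finset.mem_insert, Finset.mem_singleton] at this
      omega
  · rintro (rfl | rfl | rfl | rfl | rfl | rfl | rfl | rfl)
    · exact key 12 (by norm_num) h12 1 (by norm_num)
    · exact key 12 (by norm_num) h12 2 (by norm_num)
    · exact key 12 (by norm_num) h12 3 (by norm_num)
    · exact key 12 (by norm_num) h12 4 (by norm_num)
    · exact h5
    · exact key 12 (by norm_num) h12 6 (by norm_num)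
    · exact h9
    · exact h12

variable {L : Type} [Field L] [IsF81 L]

theorem pow_four_form (c : Lˣ) (j : ℕ) :
    (scal c * (frobA : MulAut (AG L)) ^ j) ^ 4 =
      scal ((c * c ^ (3 ^ j)) * (c * c ^ (3 ^ j)) ^ (3 ^ (j + j))) * frobA ^ (j + j + (j + j)) := by
  have : ∀ x : MulAut (AG L), x ^ 4 = (x * x) * (x * x) := fun x => by
    rw [show 4 = 2 + 2 from rfl, pow_add, pow_two]
  rw [this, mul_form, mul_form]

theorem pow_four_eq_one (c : Lˣ) (hc : c ^ 5 = 1) (j : ℕ) (hj : j = 1 ∨ j = 2 ∨ j = 3) :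
    (scal c * (frobA : MulAut (AG L)) ^ j) ^ 4 = 1 := by
  rw [pow_four_form, show j + j + (j + j) = 4 * j by ring, pow_mul, frobA_pow_four, one_pow, mul_one]
  have hcL : (c : L) ^ 5 = 1 := by
    have := congrArg (fun u : Lˣ => (u : L)) hc
    simpa using this
  suffices h : (c * c ^ (3 ^ j)) * (c * c ^ (3 ^ j)) ^ (3 ^ (j + j)) = 1 by rw [h, map_one]
  apply Units.ext
  push_cast
  rcases hj with rfl | rfl | rfl
  · calc (c : L) * (c : L) ^ 3 ^ 1 * ((c : L) * (c : L) ^ 3 ^ 1) ^ 3 ^ (1 + 1)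
        = ((c : L) ^ 5) ^ 8 := by norm_num; ring
      _ = 1 := by rw [hcL, one_pow]
  · calc (c : L) * (c : L) ^ 3 ^ 2 * ((c : L) * (c : L) ^ 3 ^ 2) ^ 3 ^ (2 + 2)
        = ((c : L) ^ 5) ^ 164 := by norm_num; ring
      _ = 1 := by rw [hcL, one_pow]
  · calc (c : L) * (c : L) ^ 3 ^ 3 * ((c : L) * (c : L) ^ 3 ^ 3) ^ 3 ^ (3 + 3)
        = ((c : L) ^ 5) ^ 4088 := by norm_num; ring
      _ = 1 := by rw [hcL, one_pow]

omit [IsF81 L] in
theorem eq_one_of_pow_coprime (x : L) (h5 : x ^ 5 = 1) (k : ℕ) (hk : x ^ k = 1)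
    (hcop : Nat.Coprime 5 k) : x = 1 := by
  have d1 := orderOf_dvd_of_pow_eq_one h5
  have d2 := orderOf_dvd_of_pow_eq_one hk
  have d3 : orderOf x ∣ Nat.gcd 5 k := Nat.dvd_gcd d1 d2
  rw [hcop] at d3
  exact orderOf_eq_one_iff.mp (Nat.dvd_one.mp d3)

omit [IsF81 L] in
theorem eq_zero_of_mul_eq (m y : L) (hm : m ≠ 1) (h : m * y = y) : y = 0 := by
  have : (m - 1) * y = 0 := by linear_combination h
  rcases mul_eq_zero.mp this with h1 | h1
  · exact absurd (sub_eq_zero.mp h1) hm
  · exact h1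

omit [IsF81 L] in
theorem scal_fpf (c : Lˣ) (hc5 : c ^ 5 = 1) (hc1 : c ≠ 1) (x : AG L) (hx : scal c x = x) :
    x = 1 := by
  have h5 : (c : L) ^ 5 = 1 := by
    have := congrArg (fun u : Lˣ => (u : L)) hc5
    simpa using this
  have h1 : (c : L) ≠ 1 := fun h => hc1 (Units.ext (by simpa using h))
  have m4 : (c : L) * fr (c : L) ≠ 1 := by
    intro h
    apply h1
    refine eq_one_of_pow_coprime _ h5 4 ?_ (by norm_num)
    rw [← h, fr_def]; ring
  have m12 : fr (fr (c : L)) * fr (c : L) ≠ 1 := by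
    intro h
    apply h1
    refine eq_one_of_pow_coprime _ h5 12 ?_ (by norm_num)
    rw [← h, fr_def, fr_def]; ring
  have m13 : (c : L) * fr (c : L) * fr (fr (c : L)) ≠ 1 := by
    intro h
    apply h1
    refine eq_one_of_pow_coprime _ h5 13 ?_ (by norm_num)
    rw [← h, fr_def, fr_def]; ring
  rw [scal_apply] at hx
  have hv := congrArg AG.v hx
  have hw := congrArg AG.w hx
  have hp := congrArg AG.p hx
  have hq := congrArg AG.q hx
  have hr := congrArg AG.r hx
  have hs := congrArg AG.s hx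
  have ht := congrArg AG.t hx
  simp only [scalFun] at hv hw hp hq hr hs ht
  ext
  · exact eq_zero_of_mul_eq _ _ h1 hv
  · exact eq_zero_of_mul_eq _ _ h1 hw
  · exact eq_zero_of_mul_eq _ _ m4 hp
  · exact eq_zero_of_mul_eq _ _ m12 hq
  · exact eq_zero_of_mul_eq _ _ (by rwa [mul_comm]) hr
  · exact eq_zero_of_mul_eq _ _ (by rwa [mul_comm]) hs
  · exact eq_zero_of_mul_eq _ _ m13 ht

/-- every element has order dividing 9, 5 or 12 -/
theorem GG_pow_cases [Finite L] (g : GG L) : g ^ 9 = 1 ∨ g ^ 5 = 1 ∨ g ^ 12 = 1 := by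
  rcases g with ⟨a, ⟨h, hh⟩⟩
  obtain ⟨c, k, hk, hc, rfl⟩ := mem_Hs' hh
  interval_cases k
  · by_cases hc1 : c = 1
    · left
      have hone : (⟨scal c * (frobA : MulAut (AG L)) ^ 0, hh⟩ : Hs L) = 1 := by
        apply Subtype.ext
        simp [hc1]
      rw [hone]
      have : (⟨a, 1⟩ : GG L) = SemidirectProduct.inl a := by
        refine SemidirectProduct.ext ?_ ?_ <;> simp
      rw [this, ← map_pow, pow_nine, map_one]
    · right; left
      apply sdp_pow_eq_one_of_fpf
      · apply Subtype.ext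
        simp only [pow_zero, mul_one, Subgroup.coe_pow, Subgroup.coe_one]
        rw [← map_pow, hc, map_one]
      · intro x hx
        simp only [pow_zero, mul_one, Subgroup.coe_subtype] at hx
        exact scal_fpf c hc hc1 x hx
  · right; right
    apply pow_twelve_of_fixGood
    · apply Subtype.ext
      simp only [Subgroup.coe_pow, Subgroup.coe_one]
      exact pow_four_eq_one c hc 1 (Or.inl rfl)
    · exact fixGood_one c
  · right; right
    apply pow_twelve_of_fixGood
    · apply Subtype.ext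
      simp only [Subgroup.coe_pow, Subgroup.coe_one]
      exact pow_four_eq_one c hc 2 (Or.inr (Or.inl rfl))
    · exact fixGood_two c
  · right; right
    apply pow_twelve_of_fixGood
    · apply Subtype.ext
      simp only [Subgroup.coe_pow, Subgroup.coe_one]
      exact pow_four_eq_one c hc 3 (Or.inr (Or.inr rfl))
    · exact fixGood_three c

end Cfsg.Agent.Helper5.IsoSpec
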