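import Mathlib
import Cfsg.Agent.Lib.Helper5.IsoSpecD

/-!
# Witnesses of orders 12, 9, 5 in `GG L`; solvability; the field with 81 elements
-/

namespace Cfsg.Agent.Helper5.IsoSpec

open AG

variable {L : Type} [Field L] [IsF81 L]

/-- the element `(1,0;0,0,0,0;0)` -/
def e1 : AG L := ⟨1, 0, 0, 0, 0, 0, 0⟩

theorem orderOf_e1 : orderOf (e1 : AG L) = 3 := by
  have : Fact (Nat.Prime 3) := ⟨by norm_num⟩
  apply orderOf_eq_prime
  · apply cube_eq_one_of
    simp [e1]
  · intro h
    have := congrArg AG.v h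
    simp [e1] at this

theorem frobFun_e1 : frobFun (e1 : AG L) = e1 := by
  ext <;> simp [frobFun, e1]

theorem orderOf_frobA : orderOf (frobA : MulAut (AG L)) = 4 := by
  have : Fact (Nat.Prime 2) := ⟨by norm_num⟩
  have := orderOf_eq_prime_pow (x := (frobA : MulAut (AG L))) (p := 2) (n := 1) ?_ ?_
  · simpa using this
  · intro h
    obtain ⟨u, hu⟩ := IsF81.exists_u (L := L)
    have h2 := congrArg (fun f : MulAut (AG L) => (f ⟨u, 0, 0, 0, 0, 0, 0⟩).v) h
    simp only [pow_one, pow_succ, pow_zero, one_mul, MulAut.mul_apply, frobA_apply, frobFun,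
      MulAut.one_apply] at h2
    apply hu
    calc u ^ 9 = fr (fr u) := by rw [fr_def, fr_def]; ring
      _ = u := h2
  · simpa using frobA_pow_four (L := L)

/-- Frobenius as an element of the acting group -/
def frobH : Hs L := ⟨frobA, ⟨1, 1, by simp, by simp⟩⟩

theorem orderOf_frobH : orderOf (frobH : Hs L) = 4 := by
  rw [← orderOf_injective (Hs L).subtype (Subgroup.subtype_injective _) frobH]
  exact orderOf_frobA

theorem exists_orderOf_twelve : ∃ g : GG L, orderOf g = 12 := by
  refine ⟨SemidirectProduct.inl e1 * SemidirectProduct.inr frobH, ?_⟩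
  have hc : Commute (SemidirectProduct.inl e1 : GG L) (SemidirectProduct.inr frobH) := by
    have := SemidirectProduct.inl_aut (φ := (Hs L).subtype) frobH (e1 : AG L)
    have h2 : ((Hs L).subtype frobH) (e1 : AG L) = e1 := frobFun_e1
    rw [h2] at this
    show _ * _ = _ * _
    conv_lhs => rw [this]
    rw [map_inv]; group
  have o1 : orderOf (SemidirectProduct.inl e1 : GG L) = 3 := by
    rw [orderOf_injective _ SemidirectProduct.inl_injective, orderOf_e1]
  have o2 : orderOf (SemidirectProduct.inr frobH : GG L) = 4 := by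
    rw [orderOf_injective _ SemidirectProduct.inr_injective, orderOf_frobH]
  rw [hc.orderOf_mul_eq_mul_orderOf_of_coprime (by rw [o1, o2]; norm_num), o1, o2]

theorem exists_orderOf_nine : ∃ g : GG L, orderOf g = 9 := by
  obtain ⟨u, hu⟩ := IsF81.exists_u (L := L)
  refine ⟨SemidirectProduct.inl ⟨1, u, 0, 0, 0, 0, 0⟩, ?_⟩
  rw [orderOf_injective _ SemidirectProduct.inl_injective]
  have : Fact (Nat.Prime 3) := ⟨by norm_num⟩
  have := orderOf_eq_prime_pow (x := (⟨1, u, 0, 0, 0, 0, 0⟩ : AG L)) (p := 3) (n := 1) ?_ ?_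
  · simpa using this
  · intro h
    rw [pow_one, cube] at h
    have h2 := congrArg AG.t h
    simp only [fr_one, one_mul, one_t] at h2
    apply hu
    have : fr (fr u) = u := by linear_combination h2
    calc u ^ 9 = fr (fr u) := by rw [fr_def, fr_def]; ring
      _ = u := this
  · simpa using pow_nine (⟨1, u, 0, 0, 0, 0, 0⟩ : AG L)

theorem exists_orderOf_five : ∃ g : GG L, orderOf g = 5 := by
  obtain ⟨z, hz5, hz1⟩ := IsF81.exists_zeta (L := L)
  have hz0 : z ≠ 0 := by
    intro h
    rw [h] at hz5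
    simp at hz5
  set c : Lˣ := Units.mk0 z hz0 with hcdef
  have hc5 : c ^ 5 = 1 := by
    apply Units.ext
    simp [hcdef, hz5]
  let hH : Hs L := ⟨scal c, ⟨c, 0, hc5, by simp⟩⟩
  refine ⟨SemidirectProduct.inr hH, ?_⟩
  rw [orderOf_injective _ SemidirectProduct.inr_injective]
  have : Fact (Nat.Prime 5) := ⟨by norm_num⟩
  apply orderOf_eq_prime
  · apply Subtype.ext
    simp only [Subgroup.coe_pow, Subgroup.coe_one, hH]
    rw [← map_pow, hc5, map_one]
  · intro h
    have h1 : scal c = 1 := congrArg Subtype.val h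
    have h2 := congrArg (fun f : MulAut (AG L) => (f e1).v) h1
    simp only [scal_apply, scalFun, e1, MulAut.one_apply, mul_one] at h2
    exact hz1 h2

theorem GG_spectrum [Finite L] :
    Set.range (orderOf : GG L → ℕ) = {1, 2, 3, 4, 5, 6, 9, 12} :=
  range_orderOf_eq GG_pow_cases exists_orderOf_twelve exists_orderOf_nine exists_orderOf_five

/-! ### Solvability -/

instance [Finite L] : Group.IsSolvable (AG L) := by
  have : Fact (Nat.Prime 3) := ⟨by norm_num⟩
  have hp : IsPGroup 3 (AG L) := fun a => ⟨2, by simpa using pow_nine a⟩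
  haveI := hp.isNilpotent
  infer_instance

theorem comm_mem_range (h1 h2 : MulAut (AG L)) (hh1 : h1 ∈ Hs L) (hh2 : h2 ∈ Hs L) :
    h1 * h2 * h1⁻¹ * h2⁻¹ ∈ (scal : Lˣ →* MulAut (AG L)).range := by
  obtain ⟨c, k, -, rfl⟩ := hh1
  obtain ⟨d, l, -, rfl⟩ := hh2
  refine ⟨(c * d ^ (3 ^ k)) * (d * c ^ (3 ^ l))⁻¹, ?_⟩
  rw [map_mul, map_inv]
  have e1 := mul_form c d k l
  have e2 := mul_form d c l k
  rw [add_comm l k] at e2
  -- h1 h2 = scal(..) F^(k+l), h2 h1 = scal(..) F^(k+l)
  have : scal c * (frobA : MulAut (AG L)) ^ k * (scal d * frobA ^ l) * (scal c * frobA ^ k)⁻¹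
      * (scal d * frobA ^ l)⁻¹ =
      (scal c * frobA ^ k * (scal d * frobA ^ l)) * ((scal d * frobA ^ l) * (scal c * frobA ^ k))⁻¹ := by
    group
  rw [this, e1, e2]
  group

instance : Group.IsSolvable (Hs L) := by
  rw [isSolvable_def]
  refine ⟨2, ?_⟩
  set T : Subgroup (Hs L) := ((scal : Lˣ →* MulAut (AG L)).range).comap (Hs L).subtype with hT
  have hD1 : derivedSeries (Hs L) 1 ≤ T := by
    rw [derivedSeries_succ, derivedSeries_zero, Subgroup.commutator_le]
    intro x _ y _
    rw [hT, Subgroup.mem_comap, commutatorElement_def]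
    simp only [map_mul, map_inv, Subgroup.coe_subtype]
    exact comm_mem_range (L := L) (x : MulAut (AG L)) (y : MulAut (AG L)) x.2 y.2
  have hTcomm : ⁅T, T⁆ = ⊥ := by
    rw [Subgroup.commutator_eq_bot_iff_le_centralizer]
    intro x hx
    rw [Subgroup.mem_centralizer_iff]
    intro y hy
    obtain ⟨c, hc⟩ := hx
    obtain ⟨d, hd⟩ := hy
    apply Subtype.ext
    simp only [Subgroup.coe_mul]
    have hc' : (x : MulAut (AG L)) = scal c := hc.symm
    have hd' : (y : MulAut (AG L)) = scal d := hd.symm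
    rw [hc', hd', ← map_mul, ← map_mul, mul_comm]
  rw [derivedSeries_succ, eq_bot_iff, ← hTcomm]
  exact Subgroup.commutator_mono hD1 hD1

instance [Finite L] : Group.IsSolvable (GG L) :=
  Group.isSolvable_of_ker_le_range (SemidirectProduct.inl : AG L →* GG L)
    (SemidirectProduct.rightHom : GG L →* Hs L)
    (by rw [SemidirectProduct.range_inl_eq_ker_rightHom])

end Cfsg.Agent.Helper5.IsoSpec
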