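import Mathlib
import Cfsg.Agent.Lib.Helper5.IsoSpecE

/-!
# The field with 81 elements and the final existence statement
-/

namespace Cfsg.Agent.Helper5.IsoSpec


theorem card81 : Nat.card (GaloisField 3 4) = 81 := by
  rw [GaloisField.card 3 4 (by norm_num)]; norm_num

theorem card_units80 : Nat.card (GaloisField 3 4)ˣ = 80 := by
  rw [Nat.card_units, card81]

theorem exists_gen : ∃ g : (GaloisField 3 4)ˣ, orderOf g = 80 := by
  obtain ⟨g, hg⟩ := IsCyclic.exists_generator (α := (GaloisField 3 4)ˣ)
  exact ⟨g, by rw [orderOf_eq_card_of_forall_mem_zpowers hg, card_units80]⟩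

instance : IsF81 (GaloisField 3 4) where
  three := by
    have := CharP.cast_eq_zero (GaloisField 3 4) 3
    exact_mod_cast this
  pow81 := by
    intro x
    haveI : Fintype (GaloisField 3 4) := Fintype.ofFinite _
    have h := FiniteField.pow_card x
    have hc : Fintype.card (GaloisField 3 4) = 81 := by
      rw [← Nat.card_eq_fintype_card, card81]
    rwa [hc] at h
  exists_u := by
    obtain ⟨g, hg⟩ := exists_gen
    refine ⟨(g : GaloisField 3 4), ?_⟩
    intro h
    have h8 : g ^ 8 = 1 := by
      apply Units.ext
      push_cast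
      have hne : (g : GaloisField 3 4) ≠ 0 := g.ne_zero
      have : (g : GaloisField 3 4) * ((g : GaloisField 3 4) ^ 8 - 1) = 0 := by
        linear_combination h
      rcases mul_eq_zero.mp this with h1 | h1
      · exact absurd h1 hne
      · exact sub_eq_zero.mp h1
    have := orderOf_dvd_of_pow_eq_one h8
    rw [hg] at this
    omega
  exists_zeta := by
    obtain ⟨g, hg⟩ := exists_gen
    refine ⟨((g ^ 16 : (GaloisField 3 4)ˣ) : GaloisField 3 4), ?_, ?_⟩
    · have : (g ^ 16) ^ 5 = 1 := by
        rw [← pow_mul, show 16 * 5 = 80 from rfl, ← hg, pow_orderOf_eq_one]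
      have h2 := congrArg (fun u : (GaloisField 3 4)ˣ => (u : GaloisField 3 4)) this
      simpa using h2
    · intro h
      have h16 : g ^ 16 = 1 := Units.ext (by simpa using h)
      have := orderOf_dvd_of_pow_eq_one h16
      rw [hg] at this
      omega

/-- The final statement: a finite solvable group with spectrum `{1,2,3,4,5,6,9,12}`. -/
theorem exists_solvable_spectrum :
    ∃ (H : Type) (_ : Group H) (_ : Fintype H), Group.IsSolvable H ∧
      Set.range (orderOf : H → ℕ) = {1, 2, 3, 4, 5, 6, 9, 12} :=
  ⟨GG (GaloisField 3 4), inferInstance, Fintype.ofFinite _, inferInstance, GG_spectrum⟩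

end Cfsg.Agent.Helper5.IsoSpec
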