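import Mathlib
import Cfsg.Prelude.Def_Classical

/-!
# Exponent restrictions in `PSp(4,3)` via Cayley–Hamilton
-/

namespace Cfsg.Agent.Helper5.IsoSpec

open Matrix Polynomial

variable {F : Type*} [Field F]

/-- Cayley–Hamilton for a `4 × 4` matrix of determinant one. -/
theorem CH4 (M : Matrix (Fin 2 ⊕ Fin 2) (Fin 2 ⊕ Fin 2) F) (hdet : M.det = 1) :
    M ^ 4 + M.charpoly.coeff 3 • M ^ 3 + M.charpoly.coeff 2 • M ^ 2 + M.charpoly.coeff 1 • M + 1
      = 0 := by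
  have h := Matrix.aeval_self_charpoly M
  have hdeg : M.charpoly.natDegree = 4 := by
    rw [Matrix.charpoly_natDegree_eq_dim]; simp
  rw [Polynomial.aeval_eq_sum_range, hdeg] at h
  have h4 : M.charpoly.coeff 4 = 1 := by
    have := (Matrix.charpoly_monic M).coeff_natDegree
    rwa [hdeg] at this
  have h0 : M.charpoly.coeff 0 = 1 := by
    have := Matrix.det_eq_sign_charpoly_coeff M
    rw [hdet] at this
    have h1 : ((-1 : F)) ^ Fintype.card (Fin 2 ⊕ Fin 2) = 1 := by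
      simp only [Fintype.card_sum, Fintype.card_fin]
      norm_num
    rw [h1, one_mul] at this
    exact this.symm
  simp only [Finset.sum_range_succ, Finset.sum_range_zero, h4, h0, one_smul, pow_zero, pow_one,
    zero_add] at h
  rw [← h]; abel

/-- The inverse of a symplectic matrix has the same characteristic polynomial. -/
theorem charpoly_inv_eq (g : Matrix.symplecticGroup (Fin 2) F) :
    ((g⁻¹ : Matrix.symplecticGroup (Fin 2) F) : Matrix (Fin 2 ⊕ Fin 2) (Fin 2 ⊕ Fin 2) F).charpoly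
      = (g : Matrix (Fin 2 ⊕ Fin 2) (Fin 2 ⊕ Fin 2) F).charpoly := by
  rw [SymplecticGroup.coe_inv, Matrix.charpoly_mul_comm, ← Matrix.mul_assoc]
  have : J (Fin 2) F * -J (Fin 2) F = 1 := by
    rw [Matrix.mul_neg, Matrix.J_squared, neg_neg]
  rw [this, Matrix.one_mul, Matrix.charpoly_transpose]

/-- a symplectic `4×4` matrix either squares to one or satisfies a palindromic quartic -/
theorem palindromic (g : Matrix.symplecticGroup (Fin 2) F) :
    (g : Matrix (Fin 2 ⊕ Fin 2) (Fin 2 ⊕ Fin 2) F) ^ 2 = 1 ∨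
    ∃ a b : F, (g : Matrix (Fin 2 ⊕ Fin 2) (Fin 2 ⊕ Fin 2) F) ^ 4
      + a • (g : Matrix (Fin 2 ⊕ Fin 2) (Fin 2 ⊕ Fin 2) F) ^ 3
      + b • (g : Matrix (Fin 2 ⊕ Fin 2) (Fin 2 ⊕ Fin 2) F) ^ 2
      + a • (g : Matrix (Fin 2 ⊕ Fin 2) (Fin 2 ⊕ Fin 2) F) + 1 = 0 := by
  set M : Matrix (Fin 2 ⊕ Fin 2) (Fin 2 ⊕ Fin 2) F := (g : Matrix (Fin 2 ⊕ Fin 2) (Fin 2 ⊕ Fin 2) F) with hM
  set N : Matrix (Fin 2 ⊕ Fin 2) (Fin 2 ⊕ Fin 2) F :=
    ((g⁻¹ : Matrix.symplecticGroup (Fin 2) F) : Matrix (Fin 2 ⊕ Fin 2) (Fin 2 ⊕ Fin 2) F) with hN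
  have E1 := CH4 M (SymplecticGroup.det_eq_one g.2)
  have E2 := CH4 N (SymplecticGroup.det_eq_one (g⁻¹).2)
  rw [hN, charpoly_inv_eq g, ← hN, ← hM] at E2
  set a := M.charpoly.coeff 3
  set b := M.charpoly.coeff 2
  set c := M.charpoly.coeff 1
  have cmp : ∀ (m n : ℕ), ((g ^ m * (g⁻¹) ^ n : Matrix.symplecticGroup (Fin 2) F) :
      Matrix (Fin 2 ⊕ Fin 2) (Fin 2 ⊕ Fin 2) F) = M ^ m * N ^ n := by
    intro m n
    rw [Submonoid.coe_mul, SubmonoidClass.coe_pow, SubmonoidClass.coe_pow]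
  have k4 : M ^ 4 * N ^ 4 = 1 := by
    have h : g ^ 4 * (g⁻¹) ^ 4 = 1 := by group
    rw [← cmp, h]; rfl
  have k3 : M ^ 4 * N ^ 3 = M := by
    have h : g ^ 4 * (g⁻¹) ^ 3 = g := by group
    rw [← cmp, h]
  have k2 : M ^ 4 * N ^ 2 = M ^ 2 := by
    have h : g ^ 4 * (g⁻¹) ^ 2 = g ^ 2 := by group
    rw [← cmp, h, SubmonoidClass.coe_pow]
  have k1 : M ^ 4 * N = M ^ 3 := by
    have h : g ^ 4 * (g⁻¹) ^ 1 = g ^ 3 := by group
    have := cmp 4 1
    rw [h, pow_one, SubmonoidClass.coe_pow] at this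
    exact this.symm
  have E3 : 1 + a • M + b • M ^ 2 + c • M ^ 3 + M ^ 4 = 0 := by
    have := congrArg (fun X => M ^ 4 * X) E2
    simp only [mul_add, mul_smul_comm, k4, k3, k2, k1, mul_one, mul_zero] at this
    exact this
  have E4 : (a - c) • (M ^ 3 - M) = 0 := by
    have : (a - c) • (M ^ 3 - M) =
        (M ^ 4 + a • M ^ 3 + b • M ^ 2 + c • M + 1) - (1 + a • M + b • M ^ 2 + c • M ^ 3 + M ^ 4) := by
      module
    rw [this, E1, E3, sub_zero]
  by_cases hac : a = c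
  · right
    refine ⟨a, b, ?_⟩
    rw [← hac] at E1
    exact E1
  · left
    have h3 : M ^ 3 = M := by
      rcases smul_eq_zero.mp E4 with h | h
      · exact absurd (sub_eq_zero.mp h) hac
      · exact sub_eq_zero.mp h
    have hg : g ^ 3 = g := by
      apply Subtype.ext
      rw [SubmonoidClass.coe_pow]
      exact h3
    have hg2 : g ^ 2 = 1 := by
      have : g ^ 2 * g = 1 * g := by rw [← pow_succ, one_mul]; exact hg
      exact mul_right_cancel this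
    have := congrArg (fun x : Matrix.symplecticGroup (Fin 2) F =>
      (x : Matrix (Fin 2 ⊕ Fin 2) (Fin 2 ⊕ Fin 2) F)) hg2
    simp only [SubmonoidClass.coe_pow] at this
    exact this

end Cfsg.Agent.Helper5.IsoSpec
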