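import Mathlib
import Cfsg.Agent.Lib.Helper5.IsoSpecP

/-!
# The nine palindromic quartics over the field with three elements
-/

namespace Cfsg.Agent.Helper5.IsoSpec

open Matrix Polynomial

variable {F : Type*} [Field F] [Fintype F]

theorem three_eq_zero (hF : Fintype.card F = 3) : (3 : F) = 0 := by
  have := FiniteField.cast_card_eq_zero F
  rw [hF] at this
  exact_mod_cast this

theorem F3_cases (hF : Fintype.card F = 3) (x : F) : x = 0 ∨ x = 1 ∨ x = -1 := by
  classical
  have h3 := three_eq_zero hF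
  have h11 : (-1 : F) ≠ 1 := by
    intro h
    have h2 : (2 : F) = 0 := by linear_combination -h
    have : (1 : F) = 0 := by linear_combination h3 - h2
    exact one_ne_zero this
  have hcard : ({0, 1, -1} : Finset F).card = 3 := by
    rw [Finset.card_insert_of_notMem, Finset.card_insert_of_notMem, Finset.card_singleton]
    · simp only [Finset.mem_singleton]
      exact fun h => h11 h.symm
    · simp only [Finset.mem_insert, Finset.mem_singleton, not_or]
      exact ⟨zero_ne_one, fun h => by simpa using h.symm⟩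
  have huniv : ({0, 1, -1} : Finset F) = Finset.univ :=
    Finset.eq_univ_of_card _ (by rw [hcard, hF])
  have := Finset.mem_univ x
  rw [← huniv] at this
  simpa using this

omit [Fintype F] in
theorem pow_eq_of_poly {A : Type*} [Ring A] [Algebra F A] (M : A) (P Q : F[X]) (k : ℕ) (ε : F)
    (hP : aeval M P = 0) (hid : X ^ k - C ε = P * Q) : M ^ k = algebraMap F A ε := by
  have := congrArg (aeval M) hid
  rw [map_mul, hP, zero_mul, map_sub, map_pow, aeval_X, aeval_C] at this
  exact sub_eq_zero.mp this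

theorem pal_cases (hF : Fintype.card F = 3) {A : Type*} [Ring A] [Algebra F A] (M : A) (a b : F)
    (h : M ^ 4 + a • M ^ 3 + b • M ^ 2 + a • M + 1 = 0) :
    M ^ 4 = -1 ∨ M ^ 6 = 1 ∨ M ^ 12 = 1 ∨ M ^ 9 = 1 ∨ M ^ 9 = -1 ∨ M ^ 5 = 1 ∨ M ^ 5 = -1 := by
  have h3 := three_eq_zero hF
  have h3X : (3 : F[X]) = 0 := by
    rw [← Polynomial.C_ofNat, h3, map_zero]
  have hP : aeval M (X ^ 4 + C a * X ^ 3 + C b * X ^ 2 + C a * X + 1 : F[X]) = 0 := by
    simp only [map_add, map_mul, map_pow, aeval_X, aeval_C, map_one]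
    rw [← Algebra.smul_def, ← Algebra.smul_def, ← Algebra.smul_def]
    exact h
  have e1 : algebraMap F A 1 = 1 := map_one _
  have e2 : algebraMap F A (-1) = -1 := by rw [map_neg, map_one]
  rcases F3_cases hF a with rfl | rfl | rfl <;> rcases F3_cases hF b with rfl | rfl | rfl
  · -- (0,0)
    left
    rw [← e2]
    refine pow_eq_of_poly M _ 1 4 (-1) hP ?_
    simp only [map_zero, map_neg, map_one]; ring
  · -- (0,1)
    right; left
    rw [← e1]
    refine pow_eq_of_poly M _ (-1 + X ^ 2) 6 1 hP ?_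
    simp only [map_zero, map_one]; ring
  · -- (0,-1)
    right; right; left
    rw [← e1]
    refine pow_eq_of_poly M _ (-1 - X ^ 2 + X ^ 6 + X ^ 8) 12 1 hP ?_
    simp only [map_zero, map_neg, map_one]; ring
  · -- (1,0)
    right; right; right; right; left
    rw [← e2]
    refine pow_eq_of_poly M _ (1 - X + X ^ 2 + X ^ 3 - X ^ 4 + X ^ 5) 9 (-1) hP ?_
    simp only [map_zero, map_neg, map_one]
    linear_combination (-X ^ 3 - X ^ 6) * h3X
  · -- (1,1)
    right; right; right; right; right; left
    rw [← e1]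
    refine pow_eq_of_poly M _ (-1 + X) 5 1 hP ?_
    simp only [map_one]; ring
  · -- (1,-1)
    right; right; left
    rw [← e1]
    refine pow_eq_of_poly M _ (-1 + X + X ^ 2 + X ^ 3 - X ^ 5 - X ^ 6 - X ^ 7 + X ^ 8) 12 1 hP ?_
    simp only [map_neg, map_one]
    linear_combination (-X ^ 2 + X ^ 10) * h3X
  · -- (-1,0)
    right; right; right; left
    rw [← e1]
    refine pow_eq_of_poly M _ (-1 - X - X ^ 2 + X ^ 3 + X ^ 4 + X ^ 5) 9 1 hP ?_
    simp only [map_zero, map_neg, map_one]
    linear_combination (-X ^ 3 + X ^ 6) * h3X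
  · -- (-1,1)
    right; right; right; right; right; right
    rw [← e2]
    refine pow_eq_of_poly M _ (1 + X) 5 (-1) hP ?_
    simp only [map_neg, map_one]; ring
  · -- (-1,-1)
    right; right; left
    rw [← e1]
    refine pow_eq_of_poly M _ (-1 - X + X ^ 2 - X ^ 3 + X ^ 5 - X ^ 6 + X ^ 7 + X ^ 8) 12 1 hP ?_
    simp only [map_neg, map_one]
    linear_combination (-X ^ 2 + X ^ 10) * h3X

end Cfsg.Agent.Helper5.IsoSpec
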