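import Mathlib
import Cfsg.Agent.Lib.Helper5.IsoSpecQ
import Cfsg.Agent.Lib.Helper5.IsoSpecD

/-!
# The spectrum of `PSp(4,3)`
-/

namespace Cfsg.Agent.Helper5.IsoSpec

open Matrix

/-- a matrix over `ZMod 3` -/
def m12 : Matrix (Fin 2 ⊕ Fin 2) (Fin 2 ⊕ Fin 2) (ZMod 3) :=
  Matrix.fromBlocks !![0, 0; 0, 1] !![-1, 0; 0, 1] !![1, 0; 0, 0] !![0, 0; 0, 1]

/-- a matrix over `ZMod 3` -/
def m12_2 : Matrix (Fin 2 ⊕ Fin 2) (Fin 2 ⊕ Fin 2) (ZMod 3) :=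
  Matrix.fromBlocks !![-1, 0; 0, 1] !![0, 0; 0, -1] !![0, 0; 0, 0] !![-1, 0; 0, 1]

/-- a matrix over `ZMod 3` -/
def m12_4 : Matrix (Fin 2 ⊕ Fin 2) (Fin 2 ⊕ Fin 2) (ZMod 3) :=
  Matrix.fromBlocks !![1, 0; 0, 1] !![0, 0; 0, 1] !![0, 0; 0, 0] !![1, 0; 0, 1]

/-- a matrix over `ZMod 3` -/
def m12_6 : Matrix (Fin 2 ⊕ Fin 2) (Fin 2 ⊕ Fin 2) (ZMod 3) :=
  Matrix.fromBlocks !![-1, 0; 0, 1] !![0, 0; 0, 0] !![0, 0; 0, 0] !![-1, 0; 0, 1]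

/-- a matrix over `ZMod 3` -/
def w12_6 : Matrix (Fin 2 ⊕ Fin 2) (Fin 2 ⊕ Fin 2) (ZMod 3) :=
  Matrix.fromBlocks !![1, 1; 0, 1] !![0, 0; 0, 0] !![0, 0; 0, 0] !![1, 0; -1, 1]

/-- a matrix over `ZMod 3` -/
def w12_4 : Matrix (Fin 2 ⊕ Fin 2) (Fin 2 ⊕ Fin 2) (ZMod 3) :=
  Matrix.fromBlocks !![1, 0; 0, 1] !![0, 0; 0, 0] !![0, 0; 0, 1] !![1, 0; 0, 1]

/-- a matrix over `ZMod 3` -/
def m9 : Matrix (Fin 2 ⊕ Fin 2) (Fin 2 ⊕ Fin 2) (ZMod 3) :=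
  Matrix.fromBlocks !![0, 1; 0, 0] !![0, 0; -1, 0] !![0, 0; 1, 1] !![-1, 1; 0, 0]

/-- a matrix over `ZMod 3` -/
def m9_3 : Matrix (Fin 2 ⊕ Fin 2) (Fin 2 ⊕ Fin 2) (ZMod 3) :=
  Matrix.fromBlocks !![0, 0; -1, -1] !![1, -1; -1, 1] !![-1, 0; 0, 0] !![1, 1; 0, -1]

/-- a matrix over `ZMod 3` -/
def m9_6 : Matrix (Fin 2 ⊕ Fin 2) (Fin 2 ⊕ Fin 2) (ZMod 3) :=
  Matrix.fromBlocks !![-1, 0; -1, 1] !![1, -1; -1, 1] !![-1, 0; 0, 0] !![0, 1; 0, 1]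

/-- a matrix over `ZMod 3` -/
def m9_2 : Matrix (Fin 2 ⊕ Fin 2) (Fin 2 ⊕ Fin 2) (ZMod 3) :=
  Matrix.fromBlocks !![0, 0; 0, 0] !![-1, 0; 1, -1] !![1, 1; 0, 1] !![1, -1; -1, 0]

/-- a matrix over `ZMod 3` -/
def w9_3 : Matrix (Fin 2 ⊕ Fin 2) (Fin 2 ⊕ Fin 2) (ZMod 3) :=
  Matrix.fromBlocks !![1, 0; 0, 1] !![1, 0; 0, 0] !![0, 0; 0, 0] !![1, 0; 0, 1]

/-- a matrix over `ZMod 3` -/
def m5 : Matrix (Fin 2 ⊕ Fin 2) (Fin 2 ⊕ Fin 2) (ZMod 3) :=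
  Matrix.fromBlocks !![0, 0; 0, 0] !![-1, 0; 0, -1] !![1, 0; 0, 1] !![0, -1; -1, 1]

/-- a matrix over `ZMod 3` -/
def m5_2 : Matrix (Fin 2 ⊕ Fin 2) (Fin 2 ⊕ Fin 2) (ZMod 3) :=
  Matrix.fromBlocks !![-1, 0; 0, -1] !![0, 1; 1, -1] !![0, -1; -1, 1] !![0, -1; -1, 1]

/-- a matrix over `ZMod 3` -/
def m5_4 : Matrix (Fin 2 ⊕ Fin 2) (Fin 2 ⊕ Fin 2) (ZMod 3) :=
  Matrix.fromBlocks !![0, 1; 1, -1] !![-1, 0; 0, -1] !![1, 0; 0, 1] !![0, 0; 0, 0]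

/-- a matrix over `ZMod 3` -/
def w5 : Matrix (Fin 2 ⊕ Fin 2) (Fin 2 ⊕ Fin 2) (ZMod 3) :=
  Matrix.fromBlocks !![1, 0; 0, 1] !![1, 0; 0, 0] !![0, 0; 0, 0] !![1, 0; 0, 1]

/-! ### computations over `ZMod 3` -/

theorem m12_mem : m12 ∈ Matrix.symplecticGroup (Fin 2) (ZMod 3) := by
  rw [SymplecticGroup.mem_iff]; decide
theorem m9_mem : m9 ∈ Matrix.symplecticGroup (Fin 2) (ZMod 3) := by
  rw [SymplecticGroup.mem_iff]; decide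
theorem m5_mem : m5 ∈ Matrix.symplecticGroup (Fin 2) (ZMod 3) := by
  rw [SymplecticGroup.mem_iff]; decide
theorem w12_6_mem : w12_6 ∈ Matrix.symplecticGroup (Fin 2) (ZMod 3) := by
  rw [SymplecticGroup.mem_iff]; decide
theorem w12_4_mem : w12_4 ∈ Matrix.symplecticGroup (Fin 2) (ZMod 3) := by
  rw [SymplecticGroup.mem_iff]; decide
theorem w9_3_mem : w9_3 ∈ Matrix.symplecticGroup (Fin 2) (ZMod 3) := by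
  rw [SymplecticGroup.mem_iff]; decide
theorem w5_mem : w5 ∈ Matrix.symplecticGroup (Fin 2) (ZMod 3) := by
  rw [SymplecticGroup.mem_iff]; decide

theorem m12_pow2 : m12 ^ 2 = m12_2 := by
  rw [pow_two]; decide
theorem m12_pow4 : m12 ^ 4 = m12_4 := by
  rw [show 4 = 2 * 2 from rfl, pow_mul, m12_pow2, pow_two]; decide
theorem m12_pow6 : m12 ^ 6 = m12_6 := by
  rw [show 6 = 4 + 2 from rfl, pow_add, m12_pow2, m12_pow4]; decide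
theorem m12_pow12 : m12 ^ 12 = 1 := by
  rw [show 12 = 6 * 2 from rfl, pow_mul, m12_pow6, pow_two]; decide
theorem m12_nc6 : m12 ^ 6 * w12_6 ≠ w12_6 * m12 ^ 6 := by
  rw [m12_pow6]; decide
theorem m12_nc4 : m12 ^ 4 * w12_4 ≠ w12_4 * m12 ^ 4 := by
  rw [m12_pow4]; decide

theorem m9_pow2 : m9 ^ 2 = m9_2 := by
  rw [pow_two]; decide
theorem m9_pow3 : m9 ^ 3 = m9_3 := by
  rw [pow_succ, m9_pow2]; decide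
theorem m9_pow6 : m9 ^ 6 = m9_6 := by
  rw [show 6 = 3 * 2 from rfl, pow_mul, m9_pow3, pow_two]; decide
theorem m9_pow9 : m9 ^ 9 = -1 := by
  rw [show 9 = 6 + 3 from rfl, pow_add, m9_pow3, m9_pow6]; decide
theorem m9_nc3 : m9 ^ 3 * w9_3 ≠ w9_3 * m9 ^ 3 := by
  rw [m9_pow3]; decide

theorem m5_pow2 : m5 ^ 2 = m5_2 := by
  rw [pow_two]; decide
theorem m5_pow4 : m5 ^ 4 = m5_4 := by
  rw [show 4 = 2 * 2 from rfl, pow_mul, m5_pow2, pow_two]; decide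
theorem m5_pow5 : m5 ^ 5 = -1 := by
  rw [show 5 = 4 + 1 from rfl, pow_add, m5_pow4, pow_one]; decide
theorem m5_nc1 : m5 ^ 1 * w5 ≠ w5 * m5 ^ 1 := by
  rw [pow_one]; decide

end Cfsg.Agent.Helper5.IsoSpec
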