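import Mathlib
import Cfsg.Agent.Lib.Helper5.IsoSpecR

/-!
# The spectrum of `PSp(4,3)` is `{1,2,3,4,5,6,9,12}`
-/

namespace Cfsg.Agent.Helper5.IsoSpec

open Matrix

variable {F : Type*} [Field F]

theorem mem_center_of_coe (g : Matrix.symplecticGroup (Fin 2) F)
    (h : (g : Matrix (Fin 2 ⊕ Fin 2) (Fin 2 ⊕ Fin 2) F) = 1 ∨
      (g : Matrix (Fin 2 ⊕ Fin 2) (Fin 2 ⊕ Fin 2) F) = -1) :
    g ∈ Subgroup.center (Matrix.symplecticGroup (Fin 2) F) := by
  rw [Subgroup.mem_center_iff]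
  intro x
  apply Subtype.ext
  rw [Submonoid.coe_mul, Submonoid.coe_mul]
  rcases h with h | h <;> rw [h] <;> simp

theorem mk_pow_eq_one (g : Matrix.symplecticGroup (Fin 2) F) (k : ℕ)
    (h : (g : Matrix (Fin 2 ⊕ Fin 2) (Fin 2 ⊕ Fin 2) F) ^ k = 1 ∨
      (g : Matrix (Fin 2 ⊕ Fin 2) (Fin 2 ⊕ Fin 2) F) ^ k = -1) :
    (QuotientGroup.mk g : Cfsg.PSp 2 F) ^ k = 1 := by
  rw [← QuotientGroup.mk_pow, QuotientGroup.eq_one_iff]
  apply mem_center_of_coe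
  rwa [SubmonoidClass.coe_pow]

theorem mk_pow_ne_one (g n : Matrix.symplecticGroup (Fin 2) F) (k : ℕ)
    (h : (g : Matrix (Fin 2 ⊕ Fin 2) (Fin 2 ⊕ Fin 2) F) ^ k *
        (n : Matrix (Fin 2 ⊕ Fin 2) (Fin 2 ⊕ Fin 2) F) ≠
      (n : Matrix (Fin 2 ⊕ Fin 2) (Fin 2 ⊕ Fin 2) F) *
        (g : Matrix (Fin 2 ⊕ Fin 2) (Fin 2 ⊕ Fin 2) F) ^ k) :
    (QuotientGroup.mk g : Cfsg.PSp 2 F) ^ k ≠ 1 := by
  intro h1
  rw [← QuotientGroup.mk_pow, QuotientGroup.eq_one_iff, Subgroup.mem_center_iff] at h1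
  have h2 := congrArg (fun x : Matrix.symplecticGroup (Fin 2) F =>
    (x : Matrix (Fin 2 ⊕ Fin 2) (Fin 2 ⊕ Fin 2) F)) (h1 n)
  simp only [Submonoid.coe_mul, SubmonoidClass.coe_pow] at h2
  exact h h2.symm

theorem PSp_pow_cases [Fintype F] (hF : Fintype.card F = 3) (x : Cfsg.PSp 2 F) :
    x ^ 9 = 1 ∨ x ^ 5 = 1 ∨ x ^ 12 = 1 := by
  obtain ⟨g, rfl⟩ := QuotientGroup.mk_surjective x
  rcases palindromic g with h2 | ⟨a, b, h⟩
  · right; right
    have := mk_pow_eq_one g 2 (Or.inl h2)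
    rw [show 12 = 2 * 6 from rfl, pow_mul, this, one_pow]
  · rcases pal_cases hF _ a b h with h | h | h | h | h | h | h
    · right; right
      have := mk_pow_eq_one g 4 (Or.inr h)
      rw [show 12 = 4 * 3 from rfl, pow_mul, this, one_pow]
    · right; right
      have := mk_pow_eq_one g 6 (Or.inl h)
      rw [show 12 = 6 * 2 from rfl, pow_mul, this, one_pow]
    · right; right
      exact mk_pow_eq_one g 12 (Or.inl h)
    · left
      exact mk_pow_eq_one g 9 (Or.inl h)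
    · left
      exact mk_pow_eq_one g 9 (Or.inr h)
    · right; left
      exact mk_pow_eq_one g 5 (Or.inl h)
    · right; left
      exact mk_pow_eq_one g 5 (Or.inr h)

section lift

variable [CharP F 3]

/-- the canonical map from `ZMod 3` -/
noncomputable def iota (F : Type*) [Field F] [CharP F 3] : ZMod 3 →+* F :=
  ZMod.castHom (dvd_refl 3) F

/-- lift a symplectic matrix over `ZMod 3` -/
noncomputable def liftSp (M0 : Matrix (Fin 2 ⊕ Fin 2) (Fin 2 ⊕ Fin 2) (ZMod 3))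
    (h0 : M0 ∈ Matrix.symplecticGroup (Fin 2) (ZMod 3)) : Matrix.symplecticGroup (Fin 2) F :=
  ⟨(iota F).mapMatrix M0, SymplecticGroup.map_mem h0 (iota F)⟩

theorem coe_liftSp (M0 : Matrix (Fin 2 ⊕ Fin 2) (Fin 2 ⊕ Fin 2) (ZMod 3))
    (h0 : M0 ∈ Matrix.symplecticGroup (Fin 2) (ZMod 3)) :
    ((liftSp M0 h0 : Matrix.symplecticGroup (Fin 2) F) :
      Matrix (Fin 2 ⊕ Fin 2) (Fin 2 ⊕ Fin 2) F) = (iota F).mapMatrix M0 := rfl

theorem mapMatrix_injective :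
    Function.Injective ((iota F).mapMatrix :
      Matrix (Fin 2 ⊕ Fin 2) (Fin 2 ⊕ Fin 2) (ZMod 3) → Matrix (Fin 2 ⊕ Fin 2) (Fin 2 ⊕ Fin 2) F) := by
  intro A B h
  exact Matrix.map_injective (iota F).injective h

theorem lift_pow_eq_one (M0 : Matrix (Fin 2 ⊕ Fin 2) (Fin 2 ⊕ Fin 2) (ZMod 3))
    (h0 : M0 ∈ Matrix.symplecticGroup (Fin 2) (ZMod 3)) (k : ℕ)
    (h : M0 ^ k = 1 ∨ M0 ^ k = -1) :
    (QuotientGroup.mk (liftSp M0 h0) : Cfsg.PSp 2 F) ^ k = 1 := by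
  apply mk_pow_eq_one
  rw [coe_liftSp, ← map_pow]
  rcases h with h | h
  · left; rw [h, map_one]
  · right; rw [h, map_neg, map_one]

theorem lift_pow_ne_one (M0 W0 : Matrix (Fin 2 ⊕ Fin 2) (Fin 2 ⊕ Fin 2) (ZMod 3))
    (h0 : M0 ∈ Matrix.symplecticGroup (Fin 2) (ZMod 3))
    (hW : W0 ∈ Matrix.symplecticGroup (Fin 2) (ZMod 3)) (k : ℕ)
    (h : M0 ^ k * W0 ≠ W0 * M0 ^ k) :
    (QuotientGroup.mk (liftSp M0 h0) : Cfsg.PSp 2 F) ^ k ≠ 1 := by
  apply mk_pow_ne_one _ (liftSp W0 hW)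
  rw [coe_liftSp, coe_liftSp, ← map_pow, ← map_mul, ← map_mul]
  exact fun h' => h (mapMatrix_injective h')

theorem exists_PSp_twelve : ∃ x : Cfsg.PSp 2 F, orderOf x = 12 := by
  refine ⟨QuotientGroup.mk (liftSp m12 m12_mem), ?_⟩
  apply orderOf_eq_of_pow_and_pow_div_prime (by norm_num)
  · exact lift_pow_eq_one m12 m12_mem 12 (Or.inl m12_pow12)
  · intro p hp hd
    have hp23 : p = 2 ∨ p = 3 := by
      have hle : p ≤ 12 := Nat.le_of_dvd (by norm_num) hd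
      interval_cases p <;>
        first
          | (left; rfl)
          | (right; rfl)
          | (exfalso; revert hp; norm_num; done)
          | (exfalso; revert hd; norm_num; done)
    rcases hp23 with rfl | rfl
    · exact lift_pow_ne_one (F := F) m12 w12_6 m12_mem w12_6_mem 6 m12_nc6
    · exact lift_pow_ne_one (F := F) m12 w12_4 m12_mem w12_4_mem 4 m12_nc4

theorem exists_PSp_nine : ∃ x : Cfsg.PSp 2 F, orderOf x = 9 := by
  refine ⟨QuotientGroup.mk (liftSp m9 m9_mem), ?_⟩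
  have := orderOf_eq_prime_pow (x := (QuotientGroup.mk (liftSp m9 m9_mem) : Cfsg.PSp 2 F))
    (p := 3) (n := 1) ?_ ?_
  · simpa using this
  · simpa using lift_pow_ne_one m9 w9_3 m9_mem w9_3_mem 3 m9_nc3
  · simpa using lift_pow_eq_one (F := F) m9 m9_mem 9 (Or.inr m9_pow9)

theorem exists_PSp_five : ∃ x : Cfsg.PSp 2 F, orderOf x = 5 := by
  refine ⟨QuotientGroup.mk (liftSp m5 m5_mem), ?_⟩
  have : Fact (Nat.Prime 5) := ⟨by norm_num⟩
  apply orderOf_eq_prime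
  · exact lift_pow_eq_one m5 m5_mem 5 (Or.inr m5_pow5)
  · have := lift_pow_ne_one (F := F) m5 w5 m5_mem w5_mem 1 m5_nc1
    simpa using this

end lift

theorem PSp_spectrum [Fintype F] (hF : Fintype.card F = 3) :
    Set.range (orderOf : Cfsg.PSp 2 F → ℕ) = {1, 2, 3, 4, 5, 6, 9, 12} := by
  have : CharP F 3 := charP_of_card_eq_prime hF
  exact range_orderOf_eq (PSp_pow_cases hF) exists_PSp_twelve exists_PSp_nine exists_PSp_five

end Cfsg.Agent.Helper5.IsoSpec
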