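import Mathlib

/-!
# S3627 piece GD (helper5): arbitrarily large finite groups with element orders in `{1, 2, 7}`

The generalized dihedral group `(Z7)^k : Z2`, written out as a structure with explicit
multiplication `(e, v) * (e', v') = (e * e', v + e • v')`, `e ∈ ℤˣ`, `v ∈ Fin k → ZMod 7`.
-/

set_option autoImplicit false

namespace Cfsg.Agent.Helper3.J1Spec

/-- The generalized dihedral group `(Z7)^k : Z2` as a structure. -/
structure GdGrp (k : ℕ) where
  e : ℤˣ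
  v : Fin k → ZMod 7

namespace GdGrp

variable {k : ℕ}

theorem gd_ext {x y : GdGrp k} (h1 : x.e = y.e) (h2 : x.v = y.v) : x = y := by
  cases x; cases y; simp_all

instance gdMul : Mul (GdGrp k) := ⟨fun x y => ⟨x.e * y.e, x.v + ((x.e : ℤˣ) : ℤ) • y.v⟩⟩
instance gdOne : One (GdGrp k) := ⟨⟨1, 0⟩⟩
instance gdInv : Inv (GdGrp k) := ⟨fun x => ⟨x.e⁻¹, -((((x.e⁻¹ : ℤˣ)) : ℤ) • x.v)⟩⟩

@[simp] theorem gd_mul_e (x y : GdGrp k) : (x * y).e = x.e * y.e := rfl
@[simp] theorem gd_mul_v (x y : GdGrp k) : (x * y).v = x.v + ((x.e : ℤˣ) : ℤ) • y.v := rfl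
@[simp] theorem gd_one_e : (1 : GdGrp k).e = 1 := rfl
@[simp] theorem gd_one_v : (1 : GdGrp k).v = 0 := rfl
@[simp] theorem gd_inv_e (x : GdGrp k) : (x⁻¹).e = x.e⁻¹ := rfl
@[simp] theorem gd_inv_v (x : GdGrp k) : (x⁻¹).v = -((((x.e⁻¹ : ℤˣ)) : ℤ) • x.v) := rfl

instance gdGroup : Group (GdGrp k) :=
  Group.ofLeftAxioms
    (by
      intro x y z
      apply gd_ext
      · simp [mul_assoc]
      · simp only [gd_mul_v, gd_mul_e, Units.val_mul, smul_add, mul_smul, add_assoc])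
    (by
      intro x
      apply gd_ext
      · simp
      · simp)
    (by
      intro x
      apply gd_ext
      · simp
      · simp)

noncomputable instance gdFintype : Fintype (GdGrp k) :=
  Fintype.ofEquiv (ℤˣ × (Fin k → ZMod 7))
    { toFun := fun p => ⟨p.1, p.2⟩
      invFun := fun x => (x.e, x.v)
      left_inv := fun _ => rfl
      right_inv := fun _ => rfl }

theorem gd_card_lt : k < Fintype.card (GdGrp (k + 1)) := by
  have hinj : Function.Injective (fun v : Fin (k + 1) → ZMod 7 => (⟨1, v⟩ : GdGrp (k + 1))) := by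
    intro a b hab
    exact congrArg GdGrp.v hab
  have h1 := Fintype.card_le_of_injective _ hinj
  have h2 : Fintype.card (Fin (k + 1) → ZMod 7) = 7 ^ (k + 1) := by
    rw [Fintype.card_fun, ZMod.card, Fintype.card_fin]
  rw [h2] at h1
  have h3 : k + 1 < 7 ^ (k + 1) := Nat.lt_pow_self (by norm_num)
  omega

theorem gd_pow_rot (v : Fin k → ZMod 7) (n : ℕ) :
    (⟨1, v⟩ : GdGrp k) ^ n = ⟨1, n • v⟩ := by
  induction n with
  | zero =>
    apply gd_ext
    · simp
    · simp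
  | succ n ih =>
    rw [pow_succ, ih]
    apply gd_ext
    · simp
    · simp [add_smul]

theorem gd_seven_smul (v : Fin k → ZMod 7) : (7 : ℕ) • v = 0 := by
  funext i
  simp only [Pi.smul_apply, Pi.zero_apply, nsmul_eq_mul]
  have : ((7 : ℕ) : ZMod 7) = 0 := by decide
  rw [this, zero_mul]

theorem gd_rot_pow_seven (v : Fin k → ZMod 7) : (⟨1, v⟩ : GdGrp k) ^ 7 = 1 := by
  rw [gd_pow_rot, gd_seven_smul]
  rfl

theorem gd_refl_sq (v : Fin k → ZMod 7) : (⟨-1, v⟩ : GdGrp k) ^ 2 = 1 := by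
  rw [pow_two]
  apply gd_ext
  · simp
  · simp

theorem gd_orderOf (x : GdGrp k) : orderOf x = 1 ∨ orderOf x = 2 ∨ orderOf x = 7 := by
  obtain ⟨e, v⟩ := x
  rcases Int.units_eq_one_or e with h | h
  · subst h
    have h7 : orderOf (⟨1, v⟩ : GdGrp k) ∣ 7 := orderOf_dvd_of_pow_eq_one (gd_rot_pow_seven v)
    rcases (Nat.dvd_prime (by norm_num : Nat.Prime 7)).1 h7 with h | h
    · exact Or.inl h
    · exact Or.inr (Or.inr h)
  · subst h
    have h2 : orderOf (⟨-1, v⟩ : GdGrp k) ∣ 2 := orderOf_dvd_of_pow_eq_one (gd_refl_sq v)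
    rcases (Nat.dvd_prime Nat.prime_two).1 h2 with h | h
    · exact Or.inl h
    · exact Or.inr (Or.inl h)

theorem gd_exists_two : ∃ x : GdGrp k, orderOf x = 2 := by
  refine ⟨⟨-1, 0⟩, ?_⟩
  have : Fact (Nat.Prime 2) := ⟨Nat.prime_two⟩
  apply orderOf_eq_prime (gd_refl_sq 0)
  intro h
  have h1 : (-1 : ℤˣ) = 1 := congrArg GdGrp.e h
  exact (by decide : (-1 : ℤˣ) ≠ 1) h1

theorem gd_exists_seven : ∃ x : GdGrp (k + 1), orderOf x = 7 := by
  have h17 : (1 : ZMod 7) ≠ 0 := by decide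
  refine ⟨⟨1, fun _ => 1⟩, ?_⟩
  have : Fact (Nat.Prime 7) := ⟨by norm_num⟩
  apply orderOf_eq_prime (gd_rot_pow_seven _)
  intro h
  have h1 : (fun _ : Fin (k + 1) => (1 : ZMod 7)) = 0 := congrArg GdGrp.v h
  have h2 : (1 : ZMod 7) = 0 := congrFun h1 0
  exact h17 h2

end GdGrp

/-- Piece GD: arbitrarily large finite groups all of whose elements have order 1, 2 or 7. -/
theorem exists_gd (N : ℕ) : ∃ (K : Type) (_ : Group K) (_ : Fintype K), N < Fintype.card K ∧
    (∀ x : K, orderOf x = 1 ∨ orderOf x = 2 ∨ orderOf x = 7) ∧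
    (∃ x : K, orderOf x = 2) ∧ (∃ x : K, orderOf x = 7) :=
  ⟨GdGrp (N + 1), GdGrp.gdGroup, GdGrp.gdFintype, GdGrp.gd_card_lt, GdGrp.gd_orderOf,
    GdGrp.gd_exists_two, GdGrp.gd_exists_seven⟩

end Cfsg.Agent.Helper3.J1Spec
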