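import Mathlib
import Cfsg.Agent.Lib.Helper18.LevDefs

/-!
# S2522 (Lev), piece LEV-TRANSV (helper5's copy): the transvection case

`g = 1 + E`, `E` of rank one with `E * E = 0` (a transvection), `dim V = n ≥ 3`.  Choose a regular
nilpotent `S` with `S * E = 0 = E * S`; then `B = 1 + S`, `C = B⁻¹ * g` are regular unipotent.
-/

set_option autoImplicit false

namespace Cfsg.Agent.Helper18.Lev

open Module

universe u v

section transv5

/-- `(E + X)^(k+2) = X^(k+2)` when `E * E = 0 = E * X = X * E`. -/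
theorem transv5_pow {R : Type*} [Ring R] (E X : R) (hEE : E * E = 0) (hEX : E * X = 0)
    (hXE : X * E = 0) (k : ℕ) : (E + X) ^ (k + 2) = X ^ (k + 2) := by
  induction k with
  | zero =>
    rw [Nat.zero_add, pow_two, pow_two, add_mul, mul_add, mul_add, hEE, hEX, hXE]
    simp
  | succ k ih =>
    rw [pow_succ (E + X) (k + 2), ih, mul_add, pow_succ X (k + 2)]
    rw [pow_succ X (k + 1), mul_assoc, hXE, mul_zero, zero_add]

variable {K : Type u} [Field K] {V : Type v} [AddCommGroup V] [Module K V]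

/-- the basis-free core. -/
theorem transv5_core (n : ℕ) (hn : 3 ≤ n) (S E : Module.End K V)
    (hSn : S ^ n = 0) (hSn1 : S ^ (n - 1) ≠ 0) (hSE : S * E = 0) (hES : E * S = 0)
    (hEE : E * E = 0) :
    ∃ B C : V →ₗ[K] V, (1 + E : Module.End K V) = B ∘ₗ C ∧ RegU n B ∧ RegU n C := by
  have hnil : IsNilpotent S := ⟨n, hSn⟩
  obtain ⟨u, hu⟩ := hnil.isUnit_one_add
  have hTB : ((u⁻¹ : (Module.End K V)ˣ) : Module.End K V) * (1 + S) = 1 := by
    rw [← hu]; exact Units.inv_mul u
  have hBT : (1 + S) * ((u⁻¹ : (Module.End K V)ˣ) : Module.End K V) = 1 := by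
    rw [← hu]; exact Units.mul_inv u
  have hcomm : Commute ((u⁻¹ : (Module.End K V)ˣ) : Module.End K V) S := by
    have h1 : Commute S (u : Module.End K V) := by
      rw [hu]; exact (Commute.one_right S).add_right (Commute.refl S)
    exact (h1.units_inv_right).symm
  have hTunit : IsUnit ((u⁻¹ : (Module.End K V)ˣ) : Module.End K V) := (u⁻¹).isUnit
  generalize ((u⁻¹ : (Module.End K V)ˣ) : Module.End K V) = T at hTB hBT hcomm hTunit
  have hB1 : (1 + S - LinearMap.id : Module.End K V) = S := by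
    show (1 + S - 1 : Module.End K V) = S
    abel
  refine ⟨1 + S, T * (1 + E), ?_, ⟨?_, ?_⟩, ?_⟩
  · show (1 + E : Module.End K V) = (1 + S) * (T * (1 + E))
    rw [← mul_assoc, hBT, one_mul]
  · rw [hB1]; exact hSn
  · rw [hB1]; exact hSn1
  · have hTE : T * E = E := by
      have h1 : (1 + S) * E = E := by rw [add_mul, one_mul, hSE, add_zero]
      calc T * E = T * ((1 + S) * E) := by rw [h1]
        _ = (T * (1 + S)) * E := by rw [mul_assoc]
        _ = E := by rw [hTB, one_mul]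
    have hT1 : T - 1 = -(T * S) := by
      have h1 : T + T * S = 1 := by rw [← hTB, mul_add, mul_one]
      rw [← h1]; abel
    have hC : (T * (1 + E) - LinearMap.id : Module.End K V) = E + -(T * S) := by
      show T * (1 + E) - 1 = E + -(T * S)
      rw [mul_add, mul_one, hTE, ← hT1]; abel
    have hEX : E * -(T * S) = 0 := by
      rw [mul_neg, hcomm.eq, ← mul_assoc, hES, zero_mul, neg_zero]
    have hXE : -(T * S) * E = 0 := by
      rw [neg_mul, mul_assoc, hSE, mul_zero, neg_zero]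
    have hpow : ∀ k, (E + -(T * S)) ^ (k + 2) = (-(T * S)) ^ (k + 2) :=
      transv5_pow E (-(T * S)) hEE hEX hXE
    have hXpow : ∀ m, (-(T * S)) ^ m = (-1) ^ m * (T ^ m * S ^ m) := by
      intro m
      rw [neg_pow, hcomm.mul_pow]
    refine ⟨?_, ?_⟩
    · rw [hC]
      obtain ⟨k, rfl⟩ : ∃ k, n = k + 2 := ⟨n - 2, by omega⟩
      rw [hpow, hXpow, hSn, mul_zero, mul_zero]
    · rw [hC]
      obtain ⟨k, hk⟩ : ∃ k, n - 1 = k + 2 := ⟨n - 3, by omega⟩
      rw [hk, hpow, hXpow]
      intro h0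
      apply hSn1
      rw [hk]
      have hu1 : IsUnit ((-1 : Module.End K V) ^ (k + 2)) := (isUnit_one.neg).pow _
      have hu2 : IsUnit (T ^ (k + 2)) := hTunit.pow _
      rw [hu1.mul_right_eq_zero, hu2.mul_right_eq_zero] at h0
      exact h0


/-- a functional taking the value `1` at a given nonzero vector. -/
theorem transv5_exists_dual (u0 : V) (hu0 : u0 ≠ 0) : ∃ φ0 : V →ₗ[K] K, φ0 u0 = 1 := by
  obtain ⟨g, hg⟩ := (LinearMap.toSpanSingleton K V u0).exists_leftInverse_of_injective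
    (LinearMap.ker_toSpanSingleton K hu0)
  refine ⟨g, ?_⟩
  have h1 := LinearMap.congr_fun hg (1 : K)
  simpa using h1

/-- a shift operator along a basis indexed by `Fin (m + 2)` is regular nilpotent. -/
theorem transv5_shift (m : ℕ) (b : Basis (Fin (m + 2)) K V) :
    ∃ S : Module.End K V, S ^ (m + 2) = 0 ∧ S ^ (m + 1) ≠ 0 ∧ S (b 0) = 0 ∧
      ∀ (k : ℕ) (hk : k + 1 < m + 2), S (b ⟨k + 1, hk⟩) = b ⟨k, by omega⟩ := by
  classical
  let S : Module.End K V := b.constr K
    (fun j : Fin (m + 2) => if h : (j : ℕ) = 0 then (0 : V) else b ⟨(j : ℕ) - 1, by omega⟩)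
  have hS0 : S (b 0) = 0 := by
    show (b.constr K _) (b 0) = 0
    rw [Basis.constr_basis]
    simp
  have hSs : ∀ (k : ℕ) (hk : k + 1 < m + 2), S (b ⟨k + 1, hk⟩) = b ⟨k, by omega⟩ := by
    intro k hk
    show (b.constr K _) (b ⟨k + 1, hk⟩) = _
    rw [Basis.constr_basis]
    simp
  -- `S^k (b (j + k)) = b j`
  have hpow : ∀ (k j : ℕ) (h : j + k < m + 2), (S ^ k) (b ⟨j + k, h⟩) = b ⟨j, by omega⟩ := by
    intro k
    induction k with
    | zero => intro j h; simp
    | succ k ih =>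
      intro j h
      rw [pow_succ, Module.End.mul_apply]
      have h1 : S (b ⟨j + (k + 1), h⟩) = b ⟨j + k, by omega⟩ := hSs (j + k) (by omega)
      rw [h1]
      exact ih j (by omega)
  have hkill : ∀ (j : ℕ) (h : j < m + 2), (S ^ (j + 1)) (b ⟨j, h⟩) = 0 := by
    intro j h
    rw [pow_succ', Module.End.mul_apply]
    have h1 : (S ^ j) (b ⟨0 + j, by omega⟩) = b ⟨0, by omega⟩ := hpow j 0 (by omega)
    have h2 : (⟨0 + j, by omega⟩ : Fin (m + 2)) = ⟨j, h⟩ := Fin.ext (Nat.zero_add j)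
    rw [h2] at h1
    rw [h1]
    exact hS0
  refine ⟨S, ?_, ?_, hS0, hSs⟩
  · apply b.ext
    intro j
    have h1 : (S ^ (m + 2)) (b j) = (S ^ (m + 2 - ((j : ℕ) + 1))) ((S ^ ((j : ℕ) + 1)) (b j)) := by
      rw [← Module.End.mul_apply, ← pow_add]
      congr 2
      have := j.2
      omega
    rw [h1]
    have h2 : (S ^ ((j : ℕ) + 1)) (b j) = 0 := hkill j j.2
    rw [h2, map_zero]
    simp
  · intro h0
    have h1 : (S ^ (m + 1)) (b ⟨0 + (m + 1), by omega⟩) = b ⟨0, by omega⟩ := hpow (m + 1) 0 (by omega)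
    rw [h0] at h1
    exact b.ne_zero _ h1.symm


/-- a basis adapted to `u0 ∈ ker ψ`: first vector `u0`, all but the last in `ker ψ`. -/
theorem transv5_exists_basis [FiniteDimensional K V] (u0 : V) (ψ : V →ₗ[K] K) (hu0 : u0 ≠ 0)
    (hψ : ψ ≠ 0) (hψu : ψ u0 = 0) :
    ∃ (m : ℕ) (b : Basis (Fin (m + 2)) K V), finrank K V = m + 2 ∧ b 0 = u0 ∧
      ∀ (k : ℕ) (hk : k < m + 1), ψ (b ⟨k, by omega⟩) = 0 := by
  classical
  obtain ⟨φ0, hφ0⟩ := transv5_exists_dual (K := K) u0 hu0
  obtain ⟨w0, hw0⟩ : ∃ w0, ψ w0 ≠ 0 := by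
    by_contra hcon
    apply hψ
    ext x
    by_contra hx
    exact hcon ⟨x, hx⟩
  have hw1 : ψ ((ψ w0)⁻¹ • w0) = 1 := by
    rw [map_smul, smul_eq_mul, inv_mul_cancel₀ hw0]
  generalize (ψ w0)⁻¹ • w0 = w1 at hw1
  have hψw : ψ (w1 - φ0 w1 • u0) = 1 := by
    rw [map_sub, map_smul, hψu, smul_zero, sub_zero, hw1]
  have hφw : φ0 (w1 - φ0 w1 • u0) = 0 := by
    rw [map_sub, map_smul, hφ0, smul_eq_mul, mul_one, sub_self]
  generalize w1 - φ0 w1 • u0 = w at hψw hφw
  -- the complement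
  have hdim : finrank K V = finrank K ↥(LinearMap.ker φ0 ⊓ LinearMap.ker ψ) + 2 := by
    have h1 := LinearMap.finrank_range_add_finrank_ker (φ0.prod ψ)
    have hker : LinearMap.ker (φ0.prod ψ) = LinearMap.ker φ0 ⊓ LinearMap.ker ψ :=
      LinearMap.ker_prod φ0 ψ
    have hrange : LinearMap.range (φ0.prod ψ) = ⊤ := by
      rw [LinearMap.range_eq_top]
      rintro ⟨a, b'⟩
      refine ⟨a • u0 + b' • w, ?_⟩
      simp [hφ0, hψu, hψw, hφw]
    rw [hker, hrange, finrank_top, Module.finrank_prod, Module.finrank_self] at h1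
    omega
  generalize hM : LinearMap.ker φ0 ⊓ LinearMap.ker ψ = M at hdim
  generalize hm : finrank K ↥M = m at hdim
  let c : Basis (Fin m) K ↥M := (Module.finBasis K ↥M).reindex (finCongr hm)
  let c' : Fin m → V := fun i => ((c i : ↥M) : V)
  have hc'M : ∀ i, φ0 (c' i) = 0 ∧ ψ (c' i) = 0 := by
    intro i
    have h1 : c' i ∈ M := (c i).2
    rw [← hM] at h1
    exact ⟨h1.1, h1.2⟩
  have hc'li : LinearIndependent K c' :=
    c.linearIndependent.map' M.subtype (Submodule.ker_subtype M)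
  let v1 : Fin (m + 1) → V := Fin.snoc (α := fun _ => V) c' w
  have hv1li : LinearIndependent K v1 := by
    apply hc'li.finSnoc
    intro hmem
    have hle : Submodule.span K (Set.range c') ≤ LinearMap.ker ψ := by
      rw [Submodule.span_le]
      rintro _ ⟨i, rfl⟩
      exact (hc'M i).2
    have h2 := hle hmem
    rw [LinearMap.mem_ker, hψw] at h2
    exact one_ne_zero h2
  have hv1last : v1 (Fin.last m) = w := Fin.snoc_last (α := fun _ => V) w c'
  have hv1cast : ∀ i : Fin m, v1 i.castSucc = c' i := fun i =>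
    Fin.snoc_castSucc (α := fun _ => V) w c' i
  let v2 : Fin (m + 1 + 1) → V := Fin.cons (α := fun _ => V) u0 v1
  have hv2li : LinearIndependent K v2 := by
    apply hv1li.finCons
    intro hmem
    have hle : Submodule.span K (Set.range v1) ≤ LinearMap.ker φ0 := by
      rw [Submodule.span_le]
      rintro _ ⟨i, rfl⟩
      refine Fin.lastCases ?_ (fun i' => ?_) i
      · rw [hv1last]; exact hφw
      · rw [hv1cast]; exact (hc'M i').1
    have h2 := hle hmem
    rw [LinearMap.mem_ker, hφ0] at h2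
    exact one_ne_zero h2
  have hv20 : v2 0 = u0 := Fin.cons_zero (α := fun _ => V) u0 v1
  have hv2s : ∀ i : Fin (m + 1), v2 i.succ = v1 i := fun i =>
    Fin.cons_succ (α := fun _ => V) u0 v1 i
  have hcard : Fintype.card (Fin (m + 1 + 1)) = finrank K V := by rw [Fintype.card_fin, hdim]
  let b : Basis (Fin (m + 2)) K V := basisOfLinearIndependentOfCardEqFinrank hv2li hcard
  have hb : ∀ j, b j = v2 j := fun j =>
    congrFun (coe_basisOfLinearIndependentOfCardEqFinrank hv2li hcard) j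
  refine ⟨m, b, hdim, ?_, ?_⟩
  · rw [hb]; exact hv20
  · intro k hk
    rw [hb]
    rcases k with _ | k
    · have h0 : (⟨0, by omega⟩ : Fin (m + 2)) = 0 := rfl
      rw [h0, hv20]; exact hψu
    · have h1 : (⟨k + 1, by omega⟩ : Fin (m + 2)) = Fin.succ (⟨k, by omega⟩ : Fin (m + 1)) := rfl
      rw [h1, hv2s]
      have h2 : (⟨k, by omega⟩ : Fin (m + 1)) = Fin.castSucc (⟨k, by omega⟩ : Fin m) := rfl
      rw [h2, hv1cast]
      exact (hc'M _).2

/-- LEV-TRANSV (prefixed copy of the exact statement). -/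
theorem transv5_transvection_case [FiniteDimensional K V] (hn : 3 ≤ finrank K V) (g : V →ₗ[K] V)
    (hdet : LinearMap.det g = 1) (hr : finrank K (LinearMap.range (g - LinearMap.id)) = 1) :
    ∃ B C : V →ₗ[K] V, g = B ∘ₗ C ∧ RegU (finrank K V) B ∧ RegU (finrank K V) C := by
  classical
  obtain ⟨E, hE⟩ : ∃ E : Module.End K V, E = g - LinearMap.id := ⟨_, rfl⟩
  rw [← hE] at hr
  have hgE : g = 1 + E := by
    rw [hE]; show g = LinearMap.id + (g - LinearMap.id); abel
  let e : ↥(LinearMap.range E) ≃ₗ[K] K :=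
    LinearEquiv.ofFinrankEq _ _ (by rw [hr, Module.finrank_self])
  let ψ : V →ₗ[K] K := e.toLinearMap ∘ₗ E.rangeRestrict
  let u0 : V := ((e.symm 1 : ↥(LinearMap.range E)) : V)
  have hEv : ∀ x, E x = ψ x • u0 := by
    intro x
    have h1 : e.symm (ψ x) = E.rangeRestrict x := by simp [ψ]
    have h2 : e.symm (ψ x) = ψ x • e.symm 1 := by
      rw [← map_smul, smul_eq_mul, mul_one]
    have h3 := congrArg (Subtype.val) (h1.symm.trans h2)
    simpa using h3
  have hu0 : u0 ≠ 0 := by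
    intro h
    have h1 : (e.symm 1 : ↥(LinearMap.range E)) = 0 := Subtype.ext h
    rw [LinearEquiv.map_eq_zero_iff] at h1
    exact one_ne_zero h1
  have hψ : ψ ≠ 0 := by
    intro h
    have hE0 : E = 0 := by
      ext x; rw [hEv, h]; simp
    have h5 : finrank K ↥(LinearMap.range E) = 0 := by
      rw [hE0, LinearMap.range_zero, finrank_bot]
    rw [hr] at h5
    exact one_ne_zero h5
  have hψu : ψ u0 = 0 := by
    have h1 : g = LinearMap.transvection ψ u0 := by
      ext x
      rw [hgE, LinearMap.transvection]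
      show x + E x = x + ψ x • u0
      rw [hEv]
    have h2 := LinearMap.transvection.det ψ u0
    rw [← h1, hdet] at h2
    have h3 : (1 : K) + ψ u0 = 1 + 0 := by rw [add_zero]; exact h2.symm
    exact add_left_cancel h3
  obtain ⟨m, b, hdim, hb0, hbψ⟩ := transv5_exists_basis u0 ψ hu0 hψ hψu
  obtain ⟨S, hSn, hSn1, hS0, hSs⟩ := transv5_shift m b
  have hSu0 : S u0 = 0 := by rw [← hb0]; exact hS0
  have hSE : S * E = 0 := by
    ext x
    rw [Module.End.mul_apply, hEv, map_smul, hSu0, smul_zero]; rfl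
  have hψS : ∀ j : Fin (m + 2), ψ (S (b j)) = 0 := by
    rintro ⟨k, hk⟩
    rcases k with _ | k
    · have h0 : (⟨0, hk⟩ : Fin (m + 2)) = 0 := rfl
      rw [h0, hS0, map_zero]
    · rw [hSs k hk]
      exact hbψ k (by omega)
  have hES : E * S = 0 := by
    apply b.ext
    intro j
    rw [Module.End.mul_apply, hEv, hψS, zero_smul]; rfl
  have hEE : E * E = 0 := by
    ext x
    rw [Module.End.mul_apply, hEv, hEv, map_smul, hψu, smul_zero, zero_smul]; rfl
  rw [hdim]
  obtain ⟨B, C, h1, h2, h3⟩ := transv5_core (m + 2) (by omega) S E hSn hSn1 hSE hES hEE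
  exact ⟨B, C, by rw [hgE]; exact h1, h2, h3⟩

end transv5

end Cfsg.Agent.Helper18.Lev
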