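import Mathlib

/-!
# Landau's theorem

For every `k` there is a bound `N` such that every finite group with at most `k` conjugacy
classes has order at most `N`.
-/

namespace Cfsg.Agent.Helper5.Landau

universe v

/-- the "Egyptian fraction" finiteness lemma behind Landau's theorem -/
theorem egyptian_bound (k : ℕ) : ∀ q : ℚ, 0 < q → ∃ N : ℕ, ∀ (ι : Type v) [Fintype ι]
    (f : ι → ℕ), Fintype.card ι = k → (∀ i, 0 < f i) → ∑ i, (1 : ℚ) / (f i : ℚ) = q →
    ∀ i, f i ≤ N := by
  induction k with
  | zero =>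
    intro q _
    refine ⟨0, ?_⟩
    intro ι _ f hcard _ _ i
    exfalso
    have : IsEmpty ι := Fintype.card_eq_zero_iff.1 hcard
    exact this.false i
  | succ k IH =>
    intro q hq
    classical
    set m₀ : ℕ := ⌊((k : ℚ) + 1) / q⌋₊ with hm₀
    have IH' : ∀ m : ℕ, ∃ N : ℕ, 0 < q - 1 / (m : ℚ) → ∀ (ι : Type v) [Fintype ι]
        (f : ι → ℕ), Fintype.card ι = k → (∀ i, 0 < f i) →
        ∑ i, (1 : ℚ) / (f i : ℚ) = q - 1 / (m : ℚ) → ∀ i, f i ≤ N := by
      intro m
      by_cases h : 0 < q - 1 / (m : ℚ)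
      · obtain ⟨N, hN⟩ := IH (q - 1 / (m : ℚ)) h
        exact ⟨N, fun _ => hN⟩
      · exact ⟨0, fun h' => absurd h' h⟩
    choose Nf hNf using IH'
    refine ⟨max m₀ ((Finset.range (m₀ + 1)).sup Nf), ?_⟩
    intro ι _ f hcard hpos hsum i
    have hne : (Finset.univ : Finset ι).Nonempty := by
      rw [Finset.univ_nonempty_iff]
      apply Fintype.card_pos_iff.1
      omega
    obtain ⟨i₀, -, hmin⟩ := Finset.exists_min_image Finset.univ f hne
    have hf0 : (0 : ℚ) < (f i₀ : ℚ) := by exact_mod_cast hpos i₀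
    -- bound on the minimum
    have hle : q ≤ ((k : ℚ) + 1) / (f i₀ : ℚ) := by
      rw [← hsum]
      have h1 : ∑ i : ι, (1 : ℚ) / (f i : ℚ) ≤ ∑ _i : ι, (1 : ℚ) / (f i₀ : ℚ) := by
        apply Finset.sum_le_sum
        intro j _
        apply one_div_le_one_div_of_le hf0
        exact_mod_cast hmin j (Finset.mem_univ j)
      rw [Finset.sum_const, Finset.card_univ, hcard, nsmul_eq_mul] at h1
      have h2 : ((k + 1 : ℕ) : ℚ) * (1 / (f i₀ : ℚ)) = ((k : ℚ) + 1) / (f i₀ : ℚ) := by
        push_cast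
        ring
      rw [h2] at h1
      exact h1
    have hfi₀ : f i₀ ≤ m₀ := by
      rw [hm₀]
      apply Nat.le_floor
      rw [le_div_iff₀ hq]
      rw [le_div_iff₀ hf0] at hle
      linarith
    by_cases hi : i = i₀
    · rw [hi]
      exact le_trans hfi₀ (le_max_left _ _)
    · -- the remaining indices
      have hsplit : ∑ j : ι, (1 : ℚ) / (f j : ℚ) =
          1 / (f i₀ : ℚ) + ∑ j : {j : ι // j ≠ i₀}, (1 : ℚ) / (f (j : ι) : ℚ) := by
        rw [← Finset.add_sum_erase Finset.univ _ (Finset.mem_univ i₀)]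
        congr 1
        rw [Finset.sum_subtype (Finset.univ.erase i₀) (p := fun j => j ≠ i₀) (fun j => by simp)]
      have hsum' : ∑ j : {j : ι // j ≠ i₀}, (1 : ℚ) / (f (j : ι) : ℚ) = q - 1 / (f i₀ : ℚ) := by
        rw [← hsum, hsplit]
        ring
      have hpos' : 0 < q - 1 / (f i₀ : ℚ) := by
        rw [← hsum']
        apply Finset.sum_pos'
        · intro j _
          have : (0 : ℚ) < (f (j : ι) : ℚ) := by exact_mod_cast hpos j
          positivity
        · refine ⟨⟨i, hi⟩, Finset.mem_univ _, ?_⟩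
          have : (0 : ℚ) < (f i : ℚ) := by exact_mod_cast hpos i
          positivity
      have hcard' : Fintype.card {j : ι // j ≠ i₀} = k := by
        rw [Fintype.card_subtype_compl, Fintype.card_subtype_eq, hcard]
        omega
      have := hNf (f i₀) hpos' {j : ι // j ≠ i₀} (fun j => f (j : ι)) hcard'
        (fun j => hpos j) hsum' ⟨i, hi⟩
      apply le_trans this
      apply le_trans _ (le_max_right _ _)
      apply Finset.le_sup (f := Nf)
      rw [Finset.mem_range]
      omega

universe u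

/-- **Landau's theorem**: the order of a finite group is bounded in terms of its class number -/
theorem landau (k : ℕ) : ∃ N : ℕ, ∀ (G : Type u) [Group G] [Finite G],
    Nat.card (ConjClasses G) ≤ k → Nat.card G ≤ N := by
  classical
  have h : ∀ j : ℕ, ∃ N : ℕ, ∀ (ι : Type u) [Fintype ι]
      (f : ι → ℕ), Fintype.card ι = j → (∀ i, 0 < f i) → ∑ i, (1 : ℚ) / (f i : ℚ) = 1 →
      ∀ i, f i ≤ N := fun j => egyptian_bound j 1 one_pos
  choose Nf hNf using h
  refine ⟨(Finset.range (k + 1)).sup Nf, ?_⟩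
  intro G _ _ hk
  haveI : Fintype G := Fintype.ofFinite G
  haveI : Fintype (ConjClasses G) := Fintype.ofFinite _
  have hG0 : (0 : ℚ) < (Nat.card G : ℚ) := by exact_mod_cast Nat.card_pos
  -- the class equation
  have hce : ∑ c : ConjClasses G, Nat.card c.carrier = Nat.card G := by
    have := sum_conjClasses_card_eq_card G
    rw [Nat.card_eq_fintype_card, ← this]
    apply Finset.sum_congr rfl
    intro c _
    rw [Nat.card_eq_fintype_card, Set.toFinset_card]
  have hdvd : ∀ c : ConjClasses G, Nat.card c.carrier ∣ Nat.card G := by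
    rw [ConjClasses.forall_isConj]
    intro g
    haveI : Fintype (MulAction.orbit (ConjAct G) g) := Fintype.ofFinite _
    haveI : Fintype (MulAction.stabilizer (ConjAct G) g) := Fintype.ofFinite _
    have h := MulAction.card_orbit_mul_card_stabilizer_eq_card_group (ConjAct G) g
    rw [← ConjAct.orbit_eq_carrier_conjClasses]
    refine ⟨Fintype.card (MulAction.stabilizer (ConjAct G) g), ?_⟩
    rw [Nat.card_eq_fintype_card, Nat.card_eq_fintype_card, h, ConjAct.card]
  have hcpos : ∀ c : ConjClasses G, 0 < Nat.card c.carrier := by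
    rw [ConjClasses.forall_isConj]
    intro g
    haveI : Nonempty (ConjClasses.mk g).carrier := ⟨⟨g, ConjClasses.mem_carrier_mk⟩⟩
    exact Nat.card_pos
  set f : ConjClasses G → ℕ := fun c => Nat.card G / Nat.card c.carrier with hf
  have hfpos : ∀ c, 0 < f c := by
    intro c
    apply Nat.div_pos (Nat.le_of_dvd Nat.card_pos (hdvd c)) (hcpos c)
  have hfq : ∀ c, (1 : ℚ) / (f c : ℚ) = (Nat.card c.carrier : ℚ) / (Nat.card G : ℚ) := by
    intro c
    obtain ⟨m, hm⟩ := hdvd c
    have hc0 : (Nat.card c.carrier : ℚ) ≠ 0 := by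
      have := hcpos c
      exact_mod_cast this.ne'
    have hfm : f c = m := by
      rw [hf]
      show Nat.card G / Nat.card c.carrier = m
      rw [hm, Nat.mul_div_cancel_left _ (hcpos c)]
    rw [hfm]
    have hm0 : (m : ℚ) ≠ 0 := by
      intro h0
      have : m = 0 := by exact_mod_cast h0
      rw [this, mul_zero] at hm
      have := Nat.card_pos (α := G)
      omega
    have : (Nat.card G : ℚ) = (Nat.card c.carrier : ℚ) * (m : ℚ) := by exact_mod_cast hm
    rw [this]
    field_simp
  have hsum : ∑ c : ConjClasses G, (1 : ℚ) / (f c : ℚ) = 1 := by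
    simp_rw [hfq]
    rw [← Finset.sum_div, ← Nat.cast_sum, hce]
    exact div_self hG0.ne'
  have hj : Fintype.card (ConjClasses G) ≤ k := by
    rw [← Nat.card_eq_fintype_card]
    exact hk
  have hb := hNf (Fintype.card (ConjClasses G)) (ConjClasses G) f rfl hfpos hsum
    (ConjClasses.mk (1 : G))
  have hone : Nat.card (ConjClasses.mk (1 : G)).carrier = 1 := by
    rw [Nat.card_eq_one_iff_unique]
    refine ⟨⟨?_⟩, ⟨⟨1, ConjClasses.mem_carrier_mk⟩⟩⟩
    rintro ⟨a, ha⟩ ⟨b, hb'⟩
    rw [ConjClasses.mem_carrier_iff_mk_eq, ConjClasses.mk_eq_mk_iff_isConj] at ha hb'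
    apply Subtype.ext
    show a = b
    rw [isConj_comm, isConj_one_right] at ha hb'  
    rw [ha, hb']
  have hf1 : f (ConjClasses.mk (1 : G)) = Nat.card G := by
    rw [hf]
    show Nat.card G / Nat.card (ConjClasses.mk (1 : G)).carrier = Nat.card G
    rw [hone, Nat.div_one]
  rw [hf1] at hb
  apply le_trans hb
  apply Finset.le_sup (f := Nf)
  rw [Finset.mem_range]
  omega

end Cfsg.Agent.Helper5.Landau
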