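import Mathlib

/-!
# Conjugacy of complements of an abelian normal Hall subgroup, and a Frattini argument
(helper5's library)
-/

set_option autoImplicit false

namespace Cfsg.Agent.Helper5.SZConj

open MulOpposite MulAction Subgroup
open scoped Pointwise

variable {G : Type*} [Group G]

/-- a complement of an abelian normal Hall subgroup is the stabilizer of a point of
`QuotientDiff` -/
theorem eq_stabilizer_of_isComplement' [Finite G] (H : Subgroup G) [IsMulCommutative H] [H.Normal]
    (hH : Nat.Coprime (Nat.card H) H.index) (K : Subgroup G) (hK : IsComplement' H K) :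
    ∃ α : H.QuotientDiff, K = stabilizer G α := by
  have hKc : IsComplement (K : Set G) (H : Set G) := hK.symm
  let T : H.LeftTransversal := ⟨(K : Set G), hKc⟩
  let α : H.QuotientDiff := Quotient.mk'' T
  refine ⟨α, ?_⟩
  have hle : K ≤ stabilizer G α := by
    intro k hk
    rw [mem_stabilizer_iff]
    show Quotient.mk'' (op k⁻¹ • T) = Quotient.mk'' T
    congr 1
    apply Subtype.ext
    show op k⁻¹ • (K : Set G) = (K : Set G)
    ext x
    constructor
    · rintro ⟨y, hy, rfl⟩
      show y * k⁻¹ ∈ K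
      exact K.mul_mem hy (K.inv_mem hk)
    · intro hx
      refine ⟨x * k, K.mul_mem hx hk, ?_⟩
      show x * k * k⁻¹ = x
      group
  have hst : IsComplement' H (stabilizer G α) := isComplement'_stabilizer_of_coprime hH
  have h1 := hK.card_mul_card
  have h2 := hst.card_mul_card
  have hpos : 0 < Nat.card H := Nat.card_pos
  have hcard : Nat.card (stabilizer G α) = Nat.card K := by
    have : Nat.card H * Nat.card (stabilizer G α) = Nat.card H * Nat.card K := by rw [h1, h2]
    exact Nat.eq_of_mul_eq_mul_left hpos this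
  exact Subgroup.eq_of_le_of_card_ge hle (le_of_eq hcard)

/-- **Schur–Zassenhaus, conjugacy part, abelian kernel.** -/
theorem exists_conj_of_isComplement' [Finite G] (H : Subgroup G) [IsMulCommutative H] [H.Normal]
    (hH : Nat.Coprime (Nat.card H) H.index) (K₁ K₂ : Subgroup G) (h₁ : IsComplement' H K₁)
    (h₂ : IsComplement' H K₂) : ∃ h ∈ H, K₂ = K₁.map (MulAut.conj h).toMonoidHom := by
  obtain ⟨α₁, rfl⟩ := eq_stabilizer_of_isComplement' H hH K₁ h₁
  obtain ⟨α₂, rfl⟩ := eq_stabilizer_of_isComplement' H hH K₂ h₂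
  obtain ⟨h, hh⟩ := exists_smul_eq hH α₁ α₂
  refine ⟨h, h.2, ?_⟩
  have : (h : G) • α₁ = α₂ := hh
  rw [← this, MulAction.stabilizer_smul_eq_stabilizer_map_conj]

end Cfsg.Agent.Helper5.SZConj

namespace Cfsg.Agent.Helper5.SZConj

open Subgroup

variable {G : Type*} [Group G]

/-- **Schur–Zassenhaus + Frattini** for an abelian normal Hall subgroup `V` of a normal subgroup
`A`: `V` has a complement `Q` in `A` with `G = V N_G(Q)`. -/
theorem exists_complement_frattini [Finite G] (V A : Subgroup G) [hVn : V.Normal] [hAn : A.Normal]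
    (hVA : V ≤ A) (hVc : ∀ x ∈ V, ∀ y ∈ V, x * y = y * x)
    (hcop : Nat.Coprime (Nat.card V) (V.relIndex A)) :
    ∃ Q : Subgroup G, Q ≤ A ∧ V ⊓ Q = ⊥ ∧ V ⊔ Q = A ∧ Nat.card Q = V.relIndex A ∧
      V ⊔ Subgroup.normalizer (Q : Set G) = ⊤ := by
  classical
  set H : Subgroup ↥A := V.subgroupOf A with hHdef
  haveI hHn : H.Normal := hVn.subgroupOf A
  haveI : IsMulCommutative H :=
    ⟨⟨fun a b => Subtype.ext (Subtype.ext (hVc _ a.2 _ b.2))⟩⟩
  have hcardH : Nat.card H = Nat.card V :=
    Nat.card_congr (Subgroup.subgroupOfEquivOfLe hVA).toEquiv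
  have hidx : H.index = V.relIndex A := rfl
  have hcop' : Nat.Coprime (Nat.card H) H.index := by rw [hcardH, hidx]; exact hcop
  obtain ⟨K, hK⟩ := Subgroup.exists_right_complement'_of_coprime hcop'
  set Q : Subgroup G := K.map A.subtype with hQdef
  have hQA : Q ≤ A := Subgroup.map_subtype_le K
  have hcardQ : Nat.card Q = Nat.card K :=
    Subgroup.card_map_of_injective (Subgroup.subtype_injective A)
  have hposH : 0 < Nat.card H := Nat.card_pos
  have hcardK : Nat.card K = V.relIndex A := by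
    have h1 := hK.card_mul_card
    have h2 := H.card_mul_index
    rw [← hidx]
    exact Nat.eq_of_mul_eq_mul_left hposH (by rw [h1, h2])
  have hVQ : V ⊓ Q = ⊥ := by
    rw [eq_bot_iff]
    rintro x ⟨hxV, hxQ⟩
    obtain ⟨k, hk, rfl⟩ := hxQ
    have hkH : k ∈ H := hxV
    have : k ∈ H ⊓ K := ⟨hkH, hk⟩
    rw [hK.disjoint.eq_bot, Subgroup.mem_bot] at this
    rw [Subgroup.mem_bot, this]
    rfl
  have hsup : V ⊔ Q = A := by
    apply le_antisymm (sup_le hVA hQA)
    intro a ha
    have htop : (⟨a, ha⟩ : ↥A) ∈ H ⊔ K := by rw [hK.sup_eq_top]; trivial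
    have hmap : A.subtype ⟨a, ha⟩ ∈ (H ⊔ K).map A.subtype := Subgroup.mem_map_of_mem _ htop
    rw [Subgroup.map_sup] at hmap
    have hle : H.map A.subtype ⊔ K.map A.subtype ≤ V ⊔ Q := by
      apply sup_le_sup _ le_rfl
      rintro _ ⟨y, hy, rfl⟩
      exact hy
    exact hle hmap
  refine ⟨Q, hQA, hVQ, hsup, by rw [hcardQ, hcardK], ?_⟩
  rw [eq_top_iff]
  intro g _
  set Qg : Subgroup G := Q.map (MulAut.conj g).toMonoidHom with hQgdef
  have hQgA : Qg ≤ A := by
    rintro _ ⟨q, hq, rfl⟩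
    exact hAn.conj_mem q (hQA hq) g
  set Kg : Subgroup ↥A := Qg.subgroupOf A with hKgdef
  have hcardKg : Nat.card Kg = Nat.card K := by
    rw [hKgdef, Nat.card_congr (Subgroup.subgroupOfEquivOfLe hQgA).toEquiv, hQgdef,
      Subgroup.card_map_of_injective (MulAut.conj g).injective, hcardQ]
  have hKg : IsComplement' H Kg := by
    apply isComplement'_of_coprime
    · rw [hcardKg]; exact hK.card_mul_card
    · rw [hcardKg, hcardK, hcardH]; exact hcop
  obtain ⟨h, hhH, hconj⟩ := exists_conj_of_isComplement' H hcop' K Kg hK hKg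
  have hnorm : (h : G)⁻¹ * g ∈ Subgroup.normalizer (Q : Set G) := by
    apply Subgroup.mem_normalizer_fintype
    intro n hn
    have hn' : n ∈ Q := hn
    have h1 : g * n * g⁻¹ ∈ Qg := ⟨n, hn', rfl⟩
    have h2 : (⟨g * n * g⁻¹, hQgA h1⟩ : ↥A) ∈ Kg := h1
    rw [hconj] at h2
    obtain ⟨k, hk, hkeq⟩ := h2
    have h3 : (h : G) * (k : G) * (h : G)⁻¹ = g * n * g⁻¹ := by
      have := congrArg (fun x : ↥A => (x : G)) hkeq
      simpa using this
    have h4 : (h : G)⁻¹ * g * n * ((h : G)⁻¹ * g)⁻¹ = (k : G) := by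
      have : (h : G)⁻¹ * g * n * ((h : G)⁻¹ * g)⁻¹ = (h : G)⁻¹ * (g * n * g⁻¹) * (h : G) := by
        group
      rw [this, ← h3]
      group
    show (h : G)⁻¹ * g * n * ((h : G)⁻¹ * g)⁻¹ ∈ Q
    rw [h4]
    exact ⟨k, hk, rfl⟩
  have hg : g = (h : G) * ((h : G)⁻¹ * g) := by group
  rw [hg]
  exact Subgroup.mul_mem_sup hhH hnorm

end Cfsg.Agent.Helper5.SZConj
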