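import Mathlib
import Cfsg.Agent.Lib.Helper5.SZConj
import Cfsg.Agent.Lib.Helper23.PSolvable

/-!
# Groups whose maximal subgroups are `p`-nilpotent or of prime index (helper5's library)

`p`-length at most two, by induction on the order.
-/

set_option autoImplicit false

namespace Cfsg.Agent.Helper5.MaxPNilp

open Subgroup
open scoped Pointwise

universe u

variable {G : Type*} [Group G]

/-- every maximal subgroup has a normal `p`-complement or has prime index -/
def MaxHyp (p : ℕ) (G : Type*) [Group G] : Prop :=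
  ∀ M : Subgroup G, IsCoatom M →
    (∃ K : Subgroup G, K ≤ M ∧ M ≤ Subgroup.normalizer (K : Set G) ∧ ¬ p ∣ Nat.card K ∧
      ∃ k : ℕ, K.relIndex M = p ^ k) ∨ M.index.Prime

/-- a normal chain above `V` with factors `p'`, `p`, `p'`, `p`, `p'` -/
def ChainOver (p : ℕ) (V : Subgroup G) : Prop :=
  ∃ A B C D : Subgroup G, A.Normal ∧ B.Normal ∧ C.Normal ∧ D.Normal ∧
    V ≤ A ∧ A ≤ B ∧ B ≤ C ∧ C ≤ D ∧
    ¬ p ∣ V.relIndex A ∧ (∃ k : ℕ, A.relIndex B = p ^ k) ∧ ¬ p ∣ B.relIndex C ∧
    (∃ k : ℕ, C.relIndex D = p ^ k) ∧ ¬ p ∣ D.index ∧ (p = 2 → D = ⊤)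

theorem maxHyp_of_stmt (p : ℕ)
    (hmax : ∀ M : Subgroup G, IsCoatom M →
      (∃ K : Subgroup ↥M, K.Normal ∧ ¬ p ∣ Nat.card K ∧ ∃ k : ℕ, K.index = p ^ k) ∨
        (M.index).Prime) : MaxHyp p G := by
  intro M hM
  rcases hmax M hM with ⟨K, hKn, hKp, k, hk⟩ | h
  · left
    refine ⟨K.map M.subtype, Subgroup.map_subtype_le K, ?_, ?_, k, ?_⟩
    · intro m hm
      rw [Subgroup.mem_normalizer_iff]
      intro x
      constructor
      · rintro ⟨y, hy, rfl⟩
        refine ⟨⟨m, hm⟩ * y * ⟨m, hm⟩⁻¹, hKn.conj_mem y hy ⟨m, hm⟩, ?_⟩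
        simp
      · rintro ⟨y, hy, hyx⟩
        refine ⟨⟨m, hm⟩⁻¹ * y * ⟨m, hm⟩, ?_, ?_⟩
        · have := hKn.conj_mem y hy (⟨m, hm⟩⁻¹)
          simpa using this
        · have h1 : (y : G) = m * x * m⁻¹ := hyx
          simp only [Subgroup.subtype_apply, Subgroup.coe_mul, Subgroup.coe_inv, h1]
          group
    · rwa [Subgroup.card_map_of_injective M.subtype_injective]
    · rw [Subgroup.relIndex, Subgroup.subgroupOf,
        Subgroup.comap_map_eq_self_of_injective M.subtype_injective]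
      exact hk
  · right
    exact h

theorem isCoatom_comap_mk [Finite G] (N : Subgroup G) [N.Normal] (Mb : Subgroup (G ⧸ N))
    (h : IsCoatom Mb) : IsCoatom (Mb.comap (QuotientGroup.mk' N)) := by
  have hsurj := QuotientGroup.mk'_surjective N
  refine ⟨?_, ?_⟩
  · intro htop
    apply h.1
    rw [← Subgroup.map_comap_eq_self_of_surjective hsurj Mb, htop,
      Subgroup.map_top_of_surjective _ hsurj]
  · intro L hL
    have hNL : (QuotientGroup.mk' N).ker ≤ L := by
      refine le_trans ?_ hL.le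
      intro x hx
      rw [Subgroup.mem_comap]
      rw [MonoidHom.mem_ker] at hx
      rw [hx]
      exact Mb.one_mem
    have hLc : (L.map (QuotientGroup.mk' N)).comap (QuotientGroup.mk' N) = L :=
      Subgroup.comap_map_eq_self hNL
    have hle : Mb ≤ L.map (QuotientGroup.mk' N) := by
      rw [← Subgroup.map_comap_eq_self_of_surjective hsurj Mb]
      exact Subgroup.map_mono hL.le
    rcases hle.lt_or_eq with hlt | heq
    · have := h.2 _ hlt
      rw [← hLc, this, Subgroup.comap_top]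
    · exfalso
      rw [heq, hLc] at hL
      exact lt_irrefl _ hL

theorem MaxHyp.quotient [Finite G] {p : ℕ} [hp : Fact p.Prime] (h : MaxHyp p G)
    (N : Subgroup G) [N.Normal] : MaxHyp p (G ⧸ N) := by
  intro Mb hMb
  have hsurj := QuotientGroup.mk'_surjective N
  set f := QuotientGroup.mk' N with hf
  set M := Mb.comap f with hMdef
  have hM : IsCoatom M := isCoatom_comap_mk N Mb hMb
  have hMmap : M.map f = Mb := Subgroup.map_comap_eq_self_of_surjective hsurj Mb
  have hNM : f.ker ≤ M := by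
    intro x hx
    rw [hMdef, Subgroup.mem_comap]
    rw [MonoidHom.mem_ker] at hx
    rw [hx]
    exact Mb.one_mem
  rcases h M hM with ⟨K, hKM, hMK, hKp, k, hk⟩ | hidx
  · left
    refine ⟨K.map f, ?_, ?_, ?_, ?_⟩
    · rw [← hMmap]
      exact Subgroup.map_mono hKM
    · intro xb hxb
      rw [← hMmap] at hxb
      obtain ⟨x, hx, rfl⟩ := hxb
      have hxn := hMK hx
      rw [Subgroup.mem_normalizer_iff] at hxn
      rw [Subgroup.mem_normalizer_iff]
      intro yb
      constructor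
      · rintro ⟨y, hy, rfl⟩
        refine ⟨x * y * x⁻¹, (hxn y).mp hy, ?_⟩
        simp
      · rintro ⟨z, hz, hzy⟩
        obtain ⟨y, rfl⟩ := hsurj yb
        have h1 : x⁻¹ * z * x⁻¹⁻¹ ∈ K := by
          have := (hxn (x⁻¹ * z * x⁻¹⁻¹)).mpr (by simpa [mul_assoc] using hz)
          exact this
        refine ⟨x⁻¹ * z * x⁻¹⁻¹, h1, ?_⟩
        rw [map_mul, map_mul, hzy]
        simp [mul_assoc]
    · intro hdvd
      apply hKp
      exact dvd_trans hdvd (Subgroup.card_map_dvd K f)
    · have h1 : (K.map f).relIndex Mb = (K ⊔ f.ker).relIndex M := by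
        rw [← hMmap, Subgroup.relIndex_map_map, sup_of_le_left hNM]
      have h2 : K.relIndex (K ⊔ f.ker) * (K ⊔ f.ker).relIndex M = K.relIndex M :=
        Subgroup.relIndex_mul_relIndex K (K ⊔ f.ker) M le_sup_left (sup_le hKM hNM)
      have h3 : (K.map f).relIndex Mb ∣ p ^ k := by
        rw [h1, ← hk, ← h2]
        exact Dvd.intro_left _ rfl
      obtain ⟨j, _, hj⟩ := (Nat.dvd_prime_pow hp.out).mp h3
      exact ⟨j, hj⟩
  · right
    rw [hMdef, Subgroup.index_comap_of_surjective Mb hsurj] at hidx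
    exact hidx

theorem chainOver_of_quotient [Finite G] {p : ℕ} (N : Subgroup G) [N.Normal]
    (h : ChainOver p (⊥ : Subgroup (G ⧸ N))) : ChainOver p N := by
  obtain ⟨A, B, C, D, hA, hB, hC, hD, -, hAB, hBC, hCD, hpA, hpB, hpC, hpD, hpG, h2⟩ := h
  have hsurj := QuotientGroup.mk'_surjective N
  set f := QuotientGroup.mk' N with hf
  have hN : N = (⊥ : Subgroup (G ⧸ N)).comap f := by
    rw [MonoidHom.comap_bot, hf, QuotientGroup.ker_mk']
  have hrel : ∀ X Y : Subgroup (G ⧸ N), (X.comap f).relIndex (Y.comap f) = X.relIndex Y := by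
    intro X Y
    rw [Subgroup.relIndex_comap, Subgroup.map_comap_eq_self_of_surjective hsurj]
  refine ⟨A.comap f, B.comap f, C.comap f, D.comap f, hA.comap f, hB.comap f, hC.comap f,
    hD.comap f, ?_, Subgroup.comap_mono hAB, Subgroup.comap_mono hBC, Subgroup.comap_mono hCD,
    ?_, ?_, ?_, ?_, ?_, ?_⟩
  · exact hN.le.trans (Subgroup.comap_mono bot_le)
  · have h0 : N.relIndex (A.comap f) = ((⊥ : Subgroup (G ⧸ N)).comap f).relIndex (A.comap f) :=
      congrArg (fun X : Subgroup G => X.relIndex (A.comap f)) hN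
    rw [h0, hrel ⊥ A]
    exact hpA
  · rw [hrel]; exact hpB
  · rw [hrel]; exact hpC
  · rw [hrel]; exact hpD
  · rw [Subgroup.index_comap_of_surjective D hsurj]; exact hpG
  · intro hp2
    rw [h2 hp2, Subgroup.comap_top]

theorem chainOver_bot_of_pprime [Finite G] {p : ℕ} [hp : Fact p.Prime] (N : Subgroup G)
    (hN : ¬ p ∣ Nat.card N) (h : ChainOver p N) : ChainOver p (⊥ : Subgroup G) := by
  obtain ⟨A, B, C, D, hA, hB, hC, hD, hNA, hAB, hBC, hCD, hpA, hpB, hpC, hpD, hpG, h2⟩ := h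
  refine ⟨A, B, C, D, hA, hB, hC, hD, bot_le, hAB, hBC, hCD, ?_, hpB, hpC, hpD, hpG, h2⟩
  have h1 := Subgroup.relIndex_mul_relIndex ⊥ N A bot_le hNA
  rw [← h1, Subgroup.relIndex_bot_left]
  intro hdvd
  rcases (Nat.Prime.dvd_mul hp.out).mp hdvd with h | h
  · exact hN h
  · exact hpA h

theorem exists_minimal_normal [Finite G] (L : Subgroup G) (hLn : L.Normal) (hL : L ≠ ⊥) :
    ∃ V : Subgroup G, V.Normal ∧ V ≠ ⊥ ∧ V ≤ L ∧
      ∀ W : Subgroup G, W.Normal → W ≤ V → W = ⊥ ∨ W = V := by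
  induction' hn : Nat.card L using Nat.strong_induction_on with n ih generalizing L
  by_cases hmin : ∀ W : Subgroup G, W.Normal → W ≤ L → W = ⊥ ∨ W = L
  · exact ⟨L, hLn, hL, le_rfl, hmin⟩
  · push_neg at hmin
    obtain ⟨W, hWn, hWL, hW0, hW1⟩ := hmin
    have hlt : Nat.card W < n := by
      rw [← hn]
      by_contra hc
      push_neg at hc
      exact hW1 (Subgroup.eq_of_le_of_card_ge hWL hc)
    obtain ⟨V, hVn, hV0, hVW, hVmin⟩ := ih _ hlt W hWn hW0 rfl
    exact ⟨V, hVn, hV0, hVW.trans hWL, hVmin⟩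

theorem abelian_of_minimal [Finite G] {p : ℕ} [hp : Fact p.Prime] (V : Subgroup G)
    [hVn : V.Normal] (hVne : V ≠ ⊥) (hVp : IsPGroup p V)
    (hVmin : ∀ W : Subgroup G, W.Normal → W ≤ V → W = ⊥ ∨ W = V) :
    ∀ x ∈ V, ∀ y ∈ V, x * y = y * x := by
  haveI : Nontrivial V := (Subgroup.nontrivial_iff_ne_bot V).mpr hVne
  have hZ : Nontrivial (Subgroup.center V) := hVp.center_nontrivial
  haveI : ((Subgroup.center V).map V.subtype).Normal := inferInstance
  have hZne : (Subgroup.center V).map V.subtype ≠ ⊥ := by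
    intro h
    rw [Subgroup.map_eq_bot_iff_of_injective _ V.subtype_injective] at h
    rw [Subgroup.nontrivial_iff_ne_bot] at hZ
    exact hZ h
  rcases hVmin ((Subgroup.center V).map V.subtype) inferInstance (Subgroup.map_subtype_le _) with h | h
  · exact absurd h hZne
  · intro x hx y hy
    rw [← h] at hx
    obtain ⟨z, hz, rfl⟩ := hx
    rw [SetLike.mem_coe, Subgroup.mem_center_iff] at hz
    have := hz ⟨y, hy⟩
    have h2 := congrArg Subtype.val this
    simpa using h2.symm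

theorem mem_sup_normal_left (V L : Subgroup G) [V.Normal] {g : G} (hg : g ∈ V ⊔ L) :
    ∃ v ∈ V, ∃ l ∈ L, v * l = g := by
  rw [← SetLike.mem_coe, Subgroup.normal_mul] at hg
  obtain ⟨v, hv, l, hl, h⟩ := Set.mem_mul.mp hg
  exact ⟨v, hv, l, hl, h⟩

theorem inf_normal_of_sup_eq_top (V L : Subgroup G) [hV : V.Normal]
    (hVc : ∀ x ∈ V, ∀ y ∈ V, x * y = y * x) (h : V ⊔ L = ⊤) : (V ⊓ L).Normal := by
  constructor
  intro w hw g
  have hg : g ∈ V ⊔ L := by rw [h]; trivial
  obtain ⟨v, hv, l, hl, rfl⟩ := mem_sup_normal_left V L hg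
  have h1 : l * w * l⁻¹ ∈ V := hV.conj_mem w hw.1 l
  have h2 : l * w * l⁻¹ ∈ L := L.mul_mem (L.mul_mem hl hw.2) (L.inv_mem hl)
  have h3 : v * l * w * (v * l)⁻¹ = l * w * l⁻¹ := by
    have := hVc v hv (l * w * l⁻¹) h1
    calc v * l * w * (v * l)⁻¹ = v * (l * w * l⁻¹) * v⁻¹ := by group
      _ = (l * w * l⁻¹) * v * v⁻¹ := by rw [this]
      _ = l * w * l⁻¹ := by group
  rw [h3]
  exact ⟨h1, h2⟩

theorem index_centralizer_dvd [Finite G] {p : ℕ} [hp : Fact p.Prime] (V : Subgroup G)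
    [V.Normal] (hV : Nat.card V = p) :
    (Subgroup.centralizer (V : Set G)).index ∣ p - 1 := by
  let φ : G →* MulAut V := MulAut.conjNormal
  have hker : φ.ker = Subgroup.centralizer (V : Set G) := by
    ext g
    rw [MonoidHom.mem_ker, Subgroup.mem_centralizer_iff]
    constructor
    · intro h v hv
      have h1 := DFunLike.congr_fun h ⟨v, hv⟩
      have h2 : g * v * g⁻¹ = v := by
        have := congrArg Subtype.val h1
        simpa [φ, MulAut.conjNormal_apply] using this
      calc v * g = (g * v * g⁻¹) * g := by rw [h2]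
        _ = g * v := by group
    · intro h
      ext ⟨v, hv⟩
      show ((MulAut.conjNormal g : MulAut V) ⟨v, hv⟩ : G) = v
      rw [MulAut.conjNormal_apply]
      show g * v * g⁻¹ = v
      rw [← h v hv]
      group
  haveI : IsCyclic V := isCyclic_of_prime_card hV
  have h1 : Nat.card (MulAut V) = p - 1 := by
    rw [IsCyclic.card_mulAut, hV, Nat.totient_prime hp.out]
  rw [← hker, Subgroup.index_ker, ← h1]
  exact Subgroup.card_subgroup_dvd_card _


theorem not_dvd_one {p : ℕ} [hp : Fact p.Prime] : ¬ p ∣ 1 := by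
  intro h
  exact hp.out.one_lt.ne' (Nat.dvd_one.mp h)

theorem isComplement'_of_inf_sup (V M : Subgroup G) [V.Normal] (hVM : V ⊓ M = ⊥)
    (hsup : V ⊔ M = ⊤) : Subgroup.IsComplement' V M := by
  apply Subgroup.isComplement'_of_disjoint_and_mul_eq_univ (disjoint_iff.mpr hVM)
  rw [← Subgroup.normal_mul, hsup]
  rfl

/-- Case (i): chain from a normal `p`-complement of the complement `M`. -/
theorem chain_case_i [Finite G] {p : ℕ} [hp : Fact p.Prime] (V M K : Subgroup G)
    [hVn : V.Normal]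
    (hVp : ∃ a : ℕ, Nat.card V = p ^ a) (hVM : V ⊓ M = ⊥) (hsup : V ⊔ M = ⊤) (hKM : K ≤ M)
    (hMK : M ≤ Subgroup.normalizer (K : Set G)) (hKp : ¬ p ∣ Nat.card K)
    (hk : ∃ k : ℕ, K.relIndex M = p ^ k) : ChainOver p (⊥ : Subgroup G) := by
  have hVKn : (V ⊔ K).Normal := by
    constructor
    intro x hx g
    have hg : g ∈ V ⊔ M := by rw [hsup]; trivial
    obtain ⟨v, hv, m, hm, rfl⟩ := mem_sup_normal_left V M hg
    obtain ⟨v', hv', k', hk', rfl⟩ := mem_sup_normal_left V K hx
    have hmn := hMK hm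
    rw [Subgroup.mem_normalizer_iff] at hmn
    have h1 : m * k' * m⁻¹ ∈ K := (hmn k').mp hk'
    have h2 : m * v' * m⁻¹ ∈ V := hVn.conj_mem v' hv' m
    have h3 : v * m * (v' * k') * (v * m)⁻¹
        = v * ((m * v' * m⁻¹) * (m * k' * m⁻¹)) * v⁻¹ := by group
    rw [h3]
    have h4 : (m * v' * m⁻¹) * (m * k' * m⁻¹) ∈ V ⊔ K := Subgroup.mul_mem_sup h2 h1
    have hv4 : v ∈ V ⊔ K := (le_sup_left : V ≤ V ⊔ K) hv
    exact (V ⊔ K).mul_mem ((V ⊔ K).mul_mem hv4 h4) ((V ⊔ K).inv_mem hv4)
  have hVK : V ⊓ K = ⊥ := by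
    apply le_bot_iff.mp
    rw [← hVM]
    exact inf_le_inf_left V hKM
  have hrel : V.relIndex (V ⊔ K) = Nat.card K := by
    rw [Subgroup.relIndex_sup_left, ← Subgroup.inf_relIndex_right, hVK,
      Subgroup.relIndex_bot_left]
  have hcompl : Subgroup.IsComplement' V M := isComplement'_of_inf_sup V M hVM hsup
  have hGcard : Nat.card V * Nat.card M = Nat.card G := hcompl.card_mul_card
  have hVKcard : Nat.card (V ⊔ K : Subgroup G) = Nat.card V * Nat.card K := by
    have := Subgroup.relIndex_mul_relIndex ⊥ V (V ⊔ K) bot_le le_sup_left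
    rw [Subgroup.relIndex_bot_left, Subgroup.relIndex_bot_left, hrel] at this
    exact this.symm
  have hMcard : Nat.card M = Nat.card K * K.relIndex M := by
    have := Subgroup.relIndex_mul_relIndex ⊥ K M bot_le hKM
    rw [Subgroup.relIndex_bot_left, Subgroup.relIndex_bot_left] at this
    exact this.symm
  have hidx : (V ⊔ K).index = K.relIndex M := by
    have h1 := Subgroup.card_mul_index (V ⊔ K)
    rw [hVKcard, ← hGcard, hMcard] at h1
    have hpos : 0 < Nat.card V * Nat.card K := Nat.mul_pos Nat.card_pos Nat.card_pos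
    apply Nat.eq_of_mul_eq_mul_left hpos
    rw [h1, mul_assoc]
  obtain ⟨a, ha⟩ := hVp
  obtain ⟨k, hk⟩ := hk
  refine ⟨⊥, V, V ⊔ K, ⊤, inferInstance, hVn, hVKn, inferInstance, le_rfl, bot_le, le_sup_left,
    le_top, ?_, ⟨a, ?_⟩, ?_, ⟨k, ?_⟩, ?_, fun _ => rfl⟩
  · rw [Subgroup.relIndex_bot_left, Subgroup.card_bot]
    exact not_dvd_one
  · rw [Subgroup.relIndex_bot_left, ha]
  · rw [hrel]
    exact hKp
  · rw [Subgroup.relIndex_top_right, hidx, hk]
  · rw [Subgroup.index_top]
    exact not_dvd_one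

/-- Case (ii): `V` of order `p`; intersect the chain with the centralizer of `V`. -/
theorem chain_case_ii [Finite G] {p : ℕ} [hp : Fact p.Prime]
    (hNo : ∀ N : Subgroup G, N.Normal → ¬ p ∣ Nat.card N → N = ⊥)
    (V M Q A B C D : Subgroup G) [hVn : V.Normal]
    (hVc : ∀ x ∈ V, ∀ y ∈ V, x * y = y * x) (hVcard : Nat.card V = p)
    (hsup : V ⊔ M = ⊤) (hMQ : M ≤ Subgroup.normalizer (Q : Set G)) (hQA : V ⊔ Q = A)
    (hQp : ¬ p ∣ Nat.card Q)
    (hA : A.Normal) (hB : B.Normal) (hC : C.Normal) (hD : D.Normal)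
    (hVA : V ≤ A) (hAB : A ≤ B) (hBC : B ≤ C) (hCD : C ≤ D)
    (hpB : ∃ k : ℕ, A.relIndex B = p ^ k) (hpC : ¬ p ∣ B.relIndex C)
    (hpD : ∃ k : ℕ, C.relIndex D = p ^ k) (hpG : ¬ p ∣ D.index) (h2 : p = 2 → D = ⊤) :
    ChainOver p (⊥ : Subgroup G) := by
  set Cz := Subgroup.centralizer (V : Set G) with hCz
  haveI hCzn : Cz.Normal := Subgroup.normal_centralizer
  have hVCz : V ≤ Cz := by
    intro x hx
    rw [hCz, Subgroup.mem_centralizer_iff]
    intro y hy
    exact hVc y hy x hx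
  have hidx : Cz.index ∣ p - 1 := index_centralizer_dvd V hVcard
  have hQC : (Q ⊓ Cz).Normal := by
    constructor
    intro x hx g
    have hg : g ∈ V ⊔ M := by rw [hsup]; trivial
    obtain ⟨v, hv, m, hm, rfl⟩ := mem_sup_normal_left V M hg
    have hmn := hMQ hm
    rw [Subgroup.mem_normalizer_iff] at hmn
    have h1 : m * x * m⁻¹ ∈ Q := (hmn x).mp hx.1
    have h2 : m * x * m⁻¹ ∈ Cz := hCzn.conj_mem x hx.2 m
    have h3 : v * m * x * (v * m)⁻¹ = m * x * m⁻¹ := by
      have := (Subgroup.mem_centralizer_iff.mp h2) v hv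
      calc v * m * x * (v * m)⁻¹ = v * (m * x * m⁻¹) * v⁻¹ := by group
        _ = (m * x * m⁻¹) * v * v⁻¹ := by rw [this]
        _ = m * x * m⁻¹ := by group
    rw [h3]
    exact ⟨h1, h2⟩
  have hQC0 : Q ⊓ Cz = ⊥ :=
    hNo _ hQC (fun h => hQp (dvd_trans h (Subgroup.card_dvd_of_le inf_le_left)))
  have hACz : A ⊓ Cz = V := by
    apply le_antisymm
    · intro x hx
      have hxA : x ∈ V ⊔ Q := by rw [hQA]; exact hx.1
      obtain ⟨v, hv, q, hq, rfl⟩ := mem_sup_normal_left V Q hxA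
      have hqC : q ∈ Cz := by
        have : q = v⁻¹ * (v * q) := by group
        rw [this]
        exact Cz.mul_mem (Cz.inv_mem (hVCz hv)) hx.2
      have : q ∈ Q ⊓ Cz := ⟨hq, hqC⟩
      rw [hQC0, Subgroup.mem_bot] at this
      rw [this, mul_one]
      exact hv
    · exact le_inf hVA hVCz
  obtain ⟨kB, hkB⟩ := hpB
  obtain ⟨kD, hkD⟩ := hpD
  haveI := hA
  haveI := hB
  haveI := hC
  haveI := hD
  have d1 := Cfsg.Agent.Helper23.PSolv.relIndex_inf_inf_dvd A B Cz hAB
  have d2 := Cfsg.Agent.Helper23.PSolv.relIndex_inf_inf_dvd B C Cz hBC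
  have d3 := Cfsg.Agent.Helper23.PSolv.relIndex_inf_inf_dvd C D Cz hCD
  rw [hkB] at d1
  rw [hkD] at d3
  obtain ⟨j1, -, hj1⟩ := (Nat.dvd_prime_pow hp.out).mp d1
  obtain ⟨j3, -, hj3⟩ := (Nat.dvd_prime_pow hp.out).mp d3
  refine ⟨⊥, B ⊓ Cz, C ⊓ Cz, D ⊓ Cz, inferInstance, inferInstance, inferInstance, inferInstance,
    le_rfl, bot_le, inf_le_inf_right Cz hBC, inf_le_inf_right Cz hCD, ?_, ⟨j1 + 1, ?_⟩, ?_,
    ⟨j3, hj3⟩, ?_, ?_⟩
  · rw [Subgroup.relIndex_bot_left, Subgroup.card_bot]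
    exact not_dvd_one
  · have := Subgroup.relIndex_mul_relIndex ⊥ (A ⊓ Cz) (B ⊓ Cz) bot_le (inf_le_inf_right Cz hAB)
    rw [← this, hj1, Subgroup.relIndex_bot_left, hACz, hVcard, pow_succ, mul_comm]
  · exact fun h => hpC (dvd_trans h d2)
  · have h1 : (D ⊓ Cz).index = (D ⊓ Cz).relIndex Cz * Cz.index :=
      (Subgroup.relIndex_mul_index inf_le_right).symm
    rw [h1, Subgroup.inf_relIndex_right]
    intro h
    rcases (Nat.Prime.dvd_mul hp.out).mp h with h | h
    · exact hpG (dvd_trans h (Subgroup.relIndex_dvd_index_of_normal D Cz))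
    · have h3 := hp.out.two_le
      have h4 := Nat.le_of_dvd (by omega) (dvd_trans h hidx)
      omega
  · intro hp2
    rw [h2 hp2, top_inf_eq, ← Subgroup.index_eq_one]
    have : Cz.index ∣ 1 := by
      rw [hp2] at hidx
      exact hidx
    exact Nat.dvd_one.mp this

theorem core [Finite G] {p : ℕ} [hp : Fact p.Prime]
    (hNo : ∀ N : Subgroup G, N.Normal → ¬ p ∣ Nat.card N → N = ⊥)
    (hmax : MaxHyp p G)
    (V : Subgroup G) [hVn : V.Normal] (hVne : V ≠ ⊥) (hVp : IsPGroup p V)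
    (hVmin : ∀ W : Subgroup G, W.Normal → W ≤ V → W = ⊥ ∨ W = V)
    (hch : ChainOver p V) : ChainOver p (⊥ : Subgroup G) := by
  have hVc := abelian_of_minimal V hVne hVp hVmin
  obtain ⟨a, ha⟩ := IsPGroup.iff_card.mp hVp
  obtain ⟨A, B, C, D, hA, hB, hC, hD, hVA, hAB, hBC, hCD, hpA, hpB, hpC, hpD, hpG, h2⟩ := hch
  by_cases hAV : A ≤ V
  · have hAeq : A = V := le_antisymm hAV hVA
    obtain ⟨k, hk⟩ := hpB
    refine ⟨⊥, B, C, D, inferInstance, hB, hC, hD, le_rfl, bot_le, hBC, hCD, ?_, ⟨a + k, ?_⟩,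
      hpC, hpD, hpG, h2⟩
    · rw [Subgroup.relIndex_bot_left, Subgroup.card_bot]
      exact not_dvd_one
    · have := Subgroup.relIndex_mul_relIndex ⊥ A B bot_le hAB
      rw [← this, Subgroup.relIndex_bot_left, hAeq, ha, ← hAeq, hk, pow_add]
  · have hrel1 : V.relIndex A ≠ 1 := fun h => hAV (Subgroup.relIndex_eq_one.mp h)
    have hcop : Nat.Coprime (Nat.card V) (V.relIndex A) := by
      rw [ha]
      exact Nat.Coprime.pow_left _ ((Nat.Prime.coprime_iff_not_dvd hp.out).mpr hpA)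
    haveI := hA
    obtain ⟨Q, hQA, hVQ, hVQA, hQcard, hfrat⟩ :=
      SZConj.exists_complement_frattini V A hVA hVc hcop
    set M := Subgroup.normalizer (Q : Set G) with hM
    have hQp : ¬ p ∣ Nat.card Q := by
      rw [hQcard]
      exact hpA
    have hMtop : M ≠ ⊤ := by
      intro h
      have hQn : Q.Normal := Subgroup.normalizer_eq_top_iff.mp h
      have := hNo Q hQn hQp
      rw [this, Subgroup.card_bot] at hQcard
      exact hrel1 hQcard.symm
    have hVMn : (V ⊓ M).Normal := inf_normal_of_sup_eq_top V M hVc hfrat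
    have hVM : V ⊓ M = ⊥ := by
      rcases hVmin _ hVMn inf_le_left with h | h
      · exact h
      · exfalso
        apply hMtop
        have : V ≤ M := by
          rw [← h]
          exact inf_le_right
        rw [← hfrat]
        exact (sup_of_le_right this).symm
    have hMco : IsCoatom M := by
      refine ⟨hMtop, ?_⟩
      intro L hL
      have hsupL : V ⊔ L = ⊤ := by
        apply top_le_iff.mp
        rw [← hfrat]
        exact sup_le_sup_left hL.le V
      have hVLn := inf_normal_of_sup_eq_top V L hVc hsupL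
      rcases hVmin _ hVLn inf_le_left with h | h
      · exfalso
        apply hL.not_ge
        intro x hx
        have hxs : x ∈ V ⊔ M := by rw [hfrat]; trivial
        obtain ⟨v, hv, m, hm, rfl⟩ := mem_sup_normal_left V M hxs
        have hvL : v ∈ L := by
          have : v = (v * m) * m⁻¹ := by group
          rw [this]
          exact L.mul_mem hx (L.inv_mem (hL.le hm))
        have : v ∈ V ⊓ L := ⟨hv, hvL⟩
        rw [h, Subgroup.mem_bot] at this
        rw [this, one_mul]
        exact hm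
      · have : V ≤ L := by
          rw [← h]
          exact inf_le_right
        apply top_le_iff.mp
        rw [← hfrat]
        exact sup_le this hL.le
    have hcompl : Subgroup.IsComplement' V M := isComplement'_of_inf_sup V M hVM hfrat
    have hidx : M.index = Nat.card V := hcompl.index_eq_card
    rcases hmax M hMco with ⟨K, hKM, hMK, hKp, hk⟩ | hprime
    · exact chain_case_i V M K ⟨a, ha⟩ hVM hfrat hKM hMK hKp hk
    · have hVcard : Nat.card V = p := by
        rw [hidx] at hprime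
        have hdvd : p ∣ Nat.card V := by
          rw [ha]
          apply dvd_pow_self
          intro h0
          rw [h0, pow_zero] at ha
          exact hVne (Subgroup.card_eq_one.mp ha)
        exact ((Nat.prime_dvd_prime_iff_eq hp.out hprime).mp hdvd).symm
      exact chain_case_ii hNo V M Q A B C D hVc hVcard hfrat le_rfl hVQA hQp hA hB hC hD hVA hAB
        hBC hCD hpB hpC hpD hpG h2


/-- The main induction, abstract in the hypothesis `P` (solvable, or `p`-solvable). -/
theorem main {p : ℕ} [hp : Fact p.Prime]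
    (P : ∀ (G : Type u) [Group G], Prop)
    (hPq : ∀ (G : Type u) [Group G] [Finite G] (N : Subgroup G) [N.Normal], P G → P (G ⧸ N))
    (hPn : ∀ (G : Type u) [Group G] [Finite G], P G → Nontrivial G →
      ∃ L : Subgroup G, L.Normal ∧ L ≠ ⊥ ∧ (IsPGroup p L ∨ ¬ p ∣ Nat.card L)) :
    ∀ (n : ℕ) (G : Type u) [Group G] [Finite G], Nat.card G = n → P G → MaxHyp p G →
      ChainOver p (⊥ : Subgroup G) := by
  intro n
  induction' n using Nat.strong_induction_on with n ih
  intro G _ _ hn hP hmax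
  have hquot : ∀ (N : Subgroup G) [N.Normal], N ≠ ⊥ → ChainOver p N := by
    intro N _ hN
    apply chainOver_of_quotient
    have hlt : Nat.card (G ⧸ N) < n := by
      rw [← hn, ← Subgroup.index_eq_card]
      have h0 := Subgroup.card_mul_index N
      have h1 : 1 < Nat.card N := (Subgroup.one_lt_card_iff_ne_bot (H := N)).mpr hN
      have h2 : 0 < N.index := Nat.pos_of_ne_zero Subgroup.index_ne_zero_of_finite
      nlinarith
    exact ih _ hlt (G ⧸ N) rfl (hPq G N hP) (hmax.quotient N)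
  by_cases hNo : ∀ N : Subgroup G, N.Normal → ¬ p ∣ Nat.card N → N = ⊥
  · by_cases hsub : Subsingleton G
    · have hc : Nat.card G = 1 := Nat.card_of_subsingleton (1 : G)
      refine ⟨⊤, ⊤, ⊤, ⊤, inferInstance, inferInstance, inferInstance, inferInstance, bot_le,
        le_rfl, le_rfl, le_rfl, ?_, ⟨0, ?_⟩, ?_, ⟨0, ?_⟩, ?_, fun _ => rfl⟩
      · rw [Subgroup.relIndex_bot_left, Subgroup.card_top, hc]
        exact not_dvd_one
      · rw [Subgroup.relIndex_self, pow_zero]
      · rw [Subgroup.relIndex_self]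
        exact not_dvd_one
      · rw [Subgroup.relIndex_self, pow_zero]
      · rw [Subgroup.index_top]
        exact not_dvd_one
    · have hnt : Nontrivial G := not_subsingleton_iff_nontrivial.mp hsub
      obtain ⟨L, hLn, hL0, hL⟩ := hPn G hP hnt
      rcases hL with hLp | hLp
      · obtain ⟨V, hVn, hV0, hVL, hVmin⟩ := exists_minimal_normal L hLn hL0
        haveI := hVn
        have hVp : IsPGroup p V := hLp.to_le hVL
        exact core hNo hmax V hV0 hVp hVmin (hquot V hV0)
      · exact absurd (hNo L hLn hLp) hL0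
  · push_neg at hNo
    obtain ⟨N, hNn, hNp, hN0⟩ := hNo
    haveI := hNn
    exact chainOver_bot_of_pprime N hNp (hquot N hN0)


end Cfsg.Agent.Helper5.MaxPNilp
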