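import Mathlib

/-!
# 2×2 matrix lemmas in characteristic 3 (for S2515)
-/

set_option autoImplicit false

namespace Cfsg.Agent.H5Mu9

open Matrix

section Alg

variable {F A : Type*} [Field F] [Ring A] [Algebra F A]

/-- fixed-point-freeness: `g² = t g - 1`, `h² = s h - 1`, `c² = 1`, `t ≠ c s`,
`c • (g X h) = X` forces `X = 0`. -/
theorem fpf_of_quadratic (g h X : A) (t s c : F) (hg : g * g = t • g - 1) (hh : h * h = s • h - 1)
    (hc : c * c = 1) (hts : t ≠ c * s) (hX : c • (g * X * h) = X) : X = 0 := by
  have hR : g * X * h = c • X := by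
    have := congrArg (fun Y => c • Y) hX
    simp only [smul_smul, hc, one_smul] at this
    exact this
  have hginv : (t • (1 : A) - g) * g = 1 := by
    rw [sub_mul, smul_mul_assoc, one_mul, hg]; abel
  have h2 : X * h = c • (t • X - g * X) := by
    calc X * h = ((t • (1 : A) - g) * g) * X * h := by rw [hginv, one_mul]
      _ = (t • (1 : A) - g) * (g * X * h) := by simp only [mul_assoc]
      _ = c • (t • X - g * X) := by
        rw [hR, mul_smul_comm, sub_mul, smul_mul_assoc, one_mul]
  have h1 : g * g * X * (h * h) = X := by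
    calc g * g * X * (h * h) = g * (g * X * h) * h := by simp only [mul_assoc]
      _ = g * (c • X) * h := by rw [hR]
      _ = c • (g * X * h) := by rw [mul_smul_comm, smul_mul_assoc]
      _ = X := hX
  rw [hg, hh] at h1
  have hexp : (t • g - 1) * X * (s • h - 1)
      = (t * s) • (g * X * h) - t • (g * X) - s • (X * h) + X := by
    simp only [sub_mul, mul_sub, smul_mul_assoc, mul_smul_comm, one_mul, mul_one]
    module
  have h1' : (t * s) • (g * X * h) - t • (g * X) - s • (X * h) + X = X := by
    rw [← hexp]; exact h1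
  have h3 : (s * c - t) • (g * X) = 0 := by
    rw [hR, h2] at h1'
    have h4 : (t * s) • c • X - t • (g * X) - s • c • (t • X - g * X) = 0 := by
      have := sub_eq_zero.mpr h1'
      rw [← this]; abel
    rw [← h4]
    module
  have hne : s * c - t ≠ 0 := by
    intro h0
    apply hts
    rw [mul_comm]; exact (sub_eq_zero.mp h0).symm
  have h5 : g * X = 0 := by
    rcases smul_eq_zero.mp h3 with h | h
    · exact absurd h hne
    · exact h
  calc X = ((t • (1 : A) - g) * g) * X := by rw [hginv, one_mul]
    _ = (t • (1 : A) - g) * (g * X) := by rw [mul_assoc]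
    _ = 0 := by rw [h5, mul_zero]

variable [Fintype F]

/-- For `g² = t g - 1` over a finite field of order `3^α` with `t² ≠ 1`:
`g^(q-1) = 1` or `g^(q+1) = 1`. -/
theorem pow_dichotomy_of_quadratic [CharP F 3] [CharP A 3] {α : ℕ}
    (hq : Fintype.card F = 3 ^ α) (g : A) (t : F)
    (hg : g * g = t • g - 1) (ht : t ^ 2 ≠ 1) :
    g ^ (3 ^ α - 1) = 1 ∨ g ^ (3 ^ α + 1) = 1 := by
  have h3A : (3 : A) = 0 := by
    have := CharP.cast_eq_zero A 3
    exact_mod_cast this
  have h3F : (3 : F) = 0 := by
    have := CharP.cast_eq_zero F 3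
    exact_mod_cast this
  set T : A := algebraMap F A t with hT
  have hTg : Commute g T := (Algebra.commutes t g).symm
  have htg : t • g = T * g := by rw [hT, Algebra.smul_def]
  set w : A := g + T with hw
  have hD : t ^ 2 - 1 ≠ 0 := sub_ne_zero.mpr ht
  have hww : w * w = algebraMap F A (t ^ 2 - 1) := by
    rw [hw, mul_add, add_mul, add_mul, hg, htg, hTg.eq, map_sub, map_pow, map_one, ← hT]
    have : T * g + T * g + T * g = 0 := by
      have : (3 : A) * (T * g) = 0 := by rw [h3A, zero_mul]
      rw [← this]; noncomm_ring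
    calc T * g - 1 + T * g + (T * g + T * T) = (T * g + T * g + T * g) + (T ^ 2 - 1) := by
          noncomm_ring
      _ = T ^ 2 - 1 := by rw [this, zero_add]
  have hringchar : ringChar F ≠ 2 := by
    rw [ringChar.eq F 3]; norm_num
  have hodd : Fintype.card F % 2 = 1 := FiniteField.odd_card_of_char_ne_two hringchar
  set e := Fintype.card F / 2 with he
  have hq2 : 3 ^ α = 2 * e + 1 := by rw [← hq]; omega
  have hDe := FiniteField.pow_dichotomy hringchar hD
  rw [← he] at hDe
  -- w^q two ways
  have hwq1 : w ^ (3 ^ α) = algebraMap F A ((t ^ 2 - 1) ^ e) * w := by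
    rw [hq2, pow_succ, pow_mul, pow_two, hww, ← map_pow]
  have hwq2 : w ^ (3 ^ α) = g ^ (3 ^ α) + T := by
    rw [hw, add_pow_char_pow_of_commute 3 α hTg, hT, ← map_pow, ← hq, FiniteField.pow_card]
  have hginv : g * (T - g) = 1 := by
    rw [mul_sub, hg, htg, hTg.eq]; abel
  have hginv' : (T - g) * g = 1 := by
    rw [sub_mul, hg, htg]; abel
  have hpos : 0 < 3 ^ α := pow_pos (by norm_num) α
  rcases hDe with h1 | h1
  · left
    rw [h1, map_one, one_mul, hwq2, hw] at hwq1
    have hgq : g ^ (3 ^ α) = g := add_right_cancel hwq1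
    calc g ^ (3 ^ α - 1) = g ^ (3 ^ α - 1) * (g * (T - g)) := by rw [hginv, mul_one]
      _ = g ^ (3 ^ α - 1 + 1) * (T - g) := by rw [pow_succ, mul_assoc]
      _ = g * (T - g) := by rw [Nat.sub_add_cancel hpos, hgq]
      _ = 1 := hginv
  · right
    rw [h1, map_neg, map_one, neg_one_mul, hwq2, hw] at hwq1
    have hgq : g ^ (3 ^ α) = T - g := by
      have h3T : T + T + T = 0 := by
        have : (3 : A) * T = 0 := by rw [h3A, zero_mul]
        rw [← this]; noncomm_ring
      have : g ^ (3 ^ α) = -(g + T) - T := by rw [← hwq1]; abel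
      rw [this]
      have : T = -T - T := by
        rw [eq_sub_iff_add_eq, eq_neg_iff_add_eq_zero]; exact h3T
      calc -(g + T) - T = (-T - T) - g := by abel
        _ = T - g := by rw [← this]
    rw [pow_succ, hgq, hginv']

end Alg

end Cfsg.Agent.H5Mu9
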