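import Mathlib
import Cfsg.Agent.Lib.Helper5.Mu9A

/-!
# Concrete 2×2 lemmas (for S2515)
-/

set_option autoImplicit false

namespace Cfsg.Agent.H5Mu9

open Matrix

variable {F : Type*} [Field F]

abbrev M2 (F : Type*) := Matrix (Fin 2) (Fin 2) F

/-- Cayley–Hamilton for 2×2 matrices of determinant one. -/
theorem ch2 (g : M2 F) (hdet : g.det = 1) : g * g = g.trace • g - 1 := by
  rw [Matrix.det_fin_two] at hdet
  ext i j
  fin_cases i <;> fin_cases j <;>
    simp [Matrix.mul_apply, Fin.sum_univ_two, Matrix.trace_fin_two] <;>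
    first | linear_combination (1 : F) * hdet | linear_combination (-1 : F) * hdet |
      linear_combination (0 : F) * hdet

/-- the only involution of determinant one is `-1` (odd characteristic). -/
theorem sl2_sq_eq_one (h2 : (2 : F) ≠ 0) (z : M2 F) (hdet : z.det = 1) (hz : z * z = 1) :
    z = 1 ∨ z = -1 := by
  have hch := ch2 z hdet
  rw [hz] at hch
  -- (tr z) • z = 2
  have h00 := congrFun (congrFun hch 0) 0
  have h01 := congrFun (congrFun hch 0) 1
  have h10 := congrFun (congrFun hch 1) 0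
  have h11 := congrFun (congrFun hch 1) 1
  simp [Matrix.trace_fin_two] at h00 h01 h10 h11
  rw [Matrix.det_fin_two] at hdet
  have htr : z 0 0 + z 1 1 ≠ 0 := by
    intro h0
    rw [h0] at h00
    apply h2
    linear_combination h00
  have hb : z 0 1 = 0 := by
    rcases h01 with h | h
    · exact absurd h htr
    · exact h
  have hc : z 1 0 = 0 := by
    rcases h10 with h | h
    · exact absurd h htr
    · exact h
  have had : z 0 0 = z 1 1 := by
    have : (z 0 0 + z 1 1) * (z 0 0 - z 1 1) = 0 := by linear_combination h11 - h00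
    rcases mul_eq_zero.mp this with h | h
    · exact absurd h htr
    · exact sub_eq_zero.mp h
  have ha2 : z 0 0 * z 0 0 = 1 := by
    rw [hb, hc, ← had] at hdet
    linear_combination hdet
  rcases mul_self_eq_one_iff.mp ha2 with ha | ha
  · left
    ext i j
    fin_cases i <;> fin_cases j <;> simp [hb, hc, ha, ← had]
  · right
    ext i j
    fin_cases i <;> fin_cases j <;> simp [hb, hc, ha, ← had]

/-- the kernel of the twisted tensor action. -/
theorem kernel_twisted (z : M2 F) (hdet : z.det = 1)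
    (hz : ∀ X : M2 F, z * X * (z.map (fun x => x ^ 3))ᵀ = X) : z = 1 ∨ z = -1 := by
  rw [Matrix.det_fin_two] at hdet
  have h11 := hz !![1, 0; 0, 0]
  have h22 := hz !![0, 0; 0, 1]
  have h12 := hz !![0, 1; 0, 0]
  have e1 := congrFun (congrFun h11 1) 1
  have e2 := congrFun (congrFun h22 0) 0
  have e3 := congrFun (congrFun h12 0) 1
  simp [Matrix.mul_apply, Fin.sum_univ_two] at e1 e2 e3
  -- e1 : z 1 0 * z 1 0 ^ 3 = 0 ; e2 : z 0 1 * z 0 1 ^3 = 0 ; e3 : z 0 0 * z 1 1 ^ 3 = 1
  have hc : z 1 0 = 0 := e1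
  have hb : z 0 1 = 0 := e2
  rw [hb, hc] at hdet
  have had : z 0 0 * z 1 1 = 1 := by linear_combination hdet
  have hd2 : z 1 1 * z 1 1 = 1 := by
    have : z 0 0 * z 1 1 ^ 3 = (z 0 0 * z 1 1) * (z 1 1 * z 1 1) := by ring
    rw [this, had, one_mul] at e3
    exact e3
  have ha : z 0 0 = z 1 1 := by
    have : z 0 0 = z 0 0 * (z 1 1 * z 1 1) := by rw [hd2, mul_one]
    rw [this, ← mul_assoc, had, one_mul]
  rcases mul_self_eq_one_iff.mp hd2 with hd | hd
  · left
    ext i j
    fin_cases i <;> fin_cases j <;> simp [hb, hc, ha, hd]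
  · right
    ext i j
    fin_cases i <;> fin_cases j <;> simp [hb, hc, ha, hd]

/-- cube of an element with `t² = 1` in characteristic 3. -/
theorem cube_of_trace_sq_one [CharP F 3] (g : M2 F) (t : F) (hg : g * g = t • g - 1)
    (ht : t ^ 2 = 1) : g ^ 3 = (-t) • (1 : M2 F) := by
  have h3 : (3 : F) = 0 := by
    have := CharP.cast_eq_zero F 3
    exact_mod_cast this
  have : g ^ 3 = (t ^ 2 - 1) • g - t • (1 : M2 F) := by
    rw [pow_succ, pow_two, hg, sub_mul, smul_mul_assoc, hg, one_mul]
    module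
  rw [this, ht, sub_self, zero_smul, zero_sub, neg_smul]

end Cfsg.Agent.H5Mu9
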