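import Mathlib
import Cfsg.Agent.Lib.Helper5.Mu9B
import Cfsg.Agent.Lib.Helper5.AffPerm

/-!
# The twisted tensor action and the order bound (for S2515)
-/

set_option autoImplicit false

namespace Cfsg.Agent.H5Mu9

open Matrix Cfsg.Agent.H5Aff

variable {F : Type*} [Field F] [CharP F 3]

abbrev SL2 (F : Type*) [Field F] := Matrix.SpecialLinearGroup (Fin 2) F

/-- Frobenius twist followed by transpose. -/
def frT (g : M2 F) : M2 F := ((frobenius F 3).mapMatrix g)ᵀ

theorem frT_eq (g : M2 F) : frT g = (g.map (fun x => x ^ 3))ᵀ := by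
  unfold frT
  rw [RingHom.mapMatrix_apply]
  congr 1

theorem frT_mul (g g' : M2 F) : frT (g * g') = frT g' * frT g := by
  unfold frT
  rw [map_mul, Matrix.transpose_mul]

theorem frT_one : frT (1 : M2 F) = 1 := by
  unfold frT
  rw [map_one, Matrix.transpose_one]

theorem frT_sub (g g' : M2 F) : frT (g - g') = frT g - frT g' := by
  unfold frT
  rw [map_sub, Matrix.transpose_sub]

theorem frT_neg (g : M2 F) : frT (-g) = -frT g := by
  unfold frT
  rw [map_neg, Matrix.transpose_neg]

theorem frT_smul (c : F) (g : M2 F) : frT (c • g) = c ^ 3 • frT g := by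
  rw [frT_eq, frT_eq]
  ext i j
  simp [mul_pow]

theorem frT_pow (g : M2 F) (n : ℕ) : frT (g ^ n) = frT g ^ n := by
  unfold frT
  rw [map_pow, Matrix.transpose_pow]

/-- the action of `(g, ε)` on `M₂(F)`. -/
def rhoFun (p : SL2 F × ℤˣ) : AddMonoid.End (M2 F) :=
  { toFun := fun X => (((p.2 : ℤˣ) : ℤ) : F) • ((p.1 : M2 F) * X * frT (p.1 : M2 F))
    map_zero' := by simp
    map_add' := fun X Y => by simp [mul_add, add_mul] }

theorem rhoFun_apply (p : SL2 F × ℤˣ) (X : M2 F) :
    rhoFun p X = (((p.2 : ℤˣ) : ℤ) : F) • ((p.1 : M2 F) * X * frT (p.1 : M2 F)) := rfl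

def rho : SL2 F × ℤˣ →* AddMonoid.End (M2 F) where
  toFun := rhoFun
  map_one' := by
    refine DFunLike.ext _ _ fun X => ?_
    rw [rhoFun_apply]
    simp [frT_one]
  map_mul' := fun p p' => by
    refine DFunLike.ext _ _ fun X => ?_
    show rhoFun (p * p') X = rhoFun p (rhoFun p' X)
    rw [rhoFun_apply, rhoFun_apply, rhoFun_apply]
    simp only [Prod.fst_mul, Prod.snd_mul, Matrix.SpecialLinearGroup.coe_mul, frT_mul,
      Units.val_mul, Int.cast_mul, mul_smul_comm, smul_mul_assoc, smul_smul, mul_assoc]

theorem rho_apply (g : SL2 F) (ε : ℤˣ) (X : M2 F) :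
    rho (g, ε) X = ((ε : ℤ) : F) • ((g : M2 F) * X * frT (g : M2 F)) := rfl

theorem rho_pow_apply (g : SL2 F) (ε : ℤˣ) (n : ℕ) (X : M2 F) :
    rho ((g, ε) ^ n) X
      = (((ε ^ n : ℤˣ) : ℤ) : F) • ((g : M2 F) ^ n * X * frT ((g : M2 F) ^ n)) := by
  rw [Prod.pow_mk, rho_apply, Matrix.SpecialLinearGroup.coe_pow]

theorem three_smul_zero (X : M2 F) : 3 • X = 0 := by
  have h3 : (3 : F) = 0 := by
    have := CharP.cast_eq_zero F 3
    exact_mod_cast this
  ext i j
  simp only [Matrix.smul_apply, Matrix.zero_apply, nsmul_eq_mul]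
  push_cast
  rw [h3, zero_mul]

section Finite

variable [Fintype F]

theorem neg_one_not_sq {α : ℕ} (hq : Fintype.card F = 3 ^ α) (h8 : 3 ^ α % 8 = 3) (t : F) :
    t ^ 2 ≠ -1 := by
  intro ht
  have ht0 : t ≠ 0 := by
    rintro rfl
    simp at ht
  have h1 := FiniteField.pow_card_sub_one_eq_one t ht0
  rw [hq] at h1
  obtain ⟨j, hj⟩ : ∃ j, 3 ^ α - 1 = 2 * (2 * j + 1) := ⟨(3 ^ α - 3) / 8 * 2 , by omega⟩
  rw [hj, pow_mul, ht, Odd.neg_one_pow ⟨j, rfl⟩] at h1
  have h2 : (2 : F) = 0 := by linear_combination -h1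
  have h3 : (3 : F) = 0 := by
    have := CharP.cast_eq_zero F 3
    exact_mod_cast this
  have : (1 : F) = 0 := by linear_combination h3 - h2
  exact one_ne_zero this

theorem two_ne_zero_F : (2 : F) ≠ 0 := by
  intro h2
  have h3 : (3 : F) = 0 := by
    have := CharP.cast_eq_zero F 3
    exact_mod_cast this
  have : (1 : F) = 0 := by linear_combination h3 - h2
  exact one_ne_zero this

/-- every element of the affine group has order dividing one of the four numbers. -/
theorem order_cases {α : ℕ} (hq : Fintype.card F = 3 ^ α) (h8 : 3 ^ α % 8 = 3)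
    (g : SL2 F) (ε : ℤˣ) (B : M2 F) :
    (aff rho (g, ε) B) ^ 6 = 1 ∨ (aff rho (g, ε) B) ^ 9 = 1 ∨
      (aff rho (g, ε) B) ^ (3 ^ α - 1) = 1 ∨ (aff rho (g, ε) B) ^ ((3 ^ α + 1) / 2) = 1 := by
  set G : M2 F := (g : M2 F) with hGdef
  set t : F := G.trace with htdef
  have hG : G * G = t • G - 1 := ch2 G g.det_coe
  have hfr : frT G * frT G = t ^ 3 • frT G - 1 := by
    rw [← frT_mul, hG, frT_sub, frT_smul, frT_one]
  by_cases ht1 : t ^ 2 = 1
  · have h3 := cube_of_trace_sq_one G t hG ht1
    have hact : ∀ X, rho ((g, ε) ^ 3) X = ((ε : ℤ) : F) • X := by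
      intro X
      rw [rho_pow_apply, ← hGdef, h3, frT_smul, frT_one]
      have he : ε ^ 3 = ε := by
        rcases Int.units_eq_one_or ε with rfl | rfl
        · simp
        · exact Odd.neg_one_pow (by decide)
      have h4 : t ^ 4 = 1 := by rw [show t ^ 4 = (t ^ 2) ^ 2 by ring, ht1, one_pow]
      rw [he, smul_mul_assoc, one_mul, mul_smul_comm, mul_one, smul_smul, smul_smul]
      congr 1
      linear_combination (((ε : ℤ) : F)) * h4
    rcases Int.units_eq_one_or ε with rfl | rfl
    · right; left
      have := aff_pow_mul_three rho ((g, 1) : SL2 F × ℤˣ) B 3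
        (fun X => by rw [hact X]; simp) three_smul_zero
      simpa using this
    · left
      have := aff_pow_mul_two rho ((g, -1) : SL2 F × ℤˣ) B 3
        (fun X => by rw [hact X]; simp)
      simpa using this
  · by_cases ht0 : t = 0
    · left
      have hact : ∀ X, rho ((g, ε) ^ 2) X = X := by
        intro X
        rw [rho_pow_apply, ← hGdef, show G ^ 2 = G * G from pow_two G, hG, ht0, zero_smul, zero_sub,
          frT_neg, frT_one]
        have he : ε ^ 2 = 1 := by
          rcases Int.units_eq_one_or ε with rfl | rfl <;> simp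
        rw [he]
        simp
      have := aff_pow_mul_three rho ((g, ε) : SL2 F × ℤˣ) B 2 hact three_smul_zero
      simpa using this
    · right; right
      set c : F := ((ε : ℤ) : F) with hcdef
      have hc : c * c = 1 := by
        rcases Int.units_eq_one_or ε with rfl | rfl <;> simp [hcdef]
      have hts : t ≠ c * t ^ 3 := by
        intro h
        rcases Int.units_eq_one_or ε with rfl | rfl
        · have h' : t * (t ^ 2 - 1) = 0 := by
            simp [hcdef] at h
            linear_combination -h
          rcases mul_eq_zero.mp h' with h0 | h0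
          · exact ht0 h0
          · exact ht1 (sub_eq_zero.mp h0)
        · have h' : t * (t ^ 2 + 1) = 0 := by
            simp [hcdef] at h
            linear_combination h
          rcases mul_eq_zero.mp h' with h0 | h0
          · exact ht0 h0
          · exact neg_one_not_sq hq h8 t (eq_neg_of_add_eq_zero_left h0)
      have hfpf : ∀ X, rho (g, ε) X = X → X = 0 := fun X hX =>
        fpf_of_quadratic G (frT G) X t (t ^ 3) c hG hfr hc hts hX
      rcases pow_dichotomy_of_quadratic hq G t hG ht1 with h | h
      · left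
        refine aff_pow_eq_one_of_fpf rho (g, ε) B (3 ^ α - 1) ?_ hfpf
        intro X
        rw [rho_pow_apply, ← hGdef, h, frT_one]
        have he : ε ^ (3 ^ α - 1) = 1 := by
          have hev : Even (3 ^ α - 1) := by
            rw [Nat.even_iff]; omega
          rcases Int.units_eq_one_or ε with rfl | rfl
          · simp
          · exact hev.neg_one_pow
        rw [he]
        simp
      · right
        refine aff_pow_eq_one_of_fpf rho (g, ε) B ((3 ^ α + 1) / 2) ?_ hfpf
        intro X
        set m := (3 ^ α + 1) / 2 with hm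
        have hmm : m + m = 3 ^ α + 1 := by omega
        have hGm : G ^ m * G ^ m = 1 := by rw [← pow_add, hmm, h]
        have hdet : (G ^ m).det = 1 := by
          rw [Matrix.det_pow, hGdef, g.det_coe, one_pow]
        have he : ε ^ m = 1 := by
          have hev : Even m := by
            rw [Nat.even_iff]; omega
          rcases Int.units_eq_one_or ε with rfl | rfl
          · simp
          · exact hev.neg_one_pow
        rw [rho_pow_apply, ← hGdef, he]
        rcases sl2_sq_eq_one two_ne_zero_F (G ^ m) hdet hGm with h1 | h1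
        · rw [h1, frT_one]; simp
        · rw [h1, frT_neg, frT_one]; simp

end Finite

end Cfsg.Agent.H5Mu9
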