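import Mathlib
import Cfsg.Agent.Lib.Helper5.Mu9C

/-!
# Witnesses of the orders 6, 9, q-1, (q+1)/2 (for S2515)
-/

set_option autoImplicit false

namespace Cfsg.Agent.H5Mu9

open Matrix Cfsg.Agent.H5Aff

variable {F : Type*} [Field F] [CharP F 3]

theorem two_ne_zero' : (2 : F) ≠ 0 := by
  intro h2
  have h3 : (3 : F) = 0 := by
    have := CharP.cast_eq_zero F 3
    exact_mod_cast this
  have : (1 : F) = 0 := by linear_combination h3 - h2
  exact one_ne_zero this

/-- linear elements: power criterion. -/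
theorem lin_pow_eq_one_iff (g : SL2 F) (n : ℕ) :
    (aff rho ((g, 1) : SL2 F × ℤˣ) 0) ^ n = 1 ↔ g ^ (2 * n) = 1 := by
  rw [aff_zero_pow_eq_one_iff]
  have hdet : ((g : M2 F) ^ n).det = 1 := by rw [Matrix.det_pow, g.det_coe, one_pow]
  constructor
  · intro h
    have h' : ∀ X : M2 F,
        (g : M2 F) ^ n * X * (((g : M2 F) ^ n).map (fun x => x ^ 3))ᵀ = X := by
      intro X
      have := h X
      rw [rho_pow_apply, one_pow] at this
      simpa [frT_eq] using this
    have hpm := kernel_twisted _ hdet h'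
    apply Subtype.ext
    rw [Matrix.SpecialLinearGroup.coe_pow, two_mul, pow_add]
    rcases hpm with h1 | h1 <;> rw [h1] <;> simp
  · intro h X
    have hsq : (g : M2 F) ^ n * (g : M2 F) ^ n = 1 := by
      rw [← pow_add, ← two_mul, ← Matrix.SpecialLinearGroup.coe_pow, h]; rfl
    rw [rho_pow_apply, one_pow]
    rcases sl2_sq_eq_one two_ne_zero' _ hdet hsq with h1 | h1
    · rw [h1, frT_one]; simp
    · rw [h1, frT_neg, frT_one]; simp

theorem lin_order (g : SL2 F) (N : ℕ) (hN : orderOf g = 2 * N) :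
    orderOf (aff rho ((g, 1) : SL2 F × ℤˣ) 0) = N := by
  apply Nat.dvd_antisymm
  · apply orderOf_dvd_of_pow_eq_one
    rw [lin_pow_eq_one_iff, ← hN]
    exact pow_orderOf_eq_one g
  · have h1 := pow_orderOf_eq_one (aff rho ((g, 1) : SL2 F × ℤˣ) 0)
    rw [lin_pow_eq_one_iff] at h1
    have h2 := orderOf_dvd_of_pow_eq_one h1
    rw [hN] at h2
    exact Nat.dvd_of_mul_dvd_mul_left two_pos h2

/-- the diagonal torus. -/
def diagM (a : Fˣ) : SL2 F := ⟨!![(a : F), 0; 0, ((a⁻¹ : Fˣ) : F)], by simp [Matrix.det_fin_two]⟩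

theorem diagM_coe (a : Fˣ) : ((diagM a : SL2 F) : M2 F) = !![(a : F), 0; 0, ((a⁻¹ : Fˣ) : F)] := rfl

def diagHom : Fˣ →* SL2 F where
  toFun := diagM
  map_one' := by
    ext i j
    rw [diagM_coe]
    fin_cases i <;> fin_cases j <;> simp
  map_mul' a b := by
    ext i j
    rw [Matrix.SpecialLinearGroup.coe_mul, diagM_coe, diagM_coe, diagM_coe]
    fin_cases i <;> fin_cases j <;>
      simp [Matrix.mul_apply, Fin.sum_univ_two, mul_comm]

theorem diagHom_injective : Function.Injective (diagHom (F := F)) := by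
  intro a b h
  have h' : (diagM a : SL2 F) = diagM b := h
  have := congrArg (fun s : SL2 F => (s : M2 F) 0 0) h'
  simp only [diagM_coe] at this
  simp at this
  exact Units.ext this

/-- the central sign. -/
theorem sign_order : orderOf (aff rho ((1, -1) : SL2 F × ℤˣ) 0) = 2 := by
  apply orderOf_eq_prime
  · rw [aff_zero_pow_eq_one_iff]
    intro X
    rw [rho_pow_apply]
    simp [frT_one]
  · intro h
    rw [aff_eq_one_iff] at h
    have := h.2 1
    rw [rho_apply] at this
    simp [frT_one] at this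
    have h00 := congrFun (congrFun this 0) 0
    simp at h00
    have : (2 : F) = 0 := by linear_combination -h00
    exact two_ne_zero' this

theorem sign_commute (g : SL2 F) :
    Commute (aff rho ((g, 1) : SL2 F × ℤˣ) 0) (aff rho ((1, -1) : SL2 F × ℤˣ) 0) := by
  unfold Commute SemiconjBy
  rw [aff_mul, aff_mul]
  simp

theorem sign_mul (g : SL2 F) :
    (aff rho ((g, 1) : SL2 F × ℤˣ) 0) * (aff rho ((1, -1) : SL2 F × ℤˣ) 0)
      = aff rho ((g, -1) : SL2 F × ℤˣ) 0 := by
  rw [aff_mul]
  simp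

section Finite

variable [Fintype F]

/-- an element of order `q - 1`. -/
theorem exists_order_q_sub_one {α : ℕ} (hq : Fintype.card F = 3 ^ α) (h8 : 3 ^ α % 8 = 3) :
    ∃ g : SL2 F, orderOf (aff rho ((g, -1) : SL2 F × ℤˣ) 0) = 3 ^ α - 1 := by
  classical
  obtain ⟨a, ha⟩ := IsCyclic.exists_generator (α := Fˣ)
  have hord : orderOf a = 3 ^ α - 1 := by
    rw [orderOf_eq_card_of_forall_mem_zpowers ha, Nat.card_units, Nat.card_eq_fintype_card, hq]
  refine ⟨diagHom a, ?_⟩
  have hd : orderOf (diagHom a) = 2 * ((3 ^ α - 1) / 2) := by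
    rw [orderOf_injective diagHom diagHom_injective, hord]; omega
  have hy := lin_order (diagHom a) _ hd
  rw [← sign_mul, (sign_commute _).orderOf_mul_eq_mul_orderOf_of_coprime, hy, sign_order]
  · omega
  · rw [hy, sign_order]
    rw [Nat.coprime_two_right]
    rw [Nat.odd_iff]; omega

end Finite

end Cfsg.Agent.H5Mu9
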