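import Mathlib
import Cfsg.Agent.Lib.Helper5.Mu9D

/-!
# Witnesses of the orders 6, 9 and (q+1)/2 (for S2515)
-/

set_option autoImplicit false

namespace Cfsg.Agent.H5Mu9

open Matrix Cfsg.Agent.H5Aff Polynomial

variable {F : Type*} [Field F] [CharP F 3]

theorem three_eq_zero' : (3 : F) = 0 := by
  have := CharP.cast_eq_zero F 3
  exact_mod_cast this

/-- the unipotent element. -/
def uM : SL2 F := ⟨!![1, 1; 0, 1], by simp [Matrix.det_fin_two]⟩

theorem uM_coe : ((uM : SL2 F) : M2 F) = !![1, 1; 0, 1] := rfl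

theorem uM_sq : ((uM : SL2 F) : M2 F) ^ 2 = !![1, 2; 0, 1] := by
  rw [uM_coe, pow_two]
  ext i j
  fin_cases i <;> fin_cases j <;> simp [Matrix.mul_apply, Fin.sum_univ_two] <;> norm_num

theorem uM_cube : ((uM : SL2 F) : M2 F) ^ 3 = 1 := by
  rw [pow_succ, uM_sq, uM_coe]
  ext i j
  fin_cases i <;> fin_cases j <;> simp [Matrix.mul_apply, Fin.sum_univ_two]
  have := three_eq_zero' (F := F)
  linear_combination this

theorem uM_pow3 : (uM : SL2 F) ^ 3 = 1 := by
  apply Subtype.ext
  rw [Matrix.SpecialLinearGroup.coe_pow, uM_cube]; rfl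

theorem uM_order : orderOf (uM : SL2 F) = 3 := by
  apply orderOf_eq_prime uM_pow3
  intro h
  have := congrArg (fun s : SL2 F => (s : M2 F) 0 1) h
  simp [uM_coe] at this

theorem lin_uM_order : orderOf (aff rho ((uM, 1) : SL2 F × ℤˣ) 0) = 3 := by
  apply orderOf_eq_prime
  · rw [lin_pow_eq_one_iff, show 2 * 3 = 3 * 2 by norm_num, pow_mul, uM_pow3, one_pow]
  · intro h
    have h1 : (aff rho ((uM, 1) : SL2 F × ℤˣ) 0) ^ 1 = 1 := by rw [pow_one]; exact h
    rw [lin_pow_eq_one_iff] at h1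
    have h2 : (uM : SL2 F) = 1 := by
      calc (uM : SL2 F) = uM ^ 3 * (uM ^ (2 * 1))⁻¹ := by group
        _ = 1 := by rw [uM_pow3, h1]; simp
    have := uM_order (F := F)
    rw [h2, orderOf_one] at this
    norm_num at this

/-- an element of order 6. -/
theorem order_six : orderOf (aff rho ((uM, -1) : SL2 F × ℤˣ) 0) = 6 := by
  rw [← sign_mul, (sign_commute _).orderOf_mul_eq_mul_orderOf_of_coprime, lin_uM_order, sign_order]
  rw [lin_uM_order, sign_order]; norm_num

theorem frT_u1 : frT (!![1, 1; 0, 1] : M2 F) = !![1, 0; 1, 1] := by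
  rw [frT_eq]
  ext i j
  fin_cases i <;> fin_cases j <;> simp

theorem frT_u2 : frT (!![1, 2; 0, 1] : M2 F) = !![1, 0; 8, 1] := by
  rw [frT_eq]
  ext i j
  fin_cases i <;> fin_cases j <;> simp <;> norm_num

/-- an element of order 9. -/
theorem order_nine :
    orderOf (aff rho ((uM, 1) : SL2 F × ℤˣ) (!![0, 0; 0, 1] : M2 F)) = 9 := by
  have h9 : (aff rho ((uM, 1) : SL2 F × ℤˣ) (!![0, 0; 0, 1] : M2 F)) ^ (3 ^ 2) = 1 := by
    have := aff_pow_mul_three rho ((uM, 1) : SL2 F × ℤˣ) (!![0, 0; 0, 1] : M2 F) 3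
      (fun X => by
        rw [rho_pow_apply, uM_cube, frT_one]; simp) three_smul_zero
    simpa using this
  have h3 : ¬ (aff rho ((uM, 1) : SL2 F × ℤˣ) (!![0, 0; 0, 1] : M2 F)) ^ (3 ^ 1) = 1 := by
    intro h
    rw [pow_one, aff_pow, aff_eq_one_iff] at h
    have hS := h.1
    rw [Finset.sum_range_succ, Finset.sum_range_succ, Finset.sum_range_succ,
      Finset.sum_range_zero, zero_add, rho_pow_apply, rho_pow_apply, rho_pow_apply,
      uM_sq] at hS
    simp only [pow_one, pow_zero, one_pow] at hS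
    rw [uM_coe, frT_one, frT_u1, frT_u2] at hS
    have h00 := congrFun (congrFun hS 0) 0
    simp [Matrix.mul_apply, Fin.sum_univ_two] at h00
    have h3' := three_eq_zero' (F := F)
    have : (1 : F) = 0 := by linear_combination 6 * h3' - h00
    exact one_ne_zero this
  have := orderOf_eq_prime_pow h3 h9
  simpa using this

section Finite

variable [Fintype F]

/-- a nonsplit torus generator: an element of order `q + 1`. -/
theorem exists_order_q_add_one {α : ℕ} (hq : Fintype.card F = 3 ^ α) (h8 : 3 ^ α % 8 = 3) :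
    ∃ g : SL2 F, orderOf g = 3 ^ α + 1 := by
  classical
  set f : F[X] := X ^ 2 + 1 with hf
  have hfdeg : f.natDegree = 2 := by
    rw [hf]; compute_degree!
  have hf0 : f ≠ 0 := by
    intro h0; rw [h0] at hfdeg; simp at hfdeg
  have hirr : Irreducible f := by
    rw [Polynomial.irreducible_iff_roots_eq_zero_of_degree_le_three (by omega) (by omega)]
    apply Multiset.eq_zero_of_forall_notMem
    intro x hx
    rw [Polynomial.mem_roots hf0, Polynomial.IsRoot.def, hf] at hx
    simp at hx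
    exact neg_one_not_sq hq h8 x (eq_neg_of_add_eq_zero_left hx)
  haveI : Fact (Irreducible f) := ⟨hirr⟩
  let pb := AdjoinRoot.powerBasis hf0
  have hfin : Module.finrank F (AdjoinRoot f) = 2 := by
    rw [pb.finrank]; exact hfdeg
  haveI : Module.Finite F (AdjoinRoot f) := pb.finite
  haveI : Finite (AdjoinRoot f) := Module.finite_of_finite F
  haveI : Fintype (AdjoinRoot f) := Fintype.ofFinite _
  have hcardE : Nat.card (AdjoinRoot f) = (3 ^ α) ^ 2 := by
    rw [Nat.card_eq_fintype_card, Module.card_eq_pow_finrank (K := F) (V := AdjoinRoot f), hfin, hq]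
  obtain ⟨y, hy⟩ := IsCyclic.exists_generator (α := (AdjoinRoot f)ˣ)
  have hyord : orderOf y = (3 ^ α) ^ 2 - 1 := by
    rw [orderOf_eq_card_of_forall_mem_zpowers hy, Nat.card_units, hcardE]
  have hqpos : 1 < 3 ^ α := by omega
  have hfac : (3 ^ α) ^ 2 - 1 = (3 ^ α - 1) * (3 ^ α + 1) := by
    have : 1 ≤ 3 ^ α := by omega
    zify [this, Nat.one_le_pow 2 (3 ^ α) (by omega)]
    ring
  set a : (AdjoinRoot f)ˣ := y ^ (3 ^ α - 1) with ha
  have haord : orderOf a = 3 ^ α + 1 := by
    rw [ha, orderOf_pow_of_dvd (by omega) (by rw [hyord, hfac]; exact dvd_mul_right _ _), hyord, hfac]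
    exact Nat.mul_div_cancel_left _ (by omega)
  let b : Module.Basis (Fin 2) F (AdjoinRoot f) := Module.finBasisOfFinrankEq F (AdjoinRoot f) hfin
  have hnorm : Algebra.norm F ((a : (AdjoinRoot f)ˣ) : AdjoinRoot f) = 1 := by
    rw [ha, Units.val_pow_eq_pow_val, map_pow]
    have hne : Algebra.norm F ((y : (AdjoinRoot f)ˣ) : AdjoinRoot f) ≠ 0 := by
      intro h0
      have h1 : Algebra.norm F (((y : (AdjoinRoot f)ˣ) : AdjoinRoot f) *
          ((y⁻¹ : (AdjoinRoot f)ˣ) : AdjoinRoot f)) = 1 := by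
        rw [← Units.val_mul, mul_inv_cancel, Units.val_one, map_one]
      rw [map_mul, h0, zero_mul] at h1
      exact zero_ne_one h1
    rw [← hq]
    exact FiniteField.pow_card_sub_one_eq_one _ hne
  have hdet : (Algebra.leftMulMatrix b ((a : (AdjoinRoot f)ˣ) : AdjoinRoot f)).det = 1 := by
    rw [← Algebra.norm_eq_matrix_det b]; exact hnorm
  set g : SL2 F := ⟨Algebra.leftMulMatrix b ((a : (AdjoinRoot f)ˣ) : AdjoinRoot f), hdet⟩ with hgdef
  have hgcoe : (g : M2 F) = Algebra.leftMulMatrix b ((a : (AdjoinRoot f)ˣ) : AdjoinRoot f) := rfl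
  refine ⟨g, ?_⟩
  rw [← haord]
  refine orderOf_eq_orderOf_iff.mpr fun n => ?_
  constructor
  · intro h
    have h1 := congrArg (fun s : SL2 F => (s : M2 F)) h
    simp only [Matrix.SpecialLinearGroup.coe_pow, Matrix.SpecialLinearGroup.coe_one, hgcoe] at h1
    have h2 : Algebra.leftMulMatrix b ((a : AdjoinRoot f) ^ n) = Algebra.leftMulMatrix b 1 := by
      rw [map_pow, map_one]; exact h1
    have h3 := Algebra.leftMulMatrix_injective b h2
    apply Units.ext
    rw [Units.val_pow_eq_pow_val]; exact h3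
  · intro h
    apply Matrix.SpecialLinearGroup.ext
    intro i j
    rw [Matrix.SpecialLinearGroup.coe_pow, Matrix.SpecialLinearGroup.coe_one, hgcoe, ← map_pow,
      ← Units.val_pow_eq_pow_val, h, Units.val_one, map_one]

/-- an element of order `(q + 1) / 2`. -/
theorem exists_order_half {α : ℕ} (hq : Fintype.card F = 3 ^ α) (h8 : 3 ^ α % 8 = 3) :
    ∃ g : SL2 F, orderOf (aff rho ((g, 1) : SL2 F × ℤˣ) 0) = (3 ^ α + 1) / 2 := by
  obtain ⟨g, hg⟩ := exists_order_q_add_one hq h8
  refine ⟨g, lin_order g _ ?_⟩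
  rw [hg]; omega

end Finite

end Cfsg.Agent.H5Mu9
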