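import Mathlib
import Cfsg.Agent.Lib.Helper5.Mu9E

/-!
# Assembly for S2515
-/

set_option autoImplicit false

namespace Cfsg.Agent.H5Mu9

open Matrix Cfsg.Agent.H5Aff

theorem maximal_set_eq (R : Set ℕ) (a b c d : ℕ)
    (hA : ∀ n ∈ R, n ∣ a ∨ n ∣ b ∨ n ∣ c ∨ n ∣ d)
    (ha : a ∈ R) (hb : b ∈ R) (hc : c ∈ R) (hd : d ∈ R)
    (hC : ∀ M ∈ ({a, b, c, d} : Set ℕ), ∀ M' ∈ ({a, b, c, d} : Set ℕ), M ∣ M' → M = M') :
    {n | n ∈ R ∧ ∀ m ∈ R, n ∣ m → m = n} = ({a, b, c, d} : Set ℕ) := by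
  have hSR : ∀ M ∈ ({a, b, c, d} : Set ℕ), M ∈ R := by
    intro M hM
    simp only [Set.mem_insert_iff, Set.mem_singleton_iff] at hM
    rcases hM with rfl | rfl | rfl | rfl <;> assumption
  have hA' : ∀ n ∈ R, ∃ M ∈ ({a, b, c, d} : Set ℕ), n ∣ M := by
    intro n hn
    rcases hA n hn with h | h | h | h
    · exact ⟨a, by simp, h⟩
    · exact ⟨b, by simp, h⟩
    · exact ⟨c, by simp, h⟩
    · exact ⟨d, by simp, h⟩
  ext n
  constructor
  · rintro ⟨hn, hmax⟩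
    obtain ⟨M, hMS, hnM⟩ := hA' n hn
    have := hmax M (hSR M hMS) hnM
    rw [← this]; exact hMS
  · intro hnS
    refine ⟨hSR n hnS, fun m hm hnm => ?_⟩
    obtain ⟨M, hMS, hmM⟩ := hA' m hm
    have h1 := hC n hnS M hMS (hnm.trans hmM)
    rw [← h1] at hmM
    exact Nat.dvd_antisymm hmM hnm

theorem three_pow_mod_eight {α : ℕ} (hodd : Odd α) : 3 ^ α % 8 = 3 := by
  obtain ⟨k, rfl⟩ := hodd
  rw [pow_succ, pow_mul, Nat.mul_mod, Nat.pow_mod]
  norm_num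

theorem arith_antichain (Q : ℕ) (h27 : 27 ≤ Q) (h8 : Q % 8 = 3) (h3 : Q % 3 = 0) :
    ∀ M ∈ ({6, 9, Q - 1, (Q + 1) / 2} : Set ℕ), ∀ M' ∈ ({6, 9, Q - 1, (Q + 1) / 2} : Set ℕ),
      M ∣ M' → M = M' := by
  intro M hM M' hM' hdvd
  simp only [Set.mem_insert_iff, Set.mem_singleton_iff] at hM hM'
  have key : ∀ x y : ℕ, 0 < y → x ∣ y → x ≤ y := fun x y hy h => Nat.le_of_dvd hy h
  rcases hM with rfl | rfl | rfl | rfl <;> rcases hM' with rfl | rfl | rfl | rfl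
  · rfl
  · omega
  · omega
  · omega
  · omega
  · rfl
  · omega
  · omega
  · have := key _ _ (by norm_num) hdvd; omega
  · have := key _ _ (by norm_num) hdvd; omega
  · rfl
  · have := key _ _ (by omega) hdvd; omega
  · have := key _ _ (by norm_num) hdvd; omega
  · have := key _ _ (by norm_num) hdvd; omega
  · -- (Q+1)/2 ∣ Q - 1
    exfalso
    set m := (Q + 1) / 2 with hm
    have h2m : Q - 1 = 2 * m - 2 := by omega
    have h1 : m ∣ 2 * m := dvd_mul_left m 2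
    rw [h2m] at hdvd
    have h2 : m ∣ 2 * m - (2 * m - 2) := Nat.dvd_sub h1 hdvd
    have h3 : 2 * m - (2 * m - 2) = 2 := by omega
    rw [h3] at h2
    have := key _ _ (by norm_num) h2
    omega
  · rfl

theorem main (α : ℕ) (hα : 3 ≤ α) (hodd : Odd α) :
    ∃ (H : Type) (_ : Group H) (_ : Fintype H),
      (∃ P : Subgroup H, P.Normal ∧ P ≠ ⊥ ∧ IsPGroup 3 ↥P) ∧
      {n : ℕ | n ∈ Set.range (orderOf : H → ℕ) ∧
        ∀ m ∈ Set.range (orderOf : H → ℕ), n ∣ m → m = n}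
        = ({6, 9, 3 ^ α - 1, (3 ^ α + 1) / 2} : Set ℕ) := by
  classical
  have hα0 : α ≠ 0 := by omega
  haveI : Fintype (GaloisField 3 α) := Fintype.ofFinite _
  have hq : Fintype.card (GaloisField 3 α) = 3 ^ α := by
    rw [← Nat.card_eq_fintype_card, GaloisField.card 3 α hα0]
  have h8 := three_pow_mod_eight hodd
  have h27 : 27 ≤ 3 ^ α := by
    calc 27 = 3 ^ 3 := by norm_num
      _ ≤ 3 ^ α := Nat.pow_le_pow_right (by norm_num) hα
  have h3 : 3 ^ α % 3 = 0 := by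
    obtain ⟨k, rfl⟩ : ∃ k, α = k + 1 := ⟨α - 1, by omega⟩
    rw [pow_succ]; omega
  let φ := rho (F := GaloisField 3 α)
  refine ⟨↥(affGroup φ), inferInstance, Fintype.ofFinite _,
    ⟨(transGroup φ).subgroupOf (affGroup φ), transGroup_normal φ,
      transGroup_ne_bot φ (1 : M2 (GaloisField 3 α)) one_ne_zero,
      transGroup_isPGroup φ three_smul_zero⟩, ?_⟩
  apply maximal_set_eq
  · rintro _ ⟨x, rfl⟩
    obtain ⟨⟨g, ε⟩, B, hx⟩ := x.2
    have hpow : ∀ N : ℕ, (aff φ (g, ε) B) ^ N = 1 → orderOf x ∣ N := by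
      intro N hN
      apply orderOf_dvd_of_pow_eq_one
      apply Subtype.ext
      rw [Subgroup.coe_pow, hx, hN]; rfl
    rcases order_cases hq h8 g ε B with h | h | h | h
    · exact Or.inl (hpow _ h)
    · exact Or.inr (Or.inl (hpow _ h))
    · exact Or.inr (Or.inr (Or.inl (hpow _ h)))
    · exact Or.inr (Or.inr (Or.inr (hpow _ h)))
  · exact ⟨⟨_, aff_mem φ _ _⟩, by rw [Subgroup.orderOf_mk]; exact order_six⟩
  · exact ⟨⟨_, aff_mem φ _ _⟩, by rw [Subgroup.orderOf_mk]; exact order_nine⟩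
  · obtain ⟨g, hg⟩ := exists_order_q_sub_one hq h8
    exact ⟨⟨_, aff_mem φ _ _⟩, by rw [Subgroup.orderOf_mk]; exact hg⟩
  · obtain ⟨g, hg⟩ := exists_order_half hq h8
    exact ⟨⟨_, aff_mem φ _ _⟩, by rw [Subgroup.orderOf_mk]; exact hg⟩
  · exact arith_antichain (3 ^ α) h27 h8 h3

end Cfsg.Agent.H5Mu9
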