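import Mathlib
import Cfsg.Agent.Lib.Helper21.N9KDefs
import Cfsg.Agent.Lib.Helper16.TC648Index

/-!
# S3702 piece GR-KCENT (helper5): centralizer orders of the nine representatives in `K0`
-/

set_option autoImplicit false
set_option linter.unusedSectionVars false
set_option linter.unusedVariables false

namespace Cfsg.Agent.Helper21.N9

open Cfsg Cfsg.Agent.Helper16

universe u

/-- the centralizer of `z` as an enumeration over indices -/
theorem kcent_card (z : ↥K0) :
    Nat.card (Subgroup.centralizer ({z} : Set ↥K0)) =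
      Fintype.card {q : Idx // z * Wk q = Wk q * z} := by
  rw [← card_subtype_K0 (fun x => z * x = x * z)]
  apply Nat.card_congr
  refine Equiv.subtypeEquivRight (fun x => ?_)
  change x ∈ Subgroup.centralizer ({z} : Set ↥K0) ↔ z * x = x * z
  rw [Subgroup.mem_centralizer_singleton_iff]
  exact eq_comm

theorem kcent_z0 : CK.z 0 = Wk (1,0,0,0,0,0,0) := by decide +kernel
theorem kcent_z1 : CK.z 1 = Wk (1,1,0,0,0,0,0) := by decide +kernel
theorem kcent_z2 : CK.z 2 = Wk (1,1,1,0,0,0,0) := by decide +kernel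
theorem kcent_z3 : CK.z 3 = Wk (1,2,2,0,1,0,0) := by decide +kernel
theorem kcent_z4 : CK.z 4 = Wk (1,1,0,0,0,0,1) := by decide +kernel
theorem kcent_z5 : CK.z 5 = Wk (1,2,0,0,0,2,1) := by decide +kernel
theorem kcent_z6 : CK.z 6 = Wk (2,2,0,0,0,2,1) := by decide +kernel
theorem kcent_z7 : CK.z 7 = Wk (1,0,0,0,0,1,0) := by decide +kernel
theorem kcent_z8 : CK.z 8 = Wk (2,0,0,0,0,1,0) := by decide +kernel

theorem kcent_c0 : Fintype.card {q : Idx // Wk (1,0,0,0,0,0,0) * Wk q = Wk q * Wk (1,0,0,0,0,0,0)} = 108 := by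
  decide +kernel
theorem kcent_c1 : Fintype.card {q : Idx // Wk (1,1,0,0,0,0,0) * Wk q = Wk q * Wk (1,1,0,0,0,0,0)} = 54 := by
  decide +kernel
theorem kcent_c2 : Fintype.card {q : Idx // Wk (1,1,1,0,0,0,0) * Wk q = Wk q * Wk (1,1,1,0,0,0,0)} = 81 := by
  decide +kernel
theorem kcent_c3 : Fintype.card {q : Idx // Wk (1,2,2,0,1,0,0) * Wk q = Wk q * Wk (1,2,2,0,1,0,0)} = 12 := by
  decide +kernel
theorem kcent_c4 : Fintype.card {q : Idx // Wk (1,1,0,0,0,0,1) * Wk q = Wk q * Wk (1,1,0,0,0,0,1)} = 6 := by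
  decide +kernel
theorem kcent_c5 : Fintype.card {q : Idx // Wk (1,2,0,0,0,2,1) * Wk q = Wk q * Wk (1,2,0,0,0,2,1)} = 12 := by
  decide +kernel
theorem kcent_c6 : Fintype.card {q : Idx // Wk (2,2,0,0,0,2,1) * Wk q = Wk q * Wk (2,2,0,0,0,2,1)} = 12 := by
  decide +kernel
theorem kcent_c7 : Fintype.card {q : Idx // Wk (1,0,0,0,0,1,0) * Wk q = Wk q * Wk (1,0,0,0,0,1,0)} = 9 := by
  decide +kernel
theorem kcent_c8 : Fintype.card {q : Idx // Wk (2,0,0,0,0,1,0) * Wk q = Wk q * Wk (2,0,0,0,0,1,0)} = 9 := by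
  decide +kernel

/-- PIECE S3702-GR-KCENT: centralizer orders 108, 54, 81, 12, 6, 12, 12, 9, 9. -/
theorem cent_K0 : ∀ a : Fin 9, Nat.card (Subgroup.centralizer ({CK.z a} : Set ↥K0)) = TC648.cz a := by
  intro a
  rw [kcent_card]
  fin_cases a
  · change Fintype.card {q : Idx // CK.z 0 * Wk q = Wk q * CK.z 0} = 108
    simp only [kcent_z0]; exact kcent_c0
  · change Fintype.card {q : Idx // CK.z 1 * Wk q = Wk q * CK.z 1} = 54
    simp only [kcent_z1]; exact kcent_c1
  · change Fintype.card {q : Idx // CK.z 2 * Wk q = Wk q * CK.z 2} = 81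
    simp only [kcent_z2]; exact kcent_c2
  · change Fintype.card {q : Idx // CK.z 3 * Wk q = Wk q * CK.z 3} = 12
    simp only [kcent_z3]; exact kcent_c3
  · change Fintype.card {q : Idx // CK.z 4 * Wk q = Wk q * CK.z 4} = 6
    simp only [kcent_z4]; exact kcent_c4
  · change Fintype.card {q : Idx // CK.z 5 * Wk q = Wk q * CK.z 5} = 12
    simp only [kcent_z5]; exact kcent_c5
  · change Fintype.card {q : Idx // CK.z 6 * Wk q = Wk q * CK.z 6} = 12
    simp only [kcent_z6]; exact kcent_c6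
  · change Fintype.card {q : Idx // CK.z 7 * Wk q = Wk q * CK.z 7} = 9
    simp only [kcent_z7]; exact kcent_c7
  · change Fintype.card {q : Idx // CK.z 8 * Wk q = Wk q * CK.z 8} = 9
    simp only [kcent_z8]; exact kcent_c8

end Cfsg.Agent.Helper21.N9
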