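import Mathlib
import Cfsg.Prelude.Def_Classical
import Cfsg.Agent.Lib.Helper13.OrthType5

/-!
# S3589 (helper5): shared definitions

`ω(Sp_8(q)) = ω(GO_8^-(q))`, `q` even.  See `plans/S3589_plan.md`.
Built on helper13's typed quadratic spaces (`Cfsg.Agent.Helper13.OrthSS`).
-/

set_option autoImplicit false

namespace Cfsg.Agent.Helper5.O8

open Polynomial Module QuadraticMap
open Cfsg.Agent.Helper13 Cfsg.Agent.Helper13.OrthSS

universe u

/-- an isometry of order exactly `n` of a quadratic space of (even) dimension `d` with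
nondegenerate polar form, which is hyperbolic iff `t` -/
def QOrd (F : Type u) [Field F] (d n : ℕ) (t : Prop) : Prop :=
  ∃ (V : Type u) (_ : AddCommGroup V) (_ : Module F V) (_ : FiniteDimensional F V)
    (A : Module.End F V) (Q : QuadraticForm F V),
    orderOf A = n ∧ 0 < n ∧ (polarBilin Q).Nondegenerate ∧ (∀ v, Q (A v) = Q v) ∧
      finrank F V = d ∧ Even d ∧ (IsHyp Q ↔ t)

/-- a unipotent isometry `A` with `A ^ (2 ^ s) = 1` and `(A - 1) ^ (2 ^ s - 1) ≠ 0` (one Jordan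
block of size `2 ^ s`) of a quadratic space of dimension `d`, hyperbolic iff `t` -/
def QUni (F : Type u) [Field F] (d s : ℕ) (t : Prop) : Prop :=
  ∃ (V : Type u) (_ : AddCommGroup V) (_ : Module F V) (_ : FiniteDimensional F V)
    (A : Module.End F V) (Q : QuadraticForm F V),
    A ^ (2 ^ s) = 1 ∧ (A - 1) ^ (2 ^ s - 1) ≠ 0 ∧ (polarBilin Q).Nondegenerate ∧
      (∀ v, Q (A v) = Q v) ∧ finrank F V = d ∧ Even d ∧ (IsHyp Q ↔ t)

/-- the twelve pairs `(N, t)`: every element order of `Sp_8(q)`, `q` even, divides some `N * 2 ^ t` -/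
def Llist (q : ℕ) : List (ℕ × ℕ) :=
  [(q ^ 4 + 1, 0), (q ^ 4 - 1, 0), ((q ^ 3 - 1) * (q + 1), 0), ((q ^ 3 + 1) * (q - 1), 0),
   (q ^ 3 - 1, 1), (q ^ 3 + 1, 1), ((q ^ 2 + 1) * (q - 1), 1), ((q ^ 2 + 1) * (q + 1), 1),
   (q ^ 2 - 1, 2), (q ^ 2 + 1, 2), (q - 1, 3), (q + 1, 3)]

/-- profiles of `(X+1)`-free self-reciprocal polynomials: `Reach q k N M` - half-degree `k`, every
irreducible factor divides `X ^ N - 1`, multiplicities at most `M` -/
inductive Reach (q : ℕ) : ℕ → ℕ → ℕ → Prop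
  | zero : Reach q 0 1 1
  | minus {k N M : ℕ} (d m : ℕ) (hd : 1 ≤ d) (hm : 1 ≤ m) (h : Reach q k N M) :
      Reach q (k + d * m) (Nat.lcm N (q ^ d + 1)) (max M m)
  | plus {k N M : ℕ} (d m : ℕ) (hd : 1 ≤ d) (hm : 1 ≤ m) (h : Reach q k N M) :
      Reach q (k + d * m) (Nat.lcm N (q ^ d - 1)) (max M m)

/-- the dominating lists `S_k`, `k ≤ 4` -/
def Slist (q : ℕ) : ℕ → List (ℕ × ℕ)
  | 0 => [(1, 1)]
  | 1 => [(q - 1, 1), (q + 1, 1)]
  | 2 => [(q ^ 2 - 1, 1), (q ^ 2 + 1, 1), (q - 1, 2), (q + 1, 2)]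
  | 3 => [(q ^ 3 - 1, 1), (q ^ 3 + 1, 1), ((q ^ 2 + 1) * (q - 1), 1), ((q ^ 2 + 1) * (q + 1), 1),
          (q ^ 2 - 1, 2), (q - 1, 3), (q + 1, 3)]
  | 4 => [(q ^ 4 + 1, 1), (q ^ 4 - 1, 1), ((q ^ 3 - 1) * (q + 1), 1), ((q ^ 3 + 1) * (q - 1), 1),
          ((q ^ 2 + 1) * (q - 1), 2), ((q ^ 2 + 1) * (q + 1), 2), (q ^ 2 - 1, 4)]
  | _ => []

/-- `(N, M)` is dominated by a member of the list -/
def Dom (l : List (ℕ × ℕ)) (N M : ℕ) : Prop := ∃ p ∈ l, N ∣ p.1 ∧ M ≤ p.2

section siegel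
variable {F : Type*} [Field F]

/-- the bilinear map `(u, v) ↦ u.1 * v.2` on `F × F` -/
noncomputable def hypB (F : Type*) [Field F] : LinearMap.BilinMap F (F × F) F :=
  LinearMap.mk₂ F (fun u v => u.1 * v.2)
    (by intro a b c; simp only [Prod.fst_add]; ring)
    (by intro c a b; simp only [Prod.smul_fst, smul_eq_mul]; ring)
    (by intro a b c; simp only [Prod.snd_add]; ring)
    (by intro c a b; simp only [Prod.smul_snd, smul_eq_mul]; ring)

/-- the hyperbolic plane `x * y` on `F × F` -/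
noncomputable def hypQ (F : Type*) [Field F] : QuadraticForm F (F × F) :=
  LinearMap.BilinMap.toQuadraticMap (hypB F)

theorem hypQ_apply (u : F × F) : hypQ F u = u.1 * u.2 := by
  unfold hypQ
  rw [LinearMap.BilinMap.toQuadraticMap_apply]
  rfl

variable {W : Type*} [AddCommGroup W] [Module F W]

/-- the Siegel-type map `((x, y), z) ↦ ((x + B(h z, w) + Q(w) y, y), h z + y • w)` of
`(F × F) × W`, where `B` is the polar form of `Q` -/
noncomputable def siegel (Q : QuadraticForm F W) (w : W) (h : Module.End F W) :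
    Module.End F ((F × F) × W) where
  toFun v := ((v.1.1 + polar Q (h v.2) w + Q w * v.1.2, v.1.2), h v.2 + v.1.2 • w)
  map_add' u v := by
    refine Prod.ext (Prod.ext ?_ ?_) ?_
    · simp only [Prod.fst_add, Prod.snd_add, map_add, polar_add_left]
      ring
    · simp only [Prod.fst_add, Prod.snd_add]
    · simp only [Prod.fst_add, Prod.snd_add, map_add, add_smul]
      abel
  map_smul' c v := by
    refine Prod.ext (Prod.ext ?_ ?_) ?_
    · simp only [Prod.smul_fst, Prod.smul_snd, map_smul, polar_smul_left, smul_eq_mul,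
        RingHom.id_apply]
      ring
    · simp only [Prod.smul_fst, Prod.smul_snd, RingHom.id_apply]
    · simp only [Prod.smul_fst, Prod.smul_snd, map_smul, RingHom.id_apply, smul_add, smul_eq_mul,
        mul_smul]

theorem siegel_apply (Q : QuadraticForm F W) (w : W) (h : Module.End F W) (x y : F) (z : W) :
    siegel Q w h ((x, y), z) = ((x + polar Q (h z) w + Q w * y, y), h z + y • w) := rfl

end siegel

end Cfsg.Agent.Helper5.O8
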