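import Mathlib
import Cfsg.Prelude.Def_Classical
import Cfsg.Agent.Lib.Helper5.O8Defs
import Cfsg.Agent.Lib.Helper10.EOAssembly
import Cfsg.Agent.Lib.Helper13.OrthSp2
import Cfsg.Agent.Lib.Helper13.OrthTy5
import Cfsg.Agent.Lib.Helper13.SympPalin
import Cfsg.Agent.Lib.Helper13.MatrixOrders
import Cfsg.Agent.Lib.O8.O8EMB1
import Cfsg.Agent.Lib.O8.O8EMB2
import Cfsg.Agent.Lib.O8.O8CHAR
import Cfsg.Agent.Lib.O8.O8UPEEL
import Cfsg.Agent.Lib.O8.O8PEEL
import Cfsg.Agent.Lib.O8.O8DOM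
import Cfsg.Agent.Lib.O8.O8PROD
import Cfsg.Agent.Lib.O8.O8UNIORD
import Cfsg.Agent.Lib.O8.O8ORDIRR
import Cfsg.Agent.Lib.O8.O8IRRFIX
import Cfsg.Agent.Lib.O8.O8ARITHNS
import Cfsg.Agent.Lib.O8.O8SEMIREG
import Cfsg.Agent.Lib.O8.O8MPOLY
import Cfsg.Agent.Lib.O8.O8MDUAL
import Cfsg.Agent.Lib.O8.O8MNE
import Cfsg.Agent.Lib.O8.O8GLHYP
import Cfsg.Agent.Lib.O8.O8UNI2P
import Cfsg.Agent.Lib.O8.O8UNI2M
import Cfsg.Agent.Lib.O8.O8SIEGORD
import Cfsg.Agent.Lib.O8.O8SIEGJ4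
import Cfsg.Agent.Lib.O8.O8REAL
import Cfsg.Agent.Lib.O8.O8ARITH

/-!
# S3589 (helper5): assembly of the pieces `O8-*`

`ω(Sp_8(q)) = ω(GO_8^-(q))` for `q` even.  Plan: `plans/S3589_plan.md`.
-/

set_option autoImplicit false
set_option linter.unusedSectionVars false

namespace Cfsg.Agent.Helper5.O8

open Polynomial Module QuadraticMap
open Cfsg.Agent.Helper13 Cfsg.Agent.Helper13.OrthSS Cfsg.Agent.Helper13.Dual Cfsg.Agent.Helper10

universe u

/-! ## arithmetic of the field size -/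

theorem card_facts (F : Type u) [Field F] [Fintype F] [CharP F 2] :
    2 ≤ Fintype.card F ∧ Even (Fintype.card F) := by
  refine ⟨Fintype.one_lt_card, ?_⟩
  have := FiniteField.even_card_of_char_two (F := F) (ringChar.eq F 2)
  exact Nat.even_iff.mpr this

/-! ## (B) glue -/

theorem reach_of_poly {F : Type u} [Field F] [Fintype F] [CharP F 2] :
    ∀ (n : ℕ) (χ : F[X]), χ.natDegree = n → χ.Monic → χ.coeff 0 ≠ 0 → EO.star χ = χ →
      χ.eval 1 ≠ 0 →
      ∃ k N M, χ.natDegree = 2 * k ∧ Reach (Fintype.card F) k N M ∧ χ ∣ (X ^ N - 1) ^ M := by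
  intro n
  induction n using Nat.strong_induction_on with
  | _ n ih =>
    intro χ hn hmon h0 hstar h1
    rcases Nat.eq_zero_or_pos χ.natDegree with hz | hpos
    · refine ⟨0, 1, 1, by rw [hz], Reach.zero, ?_⟩
      have : χ = 1 := hmon.natDegree_eq_zero.mp hz
      rw [this]
      exact one_dvd _
    · obtain ⟨ω, χ', d, m, hd, hm, hχ, hωdeg, hωmon, hωdvd, hcop, hmon', h0', hstar', h1'⟩ :=
        peel χ hmon h0 hstar h1 hpos
      have hdegχ : χ.natDegree = m * (2 * d) + χ'.natDegree := by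
        rw [hχ, (hωmon.pow m).natDegree_mul hmon', hωmon.natDegree_pow, hωdeg]
      have hlt : χ'.natDegree < n := by
        rw [← hn, hdegχ]
        have : 1 ≤ m * (2 * d) := Nat.mul_pos hm (by omega)
        omega
      obtain ⟨k', N', M', hk', hR, hdvd'⟩ := ih χ'.natDegree hlt χ' rfl hmon' h0' hstar' h1'
      have hkey : ∀ (e N : ℕ), ω ∣ X ^ e - 1 → N = Nat.lcm N' e →
          χ ∣ (X ^ N - 1) ^ (max M' m) := by
        intro e N hωe hN
        rw [hχ]
        apply IsCoprime.mul_dvd (hcop.pow_left)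
        · have h2 : ω ∣ X ^ N - 1 :=
            dvd_trans hωe (EO.X_pow_sub_one_dvd e N (hN ▸ Nat.dvd_lcm_right N' e))
          exact dvd_trans (pow_dvd_pow_of_dvd h2 m) (pow_dvd_pow _ (le_max_right M' m))
        · have h2 : (X ^ N' - 1 : F[X]) ∣ X ^ N - 1 :=
            EO.X_pow_sub_one_dvd N' N (hN ▸ Nat.dvd_lcm_left N' e)
          exact dvd_trans hdvd' (dvd_trans (pow_dvd_pow_of_dvd h2 M')
            (pow_dvd_pow _ (le_max_left M' m)))
      have hdeg2 : χ.natDegree = 2 * (k' + d * m) := by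
        rw [hdegχ, hk']
        ring
      rcases hωdvd with hω | hω
      · exact ⟨k' + d * m, Nat.lcm N' (Fintype.card F ^ d + 1), max M' m, hdeg2,
          Reach.minus d m hd hm hR, hkey _ _ hω rfl⟩
      · exact ⟨k' + d * m, Nat.lcm N' (Fintype.card F ^ d - 1), max M' m, hdeg2,
          Reach.plus d m hd hm hR, hkey _ _ hω rfl⟩

theorem dom_step (q : ℕ) (hq : 2 ≤ q) (k : ℕ) (p : ℕ × ℕ) (hp : p ∈ Slist q k) (d m : ℕ)
    (hd : 1 ≤ d) (hm : 1 ≤ m) (h : k + d * m ≤ 4) :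
    Dom (Slist q (k + d * m)) (Nat.lcm p.1 (q ^ d + 1)) (max p.2 m) ∧
      Dom (Slist q (k + d * m)) (Nat.lcm p.1 (q ^ d - 1)) (max p.2 m) := by
  have hdm : 1 ≤ d * m := Nat.mul_pos hd hm
  have hk3 : k ≤ 3 := by omega
  interval_cases k
  · exact dom_step_zero q hq p hp d m hd hm h
  · exact dom_step_one q hq p hp d m hd hm h
  · exact dom_step_two q hq p hp d m hd hm h
  · exact dom_step_three q hq p hp d m hd hm h

theorem dom_of_reach (q : ℕ) (hq : 2 ≤ q) {k N M : ℕ} (h : Reach q k N M) :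
    k ≤ 4 → Dom (Slist q k) N M := by
  induction h with
  | zero =>
    intro _
    exact ⟨(1, 1), List.mem_singleton.mpr rfl, dvd_rfl, le_rfl⟩
  | minus d m hd hm h ih =>
    intro hk
    have hk' : _ ≤ 4 := le_trans (Nat.le_add_right _ _) hk
    obtain ⟨p, hp, hN, hM⟩ := ih hk'
    obtain ⟨⟨p', hp', hN', hM'⟩, _⟩ := dom_step q hq _ p hp d m hd hm hk
    refine ⟨p', hp', dvd_trans (Nat.lcm_dvd (dvd_trans hN (Nat.dvd_lcm_left _ _))
      (Nat.dvd_lcm_right _ _)) hN', le_trans (max_le_max hM le_rfl) hM'⟩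
  | plus d m hd hm h ih =>
    intro hk
    have hk' : _ ≤ 4 := le_trans (Nat.le_add_right _ _) hk
    obtain ⟨p, hp, hN, hM⟩ := ih hk'
    obtain ⟨_, ⟨p', hp', hN', hM'⟩⟩ := dom_step q hq _ p hp d m hd hm hk
    refine ⟨p', hp', dvd_trans (Nat.lcm_dvd (dvd_trans hN (Nat.dvd_lcm_left _ _))
      (Nat.dvd_lcm_right _ _)) hN', le_trans (max_le_max hM le_rfl) hM'⟩

theorem pow_eq_one_of_charpoly_dvd {F : Type u} [Field F] {n : Type} [Fintype n] [DecidableEq n]
    (A : Matrix n n F) (T : ℕ) (key : A.charpoly ∣ X ^ T - 1) : A ^ T = 1 := by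
  have h3 := Polynomial.aeval_eq_zero_of_dvd_aeval_eq_zero key (Matrix.aeval_self_charpoly A)
  rw [map_sub, map_pow, aeval_X, map_one, sub_eq_zero] at h3
  exact h3

theorem upper {F : Type u} [Field F] [Fintype F] [CharP F 2]
    (g : Matrix.symplecticGroup (Fin 4) F) :
    ∃ p ∈ Llist (Fintype.card F), orderOf g ∣ p.1 * 2 ^ p.2 := by
  obtain ⟨hq, -⟩ := card_facts F
  set A : Matrix (Fin 4 ⊕ Fin 4) (Fin 4 ⊕ Fin 4) F := (g : Matrix (Fin 4 ⊕ Fin 4) (Fin 4 ⊕ Fin 4) F)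
    with hA
  obtain ⟨hmon, hdeg, h0, hstar⟩ := charpoly_facts 4 g
  rw [← hA] at hmon hdeg h0 hstar
  obtain ⟨u, χ', hχ, hmon', h0', hstar', h1'⟩ := upeel _ hmon h0 hstar
  obtain ⟨k, N, M, hk, hR, hdvd⟩ := reach_of_poly _ χ' rfl hmon' h0' hstar' h1'
  have hX1mon : (X - 1 : F[X]).Monic := by
    have := monic_X_sub_C (1 : F)
    rwa [C_1] at this
  have hX1deg : (X - 1 : F[X]).natDegree = 1 := by
    have := natDegree_X_sub_C (1 : F)
    rwa [C_1] at this
  have hdeg8 : 8 = u + 2 * k := by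
    have h8 : A.charpoly.natDegree = 8 := hdeg
    rw [← h8, hχ, (hX1mon.pow u).natDegree_mul hmon', hX1mon.natDegree_pow, hX1deg, hk]
    ring
  have hk4 : k ≤ 4 := by omega
  obtain ⟨p, hp, hNp, hMp⟩ := dom_of_reach _ hq hR hk4
  obtain ⟨p', hp', hpp', hmax⟩ := dom_final _ hq k hk4 p hp
  refine ⟨p', hp', ?_⟩
  have hu : u = 8 - 2 * k := by omega
  have hMle : M ≤ 2 ^ p'.2 := le_trans hMp (le_trans (le_max_left _ _) hmax)
  have hule : u ≤ 2 ^ p'.2 := by
    rw [hu]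
    exact le_trans (le_max_right _ _) hmax
  have hpow : ((X : F[X]) ^ p'.1 - 1) ^ (2 ^ p'.2) = X ^ (p'.1 * 2 ^ p'.2) - 1 := by
    rw [sub_pow_char_pow, one_pow, ← pow_mul]
  have hirrX : Irreducible (X - 1 : F[X]) := by
    have := irreducible_X_sub_C (1 : F)
    rwa [C_1] at this
  have hcop : IsCoprime ((X - 1 : F[X]) ^ u) χ' := by
    apply IsCoprime.pow_left
    rw [hirrX.coprime_iff_not_dvd]
    intro hd
    apply h1'
    have : (X - C (1 : F)) ∣ χ' := by rwa [C_1]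
    exact dvd_iff_isRoot.mp this
  have key : A.charpoly ∣ X ^ (p'.1 * 2 ^ p'.2) - 1 := by
    rw [hχ, ← hpow]
    apply IsCoprime.mul_dvd hcop
    · have h1 : (X - 1 : F[X]) ∣ X ^ p'.1 - 1 := by
        have := sub_dvd_pow_sub_pow (X : F[X]) 1 p'.1
        rwa [one_pow] at this
      exact dvd_trans (pow_dvd_pow_of_dvd h1 u) (pow_dvd_pow _ hule)
    · have h2 : (X ^ N - 1 : F[X]) ∣ X ^ p'.1 - 1 :=
        EO.X_pow_sub_one_dvd N p'.1 (dvd_trans hNp hpp')
      exact dvd_trans hdvd (dvd_trans (pow_dvd_pow_of_dvd h2 M) (pow_dvd_pow _ hMle))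
  have hApow : A ^ (p'.1 * 2 ^ p'.2) = 1 := pow_eq_one_of_charpoly_dvd A _ key
  apply orderOf_dvd_of_pow_eq_one
  apply Subtype.ext
  rw [SubmonoidClass.coe_pow, OneMemClass.coe_one]
  exact hApow

/-! ## (C) glue -/

theorem QOrd.cast {F : Type u} [Field F] {d d' n n' : ℕ} {t t' : Prop} (h : QOrd F d n t)
    (hd : d = d') (hn : n = n') (ht : t ↔ t') : QOrd F d' n' t' := by
  subst hd
  subst hn
  obtain ⟨V, i1, i2, i3, A, Q, h1, h2, h3, h4, h5, h6, h7⟩ := h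
  exact ⟨V, i1, i2, i3, A, Q, h1, h2, h3, h4, h5, h6, h7.trans ht⟩

section comps
variable {F : Type u} [Field F] [Fintype F] [CharP F 2]

theorem torm (k : ℕ) (hk : 1 ≤ k) : QOrd F (2 * k) (Fintype.card F ^ k + 1) False := by
  obtain ⟨hq, heven⟩ := card_facts F
  obtain ⟨f, hmon, hirr, hdeg, hdvd, hord⟩ := exists_minus_poly (F := F) k hk
  have hqk : 2 ≤ Fintype.card F ^ k := by
    calc 2 ≤ Fintype.card F := hq
      _ = Fintype.card F ^ 1 := (pow_one _).symm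
      _ ≤ Fintype.card F ^ k := Nat.pow_le_pow_right (by omega) hk
  have hfd := dualPoly_eq_self k f hmon hirr hdvd
  have hne := root_inv_ne (Fintype.card F ^ k + 1) (by omega) f hdvd hord
  obtain ⟨V, i1, i2, i3, A, Q, hAm, hQ, hAQ, hAc⟩ :=
    qreal_selfdual (by omega) hirr hmon hdvd hfd hne
  have hfin : finrank F V = 2 * k := by
    rw [← LinearMap.charpoly_natDegree A, hAc, hdeg]
  have hirr' : Irreducible A.charpoly := by rw [hAc]; exact hirr
  have hordA : orderOf A = Fintype.card F ^ k + 1 :=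
    orderOf_of_irreducible_charpoly A _ (by omega) hAm hirr' (by rw [hAc]; exact hord)
  refine ⟨V, i1, i2, i3, A, Q, hordA, by omega, hQ, hAQ, hfin, even_two_mul k,
    iff_of_false ?_ id⟩
  exact not_isHyp_of_semiregular Q hQ A hAQ k hk hfin hordA
    (fun j v hv h => pow_eq_one_of_fixed A hirr' j v hv h) (arith_ns _ k hq heven hk)

theorem torp (k : ℕ) (hk : 1 ≤ k) : QOrd F (2 * k) (Fintype.card F ^ k - 1) True := by
  obtain ⟨hq, -⟩ := card_facts F
  obtain ⟨A, hA⟩ := Cfsg.Agent.Helper13.MatOrd.exists_singer (F := F) k hk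
  have hqk : 2 ≤ Fintype.card F ^ k := by
    calc 2 ≤ Fintype.card F := hq
      _ = Fintype.card F ^ 1 := (pow_one _).symm
      _ ≤ Fintype.card F ^ k := Nat.pow_le_pow_right (by omega) hk
  have := qord_of_matrix k A (by rw [hA]; omega)
  rwa [hA] at this

theorem torm1 : QOrd F 2 (Fintype.card F + 1) False :=
  (torm (F := F) 1 le_rfl).cast rfl (by rw [pow_one]) Iff.rfl

theorem torp1 : QOrd F 2 (Fintype.card F - 1) True :=
  (torp (F := F) 1 le_rfl).cast rfl (by rw [pow_one]) Iff.rfl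

theorem u2p : QOrd F 2 (2 ^ 1) True := quni_qord quni_two_plus
theorem u2m : QOrd F 2 (2 ^ 1) False := quni_qord quni_two_minus
theorem u4p : QOrd F 4 (2 ^ 2) True := (quni_siegel_qord (F := F) quni_two_plus).cast rfl rfl Iff.rfl
theorem u4m : QOrd F 4 (2 ^ 2) False :=
  (quni_siegel_qord (F := F) quni_two_minus).cast rfl rfl Iff.rfl
theorem u6p : QOrd F 6 (2 ^ 3) True :=
  (quni_siegel_qord (F := F) (quni_four quni_two_plus)).cast rfl rfl Iff.rfl
theorem u6m : QOrd F 6 (2 ^ 3) False :=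
  (quni_siegel_qord (F := F) (quni_four quni_two_minus)).cast rfl rfl Iff.rfl

theorem lower_list (p : ℕ × ℕ) (hp : p ∈ Llist (Fintype.card F)) :
    ∃ n, p.1 * 2 ^ p.2 ∣ n ∧ QOrd F 8 n False := by
  obtain ⟨hq, heven⟩ := card_facts F
  obtain ⟨a2, a3, a4, a5, a6, a7, a8, a9, a10, a11, a12⟩ := arith_targets _ hq heven
  simp only [Llist, List.mem_cons, List.not_mem_nil, or_false] at hp
  rcases hp with rfl | rfl | rfl | rfl | rfl | rfl | rfl | rfl | rfl | rfl | rfl | rfl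
  · exact ⟨_, by simp, (torm (F := F) 4 (by norm_num)).cast rfl rfl Iff.rfl⟩
  · exact ⟨_, by simpa using a2,
      (qord_prod (torp (F := F) 2 (by norm_num)) (torm (F := F) 2 (by norm_num))).cast rfl rfl
        (by tauto)⟩
  · exact ⟨_, by simpa using a3,
      (qord_prod (torp (F := F) 3 (by norm_num)) (torm1 (F := F))).cast rfl rfl (by tauto)⟩
  · exact ⟨_, by simpa using a4,
      (qord_prod (torm (F := F) 3 (by norm_num)) (torp1 (F := F))).cast rfl rfl (by tauto)⟩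
  · exact ⟨_, a5,
      (qord_prod (torp (F := F) 3 (by norm_num)) (u2m (F := F))).cast rfl rfl (by tauto)⟩
  · exact ⟨_, a6,
      (qord_prod (torm (F := F) 3 (by norm_num)) (u2p (F := F))).cast rfl rfl (by tauto)⟩
  · exact ⟨_, a7,
      (qord_prod (qord_prod (torm (F := F) 2 (by norm_num)) (torp1 (F := F)))
        (u2p (F := F))).cast rfl rfl (by tauto)⟩
  · exact ⟨_, a8,
      (qord_prod (qord_prod (torm (F := F) 2 (by norm_num)) (torm1 (F := F)))
        (u2m (F := F))).cast rfl rfl (by tauto)⟩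
  · exact ⟨_, a9,
      (qord_prod (torp (F := F) 2 (by norm_num)) (u4m (F := F))).cast rfl rfl (by tauto)⟩
  · exact ⟨_, a10,
      (qord_prod (torm (F := F) 2 (by norm_num)) (u4p (F := F))).cast rfl rfl (by tauto)⟩
  · exact ⟨_, a11,
      (qord_prod (torp1 (F := F)) (u6m (F := F))).cast rfl rfl (by tauto)⟩
  · exact ⟨_, a12,
      (qord_prod (torm1 (F := F)) (u6p (F := F))).cast rfl rfl (by tauto)⟩

theorem main (a b : F)
    (han : ∀ z₁ z₂ : F, z₁ ^ 2 + a * z₁ * z₂ + b * z₂ ^ 2 = 0 → z₁ = 0 ∧ z₂ = 0) :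
    Set.range (orderOf : Cfsg.PSp 4 F → ℕ) =
      Set.range (orderOf : ↥(Cfsg.isometryGroup F (Cfsg.quadFormMinus 3 F a b)) → ℕ) := by
  apply Set.Subset.antisymm
  · rintro n ⟨x, rfl⟩
    obtain ⟨y, rfl⟩ := QuotientGroup.mk_surjective x
    rw [orderOf_mk_psp 4 (by norm_num) y]
    obtain ⟨p, hp, hdvd⟩ := upper y
    obtain ⟨n, hn, hqo⟩ := lower_list (F := F) p hp
    obtain ⟨g, hg⟩ := exists_go_of_qord a b han n hqo
    have hpos : 0 < orderOf g := orderOf_pos g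
    obtain ⟨g', hg'⟩ := Cfsg.Agent.Helper13.MatOrd.exists_orderOf_eq_of_dvd g (orderOf y) hpos
      (dvd_trans hdvd (hg ▸ hn))
    exact ⟨g', hg'⟩
  · rintro n ⟨g, rfl⟩
    obtain ⟨x, hx⟩ := exists_sp_of_go a b han g
    exact ⟨QuotientGroup.mk x, by rw [orderOf_mk_psp 4 (by norm_num) x, hx]⟩

end comps

end Cfsg.Agent.Helper5.O8
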