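import Mathlib
import Cfsg.Prelude.Def_Classical
import Cfsg.Agent.Lib.Helper5.O8Defs
import Cfsg.Agent.Lib.Helper2.AffExt

/-!
# S3590 (helper5): shared definitions

`q` even: groups of unbounded order with the spectrum of `Sp_8(q)`.  See `plans/S3590_plan.md`.
The group is `V₀ ⋊ L₀`, `V₀` the natural module of a minus-type quadratic space of dimension 8 and
`L₀` the group of the products of an even number of reflections.
-/

set_option autoImplicit false

namespace Cfsg.Agent.Helper5.O9

open Polynomial Module QuadraticMap
open Cfsg.Agent.Helper13 Cfsg.Agent.Helper13.OrthSS Cfsg.Agent.Helper5.O8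

universe u

section refl
variable {F : Type*} [Field F] {V : Type*} [AddCommGroup V] [Module F V]

/-- the reflection (orthogonal transvection) `x ↦ x + (B(x, a) / Q a) • a` -/
noncomputable def refl (Q : QuadraticForm F V) (a : V) : Module.End F V :=
  LinearMap.id + (Q a)⁻¹ • (((polarBilin Q).flip a).smulRight a)

theorem refl_apply (Q : QuadraticForm F V) (a x : V) :
    refl Q a x = x + ((Q a)⁻¹ * polar Q x a) • a := by
  unfold refl
  simp [mul_smul]

/-- a reflection in a nonsingular vector is an involution (characteristic 2) -/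
theorem refl_mul_self [CharP F 2] (Q : QuadraticForm F V) (a : V) :
    refl Q a * refl Q a = 1 := by
  have h2 : (2 : F) = 0 := by
    have := CharP.cast_eq_zero F 2
    exact_mod_cast this
  apply LinearMap.ext
  intro x
  rw [Module.End.mul_apply, Module.End.one_apply, refl_apply, refl_apply, polar_add_left,
    polar_smul_left, polar_self, smul_eq_mul, two_smul, ← two_mul, h2, zero_mul, mul_zero,
    add_zero, add_assoc, ← add_smul, ← two_mul, h2, zero_mul, zero_smul, add_zero]

/-- `x` is a product of `k` reflections in nonsingular vectors -/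
def IsReflProd (Q : QuadraticForm F V) (x : Module.End F V) (k : ℕ) : Prop :=
  ∃ l : List V, l.length = k ∧ (∀ a ∈ l, Q a ≠ 0) ∧ x = (l.map (refl Q)).prod

/-- `x` is a product of an even number of reflections -/
def InL (Q : QuadraticForm F V) (x : Module.End F V) : Prop :=
  ∃ k : ℕ, Even k ∧ IsReflProd Q x k

theorem isReflProd_mul {Q : QuadraticForm F V} {x y : Module.End F V} {k m : ℕ}
    (hx : IsReflProd Q x k) (hy : IsReflProd Q y m) : IsReflProd Q (x * y) (k + m) := by
  obtain ⟨l, hl, hlQ, rfl⟩ := hx
  obtain ⟨l', hl', hlQ', rfl⟩ := hy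
  refine ⟨l ++ l', by rw [List.length_append, hl, hl'], ?_, by rw [List.map_append, List.prod_append]⟩
  intro a ha
  rcases List.mem_append.1 ha with h | h
  · exact hlQ a h
  · exact hlQ' a h

theorem isReflProd_one (Q : QuadraticForm F V) : IsReflProd Q 1 0 :=
  ⟨[], rfl, by simp, by simp⟩

/-- the inverse of a product of reflections is the product in the reverse order -/
theorem isReflProd_reverse [CharP F 2] {Q : QuadraticForm F V} (l : List V) :
    (l.map (refl Q)).prod * (l.reverse.map (refl Q)).prod = 1 := by
  induction l with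
  | nil => simp
  | cons a l ih =>
    rw [List.reverse_cons, List.map_append, List.prod_append, List.map_cons, List.prod_cons,
      List.map_cons, List.map_nil, List.prod_cons, List.prod_nil, mul_one]
    calc refl Q a * (l.map (refl Q)).prod * ((l.reverse.map (refl Q)).prod * refl Q a)
        = refl Q a * ((l.map (refl Q)).prod * (l.reverse.map (refl Q)).prod) * refl Q a := by
          simp only [mul_assoc]
      _ = 1 := by rw [ih, mul_one, refl_mul_self]

end refl

/-- a typed quadratic space with an isometry `A` of order exactly `n` which is a product of an even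
number of reflections; if `dbl`, the norm map `Σ_{i<n} A^i` is nonzero -/
def QLN (F : Type u) [Field F] (d n : ℕ) (t dbl : Prop) : Prop :=
  ∃ (V : Type u) (_ : AddCommGroup V) (_ : Module F V) (_ : FiniteDimensional F V)
    (A : Module.End F V) (Q : QuadraticForm F V),
    orderOf A = n ∧ 0 < n ∧ (polarBilin Q).Nondegenerate ∧ (∀ v, Q (A v) = Q v) ∧
      finrank F V = d ∧ Even d ∧ (IsHyp Q ↔ t) ∧ InL Q A ∧
      (dbl → ∃ v : V, (∑ i ∈ Finset.range n, A ^ i) v ≠ 0)

section std
variable (F : Type u) [Field F]

/-- the index type of the standard space -/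
abbrev Idx : Type := (Fin 3 ⊕ Fin 3) ⊕ Fin 2

/-- the standard module -/
abbrev V0 : Type u := Idx → F

/-- the standard minus-type form `x₁y₁ + x₂y₂ + x₃y₃ + z₁² + z₁z₂ + ζ z₂²` -/
noncomputable def Q0 (ζ : F) : QuadraticForm F (V0 F) := matQ (minusMat 3 1 ζ)

/-- the group of the products of an even number of reflections of the standard space -/
noncomputable def L0 [CharP F 2] (ζ : F) : Subgroup (Module.End F (V0 F))ˣ where
  carrier := {g | InL (Q0 F ζ) (g : Module.End F (V0 F))}
  one_mem' := ⟨0, ⟨0, rfl⟩, isReflProd_one _⟩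
  mul_mem' := by
    rintro g h ⟨k, hk, hg⟩ ⟨m, hm, hh⟩
    exact ⟨k + m, hk.add hm, by rw [Units.val_mul]; exact isReflProd_mul hg hh⟩
  inv_mem' := by
    rintro g ⟨k, hk, l, hl, hlQ, hg⟩
    refine ⟨k, hk, l.reverse, by rw [List.length_reverse, hl], ?_, ?_⟩
    · intro a ha
      exact hlQ a (List.mem_reverse.1 ha)
    · have h1 : (g : Module.End F (V0 F)) * (l.reverse.map (refl (Q0 F ζ))).prod = 1 := by
        rw [hg]
        exact isReflProd_reverse l
      have h2 : ((g⁻¹ : (Module.End F (V0 F))ˣ) : Module.End F (V0 F)) * (g : Module.End F (V0 F))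
          = 1 := by
        rw [← Units.val_mul, inv_mul_cancel, Units.val_one]
      calc ((g⁻¹ : (Module.End F (V0 F))ˣ) : Module.End F (V0 F))
          = ((g⁻¹ : (Module.End F (V0 F))ˣ) : Module.End F (V0 F)) *
              ((g : Module.End F (V0 F)) * (l.reverse.map (refl (Q0 F ζ))).prod) := by
            rw [h1, mul_one]
        _ = (l.reverse.map (refl (Q0 F ζ))).prod := by rw [← mul_assoc, h2, one_mul]

instance instFiniteEndV0 [Finite F] : Finite (Module.End F (V0 F)) :=
  Finite.of_injective (fun f : Module.End F (V0 F) => (f : V0 F → V0 F)) DFunLike.coe_injective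

/-- the affine group `V₀ ⋊ L₀` -/
abbrev H0 [CharP F 2] (ζ : F) : Type u := Cfsg.Agent.Helper2.AffExt.Aff ↥(L0 F ζ) (V0 F)

end std

end Cfsg.Agent.Helper5.O9
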