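import Mathlib
import Cfsg.Prelude.Def_Classical
import Cfsg.Agent.Lib.Helper5.O8Defs
import Cfsg.Agent.Lib.Helper5.O9Defs
import Cfsg.Agent.Lib.O8.O8UNI2P
import Cfsg.Agent.Lib.O8.O8UNI2M

/-!
# S3590 piece O9-U20: the identity of a plane of either type
-/

set_option autoImplicit false

namespace Cfsg.Agent.Helper5.O9

open Polynomial Module QuadraticMap
open Cfsg.Agent.Helper13 Cfsg.Agent.Helper13.OrthSS
open Cfsg.Agent.Helper5.O8

universe u

theorem o9_u20h5_of_quni {F : Type u} [Field F] {t : Prop} (h : QUni F 2 1 t) :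
    QLN F 2 (2 ^ 0) t True := by
  obtain ⟨V, i1, i2, i3, A, Q, -, -, hQ, -, hfin, hev, ht⟩ := h
  haveI : Nontrivial V := by
    apply Module.nontrivial_of_finrank_pos (R := F)
    rw [hfin]
    norm_num
  obtain ⟨v, hv⟩ := exists_ne (0 : V)
  refine ⟨V, i1, i2, i3, 1, Q, by rw [orderOf_one, pow_zero], by norm_num, hQ, fun v => rfl, hfin,
    hev, ht, ⟨0, ⟨0, rfl⟩, isReflProd_one Q⟩, fun _ => ⟨v, ?_⟩⟩
  rw [pow_zero, Finset.sum_range_one, pow_zero]
  exact hv

-- backup of PIECE O9-U20 (helper5)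
theorem qln_two_zero_h5 {F : Type u} [Field F] [Fintype F] [CharP F 2] :
    QLN F 2 (2 ^ 0) True True ∧ QLN F 2 (2 ^ 0) False True :=
  ⟨o9_u20h5_of_quni quni_two_plus, o9_u20h5_of_quni quni_two_minus⟩

end Cfsg.Agent.Helper5.O9
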