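import Mathlib
import Cfsg.Prelude.Def_Classical
import Cfsg.Agent.Lib.Helper5.O8Defs
import Cfsg.Agent.Lib.Helper5.O9Defs
import Cfsg.Agent.Lib.Helper5.O8Main
import Cfsg.Agent.Lib.Helper2.AffExt
import Cfsg.Agent.Lib.Helper17.SpectrumIterate
import Cfsg.Agent.Lib.O9.O9PARITY
import Cfsg.Agent.Lib.O9.O9SELFDUAL
import Cfsg.Agent.Lib.O9.O9REALPROD
import Cfsg.Agent.Lib.O9.O9PPOLY
import Cfsg.Agent.Lib.O9.O9PAIR
import Cfsg.Agent.Lib.O9.O9QLNPROD
import Cfsg.Agent.Lib.O9.O9QLNPROD2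
import Cfsg.Agent.Lib.Helper5.O9U20H5
import Cfsg.Agent.Lib.O9.O9U41
import Cfsg.Agent.Lib.O9.O9U62
import Cfsg.Agent.Lib.O9.O9STD
import Cfsg.Agent.Lib.O9.O9H0ELT
import Cfsg.Agent.Lib.O9.O9PRODISO
import Cfsg.Agent.Lib.O9.O9ENDSTAR
import Cfsg.Agent.Lib.O9.O9UPPER
import Cfsg.Agent.Lib.O9.O9LISTPSP
import Cfsg.Agent.Lib.O9.O9AFFPOW
import Cfsg.Agent.Lib.O9.O9SUBKEY

/-!
# S3590 (helper5): assembly of the pieces `O9-*`

`q` even: finite groups of unbounded order with the spectrum of `PSp_8(q)`.  Plan: `plans/S3590_plan.md`.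
-/

set_option autoImplicit false
set_option linter.unusedSectionVars false

namespace Cfsg.Agent.Helper5.O9

open Polynomial Module QuadraticMap
open Cfsg.Agent.Helper13 Cfsg.Agent.Helper13.OrthSS Cfsg.Agent.Helper13.Dual Cfsg.Agent.Helper10
open Cfsg.Agent.Helper5.O8 Cfsg.Agent.Helper2

universe u

/-! ## parity of the fixed space of the elements of `L` -/

theorem even_finrank_ker_of_inL {F : Type u} [Field F] [CharP F 2] {V : Type u} [AddCommGroup V]
    [Module F V] [FiniteDimensional F V] (Q : QuadraticForm F V)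
    (hQ : (polarBilin Q).Nondegenerate) (hd : Even (finrank F V)) (g : Module.End F V)
    (hg : InL Q g) : Even (finrank F (LinearMap.ker (g - 1))) := by
  obtain ⟨k, hk, l, hl, hlQ, rfl⟩ := hg
  have h := isReflProd_parity Q hQ l hlQ 1 (fun v => rfl) Function.bijective_id
  rw [mul_one, sub_self, LinearMap.ker_zero, finrank_top, hl] at h
  rw [Nat.even_iff] at hd hk ⊢
  omega

/-! ## the tori -/

section comps
variable {F : Type u} [Field F] [Fintype F] [CharP F 2]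

theorem QLN.cast {d d' n n' : ℕ} {t t' dbl dbl' : Prop} (h : QLN F d n t dbl)
    (hd : d = d') (hn : n = n') (ht : t ↔ t') (hdbl : dbl' → dbl) : QLN F d' n' t' dbl' := by
  subst hd
  subst hn
  obtain ⟨V, i1, i2, i3, A, Q, h1, h2, h3, h4, h5, h6, h7, h8, h9⟩ := h
  exact ⟨V, i1, i2, i3, A, Q, h1, h2, h3, h4, h5, h6, h7.trans ht, h8, fun hh => h9 (hdbl hh)⟩

theorem pow_card_even (k : ℕ) (hk : 1 ≤ k) : Even (Fintype.card F ^ k) := by
  obtain ⟨-, heven⟩ := card_facts F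
  exact (Nat.even_pow.2 ⟨heven, by omega⟩)

theorem pow_card_two_le (k : ℕ) (hk : 1 ≤ k) : 2 ≤ Fintype.card F ^ k := by
  obtain ⟨hq, -⟩ := card_facts F
  calc 2 ≤ Fintype.card F := hq
    _ = Fintype.card F ^ 1 := (pow_one _).symm
    _ ≤ Fintype.card F ^ k := Nat.pow_le_pow_right (by omega) hk

theorem qln_torm (k : ℕ) (hk : 1 ≤ k) :
    QLN F (2 * k) (Fintype.card F ^ k + 1) False False := by
  obtain ⟨hq, heven⟩ := card_facts F
  obtain ⟨f, hmon, hirr, hdeg, hdvd, hord⟩ := exists_minus_poly (F := F) k hk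
  have hqk := pow_card_two_le (F := F) k hk
  have hfd := dualPoly_eq_self k f hmon hirr hdvd
  have hne := root_inv_ne (Fintype.card F ^ k + 1) (by omega) f hdvd hord
  obtain ⟨V, i1, i2, i3, A, σ, Q, hAm, hQ, hAQ, hAc, hσQ, hσσ, hinv, hu⟩ :=
    qreal_selfdual_sigma (by omega) hirr hmon hdvd hfd hne
  have hfin : finrank F V = 2 * k := by
    rw [← LinearMap.charpoly_natDegree A, hAc, hdeg]
  have hirr' : Irreducible A.charpoly := by rw [hAc]; exact hirr
  have hordA : orderOf A = Fintype.card F ^ k + 1 :=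
    orderOf_of_irreducible_charpoly A _ (by omega) hAm hirr' (by rw [hAc]; exact hord)
  have hodd : Odd (Fintype.card F ^ k + 1) := (pow_card_even (F := F) k hk).add_one
  refine ⟨V, i1, i2, i3, A, Q, hordA, by omega, hQ, hAQ, hfin, even_two_mul k,
    iff_of_false ?_ id, inL_of_real Q hQ A σ hAQ hσQ hσσ hinv _ hodd hAm hu, fun h => h.elim⟩
  exact not_isHyp_of_semiregular Q hQ A hAQ k hk hfin hordA
    (fun j v hv h => pow_eq_one_of_fixed A hirr' j v hv h) (arith_ns _ k hq heven hk)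

theorem qln_torp (k : ℕ) (hk : 1 ≤ k) :
    QLN F (2 * k) (Fintype.card F ^ k - 1) True False := by
  obtain ⟨f, hmon, hirr, hdeg, hdvd, hord⟩ := exists_plus_poly (F := F) k hk
  have hqk := pow_card_two_le (F := F) k hk
  obtain ⟨V, i1, i2, i3, A, σ, Q, hAm, hAord, hQ, hAQ, hfin, hhyp, hσQ, hσσ, hinv, hu⟩ :=
    exists_pair_space (Fintype.card F ^ k - 1) (by omega) f hirr hmon hdvd hord
  have hordA : orderOf A = Fintype.card F ^ k - 1 :=
    Nat.dvd_antisymm (orderOf_dvd_of_pow_eq_one hAm) (hAord _ (pow_orderOf_eq_one A))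
  have hodd : Odd (Fintype.card F ^ k - 1) := by
    have := pow_card_even (F := F) k hk
    exact Nat.Even.sub_odd (by omega) this odd_one
  refine ⟨V, i1, i2, i3, A, Q, hordA, by omega, hQ, hAQ, by rw [hfin, hdeg], even_two_mul k,
    iff_of_true hhyp trivial, inL_of_real Q hQ A σ hAQ hσQ hσσ hinv _ hodd hAm hu,
    fun h => h.elim⟩

theorem qln_torm1 : QLN F 2 (Fintype.card F + 1) False False :=
  (qln_torm (F := F) 1 le_rfl).cast rfl (by rw [pow_one]) Iff.rfl id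

theorem qln_torp1 : QLN F 2 (Fintype.card F - 1) True False :=
  (qln_torp (F := F) 1 le_rfl).cast rfl (by rw [pow_one]) Iff.rfl id

theorem odd_pow_card_add (k : ℕ) (hk : 1 ≤ k) : Odd (Fintype.card F ^ k + 1) :=
  (pow_card_even (F := F) k hk).add_one

theorem odd_pow_card_sub (k : ℕ) (hk : 1 ≤ k) : Odd (Fintype.card F ^ k - 1) := by
  have := pow_card_even (F := F) k hk
  have h2 := pow_card_two_le (F := F) k hk
  exact Nat.Even.sub_odd (by omega) this odd_one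

theorem odd_card_add : Odd (Fintype.card F + 1) := by
  have := odd_pow_card_add (F := F) 1 le_rfl
  rwa [pow_one] at this

theorem odd_card_sub : Odd (Fintype.card F - 1) := by
  have := odd_pow_card_sub (F := F) 1 le_rfl
  rwa [pow_one] at this

theorem odd_lcm {a b : ℕ} (ha : Odd a) (hb : Odd b) : Odd (Nat.lcm a b) :=
  Odd.of_dvd_nat (ha.mul hb) (Nat.lcm_dvd_mul a b)

/-- the twelve targets, as typed spaces -/
theorem qln_targets (p : ℕ × ℕ) (hp : p ∈ Llist (Fintype.card F)) :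
    (∃ n, p.1 * 2 ^ p.2 ∣ n ∧ QLN F 8 n False False) ∨
      (∃ n, p.1 * 2 ^ p.2 ∣ 2 * n ∧ QLN F 8 n False True) := by
  obtain ⟨hq, heven⟩ := card_facts F
  obtain ⟨a2, a3, a4, a5, a6, a7, a8, a9, a10, a11, a12⟩ := arith_targets _ hq heven
  have two4 : 1 ≤ 4 := by norm_num
  have two3 : 1 ≤ 3 := by norm_num
  have two2 : 1 ≤ 2 := by norm_num
  obtain ⟨u20p, u20m⟩ := qln_two_zero_h5 (F := F)
  obtain ⟨u41p, u41m⟩ := qln_four_one (F := F)
  obtain ⟨u62p, u62m⟩ := qln_six_two (F := F)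
  simp only [Llist, List.mem_cons, List.not_mem_nil, or_false] at hp
  rcases hp with rfl | rfl | rfl | rfl | rfl | rfl | rfl | rfl | rfl | rfl | rfl | rfl
  · exact Or.inl ⟨_, by simp, (qln_torm (F := F) 4 two4).cast rfl rfl Iff.rfl id⟩
  · exact Or.inl ⟨_, by simpa using a2,
      (qln_prod (qln_torp (F := F) 2 two2) (qln_torm (F := F) 2 two2)).cast rfl rfl
        (by tauto) id⟩
  · exact Or.inl ⟨_, by simpa using a3,
      (qln_prod (qln_torp (F := F) 3 two3) (qln_torm1 (F := F))).cast rfl rfl (by tauto) id⟩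
  · exact Or.inl ⟨_, by simpa using a4,
      (qln_prod (qln_torm (F := F) 3 two3) (qln_torp1 (F := F))).cast rfl rfl (by tauto) id⟩
  · exact Or.inr ⟨_, dvd_of_eq (by ring),
      (qln_prod_dbl (qln_torp (F := F) 3 two3) (odd_pow_card_sub 3 two3) u20m).cast rfl rfl
        (by tauto) id⟩
  · exact Or.inr ⟨_, dvd_of_eq (by ring),
      (qln_prod_dbl (qln_torm (F := F) 3 two3) (odd_pow_card_add 3 two3) u20p).cast rfl rfl
        (by tauto) id⟩
  · refine Or.inr ⟨_, ?_,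
      (qln_prod_dbl (qln_prod (qln_torm (F := F) 2 two2) (qln_torp1 (F := F)))
        (odd_lcm (odd_pow_card_add 2 two2) odd_card_sub) u20p).cast rfl rfl (by tauto) id⟩
    have h1 := dvd_trans a7 (Nat.lcm_dvd_mul _ _)
    rw [pow_zero, mul_one, mul_comm 2]
    exact h1
  · refine Or.inr ⟨_, ?_,
      (qln_prod_dbl (qln_prod (qln_torm (F := F) 2 two2) (qln_torm1 (F := F)))
        (odd_lcm (odd_pow_card_add 2 two2) odd_card_add) u20m).cast rfl rfl (by tauto) id⟩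
    have h1 := dvd_trans a8 (Nat.lcm_dvd_mul _ _)
    rw [pow_zero, mul_one, mul_comm 2]
    exact h1
  · exact Or.inr ⟨_, dvd_of_eq (by ring),
      (qln_prod_dbl (qln_torp (F := F) 2 two2) (odd_pow_card_sub 2 two2) u41m).cast rfl rfl
        (by tauto) id⟩
  · exact Or.inr ⟨_, dvd_of_eq (by ring),
      (qln_prod_dbl (qln_torm (F := F) 2 two2) (odd_pow_card_add 2 two2) u41p).cast rfl rfl
        (by tauto) id⟩
  · exact Or.inr ⟨_, dvd_of_eq (by ring),
      (qln_prod_dbl (qln_torp1 (F := F)) odd_card_sub u62m).cast rfl rfl (by tauto) id⟩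
  · exact Or.inr ⟨_, dvd_of_eq (by ring),
      (qln_prod_dbl (qln_torm1 (F := F)) odd_card_add u62p).cast rfl rfl (by tauto) id⟩

/-- the twelve targets in `H0` -/
theorem exists_H0_of_list (ζ : F) (hζ : ∀ t : F, t ^ 2 + t + ζ ≠ 0) (p : ℕ × ℕ)
    (hp : p ∈ Llist (Fintype.card F)) : ∃ a : H0 F ζ, p.1 * 2 ^ p.2 ∣ orderOf a := by
  rcases qln_targets (F := F) p hp with ⟨n, hn, hq⟩ | ⟨n, hn, hq⟩
  · obtain ⟨g, hg, -, -⟩ := exists_L0_of_qln ζ hζ n False hq
    refine ⟨AffExt.incl g, ?_⟩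
    rw [orderOf_injective AffExt.incl AffExt.incl_injective, hg]
    exact hn
  · obtain ⟨g, hg, hn0, hv⟩ := exists_L0_of_qln ζ hζ n True hq
    obtain ⟨v, hv⟩ := hv trivial
    obtain ⟨a, ha⟩ := exists_H0_double ζ g n hg hn0 v hv
    exact ⟨a, by rw [ha]; exact hn⟩

/-! ## the two inclusions -/

theorem nat_dvd_cases {n o : ℕ} (hn : 0 < n) (h1 : n ∣ o) (h2 : o ∣ n * 2) :
    o = n ∨ o = 2 * n := by
  obtain ⟨c, rfl⟩ := h1
  have hc : c ∣ 2 := (Nat.mul_dvd_mul_iff_left hn).1 h2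
  rcases (Nat.dvd_prime Nat.prime_two).1 hc with rfl | rfl
  · left; ring
  · right; ring

theorem Q0_nondeg (ζ : F) (hζ : ∀ t : F, t ^ 2 + t + ζ ≠ 0) :
    (polarBilin (Q0 F ζ)).Nondegenerate :=
  Cfsg.Agent.Helper2.Orth.nondeg_minus 3 1 ζ (aniso_of_rootless ζ hζ)

theorem finrank_V0 : finrank F (V0 F) = 8 := by
  rw [Module.finrank_fintype_fun_eq_card, Fintype.card_sum, Fintype.card_sum, Fintype.card_fin,
    Fintype.card_fin]

theorem V0_add_self (w : V0 F) : w + w = 0 := by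
  funext i
  exact CharTwo.add_self_eq_zero (w i)

theorem H0_sub (ζ : F) (hζ : ∀ t : F, t ^ 2 + t + ζ ≠ 0) (a : H0 F ζ) :
    orderOf a ∈ Set.range (orderOf : Cfsg.PSp 4 F → ℕ) := by
  have hW : ∀ w : V0 F, w + w = 0 := V0_add_self
  set g : ↥(L0 F ζ) := a.g with hg
  set gE : Module.End F (V0 F) := ((g : (Module.End F (V0 F))ˣ) : Module.End F (V0 F)) with hgE
  have hInL : InL (Q0 F ζ) gE := g.2
  obtain ⟨k, hk, hprod⟩ := hInL
  obtain ⟨hiso, -⟩ := isReflProd_facts hprod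
  set n := orderOf g with hn
  have hn0 : 0 < n := orderOf_pos g
  have hnE : orderOf gE = n := by
    rw [hgE, orderOf_units, Subgroup.orderOf_coe]
  obtain ⟨h0, hstar⟩ := charpoly_star_of_isometry (Q0 F ζ) (Q0_nondeg ζ hζ) gE hiso
  obtain ⟨p, hp, hpow, hmult⟩ := upper_end (finrank_V0 (F := F)) gE h0 hstar
  obtain ⟨x, hx⟩ := exists_psp_of_list (F := F) p hp
  have key : ∀ d, d ∣ p.1 * 2 ^ p.2 → d ∈ Set.range (orderOf : Cfsg.PSp 4 F → ℕ) := by
    intro d hd
    obtain ⟨x', hx'⟩ := Cfsg.Agent.Helper13.MatOrd.exists_orderOf_eq_of_dvd x d (orderOf_pos x)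
      (dvd_trans hd hx)
    exact ⟨x', hx'⟩
  have hnT : n ∣ p.1 * 2 ^ p.2 := by
    rw [← hnE]
    exact orderOf_dvd_of_pow_eq_one hpow
  rcases nat_dvd_cases hn0 (AffExt.orderOf_g_dvd a) (AffExt.orderOf_dvd_two_mul hW a) with h | h
  · rw [h]
    exact key _ hnT
  · rw [h]
    apply key
    have hne : a ^ n ≠ 1 := by
      intro h1
      have h2 := orderOf_dvd_of_pow_eq_one h1
      rw [h] at h2
      have := Nat.le_of_dvd hn0 h2
      omega
    have hw : (a ^ n).w ≠ 0 := by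
      intro h0'
      apply hne
      apply AffExt.Aff.ext
      · rw [h0']
        rfl
      · rw [AffExt.pow_g]
        exact pow_orderOf_eq_one g
    rw [aff_pow_w] at hw
    have hsum : (∑ i ∈ Finset.range n, gE ^ i) a.w ≠ 0 := by
      rw [LinearMap.sum_apply]
      exact hw
    exact two_mul_orderOf_dvd gE n hnE hn0
      (even_finrank_ker_of_inL (Q0 F ζ) (Q0_nondeg ζ hζ) (by rw [finrank_V0]; decide) gE g.2)
      a.w hsum p.1 p.2 hpow hmult

theorem H0_sup (ζ : F) (hζ : ∀ t : F, t ^ 2 + t + ζ ≠ 0) (x : Cfsg.PSp 4 F) :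
    orderOf x ∈ Set.range (orderOf : H0 F ζ → ℕ) := by
  obtain ⟨y, rfl⟩ := QuotientGroup.mk_surjective x
  rw [orderOf_mk_psp 4 (by norm_num) y]
  obtain ⟨p, hp, hdvd⟩ := upper y
  obtain ⟨a, ha⟩ := exists_H0_of_list ζ hζ p hp
  obtain ⟨a', ha'⟩ := Cfsg.Agent.Helper13.MatOrd.exists_orderOf_eq_of_dvd a (orderOf y)
    (orderOf_pos a) (dvd_trans hdvd ha)
  exact ⟨a', ha'⟩

theorem main (M : ℕ) :
    ∃ (H : Type) (_ : Group H) (_ : Fintype H), M < Fintype.card H ∧
      Set.range (orderOf : H → ℕ) = Set.range (orderOf : Cfsg.PSp 4 F → ℕ) := by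
  obtain ⟨ζ, hζ⟩ := exists_rootless (F := F)
  have hspec : Set.range (orderOf : H0 F ζ → ℕ) = Set.range (orderOf : Cfsg.PSp 4 F → ℕ) := by
    apply Set.Subset.antisymm
    · rintro _ ⟨a, rfl⟩
      exact H0_sub ζ hζ a
    · rintro _ ⟨x, rfl⟩
      exact H0_sup ζ hζ x
  set K : Subgroup (H0 F ζ) := (AffExt.proj : H0 F ζ →* ↥(L0 F ζ)).ker with hK
  have hKn : K.Normal := MonoidHom.normal_ker _
  have hKne : K ≠ ⊥ := by
    intro hbot
    have hmem : (⟨fun _ => 1, 1⟩ : H0 F ζ) ∈ K := by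
      rw [hK, MonoidHom.mem_ker]
      rfl
    rw [hbot, Subgroup.mem_bot] at hmem
    have h1 := congrArg AffExt.Aff.w hmem
    have h2 := congrFun h1 (Sum.inr 0)
    exact one_ne_zero h2
  have hexp : ∀ x ∈ K, x ^ 2 = 1 := by
    intro x hx
    exact AffExt.sq_eq_one_of_g_eq_one V0_add_self hx
  obtain ⟨H, hHg, hHf, hcard, hs⟩ :=
    Cfsg.Agent.Helper17.exists_large_same_spectrum_of_prime_exponent (H0 F ζ) K 2 hKn hKne
      Nat.prime_two hexp M
  exact ⟨H, hHg, hHf, hcard, hs.trans hspec⟩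

end comps

end Cfsg.Agent.Helper5.O9
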