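import Mathlib
import Cfsg.Prelude.Def_OddOrderChar
import Cfsg.Agent.Lib.Helper27.BGTyM
import Cfsg.Agent.Lib.Helper4.BG1379A
import Cfsg.Agent.Lib.Helper4.BG1377A
import Cfsg.Agent.Lib.Helper22.BG13C

/-!
Peterfalvi (8.15)/(8.16) in the sigma-language of Bender-Glauberman, part A: general lemmas
(normalisers of invariant subsets, TI from fusion control, monotonicity of the Dade hypothesis).
-/

set_option autoImplicit false
set_option linter.unusedVariables false
set_option linter.unusedSectionVars false

namespace Cfsg.Agent.Helper5.PF8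

open Cfsg Subgroup

variable {G : Type*} [Group G]

/-- an `M`-invariant subset of a maximal subgroup `M` containing a non-identity element has
set-normaliser `M` -/
theorem normalizer_eq_of_invariant (hG : IsMinSimpleOddOrder G) {M : Subgroup G} (hM : IsCoatom M)
    {A : Set G} (hAM : A ⊆ (M : Set G)) (hne : ∃ a ∈ A, a ≠ 1)
    (hinv : ∀ m ∈ M, ∀ a ∈ A, m * a * m⁻¹ ∈ A) : Subgroup.normalizer A = M := by
  have hle : M ≤ Subgroup.normalizer A := by
    intro m hm
    rw [Subgroup.mem_set_normalizer_iff]
    intro h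
    constructor
    · intro hh; exact hinv m hm h hh
    · intro hh
      have := hinv m⁻¹ (M.inv_mem hm) _ hh
      have e : m⁻¹ * (m * h * m⁻¹) * m⁻¹⁻¹ = h := by group
      rwa [e] at this
  by_contra hne'
  have hlt : M < Subgroup.normalizer A := lt_of_le_of_ne hle (Ne.symm hne')
  have htop : Subgroup.normalizer A = ⊤ := hM.2 _ hlt
  have h2 : Subgroup.normalizer ((Subgroup.closure A : Subgroup G) : Set G) = ⊤ := by
    rw [eq_top_iff, ← htop]
    exact Subgroup.normalizer_le_normalizer_closure A
  have hn : (Subgroup.closure A).Normal := Subgroup.normalizer_eq_top_iff.mp h2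
  have := hG.2.1
  have hcl : Subgroup.closure A ≤ M := (Subgroup.closure_le M).mpr hAM
  rcases hn.eq_bot_or_eq_top with h' | h'
  · obtain ⟨a, ha, ha1⟩ := hne
    have : a ∈ Subgroup.closure A := Subgroup.subset_closure ha
    rw [h'] at this
    exact ha1 (Subgroup.mem_bot.mp this)
  · rw [h'] at hcl
    exact hM.1 (top_le_iff.mp hcl)

/-- a subset with normaliser `M` in which `M` controls fusion, all of whose non-identity
elements have their centraliser in `M`, is a TI-subset -/
theorem isTISubset_of_fusion {M : Subgroup G} {A : Set G} (hN : Subgroup.normalizer A = M)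
    (hfus : ∀ a ∈ A, ∀ g : G, g * a * g⁻¹ ∈ A → ∃ m ∈ M, m * a * m⁻¹ = g * a * g⁻¹)
    (hcent : ∀ a ∈ A, a ≠ 1 → Subgroup.centralizer ({a} : Set G) ≤ M) : IsTISubset A := by
  intro g hg x hx hgx
  by_contra hx1
  obtain ⟨m, hm, e⟩ := hfus x hx g hgx
  have hc : m⁻¹ * g ∈ Subgroup.centralizer ({x} : Set G) := by
    rw [Subgroup.mem_centralizer_singleton_iff]
    have e1 : g * x = m * x * m⁻¹ * g := by rw [e]; group
    calc m⁻¹ * g * x = m⁻¹ * (g * x) := by group
      _ = m⁻¹ * (m * x * m⁻¹ * g) := by rw [e1]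
      _ = x * (m⁻¹ * g) := by group
  have h1 : m⁻¹ * g ∈ M := hcent x hx hx1 hc
  have h2 : g ∈ M := by
    have := M.mul_mem hm h1
    rwa [mul_inv_cancel_left] at this
  rw [hN] at hg
  exact hg h2

/-- the Dade hypothesis passes to `L`-invariant subsets -/
theorem dade_mono {A A' : Set G} {L : Subgroup G} {H : G → Subgroup G} (h : DadeHypothesis A L H)
    (hsub : A' ⊆ A) (hinv : ∀ x ∈ L, ∀ a ∈ A', x * a * x⁻¹ ∈ A') : DadeHypothesis A' L H where
  one_not_mem := fun h1 => h.one_not_mem (hsub h1)
  subset := fun a ha => h.subset (hsub ha)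
  conj_mem := hinv
  fusion := fun a ha g hg => h.fusion a (hsub ha) g (hsub hg)
  le_centralizer := fun a ha => h.le_centralizer a (hsub ha)
  conj_mem_H := fun a ha => h.conj_mem_H a (hsub ha)
  inf_eq_bot := fun a ha => h.inf_eq_bot a (hsub ha)
  sup_eq := fun a ha => h.sup_eq a (hsub ha)
  coprime := fun a ha b hb => h.coprime a (hsub ha) b (hsub hb)

/-- conjugating a centraliser inclusion by an element of `M` -/
theorem centralizer_le_of_conj {M : Subgroup G} {m a : G} (hm : m ∈ M)
    (h : Subgroup.centralizer ({m * a * m⁻¹} : Set G) ≤ M) :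
    Subgroup.centralizer ({a} : Set G) ≤ M := by
  intro c hc
  rw [Subgroup.mem_centralizer_singleton_iff] at hc
  have h1 : m * c * m⁻¹ ∈ Subgroup.centralizer ({m * a * m⁻¹} : Set G) := by
    rw [Subgroup.mem_centralizer_singleton_iff]
    calc m * c * m⁻¹ * (m * a * m⁻¹) = m * (c * a) * m⁻¹ := by group
      _ = m * (a * c) * m⁻¹ := by rw [hc]
      _ = m * a * m⁻¹ * (m * c * m⁻¹) := by group
  have h2 := h h1
  have h3 := M.mul_mem (M.mul_mem (M.inv_mem hm) h2) hm
  have e : m⁻¹ * (m * c * m⁻¹) * m = c := by group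
  rwa [e] at h3

/-- centralisers grow when passing to powers -/
theorem centralizer_le_centralizer_of_mem_zpowers {a b : G} (hb : b ∈ Subgroup.zpowers a) :
    Subgroup.centralizer ({a} : Set G) ≤ Subgroup.centralizer ({b} : Set G) := by
  intro c hc
  rw [Subgroup.mem_centralizer_singleton_iff] at hc ⊢
  obtain ⟨k, rfl⟩ := hb
  exact ((Commute.zpow_right (show Commute c a from hc) k)).eq

end Cfsg.Agent.Helper5.PF8
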