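import Mathlib
import Cfsg.Agent.Lib.Helper5.PF8A

/-!
Peterfalvi (8.15)/(8.16) in the sigma-language, part B: hypotheses bundle and the elements of
`A₀(M)` whose centraliser is not in `M` lie in `M_σ`.
-/

set_option autoImplicit false
set_option linter.unusedVariables false
set_option linter.unusedSectionVars false

namespace Cfsg.Agent.Helper5.PF8

open Cfsg Subgroup
open Cfsg.Agent.Helper10 (IsPiNum)
open Cfsg.Agent.Helper27.BGTy
open Cfsg.Agent.Helper16.BG145 (St1375)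
open Cfsg.Agent.Helper16.BG147 (St1432 St1378b)
open Cfsg.Agent.Helper4.BG1377 (H1374)

/-- the frozen statement of S1436 (for all arguments) -/
def P1436 (G : Type*) [Group G] [Finite G] : Prop :=
  ∀ (M : Subgroup G) (hM : IsCoatom M) (x : G) (hx : x ∈ Cfsg.sigmaCore M) (hx1 : x ≠ 1) (hxM : ¬ Subgroup.centralizer ({x} : Set G) ≤ M)
    (N : Subgroup G) (hN : IsCoatom N) (hxN : Subgroup.centralizer ({x} : Set G) ≤ N),
    ((∃ p ∈ Cfsg.sigma N, p ∣ Nat.card M) → Cfsg.kappa M = ∅ ∧ Cfsg.tau2 M = ∅) ∧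
      ∀ (y : G) (N' : Subgroup G) (g : G), y ∈ Cfsg.sigmaCore M → y ≠ 1 → ¬ Subgroup.centralizer ({y} : Set G) ≤ M → IsCoatom N' → Subgroup.centralizer ({y} : Set G) ≤ N' →
        N'.map (MulAut.conj g).toMonoidHom = N → ∃ m ∈ M, N'.map (MulAut.conj m).toMonoidHom = N

/-- the frozen statements used for the Dade hypothesis -/
structure Hyps (G : Type*) [Group G] [Finite G] : Prop where
  hG : IsMinSimpleOddOrder G
  h50 : H1350 G
  h51 : H1351 G
  h52 : H1352 G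
  h55 : H1355 G
  h61 : H1361 G
  h62 : H1362 G
  h70 : H1370 G
  h71 : H1371 G
  h74 : H1374 G
  h75 : St1375 G
  h78 : St1378b G
  h32 : St1432 G
  h36 : P1436 G

variable {G : Type*} [Group G] [Finite G]

theorem Hyps.solvable (h : Hyps G) {M D : Subgroup G} (hM : IsCoatom M) (hD : D ≤ M) :
    Group.IsSolvable ↥D :=
  Cfsg.Agent.Helper14.BGTrans.isSolvable_of_ne_top h.hG (ne_top_of_le hM hD)

/-- a decomposition exists -/
theorem Hyps.exists_dec (h : Hyps G) {M : Subgroup G} (hM : IsCoatom M) :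
    ∃ K U : Subgroup G, IsSigmaDecomposition M K U := by
  obtain ⟨⟨K₀, hK₀⟩, hKc⟩ := h.h51 M hM
  obtain ⟨⟨U₀, hKU⟩, -⟩ := h.h52 M hM K₀ (hKc K₀ hK₀) hK₀
  exact ⟨K₀, U₀, hKU⟩

theorem sigmaA0_subset (M K : Subgroup G) : sigmaA0 M K ⊆ (M : Set G) := fun a ha => ha.1.1

theorem Hyps.US_normal (h : Hyps G) {M K U : Subgroup G} (hM : IsCoatom M)
    (hKU : IsSigmaDecomposition M K U) :
    M ≤ normalizer ((U ⊔ sigmaCore M : Subgroup G) : Set G) :=
  (h.h52 M hM K hKU.cyclic hKU.hall).2 U hKU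

theorem Hyps.hall (h : Hyps G) {M : Subgroup G} (hM : IsCoatom M) :
    IsPiHallOf (sigma M) (sigmaCore M) M := (h.h50 M hM).1

/-- no `M`-conjugate of a non-identity element of `K` lies in `U M_σ` -/
theorem Hyps.conj_K_not_mem (h : Hyps G) {M K U : Subgroup G} (hM : IsCoatom M)
    (hKU : IsSigmaDecomposition M K U) {k m : G} (hk : k ∈ K) (hk1 : k ≠ 1) (hm : m ∈ M) :
    m * k * m⁻¹ ∉ U ⊔ sigmaCore M := by
  intro hmem
  have hn := h.US_normal hM hKU (M.inv_mem hm)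
  rw [Subgroup.mem_normalizer_iff] at hn
  have h1 := (hn _).mp hmem
  have e : m⁻¹ * (m * k * m⁻¹) * m⁻¹⁻¹ = k := by group
  rw [e] at h1
  have h2 : k ∈ (U ⊔ sigmaCore M) ⊓ K := Subgroup.mem_inf.mpr ⟨h1, hk⟩
  rw [US_inf_K hKU (h.hall hM)] at h2
  exact hk1 (Subgroup.mem_bot.mp h2)

theorem Hyps.sigmaA_subset_sigmaA0 (h : Hyps G) {M K U : Subgroup G} (hM : IsCoatom M)
    (hKU : IsSigmaDecomposition M K U) : sigmaA M U ⊆ sigmaA0 M K := by
  intro a ha
  refine ⟨ha.1, ?_⟩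
  rintro ⟨k, hk, hk1, m, hm, rfl⟩
  exact h.conj_K_not_mem hM hKU hk hk1 hm ha.2

/-- `M_σ` is contained in `A(M) ∪ {1}`: every element of `M_σ` centralises a non-identity element
of `M_σ` (when it is itself non-identity) -/
theorem sigmaCore_diff_subset_sigmaA {M U : Subgroup G} :
    (sigmaCore M : Set G) \ {1} ⊆ sigmaA M U := by
  intro a ha
  refine ⟨⟨sigmaCore_le M ha.1, a, ha.1, ha.2, rfl⟩, ?_⟩
  exact (le_sup_right : sigmaCore M ≤ U ⊔ sigmaCore M) ha.1

end Cfsg.Agent.Helper5.PF8
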