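import Mathlib
import Cfsg.Agent.Lib.Helper5.PF8B

/-!
Peterfalvi (8.15)/(8.16) in the sigma-language, part C: elements of `A₀(M)` outside `M_σ` have
their centraliser in `M`.
-/

set_option autoImplicit false
set_option linter.unusedVariables false
set_option linter.unusedSectionVars false

namespace Cfsg.Agent.Helper5.PF8

open Cfsg Subgroup
open Cfsg.Agent.Helper10 (IsPiNum)
open Cfsg.Agent.Helper27.BGTy
open Cfsg.Agent.Helper16.BG145 (St1375)
open Cfsg.Agent.Helper16.BG147 (St1432 St1378b)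
open Cfsg.Agent.Helper4.BG1377 (H1374)

variable {G : Type*} [Group G] [Finite G]

/-- a `σ(M)'`-number is coprime to `|M_σ|` -/
theorem Hyps.coprime_of_isPiNum_compl (h : Hyps G) {M : Subgroup G} (hM : IsCoatom M) {n : ℕ}
    (hn : IsPiNum (sigma M)ᶜ n) : n.Coprime (Nat.card (sigmaCore M)) := by
  apply Nat.coprime_of_dvd
  intro p hp hpn hps
  exact hn p hp hpn ((h.hall hM).2.1 p hp hps)

/-- a non-identity `σ(M)'`-element `b` of `U M_σ` centralising a non-identity element of `M_σ`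
has `C_G(b) ≤ M` -/
theorem Hyps.centralizer_le_of_compl_elt (h : Hyps G) {M K U : Subgroup G} (hM : IsCoatom M)
    (hKU : IsSigmaDecomposition M K U) {b y : G} (hbH : b ∈ U ⊔ sigmaCore M) (hb1 : b ≠ 1)
    (hbo : IsPiNum (sigma M)ᶜ (orderOf b)) (hy : y ∈ sigmaCore M) (hy1 : y ≠ 1)
    (hby : b * y = y * b) : centralizer ({b} : Set G) ≤ M := by
  have hHM : U ⊔ sigmaCore M ≤ M := sup_le (U_le hKU) (sigmaCore_le M)
  have hsolv : Group.IsSolvable ↥(U ⊔ sigmaCore M) := h.solvable hM hHM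
  have hNH : sigmaCore M ≤ U ⊔ sigmaCore M := le_sup_right
  have hHN : U ⊔ sigmaCore M ≤ normalizer ((sigmaCore M : Subgroup G) : Set G) :=
    hHM.trans (Cfsg.Agent.Helper16.BG147.le_normalizer_sigmaCore M)
  have hcop : (Nat.card ↥(sigmaCore M)).Coprime ((sigmaCore M).relIndex (U ⊔ sigmaCore M)) := by
    have h1 := coprime_sigmaCore_relIndex (h.hall hM)
    rw [← Subgroup.relIndex_mul_relIndex (sigmaCore M) (U ⊔ sigmaCore M) M hNH hHM] at h1
    exact Nat.Coprime.coprime_mul_right_right h1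
  have hfac : ∀ x ∈ U ⊔ sigmaCore M, ∃ n ∈ sigmaCore M, ∃ d ∈ U, x = n * d := by
    intro x hx
    rw [sup_comm] at hx
    exact Cfsg.Agent.Helper22.BG13.exists_mul_of_mem_sup
      ((U_le hKU).trans (Cfsg.Agent.Helper16.BG147.le_normalizer_sigmaCore M)) hx
  have hYH : zpowers b ≤ U ⊔ sigmaCore M := by rw [zpowers_le]; exact hbH
  have hY : (Nat.card ↥(zpowers b)).Coprime (Nat.card ↥(sigmaCore M)) := by
    rw [Nat.card_zpowers]
    exact h.coprime_of_isPiNum_compl hM hbo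
  obtain ⟨t, ht, hle⟩ := Cfsg.Agent.Helper22.BG13.exists_conj_le_of_hall hsolv hNH hHN
    (le_sup_left : U ≤ U ⊔ sigmaCore M) hYH hcop hfac hY
  have htM : t ∈ M := hHM ht
  have hb'U : t * b * t⁻¹ ∈ U := hle ⟨b, mem_zpowers b, rfl⟩
  have hb'1 : t * b * t⁻¹ ≠ 1 := by
    intro e
    apply hb1
    have : b = t⁻¹ * (t * b * t⁻¹) * t := by group
    rw [this, e]; group
  have hX : zpowers (t * b * t⁻¹) ≤ U := by rw [zpowers_le]; exact hb'U
  have hX1 : zpowers (t * b * t⁻¹) ≠ ⊥ := by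
    intro e
    exact hb'1 (zpowers_eq_bot.mp e)
  have hXc : sigmaCore M ⊓ centralizer ((zpowers (t * b * t⁻¹) : Subgroup G) : Set G) ≠ ⊥ := by
    intro e
    have hy' : t * y * t⁻¹ ∈ sigmaCore M ⊓ centralizer ((zpowers (t * b * t⁻¹) : Subgroup G) : Set G) := by
      refine Subgroup.mem_inf.mpr ⟨Cfsg.Agent.Helper19.BG16.conj_mem_sigmaCore htM hy, ?_⟩
      rw [Subgroup.mem_centralizer_iff]
      intro z hz
      obtain ⟨k, rfl⟩ := (hz : z ∈ zpowers (t * b * t⁻¹))
      have hc : Commute (t * b * t⁻¹) (t * y * t⁻¹) := by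
        show t * b * t⁻¹ * (t * y * t⁻¹) = t * y * t⁻¹ * (t * b * t⁻¹)
        calc t * b * t⁻¹ * (t * y * t⁻¹) = t * (b * y) * t⁻¹ := by group
          _ = t * (y * b) * t⁻¹ := by rw [hby]
          _ = t * y * t⁻¹ * (t * b * t⁻¹) := by group
      exact (hc.zpow_left k).eq
    rw [e] at hy'
    apply hy1
    have e2 : t * y * t⁻¹ = 1 := Subgroup.mem_bot.mp hy'
    have : y = t⁻¹ * (t * y * t⁻¹) * t := by group
    rw [this, e2]; group
  obtain ⟨hcM, -⟩ := h.h61 M hM K U hKU _ hX hX1 hXc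
  apply centralizer_le_of_conj htM
  intro c hc
  apply hcM
  rw [Subgroup.mem_centralizer_iff]
  intro z hz
  obtain ⟨k, rfl⟩ := (hz : z ∈ zpowers (t * b * t⁻¹))
  rw [Subgroup.mem_centralizer_singleton_iff] at hc
  exact ((show Commute c (t * b * t⁻¹) from hc).zpow_right k).eq.symm

/-- elements of `A(M)` outside `M_σ` have their centraliser in `M` -/
theorem Hyps.centralizer_le_of_sigmaA (h : Hyps G) {M K U : Subgroup G} (hM : IsCoatom M)
    (hKU : IsSigmaDecomposition M K U) {a : G} (ha : a ∈ sigmaA M U) (haσ : a ∉ sigmaCore M) :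
    centralizer ({a} : Set G) ≤ M := by
  obtain ⟨⟨haM, y, hy, hy1, hay⟩, haU⟩ := ha
  obtain ⟨s, b, hab, hcomm, hs, hb, hso, hbo⟩ :=
    Cfsg.Agent.Helper4.BG1379.exists_pi_decomp (sigma M) a
  have hzp : zpowers a ≤ U ⊔ sigmaCore M := by rw [zpowers_le]; exact haU
  have hb1 : b ≠ 1 := by
    rintro rfl
    rw [mul_one] at hab
    subst hab
    exact haσ (Cfsg.Agent.Helper4.BG1379.mem_sigmaCore_of_isPiNum h.h50 hM haM hso)
  have hby : b * y = y * b := by
    obtain ⟨k, rfl⟩ := hb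
    exact ((show Commute a y from hay).zpow_left k).eq
  have h1 := h.centralizer_le_of_compl_elt hM hKU (hzp hb) hb1 hbo hy hy1 hby
  exact (centralizer_le_centralizer_of_mem_zpowers hb).trans h1

end Cfsg.Agent.Helper5.PF8
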