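import Mathlib
import Cfsg.Agent.Lib.Helper5.PF8C

/-!
Peterfalvi (8.15)/(8.16) in the sigma-language, part D: invariance of the sets, the three classes
of elements of `A₀(M)`, and `D ⊆ M_σ`.
-/

set_option autoImplicit false
set_option linter.unusedVariables false
set_option linter.unusedSectionVars false

namespace Cfsg.Agent.Helper5.PF8

open Cfsg Subgroup
open Cfsg.Agent.Helper10 (IsPiNum)
open Cfsg.Agent.Helper27.BGTy
open Cfsg.Agent.Helper16.BG145 (St1375)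
open Cfsg.Agent.Helper16.BG147 (St1432 St1378b)
open Cfsg.Agent.Helper4.BG1377 (H1374)

variable {G : Type*} [Group G] [Finite G]

omit [Finite G] in
theorem conj_ne_one {a m : G} (ha : a ≠ 1) : m * a * m⁻¹ ≠ 1 := by
  intro e
  apply ha
  have : a = m⁻¹ * (m * a * m⁻¹) * m := by group
  rw [this, e]; group

omit [Finite G] in
theorem sigmaHat_conj {M : Subgroup G} {a m : G} (ha : a ∈ sigmaHat M) (hm : m ∈ M) :
    m * a * m⁻¹ ∈ sigmaHat M := by
  obtain ⟨haM, y, hy, hy1, hay⟩ := ha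
  refine ⟨M.mul_mem (M.mul_mem hm haM) (M.inv_mem hm), m * y * m⁻¹,
    Cfsg.Agent.Helper19.BG16.conj_mem_sigmaCore hm hy, conj_ne_one hy1, ?_⟩
  calc m * a * m⁻¹ * (m * y * m⁻¹) = m * (a * y) * m⁻¹ := by group
    _ = m * (y * a) * m⁻¹ := by rw [hay]
    _ = m * y * m⁻¹ * (m * a * m⁻¹) := by group

theorem Hyps.sigmaA_conj (h : Hyps G) {M K U : Subgroup G} (hM : IsCoatom M)
    (hKU : IsSigmaDecomposition M K U) {a m : G} (ha : a ∈ sigmaA M U) (hm : m ∈ M) :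
    m * a * m⁻¹ ∈ sigmaA M U := by
  refine ⟨sigmaHat_conj ha.1 hm, ?_⟩
  have hn := h.US_normal hM hKU hm
  rw [Subgroup.mem_normalizer_iff] at hn
  exact (hn _).mp ha.2

omit [Finite G] in
theorem sigmaA0_conj {M K : Subgroup G} {a m : G} (ha : a ∈ sigmaA0 M K) (hm : m ∈ M) :
    m * a * m⁻¹ ∈ sigmaA0 M K := by
  refine ⟨sigmaHat_conj ha.1 hm, ?_⟩
  rintro ⟨k, hk, hk1, m', hm', e⟩
  apply ha.2
  refine ⟨k, hk, hk1, m⁻¹ * m', M.mul_mem (M.inv_mem hm) hm', ?_⟩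
  have : a = m⁻¹ * (m * a * m⁻¹) * m := by group
  rw [this, e]; group

/-- if `K = 1` then `M = U M_σ` -/
theorem sup_eq_of_K_bot {M K U : Subgroup G} (hKU : IsSigmaDecomposition M K U) (hK : K = ⊥) :
    U ⊔ sigmaCore M = M := by
  apply le_antisymm (sup_le (U_le hKU) (sigmaCore_le M))
  intro m hm
  obtain ⟨u, hu, b, hb, rfl⟩ := hKU.compl.2.2.2 m hm
  rw [hK, bot_sup_eq] at hb
  exact Subgroup.mul_mem _ (le_sup_left (b := sigmaCore M) hu) (le_sup_right (a := U) hb)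

/-- elements of `A₀(M) − A(M)`: `K ≠ 1` and they are `M`-conjugates of elements of `Ẑ` -/
theorem Hyps.of_mem_diff (h : Hyps G) {M K U : Subgroup G} (hM : IsCoatom M)
    (hKU : IsSigmaDecomposition M K U) {a : G} (ha : a ∈ sigmaA0 M K) (haA : a ∉ sigmaA M U) :
    K ≠ ⊥ ∧ ∃ m ∈ M, ∃ z ∈ ((↑(K ⊔ (sigmaCore M ⊓ centralizer (K : Set G))) : Set G) \
      ((K : Set G) ∪ ↑(sigmaCore M ⊓ centralizer (K : Set G)))), a = m * z * m⁻¹ := by
  have hK1 : K ≠ ⊥ := by
    intro hK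
    apply haA
    refine ⟨ha.1, ?_⟩
    rw [sup_eq_of_K_bot hKU hK]
    exact ha.1.1
  refine ⟨hK1, ?_⟩
  have h1 := (h.h71 M hM K U hKU hK1).1
  have h2 : a ∈ sigmaA0 M K \ sigmaA M U := ⟨ha, haA⟩
  rw [← h1] at h2
  exact h2

/-- non-identity elements of `Ẑ` have their centraliser in `K K* ≤ M` -/
theorem Hyps.centralizer_le_of_mem_Zhat (h : Hyps G) {M K U : Subgroup G} (hM : IsCoatom M)
    (hKU : IsSigmaDecomposition M K U) (hK1 : K ≠ ⊥) {z : G}
    (hz : z ∈ ((↑(K ⊔ (sigmaCore M ⊓ centralizer (K : Set G))) : Set G) \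
      ((K : Set G) ∪ ↑(sigmaCore M ⊓ centralizer (K : Set G))))) :
    centralizer ({z} : Set G) ≤ K ⊔ (sigmaCore M ⊓ centralizer (K : Set G)) := by
  obtain ⟨hTI, hN⟩ := h.h70 M hM K U hKU hK1
  intro c hc
  rw [← hN]
  by_contra hcn
  have hz1 : z ≠ 1 := by
    rintro rfl
    exact hz.2 (Or.inl (K.one_mem))
  apply hz1
  apply hTI c hcn z hz
  rw [Subgroup.mem_centralizer_singleton_iff] at hc
  have : c * z * c⁻¹ = z := by rw [hc]; group
  rw [this]; exact hz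

theorem Hyps.KKs_le (h : Hyps G) {M K U : Subgroup G} (hKU : IsSigmaDecomposition M K U) :
    K ⊔ (sigmaCore M ⊓ centralizer (K : Set G)) ≤ M :=
  sup_le hKU.hall.1 (inf_le_left.trans (sigmaCore_le M))

/-- elements of `A₀(M) − A(M)` have their centraliser in `M` -/
theorem Hyps.centralizer_le_of_diff (h : Hyps G) {M K U : Subgroup G} (hM : IsCoatom M)
    (hKU : IsSigmaDecomposition M K U) {a : G} (ha : a ∈ sigmaA0 M K) (haA : a ∉ sigmaA M U) :
    centralizer ({a} : Set G) ≤ M := by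
  obtain ⟨hK1, m, hm, z, hz, rfl⟩ := h.of_mem_diff hM hKU ha haA
  have h1 := (h.centralizer_le_of_mem_Zhat hM hKU hK1 hz).trans (h.KKs_le hKU)
  apply centralizer_le_of_conj (M.inv_mem hm)
  have e : m⁻¹ * (m * z * m⁻¹) * m⁻¹⁻¹ = z := by group
  rw [e]; exact h1

/-- **`D ⊆ M_σ`**: an element of `A₀(M)` either has its centraliser in `M` or lies in `M_σ` -/
theorem Hyps.centralizer_le_or_mem (h : Hyps G) {M K U : Subgroup G} (hM : IsCoatom M)
    (hKU : IsSigmaDecomposition M K U) {a : G} (ha : a ∈ sigmaA0 M K) :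
    centralizer ({a} : Set G) ≤ M ∨ a ∈ sigmaCore M := by
  by_cases haσ : a ∈ sigmaCore M
  · exact Or.inr haσ
  · left
    by_cases haA : a ∈ sigmaA M U
    · exact h.centralizer_le_of_sigmaA hM hKU haA haσ
    · exact h.centralizer_le_of_diff hM hKU ha haA

end Cfsg.Agent.Helper5.PF8
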