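import Mathlib
import Cfsg.Agent.Lib.Helper5.PF8D

/-!
Peterfalvi (8.15)/(8.16) in the sigma-language, part E: `M` controls fusion in `A₀(M)`.
-/

set_option autoImplicit false
set_option linter.unusedVariables false
set_option linter.unusedSectionVars false

namespace Cfsg.Agent.Helper5.PF8

open Cfsg Subgroup
open Cfsg.Agent.Helper10 (IsPiNum)
open Cfsg.Agent.Helper27.BGTy
open Cfsg.Agent.Helper16.BG145 (St1375)
open Cfsg.Agent.Helper16.BG147 (St1432 St1378b)
open Cfsg.Agent.Helper4.BG1377 (H1374)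

variable {G : Type*} [Group G] [Finite G]

omit [Finite G] in
theorem orderOf_conj' (g a : G) : orderOf (g * a * g⁻¹) = orderOf a := by
  have := (MulAut.conj g).orderOf_eq a
  rwa [MulAut.conj_apply] at this

/-- `|U M_σ| = |U| |M_σ|` -/
theorem card_US {M K U : Subgroup G} (hKU : IsSigmaDecomposition M K U) :
    Nat.card ↥(U ⊔ sigmaCore M) = Nat.card U * Nat.card (sigmaCore M) := by
  have h1 := relIndex_eq_card_of_isComplIn (isComplIn_sigmaCore_U hKU)
  have h2 := relIndex_mul_card (le_sup_right : sigmaCore M ≤ U ⊔ sigmaCore M)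
  rw [h1] at h2
  exact h2.symm

/-- elements of `U M_σ` have order prime to `|K|` -/
theorem Hyps.coprime_of_mem_US (h : Hyps G) {M K U : Subgroup G} (hM : IsCoatom M)
    (hKU : IsSigmaDecomposition M K U) {a : G} (ha : a ∈ U ⊔ sigmaCore M) :
    (orderOf a).Coprime (Nat.card K) := by
  have h1 : orderOf a ∣ Nat.card U * Nat.card (sigmaCore M) := by
    rw [← card_US hKU]
    exact Subgroup.orderOf_dvd_natCard _ ha
  have h2 : (Nat.card U * Nat.card (sigmaCore M)).Coprime (Nat.card K) :=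
    Nat.Coprime.mul_left (coprime_K_U hKU (h.hall hM)).symm
      (coprime_K_sigmaCore hKU.hall (h.hall hM)).symm
  exact Nat.Coprime.coprime_dvd_left h1 h2

/-- elements of `Ẑ` have order not prime to `|K|` -/
theorem Hyps.not_coprime_of_mem_Zhat (h : Hyps G) {M K U : Subgroup G} (hM : IsCoatom M)
    (hKU : IsSigmaDecomposition M K U) {z : G}
    (hz : z ∈ ((↑(K ⊔ (sigmaCore M ⊓ centralizer (K : Set G))) : Set G) \
      ((K : Set G) ∪ ↑(sigmaCore M ⊓ centralizer (K : Set G))))) :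
    ¬ (orderOf z).Coprime (Nat.card K) := by
  intro hcop
  obtain ⟨hzZ, hzn⟩ := hz
  have hnorm : (sigmaCore M ⊓ centralizer (K : Set G)) ≤ normalizer (K : Set G) :=
    inf_le_right.trans (Subgroup.centralizer_le_normalizer _)
  obtain ⟨k, hk, ks, hks, rfl⟩ := Cfsg.Agent.Helper22.BG13.exists_mul_of_mem_sup hnorm hzZ
  have hcomm : Commute k ks := by
    have := (Subgroup.mem_inf.mp hks).2
    rw [Subgroup.mem_centralizer_iff] at this
    exact (this k hk)
  set n := orderOf (k * ks) with hn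
  have h1 : (k * ks) ^ n = 1 := pow_orderOf_eq_one _
  rw [hcomm.mul_pow] at h1
  have h2 : k ^ n = (ks ^ n)⁻¹ := eq_inv_of_mul_eq_one_left h1
  have h3 : k ^ n ∈ K ⊓ sigmaCore M := by
    refine Subgroup.mem_inf.mpr ⟨K.pow_mem hk n, ?_⟩
    rw [h2]
    exact (sigmaCore M).inv_mem ((sigmaCore M).pow_mem (Subgroup.mem_inf.mp hks).1 n)
  rw [K_inf_sigmaCore hKU.hall (h.hall hM)] at h3
  have h4 : k ^ n = 1 := Subgroup.mem_bot.mp h3
  have h5 : orderOf k ∣ n := orderOf_dvd_of_pow_eq_one h4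
  have h6 : orderOf k ∣ Nat.card K := Subgroup.orderOf_dvd_natCard _ hk
  have h7 : orderOf k = 1 := Nat.eq_one_of_dvd_coprimes hcop h5 h6
  have hk1 : k = 1 := orderOf_eq_one_iff.mp h7
  apply hzn
  right
  rw [hk1, one_mul]
  exact hks

/-- elements of `A₀(M) − A(M)` have order not prime to `|K|` -/
theorem Hyps.not_coprime_of_diff (h : Hyps G) {M K U : Subgroup G} (hM : IsCoatom M)
    (hKU : IsSigmaDecomposition M K U) {a : G} (ha : a ∈ sigmaA0 M K) (haA : a ∉ sigmaA M U) :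
    ¬ (orderOf a).Coprime (Nat.card K) := by
  obtain ⟨hK1, m, hm, z, hz, rfl⟩ := h.of_mem_diff hM hKU ha haA
  rw [orderOf_conj']
  exact h.not_coprime_of_mem_Zhat hM hKU hz

/-- `σ(M)`-elements: membership in `M_σ` is detected by the order -/
theorem Hyps.mem_sigmaCore_iff (h : Hyps G) {M : Subgroup G} (hM : IsCoatom M) {a : G}
    (ha : a ∈ M) : a ∈ sigmaCore M ↔ IsPiNum (sigma M) (orderOf a) := by
  constructor
  · intro has p hp hpd
    exact (h.hall hM).2.1 p hp (hpd.trans (Subgroup.orderOf_dvd_natCard _ has))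
  · intro hpi
    exact Cfsg.Agent.Helper4.BG1379.mem_sigmaCore_of_isPiNum h.h50 hM ha hpi

/-- `M` controls fusion of elements of `M_σ` into `M` -/
theorem Hyps.fusion_sigmaCore (h : Hyps G) {M : Subgroup G} (hM : IsCoatom M) {a g : G}
    (ha : a ∈ sigmaCore M) (ha1 : a ≠ 1) (hga : g * a * g⁻¹ ∈ M) :
    ∃ m ∈ M, m * a * m⁻¹ = g * a * g⁻¹ := by
  obtain ⟨-, R, -, hR, huniq⟩ := h.h74 M hM a ha ha1
  have hmem : a ∈ M.map (MulAut.conj g⁻¹).toMonoidHom := by
    refine ⟨g * a * g⁻¹, hga, ?_⟩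
    simp only [MulEquiv.toMonoidHom_eq_coe, MonoidHom.coe_coe, MulAut.conj_apply]
    group
  obtain ⟨r, ⟨hr, hMr⟩, -⟩ := huniq g⁻¹ hmem
  have hrc : r ∈ centralizer ({a} : Set G) := hR.2.1 hr
  rw [Subgroup.mem_centralizer_singleton_iff] at hrc
  have hgr : g * r ∈ normalizer (M : Set G) := by
    rw [Subgroup.mem_normalizer_iff]
    intro x
    constructor
    · intro hx
      have h1 : r * x * r⁻¹ ∈ M.map (MulAut.conj r).toMonoidHom :=
        ⟨x, hx, by simp [MulAut.conj_apply]⟩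
      rw [hMr] at h1
      obtain ⟨x', hx', e⟩ := h1
      simp only [MulEquiv.toMonoidHom_eq_coe, MonoidHom.coe_coe, MulAut.conj_apply] at e
      have e2 : g * r * x * (g * r)⁻¹ = g * (g⁻¹ * x' * g⁻¹⁻¹) * g⁻¹ := by rw [e]; group
      rw [e2]
      have e3 : g * (g⁻¹ * x' * g⁻¹⁻¹) * g⁻¹ = x' := by group
      rw [e3]; exact hx'
    · intro hx
      have h1 : g⁻¹ * (g * r * x * (g * r)⁻¹) * g⁻¹⁻¹ ∈ M.map (MulAut.conj g⁻¹).toMonoidHom :=
        ⟨_, hx, by simp [MulAut.conj_apply]⟩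
      rw [← hMr] at h1
      obtain ⟨x', hx', e⟩ := h1
      simp only [MulEquiv.toMonoidHom_eq_coe, MonoidHom.coe_coe, MulAut.conj_apply] at e
      have e2 : g⁻¹ * (g * r * x * (g * r)⁻¹) * g⁻¹⁻¹ = r * x * r⁻¹ := by group
      rw [e2] at e
      have e3 : x' = x := by
        have := congrArg (fun t => r⁻¹ * t * r) e
        have a1 : r⁻¹ * (r * x' * r⁻¹) * r = x' := by group
        have a2 : r⁻¹ * (r * x * r⁻¹) * r = x := by group
        rw [a1, a2] at this
        exact this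
      rw [← e3]; exact hx'
  rw [Cfsg.Agent.Helper4.BG144.normalizer_coatom h.hG hM] at hgr
  refine ⟨g * r, hgr, ?_⟩
  calc g * r * a * (g * r)⁻¹ = g * (r * a) * r⁻¹ * g⁻¹ := by group
    _ = g * (a * r) * r⁻¹ * g⁻¹ := by rw [hrc]
    _ = g * a * g⁻¹ := by group

end Cfsg.Agent.Helper5.PF8
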