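import Mathlib
import Cfsg.Agent.Lib.Helper5.PF8E

/-!
Peterfalvi (8.15)/(8.16) in the sigma-language, part F: `M` controls fusion in `A₀(M)`.
-/

set_option autoImplicit false
set_option linter.unusedVariables false
set_option linter.unusedSectionVars false

namespace Cfsg.Agent.Helper5.PF8

open Cfsg Subgroup
open Cfsg.Agent.Helper10 (IsPiNum)
open Cfsg.Agent.Helper27.BGTy
open Cfsg.Agent.Helper16.BG145 (St1375)
open Cfsg.Agent.Helper16.BG147 (St1432 St1378b)
open Cfsg.Agent.Helper4.BG1377 (H1374)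

variable {G : Type*} [Group G] [Finite G]

/-- a TI-subset `X ⊆ M`, `M`-invariant: two conjugate non-identity elements of `X` are conjugate
by an element of `M` (namely the conjugating element itself lies in `M`) -/
theorem mem_of_TI (hG : IsMinSimpleOddOrder G) {M : Subgroup G} (hM : IsCoatom M) {X : Set G}
    (hTI : IsTISubset X) (hXM : X ⊆ (M : Set G)) (hinv : ∀ m ∈ M, ∀ a ∈ X, m * a * m⁻¹ ∈ X)
    {a g : G} (ha : a ∈ X) (ha1 : a ≠ 1) (hga : g * a * g⁻¹ ∈ X) : g ∈ M := by
  have hN := normalizer_eq_of_invariant hG hM hXM ⟨a, ha, ha1⟩ hinv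
  by_contra hg
  rw [← hN] at hg
  exact ha1 (hTI g hg a ha hga)

/-- **`M` controls fusion in `A₀(M)`** -/
theorem Hyps.fusion (h : Hyps G) {M K U : Subgroup G} (hM : IsCoatom M)
    (hKU : IsSigmaDecomposition M K U) {a g : G} (ha : a ∈ sigmaA0 M K) (ha1 : a ≠ 1)
    (hga : g * a * g⁻¹ ∈ sigmaA0 M K) : ∃ m ∈ M, m * a * m⁻¹ = g * a * g⁻¹ := by
  have haM : a ∈ M := sigmaA0_subset M K ha
  have hgaM : g * a * g⁻¹ ∈ M := sigmaA0_subset M K hga
  by_cases haσ : a ∈ sigmaCore M
  · exact h.fusion_sigmaCore hM haσ ha1 hgaM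
  · have hgaσ : g * a * g⁻¹ ∉ sigmaCore M := by
      intro h1
      apply haσ
      rw [h.mem_sigmaCore_iff hM haM]
      rw [h.mem_sigmaCore_iff hM hgaM, orderOf_conj'] at h1
      exact h1
    by_cases haA : a ∈ sigmaA M U
    · have hgaA : g * a * g⁻¹ ∈ sigmaA M U := by
        by_contra hn
        have h1 := h.not_coprime_of_diff hM hKU hga hn
        rw [orderOf_conj'] at h1
        exact h1 (h.coprime_of_mem_US hM hKU haA.2)
      have hgM : g ∈ M := by
        refine mem_of_TI h.hG hM (h.h62 M hM K U hKU) (X := sigmaA M U \ (sigmaCore M : Set G))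
          ?_ ?_ ⟨haA, haσ⟩ ha1 ⟨hgaA, hgaσ⟩
        · intro x hx; exact hx.1.1.1
        · intro m hm x hx
          refine ⟨h.sigmaA_conj hM hKU hx.1 hm, ?_⟩
          intro h1
          apply hx.2
          have h2 := Cfsg.Agent.Helper19.BG16.conj_mem_sigmaCore (M.inv_mem hm) h1
          have e : m⁻¹ * (m * x * m⁻¹) * m⁻¹⁻¹ = x := by group
          rwa [e] at h2
      exact ⟨g, hgM, rfl⟩
    · have hgaA : g * a * g⁻¹ ∉ sigmaA M U := by
        intro h1
        have h2 := h.not_coprime_of_diff hM hKU ha haA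
        rw [← orderOf_conj' g a] at h2
        exact h2 (h.coprime_of_mem_US hM hKU h1.2)
      obtain ⟨hK1, -⟩ := h.of_mem_diff hM hKU ha haA
      have hgM : g ∈ M := by
        refine mem_of_TI h.hG hM (h.h71 M hM K U hKU hK1).2 (X := sigmaA0 M K \ sigmaA M U)
          ?_ ?_ ⟨ha, haA⟩ ha1 ⟨hga, hgaA⟩
        · intro x hx; exact hx.1.1.1
        · intro m hm x hx
          refine ⟨sigmaA0_conj hx.1 hm, ?_⟩
          intro h1
          apply hx.2
          have h2 := h.sigmaA_conj hM hKU h1 (M.inv_mem hm)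
          have e : m⁻¹ * (m * x * m⁻¹) * m⁻¹⁻¹ = x := by group
          rwa [e] at h2
      exact ⟨g, hgM, rfl⟩

end Cfsg.Agent.Helper5.PF8
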