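import Mathlib
import Cfsg.Agent.Lib.Helper5.PF8F

/-!
Peterfalvi (8.15)/(8.16) in the sigma-language, part G: the supporting subgroups `R(a)`.
-/

set_option autoImplicit false
set_option linter.unusedVariables false
set_option linter.unusedSectionVars false

namespace Cfsg.Agent.Helper5.PF8

open Cfsg Subgroup
open Cfsg.Agent.Helper10 (IsPiNum)
open Cfsg.Agent.Helper27.BGTy
open Cfsg.Agent.Helper16.BG145 (St1375)
open Cfsg.Agent.Helper16.BG147 (St1432 St1378b)
open Cfsg.Agent.Helper4.BG1377 (H1374)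

variable {G : Type*} [Group G] [Finite G]

omit [Finite G] in
theorem supportR_eq_bot {M : Subgroup G} {a : G} (h : centralizer ({a} : Set G) ≤ M) :
    supportR M a = ⊥ := by
  unfold supportR
  rw [dif_neg]
  intro hh; exact hh.1 h

/-- `R(a)` is a normal complement of `C_M(a)` in `C_G(a)`, for `a ∈ A₀(M)` -/
theorem Hyps.supportR_spec (h : Hyps G) {M K U : Subgroup G} (hM : IsCoatom M)
    (hKU : IsSigmaDecomposition M K U) {a : G} (ha : a ∈ sigmaA0 M K) (ha1 : a ≠ 1) :
    centralizer ({a} : Set G) ≤ normalizer ((supportR M a : Subgroup G) : Set G) ∧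
      IsComplIn (M ⊓ centralizer ({a} : Set G)) (supportR M a) (centralizer ({a} : Set G)) := by
  by_cases haσ : a ∈ sigmaCore M
  · obtain ⟨hcop, R, hnR, hR, -⟩ := h.h74 M hM a haσ ha1
    have hRe := Cfsg.Agent.Helper4.BG1377.eq_supportR h.h75 hM haσ ha1 hcop hnR hR
    rw [← hRe]
    exact ⟨hnR, hR⟩
  · have hc : centralizer ({a} : Set G) ≤ M := by
      rcases h.centralizer_le_or_mem hM hKU ha with h1 | h1
      · exact h1
      · exact absurd h1 haσ
    rw [supportR_eq_bot hc]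
    refine ⟨?_, inf_le_right, bot_le, inf_bot_eq _, ?_⟩
    · intro c _
      rw [Subgroup.mem_normalizer_iff]
      intro x
      simp only [Subgroup.mem_bot]
      constructor
      · rintro rfl; group
      · intro e
        have : x = c⁻¹ * (c * x * c⁻¹) * c := by group
        rw [this, e]; group
    · intro c hcc
      exact ⟨c, Subgroup.mem_inf.mpr ⟨hc hcc, hcc⟩, 1, Subgroup.one_mem _, (mul_one c).symm⟩

/-- when `κ(M) = τ₂(M) = ∅`, every element of `M̂_σ` lies in `M_σ` -/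
theorem Hyps.mem_sigmaCore_of_empty (h : Hyps G) {M : Subgroup G} (hM : IsCoatom M)
    (hκ : kappa M = ∅) (hτ : tau2 M = ∅) {b : G} (hb : b ∈ sigmaHat M) : b ∈ sigmaCore M := by
  obtain ⟨hbM, y, hy, hy1, hby⟩ := hb
  obtain ⟨s, b', hab, hcomm, hs, hb', hso, hbo⟩ :=
    Cfsg.Agent.Helper4.BG1379.exists_pi_decomp (sigma M) b
  by_cases hb'1 : b' = 1
  · rw [hb'1, mul_one] at hab
    rw [hab]
    have hsM : s ∈ M := by rw [← hab]; exact hbM
    exact Cfsg.Agent.Helper4.BG1379.mem_sigmaCore_of_isPiNum h.h50 hM hsM hso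
  · exfalso
    have hb'M : b' ∈ M := by
      have : zpowers b ≤ M := by rw [zpowers_le]; exact hbM
      exact this hb'
    have hb'y : b' * y = y * b' := by
      obtain ⟨k, rfl⟩ := hb'
      exact ((show Commute b y from hby).zpow_left k).eq
    have hmem : b' ∈ M ⊓ centralizer ({y} : Set G) :=
      Subgroup.mem_inf.mpr ⟨hb'M, Subgroup.mem_centralizer_singleton_iff.mpr hb'y⟩
    have hσ : ∀ p : ℕ, p.Prime → p ∣ orderOf b' → p ∉ sigma M := fun p hp hpd => hbo p hp hpd
    have hne : orderOf b' ≠ 1 := fun e => hb'1 (orderOf_eq_one_iff.mp e)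
    obtain ⟨p, hp, hpd⟩ := Nat.exists_prime_and_dvd hne
    rcases h.h32 M hM y hy hy1 b' hmem hb'1 hσ with ⟨h1, -⟩ | ⟨h1, -⟩
    · have := h1 p hp hpd
      rw [hκ] at this
      exact this
    · have := h1 p hp hpd
      rw [hτ] at this
      exact this

/-- **coprimality** `(|R(a)|, |C_M(b)|) = 1` for `a, b ∈ A₀(M)` -/
theorem Hyps.coprime_supportR (h : Hyps G) {M K U : Subgroup G} (hM : IsCoatom M)
    (hKU : IsSigmaDecomposition M K U) {a b : G} (ha : a ∈ sigmaA0 M K) (ha1 : a ≠ 1)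
    (hb : b ∈ sigmaA0 M K) (hb1 : b ≠ 1) :
    (Nat.card (supportR M a)).Coprime (Nat.card ↥(M ⊓ centralizer ({b} : Set G))) := by
  by_cases hc : centralizer ({a} : Set G) ≤ M
  · rw [supportR_eq_bot hc, Subgroup.card_bot]
    exact Nat.coprime_one_left _
  have haσ : a ∈ sigmaCore M := by
    rcases h.centralizer_le_or_mem hM hKU ha with h1 | h1
    · exact absurd h1 hc
    · exact h1
  obtain ⟨N, ⟨hN, hCN⟩, hNuniq, hσF, -, -, -, hlast⟩ := h.h75 M hM a haσ ha1 hc
  have hcond : ¬ centralizer ({a} : Set G) ≤ M ∧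
      ∃! L : Subgroup G, IsCoatom L ∧ centralizer ({a} : Set G) ≤ L :=
    ⟨hc, N, ⟨hN, hCN⟩, fun L hL => hNuniq L hL.1 hL.2⟩
  have hR : supportR M a = sigmaCore N ⊓ centralizer ({a} : Set G) := by
    unfold supportR
    rw [dif_pos hcond]
    have hch : Classical.choose hcond.2.exists = N :=
      hNuniq _ (Classical.choose_spec hcond.2.exists).1 (Classical.choose_spec hcond.2.exists).2
    rw [hch, hσF]
  apply Nat.coprime_of_dvd
  intro r hr hrR hrC
  haveI : Fact r.Prime := ⟨hr⟩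
  have hrσN : r ∈ sigma N := by
    apply (h.hall hN).2.1 r hr
    rw [hR] at hrR
    exact hrR.trans (Subgroup.card_dvd_of_le inf_le_left)
  have hrM : r ∣ Nat.card M := hrC.trans (Subgroup.card_dvd_of_le inf_le_left)
  obtain ⟨hκ, hτ⟩ := (h.h36 M hM a haσ ha1 hc N hN hCN).1 ⟨r, hrσN, hrM⟩
  -- `r ∉ σ(M)`
  have hrσM : r ∉ sigma M := by
    intro hrσM
    obtain ⟨g, hg⟩ := h.h78 M N hM hN ⟨r, hrσM, hrσN⟩
    obtain ⟨K', U', hKU'⟩ := h.exists_dec hN
    apply (hlast K' U' hKU').2.2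
    have haN : a ∈ N := hCN (Subgroup.mem_centralizer_singleton_iff.mpr rfl)
    rw [h.mem_sigmaCore_iff hN haN, hg, Cfsg.Agent.Helper16.BG145.sigma_map_conj]
    exact (h.mem_sigmaCore_iff hM (sigmaCore_le M haσ)).mp haσ
  -- an element of order `r` in `C_M(b)`
  obtain ⟨z, hz⟩ := exists_prime_orderOf_dvd_card' (G := ↥(M ⊓ centralizer ({b} : Set G))) r hrC
  have hz' : orderOf (z : G) = r := by rw [Subgroup.orderOf_coe]; exact hz
  have hzM : (z : G) ∈ M := (Subgroup.mem_inf.mp z.2).1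
  have hzb : (z : G) * b = b * (z : G) :=
    Subgroup.mem_centralizer_singleton_iff.mp (Subgroup.mem_inf.mp z.2).2
  have hz1 : (z : G) ≠ 1 := by
    intro e
    rw [e, orderOf_one] at hz'
    exact hr.one_lt.ne hz'
  have hbσ : b ∈ sigmaCore M := h.mem_sigmaCore_of_empty hM hκ hτ hb.1
  have hmem : (z : G) ∈ M ⊓ centralizer ({b} : Set G) := z.2
  have hσ : ∀ p : ℕ, p.Prime → p ∣ orderOf (z : G) → p ∉ sigma M := by
    intro p hp hpd
    rw [hz'] at hpd
    rw [(Nat.prime_dvd_prime_iff_eq hp hr).mp hpd]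
    exact hrσM
  rcases h.h32 M hM b hbσ hb1 (z : G) hmem hz1 hσ with ⟨h1, -⟩ | ⟨h1, -⟩
  · have := h1 r hr (by rw [hz'])
    rw [hκ] at this
    exact this
  · have := h1 r hr (by rw [hz'])
    rw [hτ] at this
    exact this

end Cfsg.Agent.Helper5.PF8
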