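import Mathlib
import Cfsg.Agent.Lib.Helper5.PF8G

/-!
Peterfalvi (8.15) in the sigma-language: the Dade hypothesis for `M`-invariant subsets of `A₀(M)`.
-/

set_option autoImplicit false
set_option linter.unusedVariables false
set_option linter.unusedSectionVars false

namespace Cfsg.Agent.Helper5.PF8

open Cfsg Subgroup
open Cfsg.Agent.Helper10 (IsPiNum)
open Cfsg.Agent.Helper27.BGTy
open Cfsg.Agent.Helper16.BG145 (St1375)
open Cfsg.Agent.Helper16.BG147 (St1432 St1378b)
open Cfsg.Agent.Helper4.BG1377 (H1374)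

variable {G : Type*} [Group G] [Finite G]

/-- **Peterfalvi (8.15), sigma-language**: the Dade hypothesis for a nonempty `M`-invariant set of
non-identity elements of `A₀(M)`, with the subgroups `R(a)` -/
theorem Hyps.dade (h : Hyps G) {M K U : Subgroup G} (hM : IsCoatom M)
    (hKU : IsSigmaDecomposition M K U) {A : Set G} (hA : A ⊆ sigmaA0 M K) (h1 : (1 : G) ∉ A)
    (hne : A.Nonempty) (hinv : ∀ m ∈ M, ∀ a ∈ A, m * a * m⁻¹ ∈ A) :
    Subgroup.normalizer A = M ∧ DadeHypothesis A M (supportR M) := by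
  have hAM : A ⊆ (M : Set G) := fun a ha => sigmaA0_subset M K (hA ha)
  have hne1 : ∀ a ∈ A, a ≠ 1 := fun a ha e => h1 (e ▸ ha)
  refine ⟨?_, ?_⟩
  · obtain ⟨a, ha⟩ := hne
    exact normalizer_eq_of_invariant h.hG hM hAM ⟨a, ha, hne1 a ha⟩ hinv
  · refine ⟨h1, hAM, hinv, ?_, ?_, ?_, ?_, ?_, ?_⟩
    · intro a ha g hga
      exact h.fusion hM hKU (hA ha) (hne1 a ha) (hA hga)
    · intro a ha
      exact (h.supportR_spec hM hKU (hA ha) (hne1 a ha)).2.2.1
    · intro a ha c hc u hu
      have hn := (h.supportR_spec hM hKU (hA ha) (hne1 a ha)).1 hc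
      rw [Subgroup.mem_normalizer_iff] at hn
      exact (hn u).mp hu
    · intro a ha
      have := (h.supportR_spec hM hKU (hA ha) (hne1 a ha)).2.2.2.1
      rw [inf_comm]; exact this
    · intro a ha
      obtain ⟨-, hle, -, hfac⟩ := (h.supportR_spec hM hKU (hA ha) (hne1 a ha)).2
      apply le_antisymm (sup_le hle inf_le_right)
      intro c hc
      obtain ⟨a', ha', b, hb, rfl⟩ := hfac c hc
      exact Subgroup.mul_mem _ (Subgroup.mem_sup_right ha') (Subgroup.mem_sup_left hb)
    · intro a ha b hb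
      exact h.coprime_supportR hM hKU (hA ha) (hne1 a ha) (hA hb) (hne1 b hb)

end Cfsg.Agent.Helper5.PF8
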