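import Mathlib
import Cfsg.Agent.Lib.Helper5.PF8H

/-!
Peterfalvi (8.15): translation from the sigma-language to the language of types, part I:
`typeCore M = M_σ`, and `A₁(M)`, `A(M)` as subsets of the sigma-language `A₀(M)`.
-/

set_option autoImplicit false
set_option linter.unusedVariables false
set_option linter.unusedSectionVars false

namespace Cfsg.Agent.Helper5.PF8

open Cfsg Subgroup
open Cfsg.Agent.Helper10 (IsPiNum)
open Cfsg.Agent.Helper27.BGTy
open Cfsg.Agent.Helper16.BG145 (St1375)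
open Cfsg.Agent.Helper16.BG147 (St1432 St1378b)
open Cfsg.Agent.Helper4.BG1377 (H1374)

/-- the frozen statements used for the translation to types -/
structure HypsT (G : Type*) [Group G] [Finite G] : Prop extends Hyps G where
  h54 : H1354 G
  h56 : H1356 G
  h57 : H1357 G
  h63 : H1363 G
  h64 : H1364 G
  h65 : H1365 G
  h66 : H1366 G
  h68 : H1368 G
  h37 : H1437 G

variable {G : Type*} [Group G] [Finite G]

/-- either `M_F = M_σ`, or `K ≠ 1`, `U = 1`, `M' = M_σ` and `M` is of Type III or IV -/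
theorem HypsT.fitting_cases (h : HypsT G) {M K U : Subgroup G} (hM : IsCoatom M)
    (hKU : IsSigmaDecomposition M K U) :
    fittingHallOf M = sigmaCore M ∨
      (K ≠ ⊥ ∧ U = ⊥ ∧ ⁅M, M⁆ = sigmaCore M ∧ (IsOfTypeIII M ∨ IsOfTypeIV M)) := by
  by_cases hFs : fittingHallOf M = sigmaCore M
  · exact Or.inl hFs
  · right
    obtain ⟨hU, -, hKp⟩ := h.h57 M hM K U hKU hFs
    have hK1 : K ≠ ⊥ := by
      rintro rfl
      rw [Subgroup.card_bot] at hKp
      exact Nat.not_prime_one hKp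
    have hder := (h.h65 M hM K U hKU hK1).1
    rw [hU, bot_sup_eq] at hder
    exact ⟨hK1, hU, hder, typeIII_or_IV_of h.hG h.h50 h.h54 h.h55 h.h56 h.h57 h.h64 h.h65 h.h66
      h.h68 h.h70 h.h37 M hM K U hKU hK1 hU hFs⟩

/-- `M_s = M_σ` for every maximal subgroup -/
theorem HypsT.typeCore_eq (h : HypsT G) {M K U : Subgroup G} (hM : IsCoatom M)
    (hKU : IsSigmaDecomposition M K U) : typeCore M = sigmaCore M := by
  by_cases hT : IsOfTypeIII M ∨ IsOfTypeIV M
  · rw [typeCore_of_III_IV hT]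
    obtain ⟨hK1, hU, -⟩ := of_typeIII_or_IV h.hG h.h50 h.h55 h.h57 h.h63 h.h65 M hM K U hKU hT
    have hder := (h.h65 M hM K U hKU hK1).1
    rw [hU, bot_sup_eq] at hder
    exact hder
  · rw [typeCore_of_not hT]
    rcases h.fitting_cases hM hKU with h1 | ⟨-, -, -, h1⟩
    · exact h1
    · exact absurd h1 hT

theorem HypsT.typeA1_eq (h : HypsT G) {M K U : Subgroup G} (hM : IsCoatom M)
    (hKU : IsSigmaDecomposition M K U) : typeA1 M = (sigmaCore M : Set G) \ {1} := by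
  unfold typeA1
  rw [h.typeCore_eq hM hKU]

/-- the uniform description of `A(M)`: the non-identity elements of `D` centralising a non-identity
element of `M_σ`, where `D = M` if `M` is of Type I and `D = M'` otherwise -/
theorem HypsT.typeA_eq (h : HypsT G) {M K U : Subgroup G} (hM : IsCoatom M)
    (hKU : IsSigmaDecomposition M K U) :
    ∃ D : Subgroup G, sigmaCore M ≤ D ∧ D ≤ M ∧ M ≤ normalizer (D : Set G) ∧ D ⊓ K = ⊥ ∧
      typeA M = {a | a ∈ D ∧ a ≠ 1 ∧ ∃ x ∈ sigmaCore M, x ≠ 1 ∧ a * x = x * a} := by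
  by_cases hI : IsOfTypeI M
  · obtain ⟨hK, -⟩ := of_typeI h.h50 h.h55 h.h64 M hM K U hKU hI
    have hFs : fittingHallOf M = sigmaCore M := by
      rcases h.fitting_cases hM hKU with h1 | ⟨h1, -⟩
      · exact h1
      · exact absurd hK h1
    refine ⟨M, sigmaCore_le M, le_rfl, le_normalizer, ?_, ?_⟩
    · rw [hK]; exact inf_bot_eq _
    · unfold typeA
      rw [if_pos hI, hFs]
  · refine ⟨⁅M, M⁆, (h.h55 M hM).2.2.1, commutator_self_le M, derived_le_normalizer M, ?_, ?_⟩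
    · by_cases hK : K = ⊥
      · rw [hK]; exact inf_bot_eq _
      · rw [(h.h65 M hM K U hKU hK).1]
        exact US_inf_K hKU (h.hall hM)
    · unfold typeA
      rw [if_neg hI, h.typeCore_eq hM hKU]

/-- `A(M) ⊆ A₀(M)` (sigma-language), without the identity, `M`-invariant and containing `M_F − 1` -/
theorem HypsT.typeA_facts (h : HypsT G) {M K U : Subgroup G} (hM : IsCoatom M)
    (hKU : IsSigmaDecomposition M K U) :
    typeA M ⊆ sigmaA0 M K ∧ (1 : G) ∉ typeA M ∧ (typeA M).Nonempty ∧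
      ∀ m ∈ M, ∀ a ∈ typeA M, m * a * m⁻¹ ∈ typeA M := by
  obtain ⟨D, hσD, hDM, hDn, hDK, hA⟩ := h.typeA_eq hM hKU
  rw [hA]
  refine ⟨?_, ?_, ?_, ?_⟩
  · rintro a ⟨haD, ha1, x, hx, hx1, hax⟩
    refine ⟨⟨hDM haD, x, hx, hx1, hax⟩, ?_⟩
    rintro ⟨k, hk, hk1, m, hm, rfl⟩
    have hn := hDn (M.inv_mem hm)
    rw [Subgroup.mem_normalizer_iff] at hn
    have h1 := (hn _).mp haD
    have e : m⁻¹ * (m * k * m⁻¹) * m⁻¹⁻¹ = k := by group
    rw [e] at h1
    have h2 : k ∈ D ⊓ K := Subgroup.mem_inf.mpr ⟨h1, hk⟩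
    rw [hDK] at h2
    exact hk1 (Subgroup.mem_bot.mp h2)
  · rintro ⟨-, h1, -⟩
    exact h1 rfl
  · have hne : sigmaCore M ≠ ⊥ := by
      intro e
      apply (h.h55 M hM).1
      have := (h.h55 M hM).2.1
      rw [e] at this
      exact le_bot_iff.mp this
    obtain ⟨x, hx, hx1⟩ := (Subgroup.bot_or_exists_ne_one (sigmaCore M)).resolve_left hne
    exact ⟨x, hσD hx, hx1, x, hx, hx1, rfl⟩
  · rintro m hm a ⟨haD, ha1, x, hx, hx1, hax⟩
    have hn := hDn hm
    rw [Subgroup.mem_normalizer_iff] at hn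
    refine ⟨(hn _).mp haD, conj_ne_one ha1, m * x * m⁻¹,
      Cfsg.Agent.Helper19.BG16.conj_mem_sigmaCore hm hx, conj_ne_one hx1, ?_⟩
    calc m * a * m⁻¹ * (m * x * m⁻¹) = m * (a * x) * m⁻¹ := by group
      _ = m * (x * a) * m⁻¹ := by rw [hax]
      _ = m * x * m⁻¹ * (m * a * m⁻¹) := by group

end Cfsg.Agent.Helper5.PF8
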