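import Mathlib
import Cfsg.Agent.Lib.Helper5.PF8I

/-!
Peterfalvi (8.15): translation from the sigma-language to the language of types, part II:
`A₀(M)`.
-/

set_option autoImplicit false
set_option linter.unusedVariables false
set_option linter.unusedSectionVars false

namespace Cfsg.Agent.Helper5.PF8

open Cfsg Subgroup
open Cfsg.Agent.Helper10 (IsPiNum)
open Cfsg.Agent.Helper27.BGTy
open Cfsg.Agent.Helper16.BG145 (St1375)
open Cfsg.Agent.Helper16.BG147 (St1432 St1378b)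
open Cfsg.Agent.Helper4.BG1377 (H1374)

variable {G : Type*} [Group G] [Finite G]

/-- an element of `W₁W₂` outside `W₁ ∪ W₂`, for type-P data of `M`, lies in the sigma-language
`A₀(M)` and is not the identity -/
theorem HypsT.typeP_elt (h : HypsT G) {M K U : Subgroup G} (hM : IsCoatom M)
    (hKU : IsSigmaDecomposition M K U) {W₁ V W₂ : Subgroup G} (hP : IsTypePWith M W₁ V W₂)
    {w : G} (hw : w ∈ W₁ ⊔ W₂) (hw1 : w ∉ W₁) (hw2 : w ∉ W₂) :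
    w ∈ sigmaA0 M K ∧ w ≠ 1 := by
  have hcomm : ∀ a ∈ W₁, ∀ b ∈ W₂, a * b = b * a := hP.selfNormalizing.2.2.2.1
  have hW₁M : W₁ ≤ M := hP.W₁_compl.2.1
  have hW₂σ : W₂ ≤ sigmaCore M := (hP.W₂_le.trans inf_le_left).trans (h.h55 M hM).2.1
  have hW₂D : W₂ ≤ ⁅M, M⁆ :=
    (hP.W₂_le.trans inf_le_right).trans (commutator_self_le ⁅M, M⁆)
  have hnorm : W₂ ≤ normalizer (W₁ : Set G) := by
    refine le_trans ?_ (Subgroup.centralizer_le_normalizer _)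
    intro b hb
    rw [Subgroup.mem_centralizer_iff]
    intro a ha
    exact hcomm a ha b hb
  obtain ⟨w₁, hw₁, w₂, hw₂, rfl⟩ := Cfsg.Agent.Helper22.BG13.exists_mul_of_mem_sup hnorm hw
  have hw₁1 : w₁ ≠ 1 := by
    rintro rfl
    rw [one_mul] at hw2
    exact hw2 hw₂
  have hw₂1 : w₂ ≠ 1 := by
    rintro rfl
    rw [mul_one] at hw1
    exact hw1 hw₁
  have hc := hcomm w₁ hw₁ w₂ hw₂
  have hne : w₁ * w₂ ≠ 1 := by
    intro e
    apply hw1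
    rw [e]; exact W₁.one_mem
  refine ⟨⟨⟨M.mul_mem (hW₁M hw₁) (sigmaCore_le M (hW₂σ hw₂)), w₂, hW₂σ hw₂, hw₂1, ?_⟩, ?_⟩, hne⟩
  · calc w₁ * w₂ * w₂ = (w₂ * w₁) * w₂ := by rw [hc]
      _ = w₂ * (w₁ * w₂) := by group
  · rintro ⟨k, hk, hk1, m, hm, e⟩
    set n₁ := Nat.card W₁ with hn₁
    have hcop : n₁.Coprime (Nat.card W₂) := by
      have h1 := hP.W₁_hall
      rw [relIndex_eq_card_of_isComplIn (isComplIn_symm hP.W₁_compl)] at h1
      exact Nat.Coprime.coprime_dvd_right (Subgroup.card_dvd_of_le hW₂D) h1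
    have hp1 : w₁ ^ n₁ = 1 :=
      orderOf_dvd_iff_pow_eq_one.mp (Subgroup.orderOf_dvd_natCard _ hw₁)
    have hp : (w₁ * w₂) ^ n₁ = w₂ ^ n₁ := by
      rw [(show Commute w₁ w₂ from hc).mul_pow, hp1, one_mul]
    have hp' : (m * k * m⁻¹) ^ n₁ = m * k ^ n₁ * m⁻¹ := by
      rw [conj_pow]
    rw [e, hp'] at hp
    have hk2 : k ^ n₁ ∈ K ⊓ sigmaCore M := by
      refine Subgroup.mem_inf.mpr ⟨K.pow_mem hk n₁, ?_⟩
      have h3 : k ^ n₁ = m⁻¹ * (w₂ ^ n₁) * m⁻¹⁻¹ := by rw [← hp]; group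
      rw [h3]
      exact Cfsg.Agent.Helper19.BG16.conj_mem_sigmaCore (M.inv_mem hm)
        ((sigmaCore M).pow_mem (hW₂σ hw₂) n₁)
    rw [K_inf_sigmaCore hKU.hall (h.hall hM)] at hk2
    have hk3 : k ^ n₁ = 1 := Subgroup.mem_bot.mp hk2
    rw [hk3] at hp
    have hw3 : w₂ ^ n₁ = 1 := by rw [← hp]; group
    have h5 : orderOf w₂ ∣ n₁ := orderOf_dvd_of_pow_eq_one hw3
    have h6 : orderOf w₂ ∣ Nat.card W₂ := Subgroup.orderOf_dvd_natCard _ hw₂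
    have h7 : orderOf w₂ = 1 := Nat.eq_one_of_dvd_coprimes hcop h5 h6
    exact hw₂1 (orderOf_eq_one_iff.mp h7)

/-- `A₀(M) ⊆ A₀(M)` (sigma-language), without the identity, nonempty and `M`-invariant -/
theorem HypsT.typeA0_facts (h : HypsT G) {M K U : Subgroup G} (hM : IsCoatom M)
    (hKU : IsSigmaDecomposition M K U) :
    typeA0 M ⊆ sigmaA0 M K ∧ (1 : G) ∉ typeA0 M ∧ (typeA0 M).Nonempty ∧
      ∀ m ∈ M, ∀ a ∈ typeA0 M, m * a * m⁻¹ ∈ typeA0 M := by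
  obtain ⟨hsub, h1, hne, hinv⟩ := h.typeA_facts hM hKU
  unfold typeA0
  refine ⟨?_, ?_, ?_, ?_⟩
  · rintro a (ha | ⟨-, W₁, V, W₂, hP, m, hm, w, hw, hw1, hw2, rfl⟩)
    · exact hsub ha
    · exact sigmaA0_conj (h.typeP_elt hM hKU hP hw hw1 hw2).1 hm
  · rintro (ha | ⟨-, W₁, V, W₂, hP, m, hm, w, hw, hw1, hw2, e⟩)
    · exact h1 ha
    · apply (h.typeP_elt hM hKU hP hw hw1 hw2).2
      have : w = m⁻¹ * (m * w * m⁻¹) * m := by group
      rw [this, ← e]; group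
  · obtain ⟨a, ha⟩ := hne
    exact ⟨a, Or.inl ha⟩
  · rintro m hm a (ha | ⟨hI, W₁, V, W₂, hP, m', hm', w, hw, hw1, hw2, rfl⟩)
    · exact Or.inl (hinv m hm a ha)
    · right
      refine ⟨hI, W₁, V, W₂, hP, m * m', M.mul_mem hm hm', w, hw, hw1, hw2, ?_⟩
      group

end Cfsg.Agent.Helper5.PF8
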