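import Mathlib
import Cfsg.Agent.Lib.Helper5.PF8J

/-!
Peterfalvi (8.15): the statements of S1537 and S1538 from the frozen earlier rows.
-/

set_option autoImplicit false
set_option linter.unusedVariables false
set_option linter.unusedSectionVars false

namespace Cfsg.Agent.Helper5.PF8

open Cfsg Subgroup
open Cfsg.Agent.Helper10 (IsPiNum)
open Cfsg.Agent.Helper27.BGTy
open Cfsg.Agent.Helper16.BG145 (St1375)
open Cfsg.Agent.Helper16.BG147 (St1432 St1378b)
open Cfsg.Agent.Helper4.BG1377 (H1374)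

variable {G : Type*} [Group G] [Finite G]

theorem HypsT.typeA1_facts (h : HypsT G) {M K U : Subgroup G} (hM : IsCoatom M)
    (hKU : IsSigmaDecomposition M K U) :
    typeA1 M ⊆ sigmaA0 M K ∧ (1 : G) ∉ typeA1 M ∧ (typeA1 M).Nonempty ∧
      ∀ m ∈ M, ∀ a ∈ typeA1 M, m * a * m⁻¹ ∈ typeA1 M := by
  rw [h.typeA1_eq hM hKU]
  refine ⟨?_, ?_, ?_, ?_⟩
  · intro a ha
    exact h.toHyps.sigmaA_subset_sigmaA0 hM hKU (sigmaCore_diff_subset_sigmaA ha)
  · rintro ⟨-, h1⟩
    exact h1 rfl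
  · have hne : sigmaCore M ≠ ⊥ := by
      intro e
      apply (h.h55 M hM).1
      have := (h.h55 M hM).2.1
      rw [e] at this
      exact le_bot_iff.mp this
    obtain ⟨x, hx, hx1⟩ := (Subgroup.bot_or_exists_ne_one (sigmaCore M)).resolve_left hne
    exact ⟨x, hx, hx1⟩
  · rintro m hm a ⟨ha, ha1⟩
    exact ⟨Cfsg.Agent.Helper19.BG16.conj_mem_sigmaCore hm ha, conj_ne_one ha1⟩

/-- the statement of S1537 from earlier rows -/
theorem thm_1537 (h : HypsT G) (M : Subgroup G) (hM : IsCoatom M) (A : Set G)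
    (hA : A = Cfsg.typeA1 M ∨ A = Cfsg.typeA M ∨ A = Cfsg.typeA0 M) :
    Subgroup.normalizer A = M ∧ Cfsg.DadeHypothesis A M (Cfsg.supportR M) := by
  obtain ⟨K, U, hKU⟩ := h.toHyps.exists_dec hM
  rcases hA with rfl | rfl | rfl
  · obtain ⟨h1, h2, h3, h4⟩ := h.typeA1_facts hM hKU
    exact h.toHyps.dade hM hKU h1 h2 h3 h4
  · obtain ⟨h1, h2, h3, h4⟩ := h.typeA_facts hM hKU
    exact h.toHyps.dade hM hKU h1 h2 h3 h4
  · obtain ⟨h1, h2, h3, h4⟩ := h.typeA0_facts hM hKU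
    exact h.toHyps.dade hM hKU h1 h2 h3 h4

/-- for `M` of Type II every non-identity element of the sigma-language `A₀(M)` has its centraliser
in `M` -/
theorem HypsT.centralizer_le_of_typeII (h : HypsT G) (h72 : H1372 G) {M K U : Subgroup G}
    (hM : IsCoatom M) (hKU : IsSigmaDecomposition M K U) (hII : IsOfTypeII M) {a : G}
    (ha : a ∈ sigmaA0 M K) (ha1 : a ≠ 1) : centralizer ({a} : Set G) ≤ M := by
  rcases h.toHyps.centralizer_le_or_mem hM hKU ha with h1 | h1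
  · exact h1
  · obtain ⟨hK1, hU1⟩ := of_typeII h.h50 h.h55 h.h65 M hM K U hKU hII
    obtain ⟨-, hTI, hσF⟩ := h72 M hM K U hKU hK1 hU1
    have haF : a ∈ fittingOf M := hσF h1
    have hN : Subgroup.normalizer ((fittingOf M : Subgroup G) : Set G) = M := by
      refine normalizer_eq_of_invariant h.hG hM ?_ ⟨a, haF, ha1⟩ ?_
      · intro x hx
        exact Cfsg.Agent.Helper8.FitPrime.fittingOf_le M hx
      · intro m hm x hx
        have hn := Cfsg.Agent.Helper14.BGUniq.le_normalizer_fittingOf M hm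
        rw [Subgroup.mem_normalizer_iff] at hn
        exact (hn x).mp hx
    intro c hc
    by_contra hcM
    rw [← hN] at hcM
    apply ha1
    apply hTI c hcM a haF
    rw [Subgroup.mem_centralizer_singleton_iff] at hc
    have : c * a * c⁻¹ = a := by rw [hc]; group
    rw [this]; exact haF

/-- the statement of S1538 from earlier rows -/
theorem thm_1538 (h : HypsT G) (h72 : H1372 G) (M : Subgroup G) (hM : IsCoatom M)
    (hII : Cfsg.IsOfTypeII M) :
    (Cfsg.IsTISubset (Cfsg.typeA0 M) ∧ Subgroup.normalizer (Cfsg.typeA0 M) = M) ∧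
      (Cfsg.IsTISubset (Cfsg.typeA M) ∧ Subgroup.normalizer (Cfsg.typeA M) = M) ∧
      (Cfsg.IsTISubset (Cfsg.typeA1 M) ∧ Subgroup.normalizer (Cfsg.typeA1 M) = M) := by
  obtain ⟨K, U, hKU⟩ := h.toHyps.exists_dec hM
  have key : ∀ A : Set G, A ⊆ sigmaA0 M K → (1 : G) ∉ A → A.Nonempty →
      (∀ m ∈ M, ∀ a ∈ A, m * a * m⁻¹ ∈ A) → IsTISubset A ∧ Subgroup.normalizer A = M := by
    intro A h1 h2 h3 h4
    obtain ⟨hN, hD⟩ := h.toHyps.dade hM hKU h1 h2 h3 h4
    refine ⟨isTISubset_of_fusion hN hD.fusion ?_, hN⟩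
    intro a ha ha1
    exact h.centralizer_le_of_typeII h72 hM hKU hII (h1 ha) ha1
  refine ⟨?_, ?_, ?_⟩
  · obtain ⟨h1, h2, h3, h4⟩ := h.typeA0_facts hM hKU
    exact key _ h1 h2 h3 h4
  · obtain ⟨h1, h2, h3, h4⟩ := h.typeA_facts hM hKU
    exact key _ h1 h2 h3 h4
  · obtain ⟨h1, h2, h3, h4⟩ := h.typeA1_facts hM hKU
    exact key _ h1 h2 h3 h4

end Cfsg.Agent.Helper5.PF8
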