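import Mathlib
import Cfsg.Prelude.Def_Local
import Cfsg.Prelude.Def_Transfer
import Cfsg.Agent.Lib.Helper19.PLength
import Cfsg.Agent.Lib.Helper1.Tate
import Cfsg.Agent.Lib.Helper23.PGroup

/-!
# p-length one and the principal block: group-theoretic reduction (helper5)
-/

set_option autoImplicit false

namespace Cfsg.Agent.Helper5.PLenOne

open Cfsg Cfsg.Agent.Helper19.PLen

universe u

section Tate

variable {L : Type u} [Group L] [Finite L] {p : ℕ} [Fact p.Prime]

/-- a linear character kills every `p`-element of `O^p(L)` -/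
theorem hom_eq_one_of_mem_pResidual (f : L →* ℂˣ) {x : L} (hx : x ∈ pResidual p L)
    (hxp : ∃ k : ℕ, x ^ p ^ k = 1) : f x = 1 := by
  have hp : p.Prime := Fact.out
  obtain ⟨k, hk⟩ := hxp
  set n := Nat.card L with hn
  -- the p'-part of the order
  set m := n / p ^ (n.factorization p) with hm
  have hnpos : n ≠ 0 := Nat.card_pos.ne'
  have hmcop : m.Coprime p := (Nat.coprime_ordCompl hp hnpos).symm
  have hnm : p ^ (n.factorization p) * m = n := Nat.ordProj_mul_ordCompl_eq_self n p
  -- the subgroup of elements killed by `f ^ m`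
  let K : Subgroup L := (powMonoidHom m : ℂˣ →* ℂˣ).comp f |>.ker
  have hK : pResidual p L ≤ K := by
    unfold pResidual
    rw [Subgroup.closure_le]
    intro y hy
    have hy' : (orderOf y).Coprime p := hy
    rw [SetLike.mem_coe, MonoidHom.mem_ker]
    show (f y) ^ m = 1
    have hd : orderOf y ∣ n := orderOf_dvd_natCard y
    rw [← hnm] at hd
    have hd' : orderOf y ∣ m :=
      Nat.Coprime.dvd_of_dvd_mul_left (Nat.Coprime.pow_right _ hy') hd
    rw [← map_pow, orderOf_dvd_iff_pow_eq_one.mp hd', map_one]
  have h1 : (f x) ^ m = 1 := by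
    have := hK hx
    rw [MonoidHom.mem_ker] at this
    exact this
  have h2 : (f x) ^ p ^ k = 1 := by rw [← map_pow, hk, map_one]
  have h3 := pow_gcd_eq_one.mpr ⟨h1, h2⟩
  rw [Nat.Coprime.gcd_eq_one (Nat.Coprime.pow_right k hmcop), pow_one] at h3
  exact h3

/-- if every linear character of a Sylow `p`-subgroup extends to the group then the group has a
normal `p`-complement -/
theorem hasNormalPComplement_of_extend (Q : Sylow p L)
    (hext : ∀ μ : (Q : Subgroup L) →* ℂˣ, ∃ f : L →* ℂˣ, ∀ x : (Q : Subgroup L), f x = μ x) :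
    HasNormalPComplement p L := by
  have hp : p.Prime := Fact.out
  haveI hMn : (pResidual p L).Normal := Cfsg.Agent.Helper22.pResidual_normal
  have hQ : IsPGroup p (Q : Subgroup L) := Q.2
  have hΦ : (pResidual p L).subgroupOf (Q : Subgroup L) ≤ frattini (Q : Subgroup L) := by
    refine le_trans ?_ (Cfsg.Agent.Helper23.commutator_le_frattini_pgroup p hQ)
    intro w hw
    by_contra hwc
    have hw1 : (Abelianization.of w : Abelianization (Q : Subgroup L)) ≠ 1 := by
      intro h
      apply hwc
      rw [← QuotientGroup.eq_one_iff (N := commutator (Q : Subgroup L))]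
      exact h
    obtain ⟨φ, hφ⟩ := CommGroup.exists_apply_ne_one_of_hasEnoughRootsOfUnity
      (Abelianization (Q : Subgroup L)) ℂ hw1
    obtain ⟨f, hf⟩ := hext (φ.comp Abelianization.of)
    apply hφ
    have h1 := hf w
    rw [MonoidHom.comp_apply] at h1
    rw [← h1]
    apply hom_eq_one_of_mem_pResidual f (Subgroup.mem_subgroupOf.mp hw)
    obtain ⟨k, hk⟩ := hQ w
    refine ⟨k, ?_⟩
    have := congrArg Subtype.val hk
    simpa using this
  have hM : pResidual p L ≤
      Subgroup.closure {g : L | g ∈ pResidual p L ∧ (orderOf g).Coprime p} := by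
    conv_lhs => unfold pResidual
    apply Subgroup.closure_mono
    intro g hg
    exact ⟨Subgroup.subset_closure hg, hg⟩
  have hcore := Cfsg.Agent.Helper1.tate_core Q (pResidual p L) hM hΦ
  have hdisj : (Q : Subgroup L) ⊓ pResidual p L = ⊥ := by
    rw [Subgroup.subgroupOf_eq_bot] at hcore
    rw [inf_comm]
    exact disjoint_iff.mp hcore
  have hnd := Cfsg.Agent.Helper1.not_dvd_card_of_sylow_inf_eq_bot Q (pResidual p L) hdisj
  exact Cfsg.Agent.Helper1.hasNormalPComplement_of_not_dvd_card_pResidual hnd

end Tate

section Length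

variable {G : Type u} [Group G] [Finite G] {p : ℕ} [Fact p.Prime]

/-- a group with a normal `p`-complement has `p`-length at most one -/
theorem plengthLE_one_of_hasNormalPComplement (h : HasNormalPComplement p G) :
    PLengthLE p 1 G := by
  have hp : p.Prime := Fact.out
  obtain ⟨Q, K, hKn, hc⟩ := h
  haveI := hKn
  have hK0 : PLengthLE p 0 K := by
    apply plengthLE_zero_of_coprime
    have h1 : Nat.card K = (Q : Subgroup G).index := by
      have := hc.index_eq_card
      exact this.symm
    rw [h1, Nat.coprime_comm, Nat.Prime.coprime_iff_not_dvd hp]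
    exact Q.not_dvd_index
  have hQ1 : PLengthLE p 1 (G ⧸ K) := by
    apply plengthLE_one_of_isPGroup
    obtain ⟨k, hk⟩ := Q.2.exists_card_eq
    apply IsPGroup.of_card (n := k)
    have h1 : Nat.card (G ⧸ K) = K.index := rfl
    rw [h1, hc.symm.index_eq_card, hk]
  have := plengthLE_add K hK0 hQ1
  simpa using this

/-- if a normal subgroup of index prime to `p` has a normal `p`-complement then the group has
`p`-length at most one -/
theorem plengthLE_one_of_normal_sub (L : Subgroup G) [L.Normal] (hidx : L.index.Coprime p)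
    (h : HasNormalPComplement p L) : PLengthLE p 1 G := by
  have h1 : PLengthLE p 1 L := plengthLE_one_of_hasNormalPComplement h
  have h0 : PLengthLE p 0 (G ⧸ L) := by
    apply plengthLE_zero_of_coprime
    exact hidx
  have := plengthLE_add L h1 h0
  simpa using this

end Length

end Cfsg.Agent.Helper5.PLenOne
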