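import Mathlib
import Cfsg.Prelude.Def_Blocks
import Cfsg.Agent.Lib.Helper5.Clifford
import Cfsg.Agent.Lib.Helper23.BlockDefect
import Cfsg.Agent.Lib.Helper23.BlockConv
import Cfsg.Agent.Lib.Helper23.PrincipalInduce
import Cfsg.Agent.Lib.Helper24.CharAlgebra

/-!
# p-length one and the principal block: character-theoretic part (helper5)
-/

set_option autoImplicit false
set_option linter.style.haveILetI false

namespace Cfsg.Agent.Helper5.PLenOne

open Cfsg Cfsg.Agent.Helper24 Cfsg.Agent.Helper23.Blk Cfsg.Agent.Helper5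
open scoped ComplexConjugate

universe u

section Sums

variable {G : Type u} [Group G]

/-- sums over a subgroup viewed inside an intermediate subgroup -/
theorem sum_subgroupOf {H K : Subgroup G} (hHK : H ≤ K) [Fintype H] [Fintype (H.subgroupOf K)]
    (f : G → ℂ) : ∑ x : H.subgroupOf K, f ((x : K) : G) = ∑ x : H, f x := by
  refine Fintype.sum_equiv (Subgroup.subgroupOfEquivOfLe hHK).toEquiv _ _ ?_
  intro x
  rfl

variable [Fintype G]

/-- an irreducible character whose sum over a normal subgroup does not vanish is constant on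
that subgroup -/
theorem const_on_normal_of_sum_ne_zero (Q : Subgroup G) [Q.Normal] [Fintype Q] {η : G → ℂ}
    (hη : IsIrrCharacter G η) (h : ∑ x : Q, η x ≠ 0) : ∀ x ∈ Q, η x = η 1 := by
  have hϑ : IsIrrCharacter Q (fun _ : Q => (1 : ℂ)) := isIrrCharacter_one
  have hinv : ∀ g : G, conjFun Q g (fun _ : Q => (1 : ℂ)) = fun _ : Q => (1 : ℂ) := by
    intro g
    funext n
    rw [conjFun_apply]
  have hcon : classInner (fun n : Q => η n) (fun _ : Q => (1 : ℂ)) ≠ 0 := by
    unfold classInner
    simp only [map_one, mul_one]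
    apply mul_ne_zero
    · apply inv_ne_zero
      exact_mod_cast (Nat.card_pos (α := Q)).ne'
    · exact h
  obtain ⟨e, -, -, he⟩ := restrict_eq_smul_of_invariant Q hη hϑ hinv hcon
  have h1 : η 1 = e := by
    have := congrFun he (1 : Q)
    simpa using this
  intro x hx
  have := congrFun he ⟨x, hx⟩
  rw [h1]
  simpa using this

/-- the sum of a character over a subgroup is a natural number -/
theorem exists_nat_sum_subgroup (Q : Subgroup G) [Fintype Q] {φ : G → ℂ} (hφ : IsCharacter G φ) :
    ∃ m : ℕ, ∑ x : Q, φ x = m := by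
  letI : Fintype (IrrCharacter Q) := irrFintype
  obtain ⟨m, hm⟩ := classInner_char_nat (isCharacter_restrict Q hφ)
    (isCharacter_of_isIrrCharacter (isIrrCharacter_one (G := Q)))
  refine ⟨Nat.card Q * m, ?_⟩
  unfold classInner at hm
  simp only [map_one, mul_one] at hm
  have hc : (Nat.card Q : ℂ) ≠ 0 := by exact_mod_cast (Nat.card_pos (α := Q)).ne'
  push_cast
  rw [← hm, ← mul_assoc, mul_inv_cancel₀ hc, one_mul]

/-- if the sum of a character over a subgroup vanishes then so does the sum of each of its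
irreducible constituents -/
theorem sum_constituent_eq_zero [Fintype (IrrCharacter G)] (Q : Subgroup G) [Fintype Q]
    {ρ : G → ℂ} (hρ : IsCharacter G ρ)
    (θ : IrrCharacter G) (hθ : classInner ρ (θ : G → ℂ) ≠ 0) (h0 : ∑ x : Q, ρ x = 0) :
    ∑ x : Q, (θ : G → ℂ) x = 0 := by
  classical
  obtain ⟨hnat, hdec⟩ := isCharacter_decomp hρ
  choose c hc using hnat
  have hs : ∀ φ : IrrCharacter G, ∃ m : ℕ, ∑ x : Q, (φ : G → ℂ) x = m :=
    fun φ => exists_nat_sum_subgroup Q (isCharacter_of_isIrrCharacter φ.2)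
  choose m hm using hs
  have h1 : ∑ x : Q, ρ x = ((∑ φ : IrrCharacter G, c φ * m φ : ℕ) : ℂ) := by
    have : ∀ x : Q, ρ x = ∑ φ : IrrCharacter G, (c φ : ℂ) * (φ : G → ℂ) x := by
      intro x
      conv_lhs => rw [hdec]
      rw [Finset.sum_apply]
      refine Finset.sum_congr rfl fun φ _ => ?_
      rw [Pi.smul_apply, smul_eq_mul, hc]
    rw [Finset.sum_congr rfl (fun x _ => this x), Finset.sum_comm]
    push_cast
    refine Finset.sum_congr rfl fun φ _ => ?_
    rw [← Finset.mul_sum, hm]
  rw [h0] at h1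
  have h2 : ∑ φ : IrrCharacter G, c φ * m φ = 0 := by exact_mod_cast h1.symm
  have h3 := (Finset.sum_eq_zero_iff.mp h2) θ (Finset.mem_univ _)
  have hcθ : c θ ≠ 0 := by
    intro h
    apply hθ
    rw [hc, h, Nat.cast_zero]
  have h4 : m θ = 0 := by
    rcases Nat.mul_eq_zero.mp h3 with h | h
    · exact absurd h hcθ
    · exact h
  rw [hm, h4, Nat.cast_zero]

end Sums

end Cfsg.Agent.Helper5.PLenOne
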