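import Mathlib
import Cfsg.Agent.Lib.Helper5.PLenOneC

/-!
# p-length one and the principal block: extension of linear characters (helper5)
-/

set_option autoImplicit false
set_option linter.style.haveILetI false

namespace Cfsg.Agent.Helper5.PLenOne

open Cfsg Cfsg.Agent.Helper24 Cfsg.Agent.Helper23.Blk Cfsg.Agent.Helper5
open scoped ComplexConjugate

universe u

section SylowSum

variable {G : Type u} [Group G] [Fintype G] {p : ℕ} [Fact p.Prime] {M : Ideal AlgInt}

/-- under the irreducibility hypothesis, the nonprincipal members of the principal block of the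
normal closure of a Sylow subgroup have vanishing sum over that Sylow subgroup -/
theorem sum_sylow_eq_zero (hM : IsPModular p M) (P : Sylow p G)
    (hyp : ∀ χ ∈ principalBlock M G,
      IsIrrCharacter ↥(Subgroup.normalizer ((P : Subgroup G) : Set G))
        (fun n : ↥(Subgroup.normalizer ((P : Subgroup G) : Set G)) => (χ : G → ℂ) n))
    (L : Subgroup G) (hPL : (P : Subgroup G) ≤ L)
    (hLmin : ∀ N : Subgroup G, N.Normal → (P : Subgroup G) ≤ N → L ≤ N)
    [Fintype ((P : Subgroup G).subgroupOf L)]
    (θ : IrrCharacter ↥L) (hθ : θ ∈ principalBlock M ↥L) (hne : θ ≠ principalChar ↥L) :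
    ∑ x : (P : Subgroup G).subgroupOf L, (θ : ↥L → ℂ) x = 0 := by
  classical
  letI : Fintype L := Fintype.ofFinite _
  letI : Fintype (P : Subgroup G) := Fintype.ofFinite _
  obtain ⟨χ, hχB, hχθ⟩ := exists_principal_over hM L hθ
  have hχc : IsCharacter G (χ : G → ℂ) := isCharacter_of_isIrrCharacter χ.2
  have hη := hyp χ hχB
  by_cases hs : ∑ x : (P : Subgroup G), (χ : G → ℂ) x = 0
  · letI : Fintype (IrrCharacter L) := irrFintype
    apply sum_constituent_eq_zero ((P : Subgroup G).subgroupOf L) (isCharacter_restrict L hχc) θ hχθ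
    rw [← hs, ← sum_subgroupOf hPL (χ : G → ℂ)]
  · exfalso
    have hPN : (P : Subgroup G) ≤ Subgroup.normalizer ((P : Subgroup G) : Set G) :=
      Subgroup.le_normalizer
    letI : Fintype ↥(Subgroup.normalizer ((P : Subgroup G) : Set G)) := Fintype.ofFinite _
    letI : Fintype ((P : Subgroup G).subgroupOf (Subgroup.normalizer ((P : Subgroup G) : Set G))) :=
      Fintype.ofFinite _
    have h1 : ∑ x : (P : Subgroup G).subgroupOf (Subgroup.normalizer ((P : Subgroup G) : Set G)),
        (fun n : ↥(Subgroup.normalizer ((P : Subgroup G) : Set G)) => (χ : G → ℂ) n) x ≠ 0 := by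
      have := sum_subgroupOf hPN (χ : G → ℂ)
      rw [← this] at hs
      exact hs
    have h2 := const_on_normal_of_sum_ne_zero _ hη h1
    have h3 : (P : Subgroup G) ≤ charKer hχc := by
      intro x hx
      rw [mem_charKer]
      exact h2 ⟨x, hPN hx⟩ (Subgroup.mem_subgroupOf.mpr hx)
    have h4 : L ≤ charKer hχc := hLmin _ (charKer_normal hχc) h3
    apply hχθ
    have h5 : (fun h : L => (χ : G → ℂ) h) = ((χ : G → ℂ) 1) • (fun _ : L => (1 : ℂ)) := by
      funext h
      simp only [Pi.smul_apply, smul_eq_mul, mul_one]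
      exact h4 h.2
    rw [h5, classInner_smul_left, irr_orthogonality isIrrCharacter_one θ.2, if_neg, mul_zero]
    intro h
    apply hne
    apply Subtype.ext
    exact h.symm

end SylowSum

section Extension

variable {L : Type u} [Group L] [Fintype L] {p : ℕ} [Fact p.Prime] {M : Ideal AlgInt}

/-- if the nonprincipal members of the principal block have vanishing sum over the `p`-subgroup
`Q`, then every linear character of `Q` extends to the group -/
theorem exists_linear_extension (hM : IsPModular p M) (Q : Subgroup L) [Fintype Q]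
    (hQ : IsPGroup p Q)
    (hA : ∀ θ ∈ principalBlock M L, θ ≠ principalChar L → ∑ x : Q, (θ : L → ℂ) x = 0)
    (μ : Q →* ℂˣ) : ∃ f : L →* ℂˣ, ∀ x : Q, f x = μ x := by
  classical
  haveI hMp : M.IsPrime := hM.2.1.isPrime
  letI : Fintype (IrrCharacter L) := irrFintype
  letI : Fintype (IrrCharacter Q) := irrFintype
  set B := principalBlock M L with hBdef
  have hB : IsPBlock M B := isPBlock_principalBlock
  set S : Finset (IrrCharacter L) := Finset.univ.filter (· ∈ B) with hS
  have hmemS : ∀ θ, θ ∈ S ↔ θ ∈ B := by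
    intro θ
    rw [hS, Finset.mem_filter]
    simp
  let F : L → ℂ := fun y => ∑ θ ∈ S, (θ : L → ℂ) 1 * conj ((θ : L → ℂ) y)
  have hcardL : (Nat.card L : ℂ) ≠ 0 := by exact_mod_cast (Nat.card_pos (α := L)).ne'
  have hcardQ : (Nat.card Q : ℂ) ≠ 0 := by exact_mod_cast (Nat.card_pos (α := Q)).ne'
  have hF : ∀ y, blockCoeff B y = (Nat.card L : ℂ)⁻¹ * F y := by
    intro y
    unfold blockCoeff
    congr 1
    rw [finsum_mem_eq_finite_toFinset_sum _ (Set.toFinite B)]
    apply Finset.sum_congr
    · ext θ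
      rw [hmemS]
      simp
    · intros
      rfl
  have hF0 : ∀ y : Q, y ≠ 1 → F y = 0 := by
    intro y hy
    have hsing : p ∣ orderOf (y : L) := by
      obtain ⟨k, hk⟩ := IsPGroup.iff_orderOf.mp hQ y
      rw [Subgroup.orderOf_coe, hk]
      have hk0 : k ≠ 0 := by
        rintro rfl
        rw [pow_zero, orderOf_eq_one_iff] at hk
        exact hy hk
      exact dvd_pow_self p hk0
    have := blockCoeff_eq_zero_of_pSingular hM hB hsing
    rw [hF] at this
    exact (mul_eq_zero.mp this).resolve_left (inv_ne_zero hcardL)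
  have hm : ∀ (ν : Q →* ℂˣ) (θ : IrrCharacter L), ∃ m : ℕ,
      classInner (fun y : Q => (θ : L → ℂ) y) (fun y : Q => ((ν y : ℂˣ) : ℂ)) = m :=
    fun ν θ => classInner_char_nat
      (isCharacter_restrict Q (isCharacter_of_isIrrCharacter θ.2))
      (isCharacter_of_isIrrCharacter (isIrrCharacter_of_monoidHom ν))
  choose m hm using hm
  have key : ∀ ν : Q →* ℂˣ,
      ∑ θ ∈ S, (θ : L → ℂ) 1 * (m ν θ : ℂ) * (Nat.card Q : ℂ) = F 1 := by
    intro ν
    have h1 : ∑ y : Q, F y * ((ν y : ℂˣ) : ℂ) = F 1 := by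
      rw [Finset.sum_eq_single (1 : Q)]
      · simp
      · intro y _ hy
        rw [hF0 y hy, zero_mul]
      · intro h
        exact absurd (Finset.mem_univ _) h
    rw [← h1]
    have h3 : ∀ y : Q, F y * ((ν y : ℂˣ) : ℂ) =
        ∑ θ ∈ S, (θ : L → ℂ) 1 * conj ((θ : L → ℂ) y) * ((ν y : ℂˣ) : ℂ) := by
      intro y
      exact Finset.sum_mul _ _ _
    rw [Finset.sum_congr rfl (fun y _ => h3 y), Finset.sum_comm]
    refine Finset.sum_congr rfl fun θ _ => ?_
    have h2 : (m ν θ : ℂ) * (Nat.card Q : ℂ) =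
        ∑ y : Q, conj ((θ : L → ℂ) y) * ((ν y : ℂˣ) : ℂ) := by
      have := congrArg conj (hm ν θ)
      rw [Complex.conj_natCast] at this
      rw [← this]
      unfold classInner
      rw [map_mul, map_inv₀, Complex.conj_natCast, map_sum, mul_comm, ← mul_assoc,
        mul_inv_cancel₀ hcardQ, one_mul]
      refine Finset.sum_congr rfl fun y _ => ?_
      rw [map_mul, Complex.conj_conj]
    rw [mul_assoc, h2, Finset.mul_sum]
    refine Finset.sum_congr rfl fun y _ => ?_
    ring
  have hm1 : ∀ θ ∈ S, θ ≠ principalChar L → m 1 θ = 0 := by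
    intro θ hθ hne
    have h := hm 1 θ
    have hs := hA θ ((hmemS θ).mp hθ) hne
    unfold classInner at h
    simp only [MonoidHom.one_apply, Units.val_one, map_one, mul_one] at h
    rw [hs, mul_zero] at h
    exact_mod_cast h.symm
  have hm1' : m 1 (principalChar L) = 1 := by
    have h := hm 1 (principalChar L)
    unfold classInner at h
    simp only [MonoidHom.one_apply, Units.val_one, map_one, mul_one] at h
    have h' : ∀ y : Q, ((principalChar L : IrrCharacter L) : L → ℂ) y = 1 := fun y => rfl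
    rw [Finset.sum_congr rfl (fun y _ => h' y), Finset.sum_const, Finset.card_univ, nsmul_eq_mul,
      mul_one, ← Nat.card_eq_fintype_card, inv_mul_cancel₀ hcardQ] at h
    exact_mod_cast h.symm
  have hprin : principalChar L ∈ S := (hmemS _).mpr principalChar_mem_principalBlock
  have hF1 : F 1 = (Nat.card Q : ℂ) := by
    rw [← key 1, Finset.sum_eq_single (principalChar L)]
    · rw [hm1']
      have : ((principalChar L : IrrCharacter L) : L → ℂ) 1 = 1 := rfl
      rw [this]
      simp
    · intro θ hθ hne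
      rw [hm1 θ hθ hne]
      simp
    · intro h
      exact absurd hprin h
  have hsum : ∑ θ ∈ S, charDegree (θ : L → ℂ) * m μ θ = 1 := by
    have h := key μ
    rw [hF1, ← Finset.sum_mul] at h
    have h2 : ∑ θ ∈ S, (θ : L → ℂ) 1 * (m μ θ : ℂ) = 1 := by
      have := mul_right_cancel₀ hcardQ (h.trans (one_mul _).symm)
      exact this
    have h3 : ((∑ θ ∈ S, charDegree (θ : L → ℂ) * m μ θ : ℕ) : ℂ) = 1 := by
      rw [← h2]
      push_cast
      refine Finset.sum_congr rfl fun θ _ => ?_
      rw [← irr_one_eq_charDegree θ.2]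
    exact_mod_cast h3
  have hex : ∃ θ ∈ S, charDegree (θ : L → ℂ) * m μ θ ≠ 0 := by
    by_contra hcon
    push Not at hcon
    rw [Finset.sum_eq_zero hcon] at hsum
    exact absurd hsum (by decide)
  obtain ⟨θ, hθS, hθ0⟩ := hex
  have hle : charDegree (θ : L → ℂ) * m μ θ ≤ 1 := by
    rw [← hsum]
    exact Finset.single_le_sum (f := fun θ : IrrCharacter L => charDegree (θ : L → ℂ) * m μ θ)
      (fun _ _ => Nat.zero_le _) hθS
  have heq : charDegree (θ : L → ℂ) * m μ θ = 1 := by omega
  have hd1 : charDegree (θ : L → ℂ) = 1 := Nat.eq_one_of_mul_eq_one_right heq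
  have hmm : m μ θ = 1 := Nat.eq_one_of_mul_eq_one_left heq
  have hθc : IsCharacter L (θ : L → ℂ) := isCharacter_of_isIrrCharacter θ.2
  have hθ1 : (θ : L → ℂ) 1 = 1 := by
    rw [irr_one_eq_charDegree θ.2, hd1, Nat.cast_one]
  refine ⟨linHom hθc hθ1, ?_⟩
  have hα : IsIrrCharacter Q (fun y : Q => (θ : L → ℂ) y) :=
    isIrrCharacter_of_degree_one (isCharacter_restrict Q hθc) hθ1
  have hβ : IsIrrCharacter Q (fun y : Q => ((μ y : ℂˣ) : ℂ)) := isIrrCharacter_of_monoidHom μ
  have hab : (fun y : Q => (θ : L → ℂ) y) = (fun y : Q => ((μ y : ℂˣ) : ℂ)) := by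
    by_contra hne
    have h := hm μ θ
    rw [irr_orthogonality hα hβ, if_neg hne, hmm] at h
    norm_num at h
  intro x
  apply Units.ext
  rw [linHom_apply]
  exact congrFun hab x

end Extension

end Cfsg.Agent.Helper5.PLenOne
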