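import Mathlib
import Cfsg.Agent.Lib.Helper5.PimDefs
import Cfsg.Agent.Lib.Helper19.PimA
import Cfsg.Agent.Lib.Helper18.PimF

/-!
# The Fitting idempotent (S4427)
-/

namespace Cfsg.Agent.Helper5.Pim

open Polynomial Matrix

variable {G : Type*} [Group G] [Fintype G] [DecidableEq G]

theorem commute_aeval {R : Type*} [CommRing R] {A : Type*} [Ring A] [Algebra R A] {a b : A}
    (h : Commute a b) (P : R[X]) : Commute a (aeval b P) := by
  induction P using Polynomial.induction_on' with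
  | add p q hp hq => rw [map_add]; exact hp.add_right hq
  | monomial n c =>
    rw [aeval_monomial]
    exact (Algebra.commute_algebraMap_right c a).mul_right (h.pow_right n)

theorem IsLInv.mul' {R : Type*} [CommRing R] {M N : Matrix G G R} (hM : IsLInv M) (hN : IsLInv N) :
    IsLInv (M * N) := (linvSub R G).mul_mem hM hN

theorem exists_fitting {p : ℕ} (D : LocData p) (eQ eR : Matrix G G D.O)
    (hQ : IsLInv eQ) (hR : IsLInv eR) (hQ2 : eQ * eQ = eQ) (hR2 : eR * eR = eR)
    (hQs : ∑ j, eQ 1 j = 1) (hRs : ∑ j, eR 1 j = 1) :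
    ∃ E Y : Matrix G G D.O, IsLInv E ∧ E * E = E ∧ eQ * E = E ∧ ∑ j, E 1 j = 1 ∧
      E = E * eQ * eR * Y := by
  classical
  set u : Matrix G G D.O := eQ * eR * eQ with hu
  have huinv : IsLInv u := (hQ.mul' hR).mul' hQ
  have hus : ∑ j, u 1 j = 1 := by
    rw [hu, (hQ.mul' hR).row_sum_mul hQ, hQ.row_sum_mul hR, hQs, hRs, one_mul, one_mul]
  -- the annihilating polynomial
  set χ : D.O[X] := (X - C 1) * u.charpoly with hχ
  have hmon : χ.Monic := (monic_X_sub_C 1).mul (Matrix.charpoly_monic u)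
  have hχu : aeval u χ = 0 := by
    rw [hχ, map_mul, Matrix.aeval_self_charpoly, mul_zero]
  obtain ⟨s, hs⟩ := D.splits χ hmon
  have h1s : (1 : D.O) ∈ s := by
    have h0 : χ.eval 1 = 0 := by rw [hχ]; simp
    rw [hs, Polynomial.eval_multiset_prod, Multiset.map_map, Multiset.prod_eq_zero_iff] at h0
    obtain ⟨a, ha, ha0⟩ := Multiset.mem_map.mp h0
    simp only [Function.comp_apply, eval_sub, eval_X, eval_C] at ha0
    have : a = 1 := (sub_eq_zero.mp ha0).symm
    exact this ▸ ha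
  obtain ⟨P, W, h1, h2, h3⟩ := exists_poly_idem s
  rw [← hs] at h1 h2
  set Pu : Matrix G G D.O := aeval u P with hPu
  set Wu : Matrix G G D.O := aeval u W with hWu
  have hPP : Pu * Pu = Pu := by
    obtain ⟨q, hq⟩ := h1
    have := congrArg (aeval u) hq
    rw [map_sub, map_mul, map_mul, hχu, zero_mul, sub_eq_zero] at this
    exact this
  have huW : u * Wu = Pu := by
    obtain ⟨q, hq⟩ := h2
    have := congrArg (aeval u) hq
    rw [map_sub, map_mul, map_mul, hχu, zero_mul, sub_eq_zero, aeval_X] at this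
    exact this
  have hQu : eQ * u = u := by rw [hu, ← mul_assoc, ← mul_assoc, hQ2]
  have huQ : u * eQ = u := by rw [hu, mul_assoc, hQ2]
  have hcomm : Commute eQ u := by rw [Commute, SemiconjBy, hQu, huQ]
  have hcP : Commute eQ Pu := commute_aeval hcomm P
  have hcW : Commute u Wu := commute_aeval (Commute.refl u) W
  refine ⟨eQ * Pu, eQ * Wu, hQ.mul' (huinv.aeval P), ?_, ?_, ?_, ?_⟩
  · calc eQ * Pu * (eQ * Pu) = eQ * (Pu * eQ) * Pu := by simp only [mul_assoc]
      _ = eQ * (eQ * Pu) * Pu := by rw [hcP.eq]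
      _ = (eQ * eQ) * (Pu * Pu) := by simp only [mul_assoc]
      _ = eQ * Pu := by rw [hQ2, hPP]
  · rw [← mul_assoc, hQ2]
  · rw [hQ.row_sum_mul (huinv.aeval P), hQs, one_mul, huinv.row_sum_aeval P, hus]
    exact h3 1 h1s isUnit_one
  · have hEQ : eQ * Pu * eQ = eQ * Pu := by
      rw [mul_assoc, ← hcP.eq, ← mul_assoc, hQ2]
    calc eQ * Pu = eQ * (Pu * Pu) := by rw [hPP]
      _ = eQ * Pu * (u * Wu) := by rw [huW, mul_assoc]
      _ = eQ * Pu * u * Wu := by rw [mul_assoc (eQ * Pu) u Wu]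
      _ = eQ * Pu * (eQ * eR * eQ) * Wu := by rw [hu]
      _ = eQ * Pu * eQ * eR * eQ * Wu := by simp only [mul_assoc]
      _ = eQ * Pu * eQ * eR * (eQ * Wu) := by simp only [mul_assoc]

end Cfsg.Agent.Helper5.Pim
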