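import Mathlib
import Cfsg.Agent.Lib.Helper5.PimDefs
import Cfsg.Agent.Lib.Helper2.PimC
import Cfsg.Agent.Lib.Helper2.PimC2
import Cfsg.Agent.Lib.Helper23.PimE
import Cfsg.Agent.Lib.Helper18.PimF
import Cfsg.Agent.Lib.Helper25.PimH
import Cfsg.Agent.Lib.Helper5.PimFit

/-!
# Existence of the "principal projective" idempotent (S4427)
-/

namespace Cfsg.Agent.Helper5.Pim

open Matrix

variable {G : Type*} [Group G] [Fintype G] [DecidableEq G]

open scoped Classical in
/-- For `g ≠ 1`, `g` cannot be conjugate into `Q` while `g⁻¹` is conjugate into `R`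
when `|Q|`, `|R|` are coprime. -/
theorem card_filter_mul_eq_zero (Q R : Subgroup G) (hQR : (Nat.card Q).Coprime (Nat.card R))
    (g : G) (hg : g ≠ 1) :
    (Finset.univ.filter fun i : G => i⁻¹ * g * i ∈ Q).card *
      (Finset.univ.filter fun i : G => i⁻¹ * g⁻¹ * i ∈ R).card = 0 := by
  by_contra hne
  obtain ⟨h1, h2⟩ := Nat.mul_ne_zero_iff.mp hne
  obtain ⟨i, hi⟩ := Finset.card_pos.mp (Nat.pos_of_ne_zero h1)
  obtain ⟨k, hk⟩ := Finset.card_pos.mp (Nat.pos_of_ne_zero h2)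
  simp only [Finset.mem_filter, Finset.mem_univ, true_and] at hi hk
  have e1 : orderOf g ∣ Nat.card Q := by
    have : orderOf (⟨i⁻¹ * g * i, hi⟩ : Q) = orderOf g := by
      rw [← Subgroup.orderOf_coe]
      have hsc : SemiconjBy i (i⁻¹ * g * i) g := by
        rw [SemiconjBy]; group
      exact SemiconjBy.orderOf_eq i hsc
    rw [← this]; exact orderOf_dvd_natCard _
  have e2 : orderOf g ∣ Nat.card R := by
    have : orderOf (⟨k⁻¹ * g⁻¹ * k, hk⟩ : R) = orderOf g := by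
      rw [← Subgroup.orderOf_coe]
      have hsc : SemiconjBy k (k⁻¹ * g⁻¹ * k) g⁻¹ := by
        rw [SemiconjBy]; group
      rw [SemiconjBy.orderOf_eq k hsc, orderOf_inv]
    rw [← this]; exact orderOf_dvd_natCard _
  have : orderOf g = 1 := Nat.eq_one_of_dvd_coprimes hQR e1 e2
  exact hg (orderOf_eq_one_iff.mp this)

theorem exists_pim (p : ℕ) (hp : p.Prime) (Q R : Subgroup G)
    (hQ : (Nat.card Q).Coprime p) (hR : (Nat.card R).Coprime p)
    (hQR : (Nat.card Q).Coprime (Nat.card R)) :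
    ∃ (A : Matrix G G ℂ) (_ : IsLInv A), A * A = A ∧
      (∀ g : G, p ∣ orderOf g → (Pm ℂ g * A).trace = 0) ∧
      (∑ g : G, (Pm ℂ g * A).trace = (Nat.card G : ℂ)) ∧
      ∃ n : ℕ, n * (Nat.card Q * Nat.card R) ≤ Nat.card G ∧
        ∑ g : G, (Pm ℂ g * A).trace * (Pm ℂ g⁻¹ * A).trace = (Nat.card G : ℂ) * n := by
  classical
  obtain ⟨D⟩ := exists_locData p hp
  obtain ⟨uQ, huQ⟩ := D.isUnit_natCast hp hQ
  obtain ⟨uR, huR⟩ := D.isUnit_natCast hp hR
  set cQ : D.O := ((uQ⁻¹ : D.Oˣ) : D.O) with hcQ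
  set cR : D.O := ((uR⁻¹ : D.Oˣ) : D.O) with hcR
  have hcQ1 : cQ * (Nat.card Q : D.O) = 1 := by rw [hcQ, ← huQ]; simp
  have hcR1 : cR * (Nat.card R : D.O) = 1 := by rw [hcR, ← huR]; simp
  set eQ : Matrix G G D.O := eH Q cQ
  set eR : Matrix G G D.O := eH R cR
  obtain ⟨E, Y, hEinv, hEE, hQE, hEs, hEY⟩ := exists_fitting D eQ eR (eH_isLInv Q cQ)
    (eH_isLInv R cR) (eH_mul_self Q cQ hcQ1) (eH_mul_self R cR hcR1) (eH_row_sum Q cQ hcQ1)
    (eH_row_sum R cR hcR1)
  have hφQ : D.φ cQ * (Nat.card Q : ℂ) = 1 := by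
    have := congrArg D.φ hcQ1
    simpa using this
  have hφR : D.φ cR * (Nat.card R : ℂ) = 1 := by
    have := congrArg D.φ hcR1
    simpa using this
  refine ⟨E.map D.φ, hEinv.map D.φ, ?_, ?_, ?_, ?_⟩
  · rw [← Matrix.map_mul, hEE]
  · intro g hg
    have h0 := trace_Pm_mul_eq_zero D hp E hEE hEinv g hg
    have := congrArg D.φ h0
    rw [AddMonoidHom.map_trace, Matrix.map_mul, Pm_map, map_zero] at this
    exact this
  · rw [(hEinv.map D.φ).sum_trace_Pm_mul]
    have : ∑ j, (E.map D.φ) 1 j = 1 := by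
      have := congrArg D.φ hEs
      rw [map_sum, map_one] at this
      simpa using this
    rw [this, mul_one]
  · obtain ⟨n₁, n₂, hle, hs1, hs2⟩ := sum_char_le (E.map D.φ) (eQ.map D.φ) (eR.map D.φ)
      (Y.map D.φ) (hEinv.map D.φ) ((eH_isLInv Q cQ).map D.φ) ((eH_isLInv R cR).map D.φ)
      (by rw [← Matrix.map_mul, hEE]) (by rw [← Matrix.map_mul, eH_mul_self Q cQ hcQ1])
      (by rw [← Matrix.map_mul, eH_mul_self R cR hcR1]) (by rw [← Matrix.map_mul, hQE])
      (by rw [← Matrix.map_mul, ← Matrix.map_mul, ← Matrix.map_mul, ← hEY])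
    refine ⟨n₁, ?_, hs1⟩
    -- compute the second sum
    have hterm : ∀ g : G, g ≠ 1 →
        (Pm ℂ g * eQ.map D.φ).trace * (Pm ℂ g⁻¹ * eR.map D.φ).trace = 0 := by
      intro g hg
      rw [eH_map, eH_map, trace_Pm_mul_eH, trace_Pm_mul_eH]
      have h := card_filter_mul_eq_zero Q R hQR g hg
      have h' : ((Finset.univ.filter fun i : G => i⁻¹ * g * i ∈ Q).card : ℂ) *
          ((Finset.univ.filter fun i : G => i⁻¹ * g⁻¹ * i ∈ R).card : ℂ) = 0 := by
        rw [← Nat.cast_mul, h, Nat.cast_zero]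
      calc _ = D.φ cQ * D.φ cR * (((Finset.univ.filter fun i : G => i⁻¹ * g * i ∈ Q).card : ℂ) *
          ((Finset.univ.filter fun i : G => i⁻¹ * g⁻¹ * i ∈ R).card : ℂ)) := by ring
        _ = 0 := by rw [h', mul_zero]
    have hsum : ∑ g : G, (Pm ℂ g * eQ.map D.φ).trace * (Pm ℂ g⁻¹ * eR.map D.φ).trace =
        (D.φ cQ * (Nat.card G : ℂ)) * (D.φ cR * (Nat.card G : ℂ)) := by
      rw [Finset.sum_eq_single (1 : G) (fun g _ hg => hterm g hg) (by simp)]
      rw [eH_map, eH_map, inv_one, trace_Pm_mul_eH, trace_Pm_mul_eH]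
      have hf : ∀ H : Subgroup G, (Finset.univ.filter fun i : G => i⁻¹ * 1 * i ∈ H).card
          = Nat.card G := by
        intro H
        rw [Nat.card_eq_fintype_card, ← Finset.card_univ]
        congr 1
        apply Finset.filter_true_of_mem
        intro i _
        simp
      rw [hf, hf]
    rw [hsum] at hs2
    have hGne : (Nat.card G : ℂ) ≠ 0 := by
      exact_mod_cast (Nat.card_pos (α := G)).ne'
    have hn2 : (n₂ : ℂ) * ((Nat.card Q : ℂ) * (Nat.card R : ℂ)) = (Nat.card G : ℂ) := by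
      have h3 : D.φ cQ * D.φ cR * (Nat.card G : ℂ) = n₂ := by
        apply mul_left_cancel₀ hGne
        rw [← hs2]; ring
      rw [← h3]
      calc D.φ cQ * D.φ cR * (Nat.card G : ℂ) * ((Nat.card Q : ℂ) * (Nat.card R : ℂ))
          = (D.φ cQ * (Nat.card Q : ℂ)) * (D.φ cR * (Nat.card R : ℂ)) * (Nat.card G : ℂ) := by ring
        _ = (Nat.card G : ℂ) := by rw [hφQ, hφR]; ring
    have hn2' : n₂ * (Nat.card Q * Nat.card R) = Nat.card G := by exact_mod_cast hn2
    calc n₁ * (Nat.card Q * Nat.card R) ≤ n₂ * (Nat.card Q * Nat.card R) :=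
          Nat.mul_le_mul_right _ hle
      _ = Nat.card G := hn2'

end Cfsg.Agent.Helper5.Pim
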