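import Mathlib
import Cfsg.Agent.Lib.Helper5.Pm1A

/-!
# A subgroup of prime order equal to its centralizer: the cyclic quotient of the normalizer and
subgroups of index two (helper5)
-/

set_option autoImplicit false
set_option linter.unusedVariables false
set_option linter.unusedSectionVars false
set_option linter.style.haveILetI false

namespace Cfsg.Agent.Helper5.Pm1

open Cfsg Cfsg.Agent.Helper5

universe u

section Cyc

variable {G : Type u} [Group G] [Finite G] (P : Subgroup G) {p : ℕ}
  (hp : p.Prime) (hcard : Nat.card P = p) (hcent : Subgroup.centralizer (P : Set G) ≤ P)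

include hp hcard hcent in
theorem normalizerMonoidHom_ker_eq :
    (P.normalizerMonoidHom).ker = P.subgroupOf (Subgroup.normalizer (P : Set G)) := by
  rw [Subgroup.normalizerMonoidHom_ker]
  ext x
  rw [Subgroup.mem_subgroupOf, Subgroup.mem_subgroupOf]
  constructor
  · intro h; exact hcent h
  · intro h
    rw [Subgroup.mem_centralizer_iff]
    intro y hy
    exact PrimeTI.comm_of_prime P hp hcard _ hy _ h

include hp hcard in
theorem isCyclic_mulAut : IsCyclic (MulAut P) := by
  haveI : Fact (Nat.card P).Prime := ⟨hcard ▸ hp⟩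
  haveI : Fact p.Prime := ⟨hp⟩
  haveI : IsCyclic P := isCyclic_of_prime_card hcard
  have e := IsCyclic.mulAutMulEquiv P
  exact isCyclic_of_surjective e.symm.toMonoidHom e.symm.surjective

include hp hcard hcent in
/-- a `2`-element of the normalizer of order the full `2`-part of the index -/
theorem exists_two_element {e : ℕ}
    (hidx : (P.subgroupOf (Subgroup.normalizer (P : Set G))).index = e) (he : Even e)
    (he0 : e ≠ 0) (hp2 : p ≠ 2) :
    ∃ (y : ↥(Subgroup.normalizer (P : Set G))) (a m : ℕ), orderOf y = 2 ^ (a + 1) ∧ Odd m ∧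
      e = 2 ^ (a + 1) * m := by
  haveI := isCyclic_mulAut P hp hcard
  set φ := P.normalizerMonoidHom with hφ
  have hker := normalizerMonoidHom_ker_eq P hp hcard hcent
  haveI : IsCyclic (↥(Subgroup.normalizer (P : Set G)) ⧸ φ.ker) :=
    isCyclic_of_injective (QuotientGroup.kerLift φ) (QuotientGroup.kerLift_injective φ)
  obtain ⟨q, hq⟩ := IsCyclic.exists_ofOrder_eq_natCard
    (α := ↥(Subgroup.normalizer (P : Set G)) ⧸ φ.ker)
  have hcq : Nat.card (↥(Subgroup.normalizer (P : Set G)) ⧸ φ.ker) = e := by
    rw [← Subgroup.index, hker, hidx]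
  rw [hcq] at hq
  obtain ⟨g, rfl⟩ := QuotientGroup.mk_surjective q
  obtain ⟨k, m, hm, hkm⟩ := Nat.exists_eq_two_pow_mul_odd he0
  have hk0 : k ≠ 0 := by
    rintro rfl
    rw [pow_zero, one_mul] at hkm
    rw [hkm] at he
    exact (Nat.not_even_iff_odd.mpr hm) he
  obtain ⟨a, rfl⟩ := Nat.exists_eq_succ_of_ne_zero hk0
  rw [Nat.succ_eq_add_one] at hkm
  have hN : Nat.card ↥(Subgroup.normalizer (P : Set G)) = p * e := by
    rw [← Subgroup.card_mul_index (P.subgroupOf (Subgroup.normalizer (P : Set G))), hidx]
    congr 1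
    exact (Nat.card_congr (Subgroup.subgroupOfEquivOfLe
      (Subgroup.le_normalizer (H := P))).toEquiv).trans hcard
  refine ⟨g ^ (p * m), a, m, ?_, hm, hkm⟩
  have h2 : Fact (Nat.Prime 2) := ⟨Nat.prime_two⟩
  apply orderOf_eq_prime_pow
  · intro h1
    have h3 : ((g : ↥(Subgroup.normalizer (P : Set G)) ⧸ φ.ker)) ^ (p * m * 2 ^ a) = 1 := by
      rw [← QuotientGroup.mk_pow, pow_mul, h1]
      rfl
    have h4 := orderOf_dvd_of_pow_eq_one h3
    rw [hq, hkm, pow_succ] at h4
    have h5 : 2 ^ a * m * 2 ∣ 2 ^ a * m * p := by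
      have e1 : 2 ^ a * 2 * m = 2 ^ a * m * 2 := by ring
      have e2 : p * m * 2 ^ a = 2 ^ a * m * p := by ring
      rw [← e1, ← e2]; exact h4
    have hpos : 0 < 2 ^ a * m := by
      have : 0 < m := hm.pos
      positivity
    have h6 : 2 ∣ p := (Nat.mul_dvd_mul_iff_left hpos).mp h5
    exact hp2 ((Nat.prime_dvd_prime_iff_eq Nat.prime_two hp).mp h6).symm
  · rw [← pow_mul]
    have e1 : p * m * 2 ^ (a + 1) = p * e := by rw [hkm]; ring
    rw [e1, ← hN]
    exact pow_card_eq_one'

end Cyc

section Index

variable {G : Type u} [Group G] [Finite G]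

/-- A homomorphism to the units of `ℂ` taking the value `-1` forces the commutator subgroup to
have even index. -/
theorem even_index_of_hom (δ : G →* ℂˣ) (y : G) (hy : δ y = -1) :
    Even (commutator G).index := by
  have h1 : commutator G ≤ δ.ker := Abelianization.commutator_subset_ker δ
  have h2 : δ.ker.index ∣ (commutator G).index := Subgroup.index_dvd_of_le h1
  have h3 : δ.ker.index = Nat.card δ.range := Subgroup.index_ker δ
  have h4 : orderOf (⟨δ y, y, rfl⟩ : δ.range) = 2 := by
    apply orderOf_eq_prime
    · apply Subtype.ext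
      show (δ y) ^ 2 = 1
      rw [hy]; norm_num
    · intro h
      have : δ y = 1 := congrArg Subtype.val h
      rw [hy] at this
      have h5 : ((-1 : ℂˣ) : ℂ) = ((1 : ℂˣ) : ℂ) := by rw [this]
      norm_num at h5
  have h5 : 2 ∣ Nat.card δ.range := by
    rw [← h4]; exact orderOf_dvd_natCard _
  rw [← h3] at h5
  exact even_iff_two_dvd.mpr (h5.trans h2)

/-- A normal subgroup of index two contains the commutator subgroup. -/
theorem even_index_of_normal (K : Subgroup G) [K.Normal] (hK : K.index = 2) :
    Even (commutator G).index := by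
  have hc : Nat.card (G ⧸ K) = 2 := hK
  haveI : Fact (Nat.Prime 2) := ⟨Nat.prime_two⟩
  haveI : IsCyclic (G ⧸ K) := isCyclic_of_prime_card hc
  letI : CommGroup (G ⧸ K) := IsCyclic.commGroup
  have h1 : commutator G ≤ (QuotientGroup.mk' K).ker :=
    Abelianization.commutator_subset_ker (QuotientGroup.mk' K)
  rw [QuotientGroup.ker_mk'] at h1
  have h2 : K.index ∣ (commutator G).index := Subgroup.index_dvd_of_le h1
  rw [hK] at h2
  exact even_iff_two_dvd.mpr h2

/-- A subgroup of order two equal to its centralizer forces a subgroup of index two. -/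
theorem even_index_of_two (P : Subgroup G) (hcard : Nat.card P = 2)
    (hcent : Subgroup.centralizer (P : Set G) ≤ P) : Even (commutator G).index := by
  haveI : Fact (Nat.Prime 2) := ⟨Nat.prime_two⟩
  set S := toSylow P Nat.prime_two hcard hcent with hS
  have hNC : Subgroup.normalizer ((S : Subgroup G) : Set G) ≤
      Subgroup.centralizer ((S : Subgroup G) : Set G) := by
    intro n hn
    rw [Subgroup.mem_centralizer_iff]
    intro y hy
    have hyP : y ∈ P := hy
    by_cases hy1 : y = 1
    · subst hy1; simp
    have h1 : n * y * n⁻¹ ∈ P := (Subgroup.mem_normalizer_iff.mp hn y).mp hyP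
    have h2 : n * y * n⁻¹ ≠ 1 := by
      intro h
      apply hy1
      have : y = n⁻¹ * (n * y * n⁻¹) * n := by group
      rw [this, h]; group
    obtain ⟨k, hk⟩ := PrimeTI.exists_pow P Nat.prime_two hcard hyP hy1 h1
    have hy2 : y ^ 2 = 1 := by
      have := orderOf_eq_of_mem P Nat.prime_two hcard hyP hy1
      rw [← this]; exact pow_orderOf_eq_one y
    have h3 : n * y * n⁻¹ = y := by
      rcases Nat.even_or_odd' k with ⟨j, hj | hj⟩
      · exfalso
        apply h2
        rw [hk, hj, pow_mul, hy2, one_pow]
      · rw [hk, hj, pow_succ, pow_mul, hy2, one_pow, one_mul]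
    calc y * n = (n * y * n⁻¹) * n := by rw [h3]
      _ = n * y := by group
  have hcomp := MonoidHom.ker_transferSylow_isComplement' S hNC
  have hidx : (MonoidHom.transferSylow S hNC).ker.index = 2 := by
    have := hcomp.symm.index_eq_card
    rw [this]
    exact hcard
  exact even_index_of_normal _ hidx

end Index

end Cfsg.Agent.Helper5.Pm1
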