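import Mathlib
import Cfsg.Agent.Lib.Helper5.FrobKer

/-!
# Characters of degree `p - 1` restricted to a Frobenius-like group with kernel of order `p`
(helper5)
-/

set_option autoImplicit false
set_option linter.unusedVariables false
set_option linter.unusedSectionVars false
set_option linter.style.haveILetI false

namespace Cfsg.Agent.Helper5.Pm1

open Cfsg Cfsg.Agent.Helper24 Cfsg.Agent.Helper5
open scoped ComplexConjugate

universe u

section Comb

variable {X : Type u} [Group X] [Fintype X] [Fintype (IrrCharacter X)]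

theorem classInner_comb (a b : IrrCharacter X → ℂ) :
    classInner (∑ ψ : IrrCharacter X, a ψ • (ψ : X → ℂ))
      (∑ ψ : IrrCharacter X, b ψ • (ψ : X → ℂ)) =
      ∑ ψ : IrrCharacter X, a ψ * conj (b ψ) := by
  classical
  rw [classInner_sum_left]
  refine Finset.sum_congr rfl fun ψ _ => ?_
  rw [classInner_smul_left, classInner_sum_right, Finset.sum_eq_single ψ]
  · rw [classInner_smul_right, irr_orthogonality', if_pos rfl, mul_one]
  · intro ψ' _ hne
    rw [classInner_smul_right, irr_orthogonality', if_neg (Ne.symm hne), mul_zero]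
  · intro h
    exact absurd (Finset.mem_univ ψ) h

theorem comb_apply (a : IrrCharacter X → ℂ) (x : X) :
    (∑ ψ : IrrCharacter X, a ψ • (ψ : X → ℂ)) x = ∑ ψ : IrrCharacter X, a ψ * (ψ : X → ℂ) x := by
  simp only [Finset.sum_apply, Pi.smul_apply, smul_eq_mul]

end Comb

section Arith

/-- the arithmetic core -/
theorem arith_core {p e t u Cs Q : ℕ} (he : 2 ≤ e) (h1 : p = e * t + 1) (h2 : p = e * Cs + u + 1)
    (h3 : Cs ≤ Q) (h4 : p * e * Q + p * u ^ 2 < p * e + (e * t) ^ 2) : u = 0 ∧ Q ≤ t := by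
  have hCt : Cs ≤ t := by
    by_contra h
    push Not at h
    have : e * t < e * Cs := by nlinarith
    omega
  obtain ⟨w, hw⟩ : ∃ w, t = Cs + w := ⟨t - Cs, by omega⟩
  have hu : u = e * w := by
    have : e * t = e * Cs + u := by omega
    rw [hw, mul_add] at this
    omega
  have hw0 : w = 0 := by
    by_contra hne
    have hw1 : 1 ≤ w := Nat.one_le_iff_ne_zero.mpr hne
    -- work in ℤ
    have h4' : (p : ℤ) * e * Q + p * (e * w) ^ 2 < p * e + (e * t) ^ 2 := by
      have := h4
      rw [hu] at this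
      exact_mod_cast this
    have hp : (p : ℤ) = e * t + 1 := by exact_mod_cast h1
    have ht : (t : ℤ) = Cs + w := by exact_mod_cast hw
    have hQ : (Cs : ℤ) ≤ Q := by exact_mod_cast h3
    have he' : (2 : ℤ) ≤ e := by exact_mod_cast he
    have hw' : (1 : ℤ) ≤ w := by exact_mod_cast hw1
    have hCs0 : (0 : ℤ) ≤ Cs := by positivity
    have hp0 : (0 : ℤ) < p := by rw [hp]; positivity
    -- p e (t - w) + p e^2 w^2 < p e + e^2 t^2
    have h5 : (p : ℤ) * e * (t - w) + p * (e * w) ^ 2 < p * e + (e * t) ^ 2 := by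
      have : (p : ℤ) * e * (t - w) ≤ p * e * Q := by
        apply mul_le_mul_of_nonneg_left _ (by positivity)
        rw [ht]; linarith
      linarith
    -- divide by e
    have h6 : (e : ℤ) * ((p : ℤ) * (t - w) + p * e * w ^ 2) < e * (p + t * (e * t)) := by
      nlinarith [h5]
    have h7 : (p : ℤ) * (t - w) + p * e * w ^ 2 < p + t * (e * t) :=
      lt_of_mul_lt_mul_left h6 (by positivity)
    have h8 : (p : ℤ) * e * w ^ 2 ≥ 2 * p * w := by
      have : (e : ℤ) * w ≥ 2 := by nlinarith
      nlinarith [mul_le_mul_of_nonneg_left this (by positivity : (0 : ℤ) ≤ p * w)]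
    have h9 : (t : ℤ) * (e * t) = t * (p - 1) := by rw [hp]; ring
    rw [h9] at h7
    have h10 : (p : ℤ) * w ≥ p := by nlinarith
    have ht0 : (0 : ℤ) ≤ t := by positivity
    nlinarith
  have htC : t = Cs := by rw [hw, hw0, add_zero]
  have hu0 : u = 0 := by rw [hu, hw0, mul_zero]
  refine ⟨hu0, ?_⟩
  by_contra hlt
  push Not at hlt
  have h4' : (p : ℤ) * e * Q < p * e + (e * t) ^ 2 := by
    have := h4
    rw [hu0] at this
    simp only [ne_eq, OfNat.ofNat_ne_zero, not_false_eq_true, zero_pow, mul_zero, add_zero] at this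
    exact_mod_cast this
  have hp : (p : ℤ) = e * t + 1 := by exact_mod_cast h1
  have hQ : (t : ℤ) + 1 ≤ Q := by exact_mod_cast hlt
  have he' : (2 : ℤ) ≤ e := by exact_mod_cast he
  have ht0 : (0 : ℤ) ≤ t := by positivity
  have hp0 : (0 : ℤ) < p := by rw [hp]; positivity
  have h5 : (p : ℤ) * e * (t + 1) ≤ p * e * Q :=
    mul_le_mul_of_nonneg_left hQ (by positivity)
  have h6 : (e : ℤ) * ((p : ℤ) * (t + 1)) < e * (p + t * (e * t)) := by nlinarith
  have h7 : (p : ℤ) * (t + 1) < p + t * (e * t) := lt_of_mul_lt_mul_left h6 (by positivity)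
  have h9 : (t : ℤ) * (e * t) = t * (p - 1) := by rw [hp]; ring
  rw [h9] at h7
  nlinarith

end Arith

end Cfsg.Agent.Helper5.Pm1
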