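import Mathlib
import Cfsg.Agent.Lib.Helper5.Pm1C

/-!
# Characters of degree `p - 1` restricted to a Frobenius-like group with kernel of order `p`:
the restriction (helper5)
-/

set_option autoImplicit false
set_option linter.unusedVariables false
set_option linter.unusedSectionVars false
set_option linter.style.haveILetI false

namespace Cfsg.Agent.Helper5.Pm1

open Cfsg Cfsg.Agent.Helper24 Cfsg.Agent.Helper5
open scoped ComplexConjugate

universe u

section Abs

variable {X : Type u} [Group X] [Fintype X] [Fintype (IrrCharacter X)]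
  (K : Subgroup X) [hK : K.Normal] [Fintype K]
  (hF : ∀ k ∈ K, k ≠ 1 → ∀ x : X, x * k = k * x → x ∈ K)
  (hab : ∀ a b : K, a * b = b * a)

open Classical in
include hF hab in
/-- the relevant characters sum to `-1` on `K ∖ 1` -/
theorem sum_rel_apply_abs (hidx0 : K.index ≠ 0) {k : X} (hk : k ∈ K) (hk1 : k ≠ 1) :
    ∑ η : IrrCharacter X, (if FrobKer.Rel K (η : X → ℂ) then (η : X → ℂ) k else 0) = -1 := by
  have h0 := FrobKer.sum_deg_mul (X := X) hk1
  have hsplit : ∀ η : IrrCharacter X, (η : X → ℂ) 1 * (η : X → ℂ) k =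
      (K.index : ℂ) * (if FrobKer.Rel K (η : X → ℂ) then (η : X → ℂ) k else 0) +
      (if FrobKer.Rel K (η : X → ℂ) then 0 else (η : X → ℂ) 1 * (η : X → ℂ) 1) := by
    intro η
    by_cases hr : FrobKer.Rel K (η : X → ℂ)
    · rw [if_pos hr, if_pos hr, add_zero, FrobKer.degree_of_rel_of_comm K hF hab η.2 hr]
    · rw [if_neg hr, if_neg hr, mul_zero, zero_add, FrobKer.not_rel hr hk]
  rw [Finset.sum_congr rfl (fun η _ => hsplit η), Finset.sum_add_distrib, ← Finset.mul_sum,
    FrobKer.sum_nonrel_sq K] at h0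
  have hne : (K.index : ℂ) ≠ 0 := Nat.cast_ne_zero.mpr hidx0
  have h1 : (K.index : ℂ) *
      (∑ η : IrrCharacter X, (if FrobKer.Rel K (η : X → ℂ) then (η : X → ℂ) k else 0) + 1) = 0 := by
    rw [mul_add, mul_one]; exact h0
  rcases mul_eq_zero.mp h1 with h | h
  · exact absurd h hne
  · exact eq_neg_of_add_eq_zero_left h

open Classical in
include hF hab in
/-- A character of degree `p - 1` whose values on `K` have small square sum restricts to the sum
of the relevant characters. -/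
theorem restrict_structure {p e t : ℕ} (hKcard : Nat.card K = p) (hidx : K.index = e)
    (he : 2 ≤ e) (het : e * t + 1 = p) {φ : X → ℂ} (hφ : IsCharacter X φ)
    (hdeg : φ 1 = (p : ℂ) - 1)
    (H : ∑ k : K, Complex.normSq (φ k) < (p : ℝ) * e + ((p : ℝ) - 1) ^ 2) :
    (∀ k ∈ K, k ≠ 1 → φ k = -1) ∧ (∀ x, x ∉ K → φ x = 0) := by
  obtain ⟨hm, hdec⟩ := isCharacter_decomp hφ
  choose c hc using hm
  set a : IrrCharacter X → ℂ := fun ψ => if FrobKer.Rel K (ψ : X → ℂ) then (c ψ : ℂ) else 0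
    with ha
  set b : IrrCharacter X → ℂ := fun ψ => if FrobKer.Rel K (ψ : X → ℂ) then 0 else (c ψ : ℂ)
    with hb
  set φ₁ : X → ℂ := ∑ ψ : IrrCharacter X, a ψ • (ψ : X → ℂ) with hφ₁
  set φ₀ : X → ℂ := ∑ ψ : IrrCharacter X, b ψ • (ψ : X → ℂ) with hφ₀
  have hsplit : φ = φ₁ + φ₀ := by
    conv_lhs => rw [hdec]
    rw [hφ₁, hφ₀, ← Finset.sum_add_distrib]
    refine Finset.sum_congr rfl fun ψ _ => ?_
    rw [hc ψ, ← add_smul]
    congr 1
    simp only [ha, hb]
    split_ifs <;> simp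
  set u : ℕ := ∑ ψ : IrrCharacter X,
    if FrobKer.Rel K (ψ : X → ℂ) then 0 else c ψ * charDegree (ψ : X → ℂ) with hu
  set Cs : ℕ := ∑ ψ : IrrCharacter X, if FrobKer.Rel K (ψ : X → ℂ) then c ψ else 0 with hCs
  set Q : ℕ := ∑ ψ : IrrCharacter X, if FrobKer.Rel K (ψ : X → ℂ) then (c ψ) ^ 2 else 0 with hQ
  -- values of `φ₀` on `K`
  have hφ₀K : ∀ k ∈ K, φ₀ k = (u : ℂ) := by
    intro k hk
    rw [hφ₀, comb_apply, hu]
    push_cast
    refine Finset.sum_congr rfl fun ψ _ => ?_
    by_cases hr : FrobKer.Rel K (ψ : X → ℂ)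
    · simp only [hb, if_pos hr, zero_mul]
    · simp only [hb, if_neg hr]
      rw [FrobKer.not_rel hr hk, irr_one_eq_charDegree ψ.2]
  -- `φ₁` vanishes off `K`
  have hφ₁off : ∀ x, x ∉ K → φ₁ x = 0 := by
    intro x hx
    rw [hφ₁, comb_apply]
    refine Finset.sum_eq_zero fun ψ _ => ?_
    by_cases hr : FrobKer.Rel K (ψ : X → ℂ)
    · rw [FrobKer.vanish_off K hF ψ.2 hr hx, mul_zero]
    · simp only [ha, if_neg hr, zero_mul]
  have hφ₁one : φ₁ 1 = (e : ℂ) * (Cs : ℂ) := by
    rw [hφ₁, comb_apply, hCs]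
    push_cast
    rw [Finset.mul_sum]
    refine Finset.sum_congr rfl fun ψ _ => ?_
    by_cases hr : FrobKer.Rel K (ψ : X → ℂ)
    · simp only [ha, if_pos hr]
      rw [FrobKer.degree_of_rel_of_comm K hF hab ψ.2 hr, hidx]
      ring
    · simp only [ha, if_neg hr, zero_mul, mul_zero]
  have hφ₁sum : ∑ k : K, φ₁ k = 0 := by
    simp only [hφ₁, comb_apply]
    rw [Finset.sum_comm]
    refine Finset.sum_eq_zero fun ψ _ => ?_
    rw [← Finset.mul_sum]
    by_cases hr : FrobKer.Rel K (ψ : X → ℂ)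
    · rw [FrobKer.sum_K_eq_zero K ψ.2 hr, mul_zero]
    · simp only [ha, if_neg hr, zero_mul]
  have hφ₁norm : ∑ k : K, φ₁ k * conj (φ₁ k) = (Nat.card X : ℂ) * (Q : ℂ) := by
    have h1 : classInner φ₁ φ₁ = (Q : ℂ) := by
      rw [hφ₁, classInner_comb, hQ]
      push_cast
      refine Finset.sum_congr rfl fun ψ _ => ?_
      by_cases hr : FrobKer.Rel K (ψ : X → ℂ)
      · simp only [ha, if_pos hr, Complex.conj_natCast]
        ring
      · simp only [ha, if_neg hr, zero_mul]
    have h2 : ∑ x : X, φ₁ x * conj (φ₁ x) = (Nat.card X : ℂ) * (Q : ℂ) := by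
      rw [← h1]
      unfold classInner
      have hX : (Nat.card X : ℂ) ≠ 0 := by
        exact_mod_cast (Nat.card_pos (α := X)).ne'
      rw [← mul_assoc, mul_inv_cancel₀ hX, one_mul]
    rw [← h2, ← FrobKer.sum_ite_mem K (fun x => φ₁ x * conj (φ₁ x))]
    refine Finset.sum_congr rfl fun x _ => ?_
    by_cases hx : x ∈ K
    · rw [if_pos hx]
    · rw [if_neg hx, hφ₁off x hx, zero_mul]
  -- the order of `X`
  have hXcard : Nat.card X = p * e := by
    rw [← K.card_mul_index, hKcard, hidx]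
  -- the degree
  have hdeg' : p = e * Cs + u + 1 := by
    have h1 : φ 1 = φ₁ 1 + φ₀ 1 := by rw [hsplit]; rfl
    rw [hdeg, hφ₁one, hφ₀K 1 K.one_mem] at h1
    have h2 : (p : ℂ) = ((e * Cs + u + 1 : ℕ) : ℂ) := by
      push_cast
      linear_combination h1
    exact_mod_cast h2
  -- the square sum
  have hsq : ∑ k : K, Complex.normSq (φ k) = (p : ℝ) * e * Q + p * (u : ℝ) ^ 2 := by
    have h1 : ∀ k : K, Complex.normSq (φ k) =
        Complex.normSq (φ₁ k) + 2 * (u : ℝ) * (φ₁ k).re + (u : ℝ) ^ 2 := by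
      intro k
      have : φ k = φ₁ k + (u : ℂ) := by
        rw [hsplit, Pi.add_apply, hφ₀K k k.2]
      rw [this, Complex.normSq_add]
      simp only [Complex.conj_natCast, Complex.normSq_natCast, Complex.mul_re, Complex.natCast_re,
        Complex.natCast_im, mul_zero, sub_zero]
      ring
    rw [Finset.sum_congr rfl (fun k _ => h1 k), Finset.sum_add_distrib, Finset.sum_add_distrib,
      ← Finset.mul_sum]
    have h2 : ∑ k : K, (φ₁ k).re = 0 := by
      have := congrArg Complex.re hφ₁sum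
      rw [Complex.re_sum] at this
      simpa using this
    have h3 : ∑ k : K, Complex.normSq (φ₁ k) = (p : ℝ) * e * Q := by
      have h4 : ((∑ k : K, Complex.normSq (φ₁ k) : ℝ) : ℂ) = (((p : ℝ) * e * Q : ℝ) : ℂ) := by
        push_cast
        have h5 : ∀ k : K, ((Complex.normSq (φ₁ k) : ℝ) : ℂ) = φ₁ k * conj (φ₁ k) :=
          fun k => (Complex.mul_conj (φ₁ k)).symm
        rw [Finset.sum_congr rfl (fun k _ => h5 k), hφ₁norm, hXcard]
        push_cast
        ring
      exact_mod_cast h4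
    rw [h2, h3, Finset.sum_const, Finset.card_univ, ← Nat.card_eq_fintype_card, hKcard]
    simp only [nsmul_eq_mul, mul_zero, add_zero]
  -- `Cs ≤ Q`
  have hCQ : Cs ≤ Q := by
    rw [hCs, hQ]
    refine Finset.sum_le_sum fun ψ _ => ?_
    by_cases hr : FrobKer.Rel K (ψ : X → ℂ)
    · rw [if_pos hr, if_pos hr]
      exact Nat.le_self_pow (by norm_num) _
    · rw [if_neg hr, if_neg hr]
  -- arithmetic
  have hH : p * e * Q + p * u ^ 2 < p * e + (e * t) ^ 2 := by
    rw [hsq] at H
    have h1 : ((p : ℝ) - 1) = ((e * t : ℕ) : ℝ) := by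
      rw [← het]; push_cast; ring
    rw [h1] at H
    exact_mod_cast H
  obtain ⟨hu0, hQt⟩ := arith_core he het.symm hdeg' hCQ hH
  have hCst : Cs = t := by
    rw [hu0] at hdeg'
    have : e * Cs = e * t := by omega
    exact Nat.eq_of_mul_eq_mul_left (by omega) this
  -- all relevant multiplicities are at most one
  have hc1 : ∀ ψ : IrrCharacter X, FrobKer.Rel K (ψ : X → ℂ) → c ψ ≤ 1 := by
    intro ψ₀ hr₀
    by_contra hlt
    push Not at hlt
    have : Cs < Q := by
      rw [hCs, hQ]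
      apply Finset.sum_lt_sum
      · intro ψ _
        by_cases hr : FrobKer.Rel K (ψ : X → ℂ)
        · rw [if_pos hr, if_pos hr]
          exact Nat.le_self_pow (by norm_num) _
        · rw [if_neg hr, if_neg hr]
      · refine ⟨ψ₀, Finset.mem_univ _, ?_⟩
        rw [if_pos hr₀, if_pos hr₀]
        nlinarith
    omega
  -- the number of relevant characters
  have hcount : (Finset.univ.filter (fun ψ : IrrCharacter X => FrobKer.Rel K (ψ : X → ℂ))).card
      = t := by
    have h1 := FrobKer.card_K_of_comm K hF hab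
    rw [hKcard, hidx, Nat.card_eq_fintype_card, Fintype.card_subtype] at h1
    have : (Finset.univ.filter (fun ψ : IrrCharacter X => FrobKer.Rel K (ψ : X → ℂ))).card * e
        = t * e := by
      rw [← het] at h1
      linarith
    exact Nat.eq_of_mul_eq_mul_right (by omega) this
  have hc2 : ∀ ψ : IrrCharacter X, FrobKer.Rel K (ψ : X → ℂ) → c ψ = 1 := by
    intro ψ₀ hr₀
    by_contra hne
    have h0 : c ψ₀ = 0 := by
      have := hc1 ψ₀ hr₀
      omega
    have : Cs < t := by
      rw [← hcount, Finset.card_filter, hCs]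
      apply Finset.sum_lt_sum
      · intro ψ _
        by_cases hr : FrobKer.Rel K (ψ : X → ℂ)
        · rw [if_pos hr, if_pos hr]
          exact hc1 ψ hr
        · rw [if_neg hr, if_neg hr]
      · refine ⟨ψ₀, Finset.mem_univ _, ?_⟩
        rw [if_pos hr₀, if_pos hr₀, h0]
        norm_num
    omega
  -- the irrelevant multiplicities vanish
  have hc0 : ∀ ψ : IrrCharacter X, ¬ FrobKer.Rel K (ψ : X → ℂ) → c ψ = 0 := by
    intro ψ₀ hr₀
    have h1 : (if FrobKer.Rel K (ψ₀ : X → ℂ) then 0 else c ψ₀ * charDegree (ψ₀ : X → ℂ)) = 0 := by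
      have := Finset.sum_eq_zero_iff.mp (hu0 ▸ hu.symm : ∑ ψ : IrrCharacter X,
        (if FrobKer.Rel K (ψ : X → ℂ) then 0 else c ψ * charDegree (ψ : X → ℂ)) = 0) ψ₀
        (Finset.mem_univ _)
      exact this
    rw [if_neg hr₀] at h1
    rcases Nat.mul_eq_zero.mp h1 with h | h
    · exact h
    · exact absurd h (charDegree_pos ψ₀.2).ne'
  have hφ₀zero : φ₀ = 0 := by
    rw [hφ₀]
    refine Finset.sum_eq_zero fun ψ _ => ?_
    by_cases hr : FrobKer.Rel K (ψ : X → ℂ)
    · simp only [hb, if_pos hr, zero_smul]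
    · simp only [hb, if_neg hr, hc0 ψ hr, Nat.cast_zero, zero_smul]
  have hφeq : ∀ x, φ x = ∑ ψ : IrrCharacter X,
      (if FrobKer.Rel K (ψ : X → ℂ) then (ψ : X → ℂ) x else 0) := by
    intro x
    rw [hsplit, hφ₀zero, add_zero, hφ₁, comb_apply]
    refine Finset.sum_congr rfl fun ψ _ => ?_
    by_cases hr : FrobKer.Rel K (ψ : X → ℂ)
    · simp only [ha, if_pos hr, hc2 ψ hr, Nat.cast_one, one_mul]
    · simp only [ha, if_neg hr, zero_mul]
  constructor
  · intro k hk hk1
    rw [hφeq k]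
    exact sum_rel_apply_abs K hF hab (by rw [hidx]; omega) hk hk1
  · intro x hx
    rw [hsplit, hφ₀zero, add_zero]
    exact hφ₁off x hx

end Abs

end Cfsg.Agent.Helper5.Pm1
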