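import Mathlib
import Cfsg.Agent.Lib.Helper5.Pm1D
import Cfsg.Agent.Lib.Helper5.Pm1A
import Cfsg.Agent.Lib.Helper5.PrimeTIb
import Cfsg.Agent.Lib.Helper5.TIBound

/-!
# Irreducible characters of degree `p - 1` of a group with a self-centralizing subgroup of
order `p`: the values on the normalizer (helper5)
-/

set_option autoImplicit false
set_option linter.unusedVariables false
set_option linter.unusedSectionVars false
set_option linter.style.haveILetI false

namespace Cfsg.Agent.Helper5.Pm1

open Cfsg Cfsg.Agent.Helper24 Cfsg.Agent.Helper5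
open scoped ComplexConjugate

universe u

section Conc

variable {G : Type u} [Group G] [Fintype G] (P : Subgroup G) {p e t : ℕ}
  (hp : p.Prime) (hcard : Nat.card P = p) (hcent : Subgroup.centralizer (P : Set G) ≤ P)
  (hidx : (P.subgroupOf (Subgroup.normalizer (P : Set G))).index = e)

theorem sum_subgroupOf_eq (N : Subgroup G) (hPN : P ≤ N) [Fintype (P.subgroupOf N)]
    [DecidablePred (· ∈ P)] (f : G → ℝ) :
    ∑ k : P.subgroupOf N, f ((k : N) : G) = ∑ g ∈ Finset.univ.filter (· ∈ P), f g := by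
  refine Finset.sum_bij (fun k _ => ((k : N) : G)) ?_ ?_ ?_ ?_
  · intro k _
    rw [Finset.mem_filter]
    exact ⟨Finset.mem_univ _, Subgroup.mem_subgroupOf.mp k.2⟩
  · intro a _ b _ h
    exact Subtype.ext (Subtype.ext h)
  · intro g hg
    rw [Finset.mem_filter] at hg
    exact ⟨⟨⟨g, hPN hg.2⟩, Subgroup.mem_subgroupOf.mpr hg.2⟩, Finset.mem_univ _, rfl⟩
  · intro k _
    rfl

include hp hcard hidx in
/-- the square sum of an irreducible character over `P` -/
theorem sum_normSq_lt (he : 0 < e) {χ : G → ℂ} (hχ : IsIrrCharacter G χ)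
    (hdeg : χ 1 = (p : ℂ) - 1) [Fintype (P.subgroupOf (Subgroup.normalizer (P : Set G)))] :
    ∑ k : P.subgroupOf (Subgroup.normalizer (P : Set G)),
      Complex.normSq (χ ((k : ↥(Subgroup.normalizer (P : Set G))) : G)) <
      (p : ℝ) * e + ((p : ℝ) - 1) ^ 2 := by
  classical
  have hcf := isClassFunction_of_isIrrCharacter hχ
  have key := card_mul_sum_le_of_conj (Subgroup.normalizer (P : Set G))
    (fun g => Complex.normSq (χ g)) (fun g => Complex.normSq_nonneg _)
    (fun g x => by rw [hcf g x]) (fun g => g ∈ P ∧ g ≠ 1) (fun g => g ≠ 1)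
    (by
      intro g x₀ x h₀ h₁
      have hc : (x⁻¹ * x₀) * (x₀⁻¹ * g * x₀) * (x⁻¹ * x₀)⁻¹ = x⁻¹ * g * x := by group
      have := mem_normalizer_of_conj_mem P hp hcard h₀.1 h₀.2 (by rw [hc]; exact h₁.1)
      have h2 := (Subgroup.normalizer (P : Set G)).inv_mem this
      have h3 : (x⁻¹ * x₀)⁻¹ = x₀⁻¹ * x := by group
      rw [h3] at h2
      exact h2)
    (by
      intro g x h h1
      apply h.2
      rw [h1]; group)
  -- the sum over nonidentity elements
  have h1 : ∑ g ∈ Finset.univ.filter (fun g : G => g ≠ 1), Complex.normSq (χ g) =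
      (Nat.card G : ℝ) - ((p : ℝ) - 1) ^ 2 := by
    have h2 := sum_normSq_irr hχ
    rw [← Finset.add_sum_erase Finset.univ _ (Finset.mem_univ (1 : G))] at h2
    have h3 : Finset.univ.filter (fun g : G => g ≠ 1) = Finset.univ.erase 1 := by
      ext g; simp
    rw [h3]
    have h4 : Complex.normSq (χ 1) = ((p : ℝ) - 1) ^ 2 := by
      rw [hdeg]
      have : ((p : ℂ) - 1) = (((p : ℝ) - 1 : ℝ) : ℂ) := by push_cast; ring
      rw [this, Complex.normSq_ofReal]; ring
    rw [h4] at h2
    linarith
  rw [h1] at key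
  -- the order of the normalizer
  have hN : (Nat.card ↥(Subgroup.normalizer (P : Set G)) : ℝ) = (p : ℝ) * e := by
    have := Subgroup.card_mul_index (P.subgroupOf (Subgroup.normalizer (P : Set G)))
    rw [hidx, PrimeTI.card_subgroupOf P hcard] at this
    rw [← this]; push_cast; ring
  rw [hN] at key
  -- split the sum over `P`
  rw [sum_subgroupOf_eq P _ Subgroup.le_normalizer (fun g => Complex.normSq (χ g))]
  have h5 : Finset.univ.filter (fun g : G => g ∈ P ∧ g ≠ 1) =
      (Finset.univ.filter (fun g : G => g ∈ P)).erase 1 := by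
    ext g; simp [and_comm]
  have h6 : (1 : G) ∈ Finset.univ.filter (fun g : G => g ∈ P) := by
    rw [Finset.mem_filter]; exact ⟨Finset.mem_univ _, P.one_mem⟩
  rw [← Finset.add_sum_erase _ _ h6, ← h5]
  have h4 : Complex.normSq (χ 1) = ((p : ℝ) - 1) ^ 2 := by
    rw [hdeg]
    have : ((p : ℂ) - 1) = (((p : ℝ) - 1 : ℝ) : ℂ) := by push_cast; ring
    rw [this, Complex.normSq_ofReal]; ring
  rw [h4]
  set S := ∑ g ∈ Finset.univ.filter (fun g : G => g ∈ P ∧ g ≠ 1), Complex.normSq (χ g) with hS
  have hG0 : (0 : ℝ) < Nat.card G := by exact_mod_cast Nat.card_pos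
  have hp1 : (0 : ℝ) < ((p : ℝ) - 1) ^ 2 := by
    have : (2 : ℝ) ≤ p := by exact_mod_cast hp.two_le
    have : (0 : ℝ) < (p : ℝ) - 1 := by linarith
    positivity
  have hpe : (0 : ℝ) < (p : ℝ) * e := by
    have : (0 : ℝ) < p := by exact_mod_cast hp.pos
    have : (0 : ℝ) < e := by exact_mod_cast he
    positivity
  have h7 : (Nat.card G : ℝ) * S < (Nat.card G : ℝ) * ((p : ℝ) * e) := by
    nlinarith
  have h8 : S < (p : ℝ) * e := lt_of_mul_lt_mul_left h7 hG0.le
  linarith

include hp hcard hcent hidx in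
/-- The values on the normalizer of an irreducible character of degree `p - 1`. -/
theorem values_of_degree (he : 2 ≤ e) (het : e * t + 1 = p) {χ : G → ℂ}
    (hχ : IsIrrCharacter G χ) (hdeg : χ 1 = (p : ℂ) - 1) :
    (∀ k ∈ P, k ≠ 1 → χ k = -1) ∧
      (∀ x ∈ Subgroup.normalizer (P : Set G), x ∉ P → χ x = 0) := by
  classical
  letI : Fintype ↥(Subgroup.normalizer (P : Set G)) := Fintype.ofFinite _
  letI : Fintype ↥(P.subgroupOf (Subgroup.normalizer (P : Set G))) := Fintype.ofFinite _
  letI : Fintype (IrrCharacter ↥(Subgroup.normalizer (P : Set G))) := irrFintype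
  haveI : (P.subgroupOf (Subgroup.normalizer (P : Set G))).Normal := Subgroup.normal_in_normalizer
  have hF := PrimeTI.hF' P hp hcard hcent
  have hab := PrimeTI.hab' P hp hcard
  have hφ := isCharacter_restrict (Subgroup.normalizer (P : Set G))
    (isCharacter_of_isIrrCharacter hχ)
  have H := sum_normSq_lt P hp hcard hidx (by omega) hχ hdeg
  obtain ⟨h1, h2⟩ := restrict_structure (P.subgroupOf (Subgroup.normalizer (P : Set G))) hF hab
    (PrimeTI.card_subgroupOf P hcard) hidx he het hφ (by simpa using hdeg) H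
  constructor
  · intro k hk hk1
    have := h1 ⟨k, Subgroup.le_normalizer hk⟩ (Subgroup.mem_subgroupOf.mpr hk)
      (fun h => hk1 (congrArg Subtype.val h))
    exact this
  · intro x hx hxP
    have := h2 ⟨x, hx⟩ (fun h => hxP (Subgroup.mem_subgroupOf.mp h))
    exact this

end Conc

end Cfsg.Agent.Helper5.Pm1
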