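import Mathlib
import Cfsg.Agent.Lib.Helper24.DetTrace
import Cfsg.Agent.Lib.Helper5.Pm1B

/-!
# The determinant of an element of even order whose nontrivial powers have trace zero (helper5)
-/

set_option autoImplicit false
set_option linter.unusedVariables false
set_option linter.unusedSectionVars false
set_option linter.style.haveILetI false

namespace Cfsg.Agent.Helper5.Pm1

open Cfsg Cfsg.Agent.Helper24 Module

universe u

section Det

variable {V : Type*} [AddCommGroup V] [Module ℂ V] [FiniteDimensional ℂ V]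

/-- An endomorphism of even order `n` all of whose powers `A ^ i`, `0 < i < n`, have trace zero,
on a space of dimension `m * n`, has determinant `(-1) ^ m`. -/
theorem det_of_trace_zero (A : V →ₗ[ℂ] V) {n m : ℕ} (hn : 0 < n) (hne : Even n)
    (hA : A ^ n = 1)
    (htr : ∀ i, 0 < i → i < n → LinearMap.trace ℂ V (A ^ i) = 0)
    (hdim : finrank ℂ V = m * n) : LinearMap.det A = (-1) ^ m := by
  have hω := Complex.isPrimitiveRoot_exp n hn.ne'
  set ω := Complex.exp (2 * Real.pi * Complex.I / n) with hωdef
  rw [DetTrace.det_eq_prod_specIdem A hn hA hω]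
  have hn0 : (n : ℂ) ≠ 0 := Nat.cast_ne_zero.mpr hn.ne'
  have hrank : ∀ j : ℕ, finrank ℂ (LinearMap.range (DetTrace.specIdem A n (ω ^ j))) = m := by
    intro j
    have hroot : (ω ^ j) ^ n = 1 := by
      rw [← pow_mul, mul_comm, pow_mul, hω.pow_eq_one, one_pow]
    have e1 := DetTrace.finrank_range_specIdem A hn hA hroot
    have e2 : ∑ i ∈ Finset.range n, ((ω ^ j)⁻¹) ^ i * LinearMap.trace ℂ V (A ^ i) =
        (finrank ℂ V : ℂ) := by
      rw [Finset.sum_eq_single 0]
      · rw [pow_zero, pow_zero, one_mul]
        exact LinearMap.trace_one ℂ V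
      · intro i hi hi0
        rw [htr i (Nat.pos_of_ne_zero hi0) (Finset.mem_range.mp hi), mul_zero]
      · intro h
        exact absurd (Finset.mem_range.mpr hn) h
    rw [e2, hdim] at e1
    have e3 : (finrank ℂ (LinearMap.range (DetTrace.specIdem A n (ω ^ j))) : ℂ) = (m : ℂ) := by
      rw [e1]; push_cast; field_simp
    exact_mod_cast e3
  rw [Finset.prod_congr rfl (fun j _ => by rw [hrank j])]
  rw [Finset.prod_pow, Finset.prod_pow_eq_pow_sum]
  congr 1
  obtain ⟨h, hh⟩ := hne
  have hh' : n = 2 * h := by omega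
  have hsum : ∑ j ∈ Finset.range n, j = h * (2 * h - 1) := by
    have := Finset.sum_range_id_mul_two n
    rw [hh'] at this ⊢
    have h2 : (∑ i ∈ Finset.range (2 * h), i) * 2 = (h * (2 * h - 1)) * 2 := by
      rw [this]; ring
    exact Nat.eq_of_mul_eq_mul_right (by norm_num) h2
  rw [hsum, pow_mul]
  have hh0 : 0 < h := by omega
  have hωh : ω ^ h = -1 := by
    have h1 : ω ^ h * ω ^ h = 1 := by
      rw [← pow_add, ← two_mul, ← hh']; exact hω.pow_eq_one
    rcases mul_self_eq_one_iff.mp h1 with h2 | h2
    · exfalso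
      exact hω.pow_ne_one_of_pos_of_lt hh0.ne' (by omega) h2
    · exact h2
  rw [hωh]
  have : Odd (2 * h - 1) := by
    rw [Nat.odd_iff]; omega
  exact this.neg_one_pow

end Det

section Rep

variable {G : Type u} [Group G] [Finite G]

/-- If an irreducible character of degree `m * s`, `m` odd and `s` even, vanishes on the
nonidentity powers of an element of order `s`, then the commutator subgroup has even index. -/
theorem even_index_of_vanishing {χ : G → ℂ} (hχ : IsCharacter G χ) (y : G) {s m : ℕ}
    (hs : Even s) (hs0 : 0 < s) (hy : orderOf y = s) (hm : Odd m)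
    (hdeg : χ 1 = ((m * s : ℕ) : ℂ))
    (hvan : ∀ i, 0 < i → i < s → χ (y ^ i) = 0) : Even (commutator G).index := by
  obtain ⟨n, R, hR⟩ := hχ
  have hn : n = m * s := by
    rw [← hR, Representation.char_one] at hdeg
    have : finrank ℂ (Fin n → ℂ) = m * s := by exact_mod_cast hdeg
    simpa using this
  set δ : G →* ℂˣ := (LinearMap.det.comp R).toHomUnits with hδ
  apply even_index_of_hom δ y
  apply Units.ext
  rw [hδ, MonoidHom.coe_toHomUnits]
  show LinearMap.det (R y) = ((-1 : ℂˣ) : ℂ)
  have hA : (R y) ^ s = 1 := by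
    rw [← map_pow, ← hy, pow_orderOf_eq_one, map_one]
  have htr : ∀ i, 0 < i → i < s → LinearMap.trace ℂ (Fin n → ℂ) ((R y) ^ i) = 0 := by
    intro i hi his
    rw [← map_pow]
    have := hvan i hi his
    rw [← hR] at this
    exact this
  rw [det_of_trace_zero (R y) hs0 hs hA htr (by simpa using hn), hm.neg_one_pow]
  simp

end Rep

end Cfsg.Agent.Helper5.Pm1
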