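import Mathlib

set_option autoImplicit false

namespace Cfsg.Agent.Helper5.PolarRad

open Subgroup

variable {G : Type*} [Group G]

/-- `X` and `Y` commute elementwise. -/
def Perp (X Y : Subgroup G) : Prop := X ≤ centralizer (Y : Set G)

theorem perp_iff {X Y : Subgroup G} : Perp X Y ↔ ∀ x ∈ X, ∀ y ∈ Y, x * y = y * x := by
  constructor
  · intro h x hx y hy
    exact ((mem_centralizer_iff.1 (h hx)) y hy).symm
  · intro h x hx
    exact mem_centralizer_iff.2 (fun y hy => (h x hx y hy).symm)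

theorem Perp.symm {X Y : Subgroup G} (h : Perp X Y) : Perp Y X :=
  le_centralizer_iff.1 h

theorem Perp.sup_left {X Y W : Subgroup G} (h1 : Perp X W) (h2 : Perp Y W) : Perp (X ⊔ Y) W :=
  sup_le h1 h2

theorem Perp.mono_left {X X' Y : Subgroup G} (h : Perp X Y) (hle : X' ≤ X) : Perp X' Y :=
  le_trans hle h

theorem Perp.mono_right {X Y Y' : Subgroup G} (h : Perp X Y) (hle : Y' ≤ Y) : Perp X Y' :=
  (h.symm.mono_left hle).symm

/-- The hypotheses of the polar-space lemma. -/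
structure Hyp (p : ℕ) (K : Set (Subgroup G)) : Prop where
  hp : p.Prime
  hK : ∀ X ∈ K, Nat.card ↥X = p
  hKc : ∀ X ∈ K, ∀ g : G, X.map (MulAut.conj g).toMonoidHom ∈ K
  ha : ∀ X ∈ K, ∀ Y ∈ K, X ≠ Y → Perp X Y →
      ∀ Z : Subgroup G, Z ≤ X ⊔ Y → Nat.card ↥Z = p → Z ∈ K
  hb : ∀ X ∈ K, ∀ Y ∈ K, X ≠ Y → Perp X Y →
      ∀ W ∈ K, (X ⊔ Y) ⊓ centralizer (W : Set G) ≠ ⊥

section prime

variable {p : ℕ}

theorem orderOf_eq_of_mem (hp : p.Prime) {X : Subgroup G} (hX : Nat.card ↥X = p) {x : G}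
    (hx : x ∈ X) (hx1 : x ≠ 1) : orderOf x = p := by
  have h1 : orderOf x ∣ p := by
    have := Subgroup.orderOf_dvd_natCard X hx
    rwa [hX] at this
  rcases (Nat.dvd_prime hp).1 h1 with h | h
  · exact absurd (orderOf_eq_one_iff.1 h) hx1
  · exact h

theorem pow_eq_one_of_mem {X : Subgroup G} (hX : Nat.card ↥X = p) {x : G}
    (hx : x ∈ X) : x ^ p = 1 := by
  have := Subgroup.orderOf_dvd_natCard X hx
  rw [hX] at this
  exact orderOf_dvd_iff_pow_eq_one.1 this

theorem eq_zpowers_of_mem (hp : p.Prime) {X : Subgroup G} (hX : Nat.card ↥X = p) {x : G}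
    (hx : x ∈ X) (hx1 : x ≠ 1) : X = zpowers x := by
  haveI hfin : Finite ↥X := Nat.finite_of_card_ne_zero (by rw [hX]; exact hp.ne_zero)
  have hle : zpowers x ≤ X := (zpowers_le).2 hx
  symm
  apply Subgroup.eq_of_le_of_card_ge hle
  rw [Nat.card_zpowers, orderOf_eq_of_mem hp hX hx hx1, hX]

theorem exists_ne_one (hp : p.Prime) {X : Subgroup G} (hX : Nat.card ↥X = p) :
    ∃ x ∈ X, x ≠ 1 := by
  by_contra hcon
  push_neg at hcon
  have : X = ⊥ := (Subgroup.eq_bot_iff_forall X).2 hcon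
  rw [this, Subgroup.card_bot] at hX
  exact hp.one_lt.ne hX

theorem perp_self (hp : p.Prime) {X : Subgroup G} (hX : Nat.card ↥X = p) : Perp X X := by
  obtain ⟨x, hx, hx1⟩ := exists_ne_one hp hX
  have hXz := eq_zpowers_of_mem hp hX hx hx1
  rw [perp_iff]
  intro a ha b hb
  rw [hXz] at ha hb
  obtain ⟨i, rfl⟩ := mem_zpowers_iff.1 ha
  obtain ⟨j, rfl⟩ := mem_zpowers_iff.1 hb
  exact ((Commute.refl x).zpow_zpow i j).eq

theorem inf_eq_bot_of_ne (hp : p.Prime) {X Y : Subgroup G} (hX : Nat.card ↥X = p)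
    (hY : Nat.card ↥Y = p) (hne : X ≠ Y) : X ⊓ Y = ⊥ := by
  rw [Subgroup.eq_bot_iff_forall]
  intro g hg
  by_contra hg1
  exact hne ((eq_zpowers_of_mem hp hX hg.1 hg1).trans (eq_zpowers_of_mem hp hY hg.2 hg1).symm)

theorem mem_sup_of_perp {X Y : Subgroup G} (h : Perp X Y) {g : G} :
    g ∈ X ⊔ Y ↔ ∃ x ∈ X, ∃ y ∈ Y, g = x * y := by
  have comm : ∀ (m : ↥X) (n : ↥Y), Commute (X.subtype m) (Y.subtype n) := fun m n =>
    (perp_iff.1 h) m.1 m.2 n.1 n.2
  have hr := MonoidHom.noncommCoprod_range X.subtype Y.subtype comm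
  rw [Subgroup.range_subtype, Subgroup.range_subtype] at hr
  rw [← hr, MonoidHom.mem_range]
  constructor
  · rintro ⟨⟨x, y⟩, rfl⟩
    exact ⟨x.1, x.2, y.1, y.2, by simp⟩
  · rintro ⟨x, hx, y, hy, rfl⟩
    exact ⟨(⟨x, hx⟩, ⟨y, hy⟩), by simp⟩

theorem card_sup_of_perp (hp : p.Prime) {X Y : Subgroup G} (hX : Nat.card ↥X = p)
    (hY : Nat.card ↥Y = p) (hne : X ≠ Y) (h : Perp X Y) : Nat.card ↥(X ⊔ Y) = p * p := by
  have comm : ∀ (m : ↥X) (n : ↥Y), Commute (X.subtype m) (Y.subtype n) := fun m n =>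
    (perp_iff.1 h) m.1 m.2 n.1 n.2
  have hinj : Function.Injective (MonoidHom.noncommCoprod X.subtype Y.subtype comm) := by
    rw [MonoidHom.noncommCoprod_injective]
    refine ⟨Subgroup.subtype_injective X, Subgroup.subtype_injective Y, ?_⟩
    rw [Subgroup.range_subtype, Subgroup.range_subtype, disjoint_iff,
      inf_eq_bot_of_ne hp hX hY hne]
  have hr := MonoidHom.noncommCoprod_range X.subtype Y.subtype comm
  rw [Subgroup.range_subtype, Subgroup.range_subtype] at hr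
  have h1 : Nat.card (↥X × ↥Y) =
      Nat.card ↥(MonoidHom.noncommCoprod X.subtype Y.subtype comm).range :=
    Nat.card_congr (MonoidHom.ofInjective hinj).toEquiv
  rw [hr] at h1
  rw [← h1, Nat.card_prod, hX, hY]

theorem perp_sup_self (hp : p.Prime) {X Y : Subgroup G} (hX : Nat.card ↥X = p)
    (hY : Nat.card ↥Y = p) (h : Perp X Y) : Perp (X ⊔ Y) (X ⊔ Y) := by
  have h1 : Perp (X ⊔ Y) X := Perp.sup_left (perp_self hp hX) h.symm
  have h2 : Perp (X ⊔ Y) Y := Perp.sup_left h (perp_self hp hY)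
  exact Perp.sup_left h1.symm h2.symm

theorem orderOf_of_mem_sup (hp : p.Prime) {X Y : Subgroup G} (hX : Nat.card ↥X = p)
    (hY : Nat.card ↥Y = p) (h : Perp X Y) {e : G} (he : e ∈ X ⊔ Y) (he1 : e ≠ 1) :
    orderOf e = p := by
  haveI := Fact.mk hp
  obtain ⟨x, hx, y, hy, rfl⟩ := (mem_sup_of_perp h).1 he
  have hc : Commute x y := perp_iff.1 h x hx y hy
  apply orderOf_eq_prime _ he1
  rw [hc.mul_pow, pow_eq_one_of_mem hX hx, pow_eq_one_of_mem hY hy, one_mul]

theorem sup_eq_of_points (hp : p.Prime) {X Y : Subgroup G} (hX : Nat.card ↥X = p)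
    (hY : Nat.card ↥Y = p) (hne : X ≠ Y) (h : Perp X Y) {Z₁ Z₂ : Subgroup G}
    (h1 : Z₁ ≤ X ⊔ Y) (h2 : Z₂ ≤ X ⊔ Y) (c1 : Nat.card ↥Z₁ = p) (c2 : Nat.card ↥Z₂ = p)
    (hne' : Z₁ ≠ Z₂) : Z₁ ⊔ Z₂ = X ⊔ Y := by
  have hE := perp_sup_self hp hX hY h
  have hZ : Perp Z₁ Z₂ := (hE.mono_left h1).mono_right h2
  have hcE := card_sup_of_perp hp hX hY hne h
  haveI hfin : Finite ↥(X ⊔ Y) :=
    Nat.finite_of_card_ne_zero (by rw [hcE]; exact (Nat.mul_pos hp.pos hp.pos).ne')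
  apply Subgroup.eq_of_le_of_card_ge (sup_le h1 h2)
  rw [card_sup_of_perp hp c1 c2 hne' hZ, hcE]

end prime

section hyp

variable {p : ℕ} {K : Set (Subgroup G)}

theorem exists_point_perp (H : Hyp p K) {X Y : Subgroup G} (hX : X ∈ K) (hY : Y ∈ K)
    (hne : X ≠ Y) (h : Perp X Y) {W : Subgroup G} (hW : W ∈ K) :
    ∃ Z ∈ K, Z ≤ X ⊔ Y ∧ Nat.card ↥Z = p ∧ Perp Z W := by
  have hb := H.hb X hX Y hY hne h W hW
  obtain ⟨e, he, he1⟩ : ∃ e ∈ (X ⊔ Y) ⊓ centralizer (W : Set G), e ≠ 1 := by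
    by_contra hcon
    push_neg at hcon
    exact hb ((Subgroup.eq_bot_iff_forall _).2 hcon)
  have heE : e ∈ X ⊔ Y := he.1
  have heC : e ∈ centralizer (W : Set G) := he.2
  have hord : orderOf e = p := orderOf_of_mem_sup H.hp (H.hK X hX) (H.hK Y hY) h heE he1
  have hc : Nat.card ↥(zpowers e) = p := by rw [Nat.card_zpowers, hord]
  exact ⟨zpowers e, H.ha X hX Y hY hne h _ ((zpowers_le).2 heE) hc, (zpowers_le).2 heE, hc,
    (zpowers_le).2 heC⟩

theorem not_perp_elim (H : Hyp p K) {A B : Subgroup G} (hA : A ∈ K) (hAB : ¬ Perp A B) {c : G}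
    (hc : c ∈ A) (hcB : c ∈ centralizer (B : Set G)) : c = 1 := by
  by_contra hc1
  apply hAB
  rw [eq_zpowers_of_mem H.hp (H.hK A hA) hc hc1]
  exact (zpowers_le).2 hcB

theorem perp_of_conj_eq (H : Hyp p K) {X U : Subgroup G} (hX : X ∈ K) (hU : U ∈ K) {g : G}
    (hg : g ∈ X) (hg1 : g ≠ 1) (h : U.map (MulAut.conj g).toMonoidHom = U) : Perp U X := by
  haveI := Fact.mk H.hp
  haveI : NeZero p := ⟨H.hp.ne_zero⟩
  obtain ⟨u, hu, hu1⟩ := exists_ne_one H.hp (H.hK U hU)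
  have hUz := eq_zpowers_of_mem H.hp (H.hK U hU) hu hu1
  have hXz := eq_zpowers_of_mem H.hp (H.hK X hX) hg hg1
  have hgu : g * u * g⁻¹ ∈ U := by
    rw [← h]
    exact Subgroup.mem_map.2 ⟨u, hu, by simp [MulAut.conj_apply]⟩
  rw [hUz] at hgu
  obtain ⟨k, hk⟩ := mem_zpowers_iff.1 hgu
  have hpow : ∀ n : ℕ, g ^ n * u * (g ^ n)⁻¹ = u ^ (k ^ n) := by
    intro n
    induction n with
    | zero => simp
    | succ n ih =>
      have e1 : g ^ (n + 1) * u * (g ^ (n + 1))⁻¹ = g * (g ^ n * u * (g ^ n)⁻¹) * g⁻¹ := by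
        rw [pow_succ']; group
      rw [e1, ih, ← conj_zpow, ← hk, ← zpow_mul, pow_succ']
  have hgp : g ^ p = 1 := pow_eq_one_of_mem (H.hK X hX) hg
  have h2 := hpow p
  rw [hgp] at h2
  simp only [one_mul, inv_one, mul_one] at h2
  have hordu : orderOf u = p := orderOf_eq_of_mem H.hp (H.hK U hU) hu hu1
  have h3 : u ^ (k ^ p - 1) = 1 := by
    rw [zpow_sub, zpow_one, ← h2, mul_inv_cancel]
  have h4 : (p : ℤ) ∣ k ^ p - 1 := by
    have h40 := orderOf_dvd_iff_zpow_eq_one.2 h3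
    rwa [hordu] at h40
  have h5 : (p : ℤ) ∣ k - 1 := by
    have h6 := (ZMod.intCast_zmod_eq_zero_iff_dvd (k ^ p - 1) p).2 h4
    rw [← ZMod.intCast_zmod_eq_zero_iff_dvd]
    push_cast at h6 ⊢
    rwa [ZMod.pow_card] at h6
  have h6 : u ^ (k - 1) = 1 := by
    apply orderOf_dvd_iff_zpow_eq_one.1
    rw [hordu]; exact h5
  have h7 : u ^ k = u := by
    have : u ^ k = u ^ (k - 1) * u := by
      rw [← zpow_add_one]; congr 1; ring
    rw [this, h6, one_mul]
  rw [h7] at hk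
  have hcomm : Commute g u := by
    show g * u = u * g
    calc g * u = (g * u * g⁻¹) * g := by group
      _ = u * g := by rw [← hk]
  rw [hUz, hXz]
  show zpowers u ≤ centralizer ((zpowers g : Subgroup G) : Set G)
  rw [zpowers_le, mem_centralizer_iff]
  intro y hy
  obtain ⟨j, rfl⟩ := mem_zpowers_iff.1 hy
  exact (hcomm.zpow_left j).eq

/-- Elements generating a member of `K` and commuting with `X`. -/
def pset (K : Set (Subgroup G)) (X : Subgroup G) : Set G :=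
  {g | g ≠ 1 ∧ zpowers g ∈ K ∧ g ∈ centralizer (X : Set G)}

/-- Elements generating a member of `K` and commuting with both `A` and `B`. -/
def qset (K : Set (Subgroup G)) (A B : Subgroup G) : Set G :=
  {g | g ≠ 1 ∧ zpowers g ∈ K ∧ g ∈ centralizer (A : Set G) ∧ g ∈ centralizer (B : Set G)}

theorem qset_comm (A B : Subgroup G) : qset K A B = qset K B A := by
  ext g
  simp only [qset, Set.mem_setOf_eq]
  tauto

theorem pset_subset {X Z : Subgroup G} (hsub : ∀ T ∈ K, Perp T X → Perp T Z) :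
    pset K X ⊆ pset K Z := by
  rintro t ⟨t1, tK, tC⟩
  exact ⟨t1, tK, (zpowers_le).1 (hsub _ tK ((zpowers_le).2 tC))⟩

theorem perp_of_pset_subset (H : Hyp p K) {T X Z : Subgroup G} (hT : T ∈ K)
    (hsub : pset K X ⊆ pset K Z) (h : Perp T X) : Perp T Z := by
  obtain ⟨t, ht, ht1⟩ := exists_ne_one H.hp (H.hK T hT)
  have hTz := eq_zpowers_of_mem H.hp (H.hK T hT) ht ht1
  have hmem : t ∈ pset K X := ⟨ht1, hTz ▸ hT, h ht⟩
  have h2 := (hsub hmem).2.2
  rw [hTz]
  exact (zpowers_le).2 h2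

theorem ncard_pset [Finite G] (H : Hyp p K) {A B : Subgroup G} (hA : A ∈ K) (hB : B ∈ K)
    (hAB : ¬ Perp A B) :
    (pset K A).ncard = (p - 1) + p * (qset K A B).ncard := by
  have hAA : Perp A A := perp_self H.hp (H.hK A hA)
  set f : G × G → G := fun q => q.1 * q.2 with hf
  have hdecomp : pset K A = ((A : Set G) \ {1}) ∪ f '' ((A : Set G) ×ˢ qset K A B) := by
    ext t
    constructor
    · rintro ⟨t1, tK, tC⟩
      by_cases htA : t ∈ A
      · left
        exact ⟨htA, t1⟩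
      · right
        have hTA : Perp (zpowers t) A := (zpowers_le).2 tC
        have hne : A ≠ zpowers t := by
          intro h
          apply htA
          rw [h]
          exact mem_zpowers t
        have hb := H.hb A hA _ tK hne hTA.symm B hB
        obtain ⟨e, he, he1⟩ : ∃ e ∈ (A ⊔ zpowers t) ⊓ centralizer (B : Set G), e ≠ 1 := by
          by_contra hcon
          push_neg at hcon
          exact hb ((Subgroup.eq_bot_iff_forall _).2 hcon)
        have heE : e ∈ A ⊔ zpowers t := he.1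
        have heC : e ∈ centralizer (B : Set G) := he.2
        obtain ⟨a'', ha'', t', ht', rfl⟩ := (mem_sup_of_perp hTA.symm).1 heE
        have ht'1 : t' ≠ 1 := by
          intro h
          rw [h, mul_one] at heC he1
          exact he1 (not_perp_elim H hA hAB ha'' heC)
        have hTz := eq_zpowers_of_mem H.hp (H.hK _ tK) ht' ht'1
        have htmem : t ∈ zpowers t' := by
          rw [← hTz]; exact mem_zpowers t
        obtain ⟨k, hk⟩ := mem_zpowers_iff.1 htmem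
        have hc : Commute a'' t' := perp_iff.1 hTA.symm a'' ha'' t' ht'
        have hek : (a'' * t') ^ k = a'' ^ k * t := by
          rw [hc.mul_zpow, hk]
        have hEA : Perp (A ⊔ zpowers t) A := Perp.sup_left hAA hTA
        have hsE : (a'' * t') ^ k ∈ A ⊔ zpowers t := zpow_mem heE k
        have hs1 : (a'' * t') ^ k ≠ 1 := by
          intro h
          rw [h] at hek
          apply htA
          have h2 : t = (a'' ^ k)⁻¹ := eq_inv_of_mul_eq_one_right hek.symm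
          rw [h2]
          exact A.inv_mem (A.zpow_mem ha'' k)
        have hsK : zpowers ((a'' * t') ^ k) ∈ K := by
          apply H.ha A hA _ tK hne hTA.symm _ ((zpowers_le).2 hsE)
          rw [Nat.card_zpowers,
            orderOf_of_mem_sup H.hp (H.hK A hA) (H.hK _ tK) hTA.symm hsE hs1]
        refine ⟨((a'' ^ k)⁻¹, (a'' * t') ^ k), ⟨A.inv_mem (A.zpow_mem ha'' k), hs1, hsK, hEA hsE,
          zpow_mem heC k⟩, ?_⟩
        show (a'' ^ k)⁻¹ * (a'' * t') ^ k = t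
        rw [hek]; group
    · rintro (⟨htA, t1⟩ | ⟨⟨a, s⟩, ⟨ha, hs⟩, rfl⟩)
      · have t1' : t ≠ 1 := by simpa using t1
        exact ⟨t1', (eq_zpowers_of_mem H.hp (H.hK A hA) htA t1') ▸ hA, hAA htA⟩
      · obtain ⟨s1, sK, sA, sB⟩ := hs
        have ha : a ∈ A := ha
        have hsA : s ∉ A := fun h => s1 (not_perp_elim H hA hAB h sB)
        have hne : A ≠ zpowers s := by
          intro h
          apply hsA
          rw [h]
          exact mem_zpowers s
        have hSA : Perp (zpowers s) A := (zpowers_le).2 sA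
        show a * s ∈ pset K A
        have hg1 : a * s ≠ 1 := by
          intro h
          apply hsA
          rw [eq_inv_of_mul_eq_one_right h]
          exact A.inv_mem ha
        have hgE : a * s ∈ A ⊔ zpowers s :=
          mul_mem (mem_sup_left ha) (mem_sup_right (mem_zpowers s))
        refine ⟨hg1, ?_, mul_mem (hAA ha) sA⟩
        apply H.ha A hA _ sK hne hSA.symm _ ((zpowers_le).2 hgE)
        rw [Nat.card_zpowers,
          orderOf_of_mem_sup H.hp (H.hK A hA) (H.hK _ sK) hSA.symm hgE hg1]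
  have hdisj : Disjoint ((A : Set G) \ {1}) (f '' ((A : Set G) ×ˢ qset K A B)) := by
    rw [Set.disjoint_left]
    rintro g ⟨hgA, -⟩ ⟨⟨a, s⟩, ⟨ha, hs⟩, hfg⟩
    obtain ⟨s1, -, -, sB⟩ := hs
    have ha : a ∈ A := ha
    have hfg : a * s = g := hfg
    apply s1
    apply not_perp_elim H hA hAB _ sB
    have : s = a⁻¹ * g := by rw [← hfg]; group
    rw [this]
    exact A.mul_mem (A.inv_mem ha) hgA
  have hinj : Set.InjOn f ((A : Set G) ×ˢ qset K A B) := by
    rintro ⟨a, s⟩ ⟨ha, hs⟩ ⟨a', s'⟩ ⟨ha', hs'⟩ heq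
    have ha : a ∈ A := ha
    have ha' : a' ∈ A := ha'
    have heq : a * s = a' * s' := heq
    obtain ⟨-, -, -, sB⟩ := hs
    obtain ⟨-, -, -, sB'⟩ := hs'
    have hc : a'⁻¹ * a = s' * s⁻¹ := by
      have := congrArg (fun w => a'⁻¹ * w * s⁻¹) heq
      simpa [mul_assoc] using this
    have hc1 : a'⁻¹ * a = 1 := by
      apply not_perp_elim H hA hAB (A.mul_mem (A.inv_mem ha') ha)
      rw [hc]
      exact mul_mem sB' (inv_mem sB)
    have haa : a = a' := by
      have := inv_mul_eq_one.1 hc1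
      exact this.symm
    subst haa
    have hss : s = s' := mul_left_cancel heq
    rw [hss]
  have hAc : (A : Set G).ncard = p := by
    rw [← Nat.card_coe_set_eq]
    exact H.hK A hA
  rw [hdecomp, Set.ncard_union_eq hdisj (Set.toFinite _) (Set.toFinite _),
    Set.ncard_image_of_injOn hinj, Set.ncard_prod,
    Set.ncard_diff_singleton_of_mem (A.one_mem : (1 : G) ∈ (A : Set G)), hAc]

theorem ncard_pset_eq [Finite G] (H : Hyp p K) {A B : Subgroup G} (hA : A ∈ K) (hB : B ∈ K)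
    (hAB : ¬ Perp A B) : (pset K A).ncard = (pset K B).ncard := by
  rw [ncard_pset H hA hB hAB, ncard_pset H hB hA (fun h => hAB h.symm), qset_comm]

theorem N1 [Finite G] (H : Hyp p K) (hR : ∀ X ∈ K, ∃ Y ∈ K, ¬ Perp X Y) {X Z : Subgroup G}
    (hX : X ∈ K) (hZ : Z ∈ K) (hne : X ≠ Z) (hsub : ∀ T ∈ K, Perp T X → Perp T Z) : False := by
  have hXX : Perp X X := perp_self H.hp (H.hK X hX)
  have hXZ : Perp X Z := hsub X hX hXX
  obtain ⟨W, hW, hZW⟩ := hR Z hZ
  have hXW : ¬ Perp X W := fun h => hZW (hsub W hW h.symm).symm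
  have hline : ∀ V ∈ K, V ≤ X ⊔ Z → pset K V = pset K X := by
    intro V hV hVle
    have hsubV : ∀ T ∈ K, Perp T X → Perp T V := fun T hT hTX =>
      ((Perp.sup_left hTX.symm (hsub T hT hTX).symm).mono_left hVle).symm
    obtain ⟨Y, hY, hVY⟩ := hR V hV
    have hXY : ¬ Perp X Y := fun h => hVY (hsubV Y hY h.symm).symm
    have c3 : (pset K V).ncard = (pset K Y).ncard := ncard_pset_eq H hV hY hVY
    have c4 : (pset K X).ncard = (pset K Y).ncard := ncard_pset_eq H hX hY hXY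
    exact (Set.eq_of_subset_of_ncard_le (pset_subset hsubV) (by rw [c3, c4])
      (Set.toFinite _)).symm
  obtain ⟨V, hV, hVle, -, hVW⟩ := exists_point_perp H hX hZ hne hXZ hW
  have h1 : Perp W X := perp_of_pset_subset H hW (hline V hV hVle).le hVW.symm
  exact hXW h1.symm

theorem N2 [Finite G] (H : Hyp p K) (hR : ∀ X ∈ K, ∃ Y ∈ K, ¬ Perp X Y) {A B C : Subgroup G}
    (hA : A ∈ K) (hB : B ∈ K) (hC : C ∈ K) (hAB : ¬ Perp A B) (hCA : Perp C A) (hCB : Perp C B)
    (hCQ : ∀ T ∈ K, Perp T A → Perp T B → Perp T C) : False := by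
  have hAC : A ≠ C := by
    intro h
    apply hAB
    rw [h]
    exact hCB
  refine N1 H hR hA hC hAC ?_
  intro T hT hTA
  by_cases hTeq : T = A
  · rw [hTeq]; exact hCA.symm
  · have hne : A ≠ T := fun h => hTeq h.symm
    obtain ⟨S, hS, hSle, hSc, hSB⟩ := exists_point_perp H hA hT hne hTA.symm hB
    have hAA := perp_self H.hp (H.hK A hA)
    have hSA : Perp S A := (Perp.sup_left hAA hTA).mono_left hSle
    have hSC : Perp S C := hCQ S hS hSA hSB
    have hSneA : A ≠ S := by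
      intro h
      apply hAB
      rw [h]
      exact hSB
    have hsup : A ⊔ S = A ⊔ T :=
      sup_eq_of_points H.hp (H.hK A hA) (H.hK T hT) hne hTA.symm le_sup_left hSle (H.hK A hA)
        hSc hSneA
    have h1 : Perp (A ⊔ S) C := Perp.sup_left hCA.symm hSC
    rw [hsup] at h1
    exact h1.mono_left le_sup_right

theorem P4 [Finite G] (H : Hyp p K) (hR : ∀ X ∈ K, ∃ Y ∈ K, ¬ Perp X Y) {A B C : Subgroup G}
    (hA : A ∈ K) (hB : B ∈ K) (hC : C ∈ K) (hAB : ¬ Perp A B) (hCA : C ≠ A)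
    (hQ : ∀ T ∈ K, Perp T A → Perp T B → Perp T C) :
    ¬ Perp C A ∧ ∀ T ∈ K, Perp T A → Perp T C → Perp T B := by
  have hAA := perp_self H.hp (H.hK A hA)
  have hi : ¬ Perp C A := by
    intro hCp
    have hne : A ≠ C := fun h => hCA h.symm
    obtain ⟨B₀, hB₀, hle, -, hB₀B⟩ := exists_point_perp H hA hC hne hCp.symm hB
    have hB₀A : Perp B₀ A := (Perp.sup_left hAA hCp).mono_left hle
    refine N2 H hR hA hB hB₀ hAB hB₀A hB₀B ?_
    intro T hT hTA hTB
    have hTC := hQ T hT hTA hTB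
    have h1 : Perp (A ⊔ C) T := Perp.sup_left hTA.symm hTC.symm
    exact (h1.mono_left hle).symm
  refine ⟨hi, ?_⟩
  intro T hT hTA hTC
  by_cases hTeq : T = A
  · exfalso
    rw [hTeq] at hTC
    exact hi hTC.symm
  · have hne : A ≠ T := fun h => hTeq h.symm
    obtain ⟨S, hS, hSle, hSc, hSB⟩ := exists_point_perp H hA hT hne hTA.symm hB
    have hSA : Perp S A := (Perp.sup_left hAA hTA).mono_left hSle
    have hSC : Perp S C := hQ S hS hSA hSB
    by_cases hST : S = T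
    · rw [← hST]; exact hSB
    · exfalso
      have hsup : S ⊔ T = A ⊔ T :=
        sup_eq_of_points H.hp (H.hK A hA) (H.hK T hT) hne hTA.symm hSle le_sup_right hSc
          (H.hK T hT) hST
      have h1 : Perp (S ⊔ T) C := Perp.sup_left hSC hTC
      rw [hsup] at h1
      exact hi (h1.mono_left le_sup_left).symm

theorem no_line [Finite G] (H : Hyp p K) (hR : ∀ X ∈ K, ∃ Y ∈ K, ¬ Perp X Y) {X Z : Subgroup G}
    (hX : X ∈ K) (hZ : Z ∈ K) (hne : X ≠ Z) (hXZ : Perp X Z) : False := by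
  obtain ⟨x, hx, hx1⟩ := exists_ne_one H.hp (H.hK X hX)
  obtain ⟨z, hz, hz1⟩ := exists_ne_one H.hp (H.hK Z hZ)
  have hinf := inf_eq_bot_of_ne H.hp (H.hK X hX) (H.hK Z hZ) hne
  have hzX : z ∉ X := fun h => hz1 ((Subgroup.eq_bot_iff_forall _).1 hinf z ⟨h, hz⟩)
  have hxZ : x ∉ Z := fun h => hx1 ((Subgroup.eq_bot_iff_forall _).1 hinf x ⟨hx, h⟩)
  obtain ⟨v, hv⟩ : ∃ v, v = x * z := ⟨_, rfl⟩
  have hvE : v ∈ X ⊔ Z := by
    rw [hv]; exact mul_mem (mem_sup_left hx) (mem_sup_right hz)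
  have hv1 : v ≠ 1 := by
    intro h
    apply hzX
    rw [hv] at h
    rw [eq_inv_of_mul_eq_one_right h]
    exact X.inv_mem hx
  have hvord : orderOf v = p :=
    orderOf_of_mem_sup H.hp (H.hK X hX) (H.hK Z hZ) hXZ hvE hv1
  have hVc : Nat.card ↥(zpowers v) = p := by rw [Nat.card_zpowers, hvord]
  have hVle : zpowers v ≤ X ⊔ Z := (zpowers_le).2 hvE
  have hV : zpowers v ∈ K := H.ha X hX Z hZ hne hXZ _ hVle hVc
  have hVX : zpowers v ≠ X := by
    intro h
    apply hzX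
    have hvX : v ∈ X := h ▸ mem_zpowers v
    have h2 : z = x⁻¹ * v := by rw [hv]; group
    rw [h2]; exact X.mul_mem (X.inv_mem hx) hvX
  have hVZ : zpowers v ≠ Z := by
    intro h
    apply hxZ
    have hvZ : v ∈ Z := h ▸ mem_zpowers v
    have h2 : x = v * z⁻¹ := by rw [hv]; group
    rw [h2]; exact Z.mul_mem hvZ (Z.inv_mem hz)
  obtain ⟨U, hU, hUV, hUX⟩ : ∃ U ∈ K, Perp U (zpowers v) ∧ ¬ Perp U X := by
    by_contra hcon
    push_neg at hcon
    exact N1 H hR hV hX hVX hcon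
  have hUZ : ¬ Perp U Z := by
    intro h
    have hsup : zpowers v ⊔ Z = X ⊔ Z :=
      sup_eq_of_points H.hp (H.hK X hX) (H.hK Z hZ) hne hXZ hVle le_sup_right hVc (H.hK Z hZ)
        hVZ
    have h1 : Perp (zpowers v ⊔ Z) U := Perp.sup_left hUV.symm h.symm
    rw [hsup] at h1
    exact hUX (h1.mono_left le_sup_left).symm
  obtain ⟨U', hU'⟩ : ∃ U', U' = U.map (MulAut.conj x⁻¹).toMonoidHom := ⟨_, rfl⟩
  have hU'K : U' ∈ K := by rw [hU']; exact H.hKc U hU x⁻¹
  have hU'ne : U' ≠ U := by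
    intro h
    rw [hU'] at h
    exact hUX (perp_of_conj_eq H hX hU (X.inv_mem hx) (inv_ne_one.2 hx1) h)
  have hmem : ∀ g, g ∈ U' → ∃ u ∈ U, g = x⁻¹ * u * x := by
    intro g hg
    rw [hU', Subgroup.mem_map] at hg
    obtain ⟨u, hu, rfl⟩ := hg
    exact ⟨u, hu, by simp [MulAut.conj_apply]⟩
  have hvu : ∀ u ∈ U, x⁻¹ * u * x = z * u * z⁻¹ := by
    intro u hu
    have h1 : u * v = v * u := perp_iff.1 hUV u hu v (mem_zpowers v)
    rw [hv] at h1
    calc x⁻¹ * u * x = x⁻¹ * (u * (x * z)) * z⁻¹ := by group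
      _ = x⁻¹ * ((x * z) * u) * z⁻¹ := by rw [h1]
      _ = z * u * z⁻¹ := by group
  have hQ1 : ∀ T ∈ K, Perp T U → Perp T X → Perp T U' := by
    intro T _ hTU hTX
    apply Perp.symm
    intro g hg
    obtain ⟨u, hu, rfl⟩ := hmem g hg
    exact mul_mem (mul_mem (inv_mem (hTX.symm hx)) (hTU.symm hu)) (hTX.symm hx)
  have hQ2 : ∀ T ∈ K, Perp T U → Perp T Z → Perp T U' := by
    intro T _ hTU hTZ
    apply Perp.symm
    intro g hg
    obtain ⟨u, hu, rfl⟩ := hmem g hg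
    rw [hvu u hu]
    exact mul_mem (mul_mem (hTZ.symm hz) (hTU.symm hu)) (inv_mem (hTZ.symm hz))
  obtain ⟨-, hii⟩ := P4 H hR hU hZ hU'K hUZ hU'ne hQ2
  have hXU : ¬ Perp X U := fun h => hUX h.symm
  obtain ⟨hfin, -⟩ := P4 H hR hX hU hZ hXU (Ne.symm hne)
    (fun T hT hTX hTU => hii T hT hTU (hQ1 T hT hTU hTX))
  exact hfin hXZ.symm

/-- The radical is nonempty: some member of `K` commutes with every member of `K`. -/
theorem exists_radical [Finite G] (H : Hyp p K)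
    (hex : ∃ X ∈ K, ∃ Y ∈ K, X ≠ Y ∧ Perp X Y) : ∃ V ∈ K, ∀ W ∈ K, Perp V W := by
  by_contra hcon
  push_neg at hcon
  obtain ⟨X, hX, Y, hY, hne, hXY⟩ := hex
  exact no_line H hcon hX hY hne hXY

end hyp

end Cfsg.Agent.Helper5.PolarRad
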