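import Mathlib
import Cfsg.Prelude.Def_Blocks
import Cfsg.Prelude.Def_CharExt
import Cfsg.Prelude.Def_Transfer
import Cfsg.Agent.Lib.Helper5.DetChar
import Cfsg.Agent.Lib.Helper22.PResidual

/-!
# Characters and the p-residual with cyclic quotient: basic lemmas (helper5)
-/

set_option autoImplicit false
set_option linter.style.haveILetI false

namespace Cfsg.Agent.Helper5.PrRes

open Cfsg Cfsg.Agent.Helper24 Cfsg.Agent.Helper5

universe u

section Basic

variable {G : Type u} [Group G] [Finite G] {p : ℕ} [hp : Fact p.Prime]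

/-- an exponent acting as `1 + p` on `p`-elements and trivially on `p'`-elements is prime to the
group order -/
theorem coprime_card_of_pow {k : ℕ}
    (hk₁ : ∀ g : G, (∃ j : ℕ, orderOf g = p ^ j) → g ^ k = g ^ (1 + p))
    (hk₂ : ∀ g : G, Nat.Coprime (orderOf g) p → g ^ k = g) : Nat.Coprime (Nat.card G) k := by
  classical
  rw [Nat.coprime_iff_gcd_eq_one]
  by_contra hne
  obtain ⟨q, hq, hqd⟩ := Nat.exists_prime_and_dvd hne
  have hqG : q ∣ Nat.card G := hqd.trans (Nat.gcd_dvd_left _ _)
  have hqk : q ∣ k := hqd.trans (Nat.gcd_dvd_right _ _)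
  haveI : Fact q.Prime := ⟨hq⟩
  obtain ⟨g, hg⟩ := exists_prime_orderOf_dvd_card' q hqG
  have hgk : g ^ k = 1 := by
    obtain ⟨c, rfl⟩ := hqk
    rw [pow_mul, ← hg, pow_orderOf_eq_one, one_pow]
  have hg1 : g ≠ 1 := by
    intro h
    rw [h, orderOf_one] at hg
    exact hq.ne_one hg.symm
  by_cases hqp : q = p
  · have h1 := hk₁ g ⟨1, by rw [hg, hqp, pow_one]⟩
    rw [hgk, pow_add, pow_one, ← hqp, ← hg, pow_orderOf_eq_one, mul_one] at h1
    exact hg1 h1.symm
  · have h1 := hk₂ g (by rw [hg]; exact (Nat.coprime_primes hq hp.out).mpr hqp)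
    rw [hgk] at h1
    exact hg1 h1.symm

end Basic

section Cyclic

/-- a finite cyclic group of order divisible by `p` has exactly `p` homomorphisms to `ℂˣ` of
exponent `p` -/
theorem card_hom_pow_eq_one {Q : Type u} [CommGroup Q] [Finite Q] [IsCyclic Q] {p : ℕ}
    (hpQ : p ∣ Nat.card Q) : Nat.card {f : Q →* ℂˣ // f ^ p = 1} = p := by
  haveI : NeZero (Nat.card Q) := ⟨Nat.card_pos.ne'⟩
  obtain ⟨e⟩ := IsCyclic.monoidHom_equiv_self Q ℂ
  have h1 : Nat.card {f : Q →* ℂˣ // f ^ p = 1} = Nat.card {y : Q // y ^ p = 1} := by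
    apply Nat.card_congr
    refine e.toEquiv.subtypeEquiv ?_
    intro f
    constructor
    · intro h
      show e f ^ p = 1
      rw [← map_pow, h, map_one]
    · intro h
      have h' : e f ^ p = 1 := h
      rw [← map_pow] at h'
      exact e.injective (h'.trans (map_one e).symm)
  have h2 : Nat.card {y : Q // y ^ p = 1} = Nat.card (powMonoidHom p : Q →* Q).ker := by
    apply Nat.card_congr
    apply Equiv.subtypeEquivRight
    intro y
    rw [MonoidHom.mem_ker, powMonoidHom_apply]
  rw [h1, h2, IsCyclic.card_powMonoidHom_ker]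
  exact Nat.gcd_eq_right hpQ

/-- the same count with only a group structure on the cyclic group -/
theorem card_hom_pow_eq_one' {Q : Type u} [Group Q] [Finite Q] [hQ : IsCyclic Q] {p : ℕ}
    (hpQ : p ∣ Nat.card Q) : Nat.card {f : Q →* ℂˣ // f ^ p = 1} = p := by
  letI : CommGroup Q := IsCyclic.commGroup
  exact card_hom_pow_eq_one hpQ

end Cyclic

section Det

variable {G : Type u} [Group G] [Finite G] {p : ℕ} [hp : Fact p.Prime]

/-- a homomorphism from the `p`-residual to `ℂˣ` has order prime to `p`: its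
`p'`-part-of-the-order power is trivial -/
theorem hom_pow_ordCompl_eq_one (N : Subgroup G) (hNres : N = Cfsg.pResidual p G)
    (f : N →* ℂˣ) (n : N) : f n ^ (ordCompl[p] (Nat.card G)) = 1 := by
  have key : ∀ g : G, g ∈ Cfsg.pResidual p G → ∀ hg : g ∈ N,
      f ⟨g, hg⟩ ^ (ordCompl[p] (Nat.card G)) = 1 := by
    intro g hg
    unfold Cfsg.pResidual at hg
    induction hg using Subgroup.closure_induction with
    | mem x hx =>
      intro hxN
      have hx' : Nat.Coprime (orderOf x) p := hx
      have hdvd : orderOf x ∣ ordCompl[p] (Nat.card G) := by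
        have h1 : orderOf x ∣ Nat.card G := orderOf_dvd_natCard x
        have h2 : Nat.card G = p ^ (Nat.card G).factorization p * ordCompl[p] (Nat.card G) :=
          (Nat.ordProj_mul_ordCompl_eq_self (Nat.card G) p).symm
        rw [h2] at h1
        exact (Nat.Coprime.pow_right _ hx').dvd_of_dvd_mul_left h1
      obtain ⟨c, hc⟩ := hdvd
      rw [hc, ← map_pow]
      have h3 : (⟨x, hxN⟩ : N) ^ (orderOf x * c) = 1 := by
        apply Subtype.ext
        rw [Subgroup.coe_pow, Subgroup.coe_one, pow_mul, pow_orderOf_eq_one, one_pow]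
      rw [h3, map_one]
    | one =>
      intro h1
      have : (⟨1, h1⟩ : N) = 1 := rfl
      rw [this, map_one, one_pow]
    | mul x y hx hy ihx ihy =>
      intro hxy
      have hxN : x ∈ N := by rw [hNres]; exact hx
      have hyN : y ∈ N := by rw [hNres]; exact hy
      have : (⟨x * y, hxy⟩ : N) = ⟨x, hxN⟩ * ⟨y, hyN⟩ := rfl
      rw [this, map_mul, mul_pow, ihx hxN, ihy hyN, one_mul]
    | inv x hx ihx =>
      intro hxi
      have hxN : x ∈ N := by rw [hNres]; exact hx
      have : (⟨x⁻¹, hxi⟩ : N) = (⟨x, hxN⟩ : N)⁻¹ := rfl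
      rw [this, map_inv, inv_pow, ihx hxN, inv_one]
  have hn : (n : G) ∈ Cfsg.pResidual p G := by rw [← hNres]; exact n.2
  exact key n hn n.2

/-- the determinantal order of a character of the `p`-residual is prime to `p` -/
theorem detOrder_coprime (N : Subgroup G) (hNres : N = Cfsg.pResidual p G) {θ : N → ℂ}
    (hθ : IsCharacter N θ) : Nat.Coprime (detOrder θ) p := by
  have h1 : detChar θ ^ (ordCompl[p] (Nat.card G)) = 1 := by
    funext n
    have h2 := hom_pow_ordCompl_eq_one N hNres (detHom hθ) n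
    have h3 := congrArg (fun u : ℂˣ => (u : ℂ)) h2
    simpa using h3
  have h4 : detOrder θ ∣ ordCompl[p] (Nat.card G) := by
    unfold detOrder
    exact orderOf_dvd_of_pow_eq_one h1
  exact Nat.Coprime.coprime_dvd_left h4
    (Nat.coprime_ordCompl hp.out Nat.card_pos.ne').symm

end Det

section Inv

variable {G : Type u} [Group G] [Finite G] {p : ℕ} [hp : Fact p.Prime]

/-- a class function of `N` invariant under a Sylow `p`-subgroup is invariant under `G` when
`G = N P` -/
theorem invariant_of_sylow (N : Subgroup G) [hN : N.Normal] (P : Sylow p G)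
    (hNP : N ⊔ (P : Subgroup G) = ⊤) {θ : N → ℂ} (hθ : IsClassFunction N θ)
    (hP : ∀ x ∈ (P : Subgroup G), ∀ n : N,
      θ ⟨x * n * x⁻¹, hN.conj_mem n n.2 x⟩ = θ n) (g : G) (n : N) :
    θ ⟨g * n * g⁻¹, hN.conj_mem n n.2 g⟩ = θ n := by
  have hg : g ∈ N ⊔ (P : Subgroup G) := by rw [hNP]; exact Subgroup.mem_top g
  rw [Subgroup.mem_sup_of_normal_left] at hg
  obtain ⟨a, ha, x, hx, rfl⟩ := hg
  have h1 := hP x hx n
  have h2 := hθ ⟨x * n * x⁻¹, hN.conj_mem n n.2 x⟩ ⟨a, ha⟩
  rw [← h1, ← h2]
  congr 1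
  apply Subtype.ext
  simp only [Subgroup.coe_mul, Subgroup.coe_inv]
  group

end Inv

end Cfsg.Agent.Helper5.PrRes
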