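import Mathlib
import Cfsg.Agent.Lib.Helper5.PrResA
import Cfsg.Agent.S0867
import Cfsg.Agent.Lib.Helper18.GaloisConj
import Cfsg.Agent.Lib.Helper18.AlperinDade6
import Cfsg.Agent.Lib.Helper23.BlockNilpIndex
import Cfsg.Agent.Lib.Helper24.CanonicalExt
import Cfsg.Agent.Lib.Helper24.CoprimeDegree

/-!
# Characters and the p-residual with cyclic quotient: the fixed extension and the principal block
(helper5)
-/

set_option autoImplicit false
set_option linter.style.haveILetI false

namespace Cfsg.Agent.Helper5.PrRes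

open Cfsg Cfsg.Agent.Helper24 Cfsg.Agent.Helper5 Cfsg.Agent.Helper18

universe u

section Ext

variable {G : Type u} [Group G] [Finite G] {p : ℕ} [hp : Fact p.Prime]

/-- an invariant irreducible character of the `p`-residual of degree prime to `p` fixed by a power
map has an extension fixed by the same power map -/
theorem exists_fixed_extension (N : Subgroup G) [hN : N.Normal] (hNres : N = Cfsg.pResidual p G)
    {k : ℕ} (hcop : Nat.Coprime (Nat.card G) k) {θ : N → ℂ} (hθ : IsIrrCharacter N θ)
    (hinv : ∀ (g : G) (n : N), θ ⟨g * n * g⁻¹, hN.conj_mem (n : G) n.2 g⟩ = θ n)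
    (hdeg : ¬ p ∣ charDegree θ) (hfix : ∀ n : N, θ (n ^ k) = θ n) :
    ∃ χ₀ : G → ℂ, IsIrrCharacter G χ₀ ∧ (∀ n : N, χ₀ n = θ n) ∧ ∀ g : G, χ₀ (g ^ k) = χ₀ g := by
  classical
  letI : Fintype G := Fintype.ofFinite G
  obtain ⟨m, hm⟩ := Cfsg.Agent.Helper22.index_pResidual (G := G) (p := p)
  rw [← hNres] at hm
  have hd : θ 1 = (charDegree θ : ℂ) := irr_one_eq_charDegree hθ
  have hcopθ : Nat.Coprime (detOrder θ) p :=
    detOrder_coprime N hNres (isCharacter_of_isIrrCharacter hθ)
  have hcop' : Nat.Coprime N.index (detOrder θ * charDegree θ) := by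
    rw [hm]
    apply Nat.Coprime.pow_left
    apply Nat.Coprime.mul_right
    · exact hcopθ.symm
    · exact (Nat.Prime.coprime_iff_not_dvd hp.out).mpr hdeg
  obtain ⟨χ, ⟨hχ, hres, hdet⟩, huniq⟩ :=
    Cfsg.Agent.S0867.result N θ hθ hinv (charDegree θ) hd hcop'
  refine ⟨χ, hχ, hres, ?_⟩
  have hψ : IsIrrCharacter G (fun g => χ (g ^ k)) := isIrrCharacter_comp_pow hχ hcop
  have hψres : ∀ n : N, (fun g => χ (g ^ k)) (n : G) = θ n := by
    intro n
    show χ ((n : G) ^ k) = θ n
    rw [← hfix n, ← hres (n ^ k), Subgroup.coe_pow]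
  have hdetψ : detChar (fun g => χ (g ^ k)) = fun y => detChar χ (y ^ k) := by
    funext y
    exact Cfsg.Agent.Helper24.CanonExt.detChar_comp_pow (isCharacter_of_isIrrCharacter hχ) (isCharacter_of_isIrrCharacter hψ) y
  have hdvd : detOrder (fun g => χ (g ^ k)) ∣ detOrder χ := by
    unfold detOrder
    apply orderOf_dvd_of_pow_eq_one
    rw [hdetψ]
    funext y
    have h1 : detChar χ ^ orderOf (detChar χ) = 1 := pow_orderOf_eq_one _
    have h2 := congrFun h1 (y ^ k)
    simpa using h2
  have hcopψ : Nat.Coprime N.index (detOrder (fun g => χ (g ^ k))) := by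
    rw [hm]
    apply Nat.Coprime.pow_left
    apply Nat.Coprime.coprime_dvd_right hdvd
    rw [hdet]
    exact hcopθ.symm
  have heq := huniq _ hψ hψres hcopψ
  intro g
  exact congrFun heq g

end Ext

section Block

variable {G : Type u} [Group G] [Finite G] {p : ℕ} [hp : Fact p.Prime] {M : Ideal AlgInt}

/-- over a normal subgroup of `p`-power index, a character restricting to a member of the principal
block lies in the principal block -/
theorem mem_principalBlock_of_restrict (hM : IsPModular p M) (N : Subgroup G) [hN : N.Normal]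
    (hidx : ∃ m : ℕ, N.index = p ^ m) {χ : IrrCharacter G} {θ : IrrCharacter N}
    (hres : ∀ n : N, (χ : G → ℂ) n = (θ : N → ℂ) n) (hθ : θ ∈ principalBlock M N) :
    χ ∈ principalBlock M G := by
  classical
  letI : Fintype G := Fintype.ofFinite G
  letI : Fintype N := Fintype.ofFinite N
  have hone : classInner (fun n : N => ((principalChar G : IrrCharacter G) : G → ℂ) n)
      ((principalChar N : IrrCharacter N) : N → ℂ) ≠ 0 := by
    show classInner (fun _ : N => (1 : ℂ)) (fun _ : N => (1 : ℂ)) ≠ 0
    rw [irr_orthogonality (isIrrCharacter_one (G := N)) isIrrCharacter_one, if_pos rfl]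
    exact one_ne_zero
  have hcon : classInner (fun n : N => (χ : G → ℂ) n) (θ : N → ℂ) ≠ 0 := by
    have : (fun n : N => (χ : G → ℂ) n) = (θ : N → ℂ) := funext hres
    rw [this, irr_orthogonality θ.2 θ.2, if_pos rfl]
    exact one_ne_zero
  exact Cfsg.Agent.Helper23.Blk.sameBlock_of_over_of_index N hM hidx hone hcon hθ

/-- the irreducible restriction of a member of the principal block lies in the principal block -/
theorem restrict_mem_principalBlock (hM : IsPModular p M) (N : Subgroup G) [hN : N.Normal]
    {χ : IrrCharacter G} {θ : IrrCharacter N}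
    (hres : ∀ n : N, (χ : G → ℂ) n = (θ : N → ℂ) n) (hχ : χ ∈ principalBlock M G) :
    θ ∈ principalBlock M N := by
  classical
  letI : Fintype G := Fintype.ofFinite G
  letI : Fintype N := Fintype.ofFinite N
  have hcon : classInner (fun n : N => (χ : G → ℂ) n) (θ : N → ℂ) ≠ 0 := by
    have : (fun n : N => (χ : G → ℂ) n) = (θ : N → ℂ) := funext hres
    rw [this, irr_orthogonality θ.2 θ.2, if_pos rfl]
    exact one_ne_zero
  exact Cfsg.Agent.Helper18.AlperinDade.constituent_mem_principalBlock hM N hχ θ.2 hcon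

end Block

end Cfsg.Agent.Helper5.PrRes
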