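import Mathlib
import Cfsg.Agent.Lib.Helper5.PrResB
import Cfsg.Agent.Lib.Helper18.SigmaOdd2
import Cfsg.Agent.Lib.Helper24.CharAbelian

/-!
# Characters and the p-residual with cyclic quotient: counting the fixed extensions (helper5)
-/

set_option autoImplicit false
set_option linter.style.haveILetI false

namespace Cfsg.Agent.Helper5.PrRes

open Cfsg Cfsg.Agent.Helper24 Cfsg.Agent.Helper5 Cfsg.Agent.Helper18

universe u

section Count

variable {G : Type u} [Group G] [Finite G] {p : ℕ} [hp : Fact p.Prime]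

/-- modulo `N`, every element is congruent to an element of the Sylow subgroup -/
theorem exists_sylow_rep (N : Subgroup G) [hN : N.Normal] (P : Sylow p G)
    (hNP : N ⊔ (P : Subgroup G) = ⊤) (g : G) :
    ∃ x ∈ (P : Subgroup G), (QuotientGroup.mk g : G ⧸ N) = QuotientGroup.mk x := by
  have hg : g ∈ N ⊔ (P : Subgroup G) := by rw [hNP]; exact Subgroup.mem_top g
  rw [Subgroup.mem_sup_of_normal_left] at hg
  obtain ⟨a, ha, x, hx, rfl⟩ := hg
  refine ⟨x, hx, ?_⟩
  rw [QuotientGroup.mk_mul, (QuotientGroup.eq_one_iff a).mpr ha, one_mul]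

/-- elements of a Sylow `p`-subgroup have `p`-power order -/
theorem exists_orderOf_eq_of_mem_sylow (P : Sylow p G) {x : G} (hx : x ∈ (P : Subgroup G)) :
    ∃ j : ℕ, orderOf x = p ^ j := by
  obtain ⟨j, hj⟩ := P.2 ⟨x, hx⟩
  have h1 : x ^ p ^ j = 1 := by
    have := congrArg Subtype.val hj
    simpa using this
  obtain ⟨i, -, hi⟩ := (Nat.dvd_prime_pow hp.out).mp (orderOf_dvd_of_pow_eq_one h1)
  exact ⟨i, hi⟩

/-- a linear character of `G ⧸ N` is fixed by the power map exactly when its `p`-th power is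
trivial -/
theorem hom_pow_fixed_iff (N : Subgroup G) [hN : N.Normal] (P : Sylow p G)
    (hNP : N ⊔ (P : Subgroup G) = ⊤) {k : ℕ}
    (hk₁ : ∀ g : G, (∃ j : ℕ, orderOf g = p ^ j) → g ^ k = g ^ (1 + p))
    (f : (G ⧸ N) →* ℂˣ) :
    (∀ g : G, f (QuotientGroup.mk (g ^ k)) = f (QuotientGroup.mk g)) ↔ f ^ p = 1 := by
  have key : ∀ g : G, f (QuotientGroup.mk (g ^ k)) =
      f (QuotientGroup.mk g) * (f (QuotientGroup.mk g)) ^ p := by
    intro g
    obtain ⟨x, hx, hgx⟩ := exists_sylow_rep N P hNP g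
    have h1 := hk₁ x (exists_orderOf_eq_of_mem_sylow P hx)
    rw [QuotientGroup.mk_pow, hgx, ← QuotientGroup.mk_pow, h1, QuotientGroup.mk_pow, map_pow,
      pow_add, pow_one]
  constructor
  · intro h
    apply MonoidHom.ext
    intro y
    obtain ⟨g, rfl⟩ := QuotientGroup.mk_surjective y
    have h2 := h g
    rw [key g] at h2
    have h3 : (f (QuotientGroup.mk g)) ^ p = 1 := by
      have := mul_left_cancel (a := f (QuotientGroup.mk g)) (b := (f (QuotientGroup.mk g)) ^ p)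
        (c := 1) (by rw [h2, mul_one])
      exact this
    rw [MonoidHom.pow_apply, h3, MonoidHom.one_apply]
  · intro h g
    rw [key g]
    have h3 : (f (QuotientGroup.mk g)) ^ p = 1 := by
      rw [← MonoidHom.pow_apply, h, MonoidHom.one_apply]
    rw [h3, mul_one]

/-- the number of extensions fixed by the power map, given one such extension, is `p` -/
theorem card_fixed_extensions (N : Subgroup G) [hN : N.Normal] (hcyc : IsCyclic (G ⧸ N))
    (hpidx : p ∣ N.index) (P : Sylow p G) (hNP : N ⊔ (P : Subgroup G) = ⊤) {k : ℕ}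
    (hcop : Nat.Coprime (Nat.card G) k)
    (hk₁ : ∀ g : G, (∃ j : ℕ, orderOf g = p ^ j) → g ^ k = g ^ (1 + p))
    {θ : N → ℂ} (hθ : IsIrrCharacter N θ)
    (hinv : ∀ (g : G) (n : N), θ ⟨g * n * g⁻¹, hN.conj_mem (n : G) n.2 g⟩ = θ n)
    {χ₀ : G → ℂ} (hχ₀ : IsIrrCharacter G χ₀) (hext : ∀ n : N, χ₀ n = θ n)
    (hfix₀ : ∀ g : G, χ₀ (g ^ k) = χ₀ g) :
    Nat.card {χ : IrrCharacter G // (∀ n : N, (χ : G → ℂ) n = θ n) ∧
      ∀ g : G, (χ : G → ℂ) (g ^ k) = (χ : G → ℂ) g} = p := by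
  classical
  letI : Fintype G := Fintype.ofFinite G
  letI : Fintype N := Fintype.ofFinite N
  have hpQ : p ∣ Nat.card (G ⧸ N) := by
    rw [← Subgroup.index_eq_card]
    exact hpidx
  rw [← card_hom_pow_eq_one' (Q := G ⧸ N) (p := p) hpQ]
  symm
  apply Nat.card_congr
  have hirr : ∀ f : (G ⧸ N) →* ℂˣ,
      IsIrrCharacter G (fun g => ((f (QuotientGroup.mk g) : ℂˣ) : ℂ) * χ₀ g) :=
    fun f => isIrrCharacter_twist (f.comp (QuotientGroup.mk' N)) hχ₀
  have hres' : ∀ (f : (G ⧸ N) →* ℂˣ) (n : N),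
      (fun g => ((f (QuotientGroup.mk g) : ℂˣ) : ℂ) * χ₀ g) (n : G) = θ n := by
    intro f n
    show ((f (QuotientGroup.mk (n : G)) : ℂˣ) : ℂ) * χ₀ n = θ n
    rw [(QuotientGroup.eq_one_iff (n : G)).mpr n.2, map_one, Units.val_one, one_mul, hext]
  have hfix' : ∀ f : (G ⧸ N) →* ℂˣ, f ^ p = 1 → ∀ g : G,
      (fun g => ((f (QuotientGroup.mk g) : ℂˣ) : ℂ) * χ₀ g) (g ^ k) =
        (fun g => ((f (QuotientGroup.mk g) : ℂˣ) : ℂ) * χ₀ g) g := by
    intro f hf g
    show ((f (QuotientGroup.mk (g ^ k)) : ℂˣ) : ℂ) * χ₀ (g ^ k) =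
      ((f (QuotientGroup.mk g) : ℂˣ) : ℂ) * χ₀ g
    rw [(hom_pow_fixed_iff N P hNP hk₁ f).mpr hf g, hfix₀]
  have hβirr : ∀ f : (G ⧸ N) →* ℂˣ,
      IsIrrCharacter G (fun g => ((f (QuotientGroup.mk g) : ℂˣ) : ℂ)) :=
    fun f => isIrrCharacter_of_monoidHom (f.comp (QuotientGroup.mk' N))
  have hβN : ∀ f : (G ⧸ N) →* ℂˣ, ∀ n ∈ N,
      (fun g => ((f (QuotientGroup.mk g) : ℂˣ) : ℂ)) n =
        (fun g => ((f (QuotientGroup.mk g) : ℂˣ) : ℂ)) 1 := by
    intro f n hn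
    show ((f (QuotientGroup.mk n) : ℂˣ) : ℂ) = ((f (QuotientGroup.mk (1 : G)) : ℂˣ) : ℂ)
    rw [(QuotientGroup.eq_one_iff n).mpr hn, QuotientGroup.mk_one]
  refine Equiv.ofBijective
    (fun f => ⟨⟨_, hirr f.1⟩, hres' f.1, hfix' f.1 f.2⟩) ⟨?_, ?_⟩
  · rintro ⟨f, hf⟩ ⟨f', hf'⟩ h
    have h1 : (fun g => ((f (QuotientGroup.mk g) : ℂˣ) : ℂ) * χ₀ g) =
        (fun g => ((f' (QuotientGroup.mk g) : ℂˣ) : ℂ) * χ₀ g) :=
      congrArg (fun χ : {χ : IrrCharacter G // (∀ n : N, (χ : G → ℂ) n = θ n) ∧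
        ∀ g : G, (χ : G → ℂ) (g ^ k) = (χ : G → ℂ) g} => ((χ.1 : IrrCharacter G) : G → ℂ)) h
    have h2 := SigmaOdd.gallagher_inj N hθ hinv hχ₀ hext (hβirr f) (hβirr f') (hβN f) (hβN f')
      (by funext g; exact congrFun h1 g)
    apply Subtype.ext
    apply MonoidHom.ext
    intro y
    obtain ⟨g, rfl⟩ := QuotientGroup.mk_surjective y
    exact Units.ext (congrFun h2 g)
  · rintro ⟨χ, hres, hfix⟩
    have hover : classInner (fun n : N => (χ : G → ℂ) n) θ ≠ 0 := by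
      rw [funext hres, irr_orthogonality hθ hθ, if_pos rfl]
      exact one_ne_zero
    obtain ⟨β, hβ, hβk, hχβ⟩ := SigmaOdd.gallagher_surj N hθ hinv hχ₀ hext χ.2 hover
    obtain ⟨β', hβ', hββ'⟩ := exists_deflate N hβ hβk
    letI : Fintype (IrrCharacter (G ⧸ N)) := irrFintype
    have hcomm : ∀ a b : G ⧸ N, a * b = b * a :=
      fun a b => (IsCyclic.commGroup (α := G ⧸ N)).mul_comm a b
    have hdeg : β' 1 = 1 :=
      (charDegree_eq_one_iff hβ').mp (charDegree_eq_one_of_comm hcomm hβ')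
    have hβval : ∀ g : G, β g = β' (QuotientGroup.mk g) := fun g => congrFun hββ' g
    have hβfix : ∀ g : G, β (g ^ k) = β g := by
      have hk1 : ∀ n ∈ N, (fun g => β (g ^ k)) n = (fun g => β (g ^ k)) 1 := by
        intro n hn
        show β (n ^ k) = β (1 ^ k)
        rw [one_pow, hβk _ (N.pow_mem hn k)]
      have heq : (fun g => β (g ^ k)) * χ₀ = β * χ₀ := by
        funext g
        show β (g ^ k) * χ₀ g = β g * χ₀ g
        have h1 := hfix g
        rw [hχβ] at h1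
        have h2 : β (g ^ k) * χ₀ (g ^ k) = β g * χ₀ g := h1
        rw [hfix₀] at h2
        exact h2
      have h3 := SigmaOdd.gallagher_inj N hθ hinv hχ₀ hext (isIrrCharacter_comp_pow hβ hcop) hβ
        hk1 hβk heq
      exact fun g => congrFun h3 g
    have hfp : linHom (isCharacter_of_isIrrCharacter hβ') hdeg ^ p = 1 := by
      apply (hom_pow_fixed_iff N P hNP hk₁ _).mp
      intro g
      apply Units.ext
      rw [linHom_apply, linHom_apply, ← hβval, ← hβval, hβfix]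
    refine ⟨⟨linHom (isCharacter_of_isIrrCharacter hβ') hdeg, hfp⟩, ?_⟩
    apply Subtype.ext
    apply Subtype.ext
    funext g
    show ((linHom (isCharacter_of_isIrrCharacter hβ') hdeg (QuotientGroup.mk g) : ℂˣ) : ℂ) * χ₀ g =
      (χ : G → ℂ) g
    rw [linHom_apply, ← hβval, hχβ]
    rfl

end Count

end Cfsg.Agent.Helper5.PrRes
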