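import Mathlib
import Cfsg.Agent.Lib.Helper5.PrimeTIg

/-!
# Subgroups of prime order equal to their centralizer: digested forms for `e = 2, 3` (helper5)
-/

set_option autoImplicit false
set_option linter.unusedVariables false
set_option linter.unusedSectionVars false
set_option linter.style.haveILetI false

namespace Cfsg.Agent.Helper5.PrimeTI

open Cfsg Cfsg.Agent.Helper24 Cfsg.Agent.Helper5

universe u

set_option maxHeartbeats 1600000 in
/-- The case `e = 2`: besides the principal character exactly one non-exceptional irreducible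
character does not vanish on `P ∖ 1`; its degree `n` and the exceptional degree `d` satisfy
`1 + n a₀ = d ε`. -/
theorem main_e2 {G : Type u} [Group G] [Fintype G] (P : Subgroup G)
    {p t : ℕ} (hp : p.Prime) (hcard : Nat.card P = p)
    (hcent : Subgroup.centralizer (P : Set G) ≤ P)
    (hidx : (P.subgroupOf (Subgroup.normalizer (P : Set G))).index = 2)
    (het : 2 * t + 1 = p) (ht : 4 ≤ t) (hperf : commutator G = ⊤) :
    ∃ (n d : ℕ) (a₀ ε : ℤ), (a₀ = 1 ∨ a₀ = -1) ∧ (ε = 1 ∨ ε = -1) ∧ n ∣ Nat.card G ∧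
      d ∣ Nat.card G ∧ 2 ≤ n ∧ ((n : ℤ) ≡ a₀ [ZMOD p]) ∧ ((d : ℤ) ≡ 2 * ε [ZMOD p]) ∧
      1 + (n : ℤ) * a₀ = d * ε := by
  classical
  letI : Fintype (IrrCharacter G) := irrFintype
  obtain ⟨E, ε, c, d, a, hε, hEcard, hEdeg, hdmod, haE, hval, hmod, hsum2, hsum1, hEone⟩ :=
    main P hp hcard hcent hidx (le_refl 2) het (by omega)
  -- the principal character
  set τ : IrrCharacter G := ⟨fun _ => 1, isIrrCharacter_one⟩ with hτ
  have hτE : τ ∉ E := fun h => hEone τ h rfl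
  obtain ⟨k₀, hk₀, hk₀1⟩ : ∃ k₀ ∈ P, k₀ ≠ 1 := by
    have h1 : 1 < Nat.card P := by rw [hcard]; exact hp.one_lt
    haveI : Nontrivial P := Finite.one_lt_card_iff_nontrivial.mp h1
    obtain ⟨y, hy⟩ := exists_ne (1 : P)
    exact ⟨y.1, y.2, fun h => hy (Subtype.ext h)⟩
  have haτ : a τ = 1 := by
    have := hval τ hτE k₀ hk₀ hk₀1
    have h1 : ((1 : ℤ) : ℂ) = (a τ : ℂ) := by
      rw [← this]; simp [hτ]
    exact (Int.cast_injective h1).symm
  -- `c = 0`
  have hge : 1 ≤ ∑ ψ : IrrCharacter G, a ψ ^ 2 := by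
    have := Finset.single_le_sum (f := fun ψ : IrrCharacter G => a ψ ^ 2)
      (fun ψ _ => sq_nonneg (a ψ)) (Finset.mem_univ τ)
    simp only [haτ] at this
    linarith
  have hc0 : c = 0 := by
    rw [hsum2] at hge
    by_contra hc
    have hc1 : c ≥ 1 ∨ c ≤ -1 := by omega
    have ht' : (4 : ℤ) ≤ t := by exact_mod_cast ht
    have hcc : c ^ 2 ≥ 1 := by rcases hc1 with h1 | h1 <;> nlinarith
    have h7 : (t : ℤ) * c ^ 2 ≥ 4 * c ^ 2 := by nlinarith [sq_nonneg c]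
    have h8 : c ^ 2 ≥ c ∧ c ^ 2 ≥ -c := by
      constructor <;> rcases hc1 with h1 | h1 <;> nlinarith
    push_cast at hge
    rcases hε with h | h <;> subst h <;> linarith [h8.1, h8.2]
  subst hc0
  -- the second character
  have hsum2' : ∑ ψ ∈ Finset.univ.erase τ, a ψ ^ 2 = 1 := by
    have := Finset.add_sum_erase Finset.univ (fun ψ : IrrCharacter G => a ψ ^ 2)
      (Finset.mem_univ τ)
    simp only [haτ] at this
    rw [hsum2] at this
    push_cast at this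
    linarith
  obtain ⟨ψ₀, hψ₀, ha₀, hrest⟩ := exists_of_sum_sq_eq_one a _ hsum2'
  have hψ₀τ : ψ₀ ≠ τ := Finset.ne_of_mem_erase hψ₀
  have hψ₀E : ψ₀ ∉ E := by
    intro h
    have := haE ψ₀ h
    rcases ha₀ with h' | h' <;> omega
  -- the degree relation
  have hdegτ : charDegree (τ : G → ℂ) = 1 := charDegree_one
  have hsum1' : 1 + (charDegree (ψ₀ : G → ℂ) : ℤ) * a ψ₀ = d * ε := by
    have h1 := Finset.add_sum_erase Finset.univ
      (fun ψ : IrrCharacter G => (charDegree (ψ : G → ℂ) : ℤ) * a ψ) (Finset.mem_univ τ)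
    have h2 := Finset.add_sum_erase (Finset.univ.erase τ)
      (fun ψ : IrrCharacter G => (charDegree (ψ : G → ℂ) : ℤ) * a ψ) hψ₀
    have h3 : ∑ ψ ∈ (Finset.univ.erase τ).erase ψ₀, (charDegree (ψ : G → ℂ) : ℤ) * a ψ = 0 := by
      apply Finset.sum_eq_zero
      intro ψ hψ
      rw [hrest ψ (Finset.mem_of_mem_erase hψ) (Finset.ne_of_mem_erase hψ), mul_zero]
    simp only [haτ, hdegτ] at h1
    rw [hsum1, ← h2, h3] at h1
    push_cast at h1
    linarith
  -- the exceptional degree divides the order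
  have hdd : d ∣ Nat.card G := by
    have : E.Nonempty := by
      rw [← Finset.card_pos, hEcard]; omega
    obtain ⟨ψ, hψ⟩ := this
    rw [← hEdeg ψ hψ]
    exact charDegree_dvd_card ψ.2
  refine ⟨charDegree (ψ₀ : G → ℂ), d, a ψ₀, ε, ha₀, hε, charDegree_dvd_card ψ₀.2, hdd, ?_,
    hmod ψ₀ hψ₀E, ?_, hsum1'⟩
  · have hpos := charDegree_pos ψ₀.2
    by_contra hlt
    have h1 : charDegree (ψ₀ : G → ℂ) = 1 := by omega
    apply hψ₀τ
    apply Subtype.ext
    rw [linear_trivial hperf ψ₀.2 h1]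
  · have : ε * ((2 : ℕ) : ℤ) + 0 = 2 * ε := by push_cast; ring
    rw [← this]
    exact hdmod

set_option maxHeartbeats 1600000 in
/-- The case `e = 3`: besides the principal character exactly two non-exceptional irreducible
characters do not vanish on `P ∖ 1`. -/
theorem main_e3 {G : Type u} [Group G] [Fintype G] (P : Subgroup G)
    {p t : ℕ} (hp : p.Prime) (hcard : Nat.card P = p)
    (hcent : Subgroup.centralizer (P : Set G) ≤ P)
    (hidx : (P.subgroupOf (Subgroup.normalizer (P : Set G))).index = 3)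
    (het : 3 * t + 1 = p) (ht : 5 ≤ t) (hperf : commutator G = ⊤) :
    ∃ (n₁ n₂ d : ℕ) (a₁ a₂ ε : ℤ), (a₁ = 1 ∨ a₁ = -1) ∧ (a₂ = 1 ∨ a₂ = -1) ∧
      (ε = 1 ∨ ε = -1) ∧ n₁ ∣ Nat.card G ∧ n₂ ∣ Nat.card G ∧
      d ∣ Nat.card G ∧ 2 ≤ n₁ ∧ 2 ≤ n₂ ∧ ((n₁ : ℤ) ≡ a₁ [ZMOD p]) ∧ ((n₂ : ℤ) ≡ a₂ [ZMOD p]) ∧
      ((d : ℤ) ≡ 3 * ε [ZMOD p]) ∧ 1 + (n₁ : ℤ) * a₁ + (n₂ : ℤ) * a₂ = d * ε := by
  classical
  letI : Fintype (IrrCharacter G) := irrFintype
  obtain ⟨E, ε, c, d, a, hε, hEcard, hEdeg, hdmod, haE, hval, hmod, hsum2, hsum1, hEone⟩ :=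
    main P hp hcard hcent hidx (by norm_num) het (by omega)
  -- the principal character
  set τ : IrrCharacter G := ⟨fun _ => 1, isIrrCharacter_one⟩ with hτ
  have hτE : τ ∉ E := fun h => hEone τ h rfl
  obtain ⟨k₀, hk₀, hk₀1⟩ : ∃ k₀ ∈ P, k₀ ≠ 1 := by
    have h1 : 1 < Nat.card P := by rw [hcard]; exact hp.one_lt
    haveI : Nontrivial P := Finite.one_lt_card_iff_nontrivial.mp h1
    obtain ⟨y, hy⟩ := exists_ne (1 : P)
    exact ⟨y.1, y.2, fun h => hy (Subtype.ext h)⟩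
  have haτ : a τ = 1 := by
    have := hval τ hτE k₀ hk₀ hk₀1
    have h1 : ((1 : ℤ) : ℂ) = (a τ : ℂ) := by
      rw [← this]; simp [hτ]
    exact (Int.cast_injective h1).symm
  -- `c = 0`
  have hge : 1 ≤ ∑ ψ : IrrCharacter G, a ψ ^ 2 := by
    have := Finset.single_le_sum (f := fun ψ : IrrCharacter G => a ψ ^ 2)
      (fun ψ _ => sq_nonneg (a ψ)) (Finset.mem_univ τ)
    simp only [haτ] at this
    linarith
  have hc0 : c = 0 := by
    rw [hsum2] at hge
    by_contra hc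
    have hc1 : c ≥ 1 ∨ c ≤ -1 := by omega
    have ht' : (5 : ℤ) ≤ t := by exact_mod_cast ht
    have hcc : c ^ 2 ≥ 1 := by rcases hc1 with h1 | h1 <;> nlinarith
    have h7 : (t : ℤ) * c ^ 2 ≥ 5 * c ^ 2 := by nlinarith [sq_nonneg c]
    have h8 : c ^ 2 ≥ c ∧ c ^ 2 ≥ -c := by
      constructor <;> rcases hc1 with h1 | h1 <;> nlinarith
    push_cast at hge
    rcases hε with h | h <;> subst h <;> linarith [h8.1, h8.2]
  subst hc0
  -- the other two characters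
  have hsum2' : ∑ ψ ∈ Finset.univ.erase τ, a ψ ^ 2 = 2 := by
    have := Finset.add_sum_erase Finset.univ (fun ψ : IrrCharacter G => a ψ ^ 2)
      (Finset.mem_univ τ)
    simp only [haτ] at this
    rw [hsum2] at this
    push_cast at this
    linarith
  obtain ⟨ψ₁, hψ₁, ψ₂, hψ₂, h12, ha₁, ha₂, hrest⟩ := exists_of_sum_sq_eq_two a _ hsum2'
  have hψ₁τ : ψ₁ ≠ τ := Finset.ne_of_mem_erase hψ₁
  have hψ₂τ : ψ₂ ≠ τ := Finset.ne_of_mem_erase hψ₂
  have hψ₁E : ψ₁ ∉ E := by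
    intro h
    have := haE ψ₁ h
    rcases ha₁ with h' | h' <;> omega
  have hψ₂E : ψ₂ ∉ E := by
    intro h
    have := haE ψ₂ h
    rcases ha₂ with h' | h' <;> omega
  -- the degree relation
  have hdegτ : charDegree (τ : G → ℂ) = 1 := charDegree_one
  have hsum1' : 1 + (charDegree (ψ₁ : G → ℂ) : ℤ) * a ψ₁ +
      (charDegree (ψ₂ : G → ℂ) : ℤ) * a ψ₂ = d * ε := by
    have h1 := Finset.add_sum_erase Finset.univ
      (fun ψ : IrrCharacter G => (charDegree (ψ : G → ℂ) : ℤ) * a ψ) (Finset.mem_univ τ)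
    have h2 := Finset.add_sum_erase (Finset.univ.erase τ)
      (fun ψ : IrrCharacter G => (charDegree (ψ : G → ℂ) : ℤ) * a ψ) hψ₁
    have hψ₂' : ψ₂ ∈ (Finset.univ.erase τ).erase ψ₁ := Finset.mem_erase.mpr ⟨h12.symm, hψ₂⟩
    have h2' := Finset.add_sum_erase ((Finset.univ.erase τ).erase ψ₁)
      (fun ψ : IrrCharacter G => (charDegree (ψ : G → ℂ) : ℤ) * a ψ) hψ₂'
    have h3 : ∑ ψ ∈ ((Finset.univ.erase τ).erase ψ₁).erase ψ₂,
        (charDegree (ψ : G → ℂ) : ℤ) * a ψ = 0 := by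
      apply Finset.sum_eq_zero
      intro ψ hψ
      have hm1 := Finset.mem_of_mem_erase hψ
      rw [hrest ψ (Finset.mem_of_mem_erase hm1) (Finset.ne_of_mem_erase hm1)
        (Finset.ne_of_mem_erase hψ), mul_zero]
    simp only [haτ, hdegτ] at h1
    rw [hsum1, ← h2, ← h2', h3] at h1
    push_cast at h1
    linarith
  -- the exceptional degree divides the order
  have hdd : d ∣ Nat.card G := by
    have : E.Nonempty := by
      rw [← Finset.card_pos, hEcard]; omega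
    obtain ⟨ψ, hψ⟩ := this
    rw [← hEdeg ψ hψ]
    exact charDegree_dvd_card ψ.2
  have hge2 : ∀ ψ : IrrCharacter G, ψ ≠ τ → 2 ≤ charDegree (ψ : G → ℂ) := by
    intro ψ hψτ
    have hpos := charDegree_pos ψ.2
    by_contra hlt
    have h1 : charDegree (ψ : G → ℂ) = 1 := by omega
    apply hψτ
    apply Subtype.ext
    rw [linear_trivial hperf ψ.2 h1]
  refine ⟨charDegree (ψ₁ : G → ℂ), charDegree (ψ₂ : G → ℂ), d, a ψ₁, a ψ₂, ε, ha₁, ha₂, hε,
    charDegree_dvd_card ψ₁.2, charDegree_dvd_card ψ₂.2, hdd, hge2 ψ₁ hψ₁τ, hge2 ψ₂ hψ₂τ,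
    hmod ψ₁ hψ₁E, hmod ψ₂ hψ₂E, ?_, hsum1'⟩
  have : ε * ((3 : ℕ) : ℤ) + 0 = 3 * ε := by push_cast; ring
  rw [← this]
  exact hdmod

end Cfsg.Agent.Helper5.PrimeTI
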