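import Mathlib
import Cfsg.Agent.Lib.Helper5.PrimeTIh
import Cfsg.Agent.Lib.Lead.SylowTools

/-!
# Setting up the prime-order Sylow tool inside a simple group (helper5)
-/

set_option autoImplicit false
set_option linter.unusedVariables false
set_option linter.unusedSectionVars false
set_option linter.style.haveILetI false

namespace Cfsg.Agent.Helper5.PrimeTI

open Cfsg

/-- In a nonabelian simple group, a Sylow subgroup of prime order `p` whose normalizer has order
`p * e` with `e` prime is its own centralizer and has index `e` in its normalizer. -/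
theorem setup {G : Type*} [Group G] [Finite G] [IsSimpleGroup G]
    (hG : ∃ x y : G, x * y ≠ y * x)
    {p e : ℕ} [Fact p.Prime] (P : Sylow p G) (hP : Nat.card (P : Subgroup G) = p)
    (hN : Nat.card (Subgroup.normalizer ((P : Subgroup G) : Set G)) = p * e) (he : e.Prime) :
    Subgroup.centralizer ((P : Subgroup G) : Set G) ≤ (P : Subgroup G) ∧
    ((P : Subgroup G).subgroupOf (Subgroup.normalizer ((P : Subgroup G) : Set G))).index = e := by
  have hpp : p.Prime := Fact.out
  have hpd : p ∣ Nat.card G := hP ▸ Subgroup.card_subgroup_dvd_card _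
  set N := Subgroup.normalizer ((P : Subgroup G) : Set G) with hNdef
  set C := Subgroup.centralizer ((P : Subgroup G) : Set G) with hCdef
  have hCN : C ≤ N := Subgroup.centralizer_le_normalizer _
  have hPN : (P : Subgroup G) ≤ N := Subgroup.le_normalizer
  haveI : IsCyclic (P : Subgroup G) := isCyclic_of_prime_card hP
  have hPC : (P : Subgroup G) ≤ C := by
    intro x hx
    rw [hCdef, Subgroup.mem_centralizer_iff]
    intro y hy
    have := IsCyclic.commGroup (α := (P : Subgroup G))
    have h1 : (⟨y, hy⟩ : (P : Subgroup G)) * ⟨x, hx⟩ = ⟨x, hx⟩ * ⟨y, hy⟩ := by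
      obtain ⟨g, hg⟩ := IsCyclic.exists_generator (α := (P : Subgroup G))
      obtain ⟨m, hm⟩ := hg ⟨y, hy⟩
      obtain ⟨n, hn⟩ := hg ⟨x, hx⟩
      rw [← hm, ← hn, ← zpow_add, ← zpow_add, add_comm]
    exact congrArg Subtype.val h1
  have hNC : ¬ N ≤ C := fun h => Cfsg.Agent.S0073.not_normalizer_le_centralizer hG P hpd h
  have h1 : Nat.card (P : Subgroup G) ∣ Nat.card C := Subgroup.card_dvd_of_le hPC
  have h2 : Nat.card C ∣ Nat.card N := Subgroup.card_dvd_of_le hCN
  rw [hP] at h1
  rw [hN] at h2
  obtain ⟨k, hk⟩ := h1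
  rw [hk] at h2
  have hk_dvd : k ∣ e := (Nat.mul_dvd_mul_iff_left hpp.pos).1 h2
  have hk1 : k = 1 := by
    rcases (Nat.dvd_prime he).1 hk_dvd with h | h
    · exact h
    · exfalso
      apply hNC
      have : C = N := Subgroup.eq_of_le_of_card_ge hCN (by rw [hk, hN, h])
      rw [this]
  constructor
  · have : (P : Subgroup G) = C :=
      Subgroup.eq_of_le_of_card_ge hPC (by rw [hk, hk1, hP, mul_one])
    rw [← this]
  · have h3 := Subgroup.card_mul_index ((P : Subgroup G).subgroupOf N)
    have h4 : Nat.card ((P : Subgroup G).subgroupOf N) = p :=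
      (Nat.card_congr (Subgroup.subgroupOfEquivOfLe hPN).toEquiv).trans hP
    rw [h4, hN] at h3
    exact Nat.eq_of_mul_eq_mul_left hpp.pos h3

/-- A divisor of `p * m` not divisible by the prime `p` divides `m`. -/
theorem dvd_of_dvd_mul_of_mod {n p m : ℕ} (hp : p.Prime) (h : n ∣ p * m) (hr : n % p ≠ 0) :
    n ∣ m := by
  have hcop : Nat.Coprime n p := by
    rw [Nat.coprime_comm, Nat.Prime.coprime_iff_not_dvd hp]
    intro hd
    exact hr (Nat.mod_eq_zero_of_dvd hd)
  exact hcop.dvd_of_dvd_mul_left h

end Cfsg.Agent.Helper5.PrimeTI
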