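import Mathlib
import Cfsg.Prelude.Def_Solvable
import Cfsg.Prelude.Def_CaseTheorems
import Cfsg.Agent.Lib.Helper16.Solvable2
import Cfsg.Agent.Lib.Helper19.PGroupBasic

/-!
# Solvable groups in which every element is real and all involutions are conjugate

Main result: in such a group `H` with `O(H) = 1` there is only one involution.
-/

set_option autoImplicit false

namespace Cfsg.Agent.Helper5.RealSolv

open Subgroup

section basic

variable {H : Type*} [Group H]

theorem conj_pow_parity {g x : H} (hg : g * x * g⁻¹ = x⁻¹) (j : ℕ) :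
    g ^ j * x * (g ^ j)⁻¹ = if Even j then x else x⁻¹ := by
  induction j with
  | zero => simp
  | succ j ih =>
    have h1 : g ^ (j + 1) * x * (g ^ (j + 1))⁻¹ = g * (g ^ j * x * (g ^ j)⁻¹) * g⁻¹ := by
      rw [pow_succ']; group
    rw [h1, ih]
    by_cases hj : Even j
    · have h2 : ¬ Even (j + 1) := by
        rw [Nat.even_add_one]; exact not_not.2 hj
      rw [if_pos hj, if_neg h2, hg]
    · have h2 : Even (j + 1) := by
        rw [Nat.even_add_one]; exact hj
      rw [if_neg hj, if_pos h2]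
      have h3 : g * x⁻¹ * g⁻¹ = (g * x * g⁻¹)⁻¹ := by group
      rw [h3, hg, inv_inv]

/-- A real element is inverted by a `2`-element. -/
theorem exists_two_elt_inverting [Finite H] {x : H} (hx : IsConj x x⁻¹) :
    ∃ (w : H) (k : ℕ), orderOf w = 2 ^ k ∧ w * x * w⁻¹ = x⁻¹ := by
  obtain ⟨g, hg⟩ := isConj_iff.1 hx
  have hn : orderOf g ≠ 0 := (orderOf_pos g).ne'
  obtain ⟨a, m, hm, hnm⟩ := Nat.exists_eq_two_pow_mul_odd hn
  have h1 : (g ^ m) ^ (2 ^ a) = 1 := by
    rw [← pow_mul, mul_comm, ← hnm, pow_orderOf_eq_one]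
  have h2 : orderOf (g ^ m) ∣ 2 ^ a := orderOf_dvd_of_pow_eq_one h1
  obtain ⟨k, -, hk⟩ := (Nat.dvd_prime_pow Nat.prime_two).1 h2
  refine ⟨g ^ m, k, hk, ?_⟩
  rw [conj_pow_parity hg m, if_neg (Nat.not_even_iff_odd.2 hm)]

theorem eq_one_of_odd_of_pow_two_pow {x : H} (hodd : Odd (orderOf x)) {j : ℕ}
    (hx : x ^ (2 ^ j) = 1) : x = 1 := by
  have h1 : orderOf x ∣ 2 ^ j := orderOf_dvd_of_pow_eq_one hx
  have h2 : (orderOf x).Coprime (2 ^ j) := by
    apply Nat.Coprime.pow_right
    exact (Nat.coprime_comm.1 (Nat.coprime_two_left.2 hodd))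
  have h3 : orderOf x = 1 := Nat.Coprime.eq_one_of_dvd h2 h1
  exact orderOf_eq_one_iff.1 h3

end basic

section main

variable {H : Type*} [Group H] [Finite H]

/-- If all involutions lie in a normal `2`-subgroup `Q`, a nontrivial real element of odd order
commutes with some involution. -/
theorem exists_invol_commute (Q : Subgroup H) [hQn : Q.Normal] (hQp : IsPGroup 2 Q)
    (hinv : ∀ s : H, orderOf s = 2 → s ∈ Q) {x : H} (hx : IsConj x x⁻¹)
    (hodd : Odd (orderOf x)) (hx1 : x ≠ 1) : ∃ y : H, orderOf y = 2 ∧ Commute y x := by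
  obtain ⟨w, k, hk, hw⟩ := exists_two_elt_inverting hx
  have hw2 : Commute (w ^ 2) x := by
    have h1 := conj_pow_parity hw 2
    rw [if_pos (by decide)] at h1
    have h2 : w ^ 2 * x = x * w ^ 2 := by
      calc w ^ 2 * x = (w ^ 2 * x * (w ^ 2)⁻¹) * w ^ 2 := by group
        _ = x * w ^ 2 := by rw [h1]
    exact h2
  rcases Nat.lt_or_ge k 2 with hk2 | hk2
  · exfalso
    interval_cases k
    · -- w = 1
      rw [pow_zero, orderOf_eq_one_iff] at hk
      rw [hk, one_mul, inv_one, mul_one] at hw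
      -- x = x⁻¹
      have h1 : x ^ 2 = 1 := by
        rw [pow_two]; nth_rewrite 2 [hw]; exact mul_inv_cancel x
      exact hx1 (eq_one_of_odd_of_pow_two_pow (j := 1) hodd (by simpa using h1))
    · -- w involution in Q
      rw [pow_one] at hk
      have hwQ : w ∈ Q := hinv w hk
      have hw2' : w ^ 2 = 1 := by rw [← hk, pow_orderOf_eq_one]
      have hwinv : w⁻¹ = w := by
        rw [inv_eq_iff_mul_eq_one, ← pow_two, hw2']
      have h1 : x⁻¹ * w * x ∈ Q := by
        have := hQn.conj_mem w hwQ x⁻¹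
        rwa [inv_inv] at this
      have h2 : w * (x⁻¹ * w * x) ∈ Q := Q.mul_mem hwQ h1
      have h3 : w * (x⁻¹ * w * x) = x ^ 2 := by
        have h4 : w * x⁻¹ * w = x := by
          have : w * x⁻¹ * w⁻¹ = (w * x * w⁻¹)⁻¹ := by group
          rw [hwinv] at this
          rw [this]
          nth_rewrite 2 [← hwinv]
          rw [hw, inv_inv]
        calc w * (x⁻¹ * w * x) = (w * x⁻¹ * w) * x := by group
          _ = x ^ 2 := by rw [h4, pow_two]
      rw [h3] at h2
      obtain ⟨j, hj⟩ := (IsPGroup.iff_orderOf.1 hQp) ⟨x ^ 2, h2⟩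
      have h5 : (x ^ 2) ^ (2 ^ j) = 1 := by
        have := pow_orderOf_eq_one (⟨x ^ 2, h2⟩ : Q)
        rw [hj] at this
        have h6 := congrArg Subtype.val this
        simpa using h6
      have h6 : x ^ (2 ^ (j + 1)) = 1 := by
        rw [pow_succ', pow_mul]; exact h5
      exact hx1 (eq_one_of_odd_of_pow_two_pow hodd h6)
  · refine ⟨w ^ (2 ^ (k - 1)), ?_, ?_⟩
    · rw [orderOf_pow_of_dvd (pow_pos (by norm_num) _).ne', hk]
      · have : 2 ^ k = 2 ^ (k - 1) * 2 := by rw [← pow_succ]; congr 1; omega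
        rw [this, Nat.mul_div_cancel_left _ (pow_pos (by norm_num) _)]
      · rw [hk]; exact pow_dvd_pow 2 (by omega)
    · have : w ^ (2 ^ (k - 1)) = (w ^ 2) ^ (2 ^ (k - 2)) := by
        rw [← pow_mul, ← pow_succ']; congr 2; omega
      rw [this]
      exact hw2.pow_left _

/-- Under the same hypotheses (and all elements real), every element of `H` commutes with some
involution. -/
theorem exists_invol_fixed (Q : Subgroup H) [hQn : Q.Normal] (hQp : IsPGroup 2 Q) (hQne : Q ≠ ⊥)
    (hinv : ∀ s : H, orderOf s = 2 → s ∈ Q) (hreal : ∀ x : H, IsConj x x⁻¹) (h : H) :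
    ∃ y : H, orderOf y = 2 ∧ Commute y h := by
  haveI : Fact (Nat.Prime 2) := ⟨Nat.prime_two⟩
  have hn : orderOf h ≠ 0 := (orderOf_pos h).ne'
  obtain ⟨a, m, hm, hnm⟩ := Nat.exists_eq_two_pow_mul_odd hn
  obtain ⟨x, hxdef⟩ : ∃ x : H, x = h ^ (2 ^ a) := ⟨_, rfl⟩
  obtain ⟨u, hudef⟩ : ∃ u : H, u = h ^ m := ⟨_, rfl⟩
  have hxm : x ^ m = 1 := by rw [hxdef, ← pow_mul, ← hnm, pow_orderOf_eq_one]
  have hxodd : Odd (orderOf x) := Odd.of_dvd_nat hm (orderOf_dvd_of_pow_eq_one hxm)
  have hu2 : u ^ (2 ^ a) = 1 := by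
    rw [hudef, ← pow_mul, mul_comm, ← hnm, pow_orderOf_eq_one]
  have hux : Commute u x := by
    rw [hudef, hxdef]; exact (Commute.refl h).pow_pow m (2 ^ a)
  -- h is a product of powers of u and x
  have hcop : Nat.Coprime m (2 ^ a) :=
    Nat.Coprime.pow_right _ (Nat.coprime_comm.1 (Nat.coprime_two_left.2 hm))
  have hbez : h = u ^ (Nat.gcdA m (2 ^ a)) * x ^ (Nat.gcdB m (2 ^ a)) := by
    have h1 := Nat.gcd_eq_gcd_ab m (2 ^ a)
    rw [hcop] at h1
    rw [hudef, hxdef, ← zpow_natCast h m, ← zpow_natCast h (2 ^ a), ← zpow_mul, ← zpow_mul,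
      ← zpow_add, ← h1]
    simp
  obtain ⟨D, hD⟩ : ∃ D : Subgroup H, D = Q ⊓ centralizer {x} := ⟨_, rfl⟩
  have hmemD : ∀ d : H, d ∈ D ↔ d ∈ Q ∧ Commute d x := by
    intro d
    rw [hD, mem_inf, mem_centralizer_iff]
    constructor
    · rintro ⟨h1, h2⟩
      exact ⟨h1, (h2 x (Set.mem_singleton x)).symm⟩
    · rintro ⟨h1, h2⟩
      refine ⟨h1, ?_⟩
      intro z hz
      rw [Set.mem_singleton_iff] at hz
      rw [hz]; exact h2.eq.symm
  have hDne : D ≠ ⊥ := by
    by_cases hx1 : x = 1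
    · intro hbot
      apply hQne
      rw [eq_bot_iff]
      intro q hq
      have : q ∈ D := (hmemD q).2 ⟨hq, by rw [hx1]; exact Commute.one_right q⟩
      rw [hbot] at this; exact this
    · obtain ⟨y, hy2, hyx⟩ := exists_invol_commute Q hQp hinv (hreal x) hxodd hx1
      intro hbot
      have : y ∈ D := (hmemD y).2 ⟨hinv y hy2, hyx⟩
      rw [hbot, mem_bot] at this
      rw [this, orderOf_one] at hy2
      norm_num at hy2
  have hDp : IsPGroup 2 D := by
    rw [hD]; exact hQp.to_le inf_le_left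
  have hup : IsPGroup 2 (zpowers u) := by
    have h2 : orderOf u ∣ 2 ^ a := orderOf_dvd_of_pow_eq_one hu2
    obtain ⟨k, -, hk⟩ := (Nat.dvd_prime_pow Nat.prime_two).1 h2
    apply IsPGroup.of_card (n := k)
    rw [Nat.card_zpowers, hk]
  have hconj : ∀ g : H, Commute g x → ∀ d ∈ D, g * d * g⁻¹ ∈ D := by
    intro g hg d hd
    rw [hmemD] at hd ⊢
    refine ⟨hQn.conj_mem d hd.1 g, ?_⟩
    exact (hg.mul_left hd.2).mul_left hg.inv_left
  have hnorm : zpowers u ≤ normalizer (D : Set H) := by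
    rw [le_normalizer_iff]
    intro g hg d hd
    obtain ⟨i, rfl⟩ := mem_zpowers_iff.1 hg
    exact hconj _ (hux.zpow_left i) d hd
  obtain ⟨P, hP⟩ : ∃ P : Subgroup H, P = zpowers u ⊔ D := ⟨_, rfl⟩
  have hPp : IsPGroup 2 P := by
    rw [hP]; exact IsPGroup.to_sup_of_normal_right' hup hDp hnorm
  have hDP : D ≤ P := by rw [hP]; exact le_sup_right
  have huP : u ∈ P := by
    rw [hP]; exact (le_sup_left : zpowers u ≤ zpowers u ⊔ D) (mem_zpowers u)
  have hPn : P ≤ normalizer (D : Set H) := by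
    rw [hP]; exact sup_le hnorm le_normalizer
  haveI hDn : (D.subgroupOf P).Normal := (normal_subgroupOf_iff_le_normalizer hDP).2 hPn
  have hDPne : D.subgroupOf P ≠ ⊥ := by
    intro hb
    apply hDne
    rw [eq_bot_iff]
    intro d hd
    have : (⟨d, hDP hd⟩ : P) ∈ D.subgroupOf P := by rw [mem_subgroupOf]; exact hd
    rw [hb, mem_bot] at this
    rw [mem_bot]
    exact congrArg Subtype.val this
  have hcen := Cfsg.Agent.Helper19.normal_inf_center_ne_bot hPp (D.subgroupOf P) hDPne
  obtain ⟨⟨⟨y0, hy0P⟩, hy0⟩, hy1⟩ := (Subgroup.ne_bot_iff_exists_ne_one).1 hcen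
  have hy0D : y0 ∈ D := by
    have h1 : (⟨y0, hy0P⟩ : P) ∈ D.subgroupOf P := hy0.1
    exact mem_subgroupOf.1 h1
  have hy0c : ∀ z ∈ P, z * y0 = y0 * z := by
    intro z hz
    have h1 : (⟨y0, hy0P⟩ : P) ∈ center P := hy0.2
    have h2 := (mem_center_iff.1 h1) ⟨z, hz⟩
    exact congrArg Subtype.val h2
  have hy0ne : y0 ≠ 1 := by
    intro h1
    apply hy1
    apply Subtype.ext
    apply Subtype.ext
    exact h1
  have hyu : Commute y0 u := (hy0c u huP).symm
  have hyx : Commute y0 x := ((hmemD y0).1 hy0D).2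
  have hyh : Commute y0 h := by
    rw [hbez]
    exact (hyu.zpow_right _).mul_right (hyx.zpow_right _)
  -- take the involution in ⟨y0⟩
  obtain ⟨j, hj⟩ := (IsPGroup.iff_orderOf.1 hDp) ⟨y0, hy0D⟩
  rw [Subgroup.orderOf_mk] at hj
  have hj0 : j ≠ 0 := by
    intro h0
    rw [h0, pow_zero, orderOf_eq_one_iff] at hj
    exact hy0ne hj
  refine ⟨y0 ^ (2 ^ (j - 1)), ?_, hyh.pow_left _⟩
  rw [orderOf_pow_of_dvd (pow_pos (by norm_num) _).ne', hj]
  · have : 2 ^ j = 2 ^ (j - 1) * 2 := by rw [← pow_succ]; congr 1; omega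
    rw [this, Nat.mul_div_cancel_left _ (pow_pos (by norm_num) _)]
  · rw [hj]; exact pow_dvd_pow 2 (by omega)

/-- Burnside counting: if `H` permutes its involutions transitively by conjugation and every
element commutes with some involution, there is at most one involution. -/
theorem invol_unique_of_fixed
    (hone : ∀ s t : H, orderOf s = 2 → orderOf t = 2 → IsConj s t)
    (hfix : ∀ h : H, ∃ y : H, orderOf y = 2 ∧ Commute y h) :
    ∀ s t : H, orderOf s = 2 → orderOf t = 2 → s = t := by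
  classical
  intro s t hs ht
  have hord : ∀ (g y : H), orderOf (g * y * g⁻¹) = orderOf y := by
    intro g y
    have : g * y * g⁻¹ = MulAut.conj g y := by simp [MulAut.conj_apply]
    rw [this, MulEquiv.orderOf_eq]
  letI : MulAction H {y : H // orderOf y = 2} :=
    { smul := fun g y => ⟨g * y.1 * g⁻¹, by rw [hord]; exact y.2⟩
      one_smul := fun y => Subtype.ext (by
        show 1 * y.1 * 1⁻¹ = y.1
        simp)
      mul_smul := fun g g' y => Subtype.ext (by
        show (g * g') * y.1 * (g * g')⁻¹ = g * (g' * y.1 * g'⁻¹) * g⁻¹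
        group) }
  have hsmul : ∀ (g : H) (y : {y : H // orderOf y = 2}),
      ((g • y : {y : H // orderOf y = 2}) : H) = g * y.1 * g⁻¹ := fun _ _ => rfl
  haveI : MulAction.IsPretransitive H {y : H // orderOf y = 2} := ⟨fun a b => by
      obtain ⟨c, hc⟩ := isConj_iff.1 (hone a.1 b.1 a.2 b.2)
      exact ⟨c, Subtype.ext hc⟩⟩
  haveI : Fintype H := Fintype.ofFinite H
  haveI : Fintype {y : H // orderOf y = 2} := Fintype.ofFinite _
  haveI : ∀ g : H, Fintype (MulAction.fixedBy {y : H // orderOf y = 2} g) :=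
    fun g => Fintype.ofFinite _
  haveI : Fintype (MulAction.orbitRel.Quotient H {y : H // orderOf y = 2}) := Fintype.ofFinite _
  have hB := MulAction.sum_card_fixedBy_eq_card_orbits_mul_card_group H {y : H // orderOf y = 2}
  have hq1 : Fintype.card (MulAction.orbitRel.Quotient H {y : H // orderOf y = 2}) = 1 := by
    haveI : Subsingleton (MulAction.orbitRel.Quotient H {y : H // orderOf y = 2}) :=
      (MulAction.pretransitive_iff_subsingleton_quotient H _).1 inferInstance
    rw [Fintype.card_eq_one_iff]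
    exact ⟨Quotient.mk'' ⟨s, hs⟩, fun y => Subsingleton.elim _ _⟩
  rw [hq1, one_mul] at hB
  have hge : ∀ g : H, 1 ≤ Fintype.card (MulAction.fixedBy {y : H // orderOf y = 2} g) := by
    intro g
    obtain ⟨y, hy2, hyc⟩ := hfix g
    refine Fintype.card_pos_iff.2 ⟨⟨⟨y, hy2⟩, ?_⟩⟩
    rw [MulAction.mem_fixedBy]
    apply Subtype.ext
    rw [hsmul]
    show g * y * g⁻¹ = y
    rw [← hyc.eq]; group
  have h1 : Fintype.card (MulAction.fixedBy {y : H // orderOf y = 2} (1 : H)) =
      Fintype.card {y : H // orderOf y = 2} := by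
    apply Fintype.card_congr
    exact Equiv.subtypeUnivEquiv (fun y => by simp [MulAction.mem_fixedBy])
  have hsum : Fintype.card {y : H // orderOf y = 2} + (Fintype.card H - 1) ≤
      ∑ g : H, Fintype.card (MulAction.fixedBy {y : H // orderOf y = 2} g) := by
    rw [← Finset.add_sum_erase Finset.univ _ (Finset.mem_univ (1 : H)), h1]
    apply Nat.add_le_add_left
    calc Fintype.card H - 1 = (Finset.univ.erase (1 : H)).card := by
          rw [Finset.card_erase_of_mem (Finset.mem_univ _), Finset.card_univ]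
      _ = ∑ g ∈ Finset.univ.erase (1 : H), 1 := by simp
      _ ≤ _ := Finset.sum_le_sum (fun g _ => hge g)
  have hH : 0 < Fintype.card H := Fintype.card_pos
  have hle : Fintype.card {y : H // orderOf y = 2} ≤ 1 := by omega
  have hsub : Subsingleton {y : H // orderOf y = 2} := Fintype.card_le_one_iff_subsingleton.1 hle
  have := hsub.elim ⟨s, hs⟩ ⟨t, ht⟩
  exact congrArg Subtype.val this

/-- In a finite solvable group with `O(H) = 1`, all elements real and one class of involutions,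
there is exactly one involution. -/
theorem invol_unique (hsol : Group.IsSolvable H) (hO : Cfsg.pPrimeCore 2 H = ⊥)
    (hreal : ∀ x : H, IsConj x x⁻¹)
    (hone : ∀ s t : H, orderOf s = 2 → orderOf t = 2 → IsConj s t)
    {s0 : H} (hs0 : orderOf s0 = 2) :
    ∀ s t : H, orderOf s = 2 → orderOf t = 2 → s = t := by
  haveI : Fact (Nat.Prime 2) := ⟨Nat.prime_two⟩
  obtain ⟨Q, hQ⟩ : ∃ Q : Subgroup H, Q = Cfsg.pCore 2 H := ⟨_, rfl⟩
  haveI hQn : Q.Normal := by
    rw [hQ]; exact Subgroup.sSup_normal _ (fun _ h => h.1)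
  have hQp : IsPGroup 2 Q := by
    rw [hQ]; exact Sylow.sSup_of_normal _ (fun _ h => h.2) (fun _ h => h.1)
  have hQne : Q ≠ ⊥ := by
    intro hb
    have hC := Cfsg.Agent.Helper16.centralizer_pCore_le_of_isSolvable 2 hsol hO
    rw [← hQ, hb] at hC
    have h1 : s0 ∈ centralizer ((⊥ : Subgroup H) : Set H) := by
      rw [mem_centralizer_iff]
      intro z hz
      rw [SetLike.mem_coe, mem_bot] at hz
      rw [hz]; simp
    have h2 := hC h1
    rw [mem_bot] at h2
    rw [h2, orderOf_one] at hs0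
    norm_num at hs0
  obtain ⟨q, hq⟩ : ∃ q : Q, orderOf q = 2 := by
    have : 2 ∣ Nat.card Q := by
      obtain ⟨n, hn⟩ := IsPGroup.iff_card.1 hQp
      rw [hn]
      apply dvd_pow_self
      intro h0
      rw [h0, pow_zero] at hn
      exact hQne (Subgroup.card_eq_one.1 hn)
    exact exists_prime_orderOf_dvd_card' 2 this
  have hinv : ∀ s : H, orderOf s = 2 → s ∈ Q := by
    intro s hs
    have hq' : orderOf (q : H) = 2 := by rw [Subgroup.orderOf_coe]; exact hq
    obtain ⟨c, hc⟩ := isConj_iff.1 (hone q s hq' hs)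
    rw [← hc]
    exact hQn.conj_mem _ q.2 c
  exact invol_unique_of_fixed hone (exists_invol_fixed Q hQp hQne hinv hreal)

end main

end Cfsg.Agent.Helper5.RealSolv
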