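import Mathlib
import Cfsg.Agent.Lib.Helper5.S74ExPSp

/-! S2512 piece S12-MIXED (helper5): a twisted block next to the other blocks and a unipotent. -/

set_option autoImplicit false
set_option linter.unusedVariables false

open Polynomial

namespace Cfsg.Agent.Helper5.S12

open Cfsg.Agent.Helper15
open Cfsg.Agent.Helper15.S74 hiding Mod

universe v v₁ v₂ u

theorem s12_mixed_odd_lcm (a b : ℕ) (ha : Odd a) (hb : Odd b) : Odd (Nat.lcm a b) :=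
  Odd.of_dvd_nat (ha.mul hb) (Nat.lcm_dvd_mul a b)

theorem s12_mixed_coprime_lcm (a b p : ℕ) (ha : Nat.Coprime a p) (hb : Nat.Coprime b p) :
    Nat.Coprime (Nat.lcm a b) p :=
  Nat.Coprime.coprime_dvd_left (Nat.lcm_dvd_mul a b) (Nat.Coprime.mul_left ha hb)

/-- PIECE S12-MIXED. -/
theorem mixed_case_of {F : Type u} [Field F] [Fintype F] (p : ℕ) [Fact p.Prime] [CharP F p]
    (hp2 : p ≠ 2)
    (huni : ∀ r c : ℕ, 1 ≤ c → p ^ (c - 1) < 2 * r → S74.Mod.{u, u} F r (p ^ c))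
    (hprod : ∀ k₁ k₂ N₁ N₂ : ℕ, S74.Mod.{u, u} F k₁ N₁ → S74.Mod.{u, u} F k₂ N₂ →
      S74.Mod.{u, u} F (k₁ + k₂) (Nat.lcm N₁ N₂))
    (n : ℕ) (hn : 2 ≤ n) (d₁ o₁ k' N' c a : ℕ) (hd₁ : 1 ≤ d₁) (ho₁ : Odd o₁)
    (ho₁p : Nat.Coprime o₁ p)
    (hblk : 2 * o₁ ∣ Fintype.card F ^ d₁ - 1 ∨ 2 * o₁ ∣ Fintype.card F ^ d₁ + 1)
    (hN' : Odd N') (hN'p : Nat.Coprime N' p) (hk'0 : k' = 0 → N' = 1)
    (hrest : S74.Mod.{u, u} F k' N') (hle : d₁ + k' ≤ n)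
    (hc : c = 0 ∨ p ^ (c - 1) < 2 * (n - d₁ - k')) (ha : Odd a)
    (hadvd : a ∣ Nat.lcm o₁ N' * p ^ c) :
    (∃ N, 2 * a ∣ N ∧ S74.ModN.{u, u} F n N) ∨
      (a ∣ Fintype.card F ^ n - 1 ∨ a ∣ Fintype.card F ^ n + 1) := by
  have hp : p.Prime := Fact.out
  have h2F : (2 : F) ≠ 0 := S62.two_ne_zero_of_char p hp2
  have hpodd : Odd p := hp.odd_of_ne_two hp2
  set r₀ := n - d₁ - k' with hr₀
  have hv : S74.Mod.{u, u} F r₀ (p ^ c) := by
    by_cases hc0 : c = 0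
    · rw [hc0, pow_zero]
      exact S74.mod_pad r₀
    · rcases hc with h | h
      · exact absurd h hc0
      · exact huni r₀ c (by omega) h
  have hrest' := hprod k' r₀ N' (p ^ c) hrest hv
  by_cases hpos : 1 ≤ k' + r₀
  · left
    have hoddrest : Odd (Nat.lcm N' (p ^ c)) := s12_mixed_odd_lcm _ _ hN' hpodd.pow
    have hN := S74.modN_of_odd h2F (k' + r₀) _ hpos hoddrest hrest'
    have hB : S74.Mod.{0, u} F d₁ (2 * o₁) :=
      (S74.s74x_modB_of_dvd p hp2 d₁ (2 * o₁) hd₁ hblk).mod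
    have hfin := S74.modN_prod d₁ (k' + r₀) (2 * o₁) (Nat.lcm N' (p ^ c)) hB hN
    have hdim : d₁ + (k' + r₀) = n := by omega
    rw [hdim] at hfin
    refine ⟨_, ?_, hfin⟩
    have h1 : 2 ∣ Nat.lcm (2 * o₁) (Nat.lcm N' (p ^ c)) :=
      dvd_trans (Dvd.intro _ rfl) (Nat.dvd_lcm_left _ _)
    have h2 : o₁ ∣ Nat.lcm (2 * o₁) (Nat.lcm N' (p ^ c)) :=
      dvd_trans (Dvd.intro_left 2 rfl) (Nat.dvd_lcm_left _ _)
    have h3 : N' ∣ Nat.lcm (2 * o₁) (Nat.lcm N' (p ^ c)) :=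
      dvd_trans (Nat.dvd_lcm_left _ _) (Nat.dvd_lcm_right _ _)
    have h4 : p ^ c ∣ Nat.lcm (2 * o₁) (Nat.lcm N' (p ^ c)) :=
      dvd_trans (Nat.dvd_lcm_right _ _) (Nat.dvd_lcm_right _ _)
    have h5 : Nat.lcm o₁ N' ∣ Nat.lcm (2 * o₁) (Nat.lcm N' (p ^ c)) := Nat.lcm_dvd h2 h3
    have hcop : Nat.Coprime (Nat.lcm o₁ N') (p ^ c) :=
      (s12_mixed_coprime_lcm _ _ _ ho₁p hN'p).pow_right c
    have h6 : Nat.lcm o₁ N' * p ^ c ∣ Nat.lcm (2 * o₁) (Nat.lcm N' (p ^ c)) :=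
      hcop.mul_dvd_of_dvd_of_dvd h5 h4
    have h7 : a ∣ Nat.lcm (2 * o₁) (Nat.lcm N' (p ^ c)) := dvd_trans hadvd h6
    have hcop2 : Nat.Coprime 2 a := Nat.coprime_two_left.mpr ha
    exact hcop2.mul_dvd_of_dvd_of_dvd h1 h7
  · right
    have hk0 : k' = 0 := by omega
    have hr0 : r₀ = 0 := by omega
    have hc0 : c = 0 := by
      rcases hc with h | h
      · exact h
      · rw [hr0] at h
        omega
    have hN1 := hk'0 hk0
    rw [hN1, hc0, Nat.lcm_one_right, pow_zero, mul_one] at hadvd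
    have hnd : n = d₁ := by omega
    rw [hnd]
    rcases hblk with h | h
    · exact Or.inl (dvd_trans hadvd (dvd_trans (Dvd.intro_left 2 rfl) h))
    · exact Or.inr (dvd_trans hadvd (dvd_trans (Dvd.intro_left 2 rfl) h))

end Cfsg.Agent.Helper5.S12
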