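import Mathlib

/-! S2512 piece S12-NILP (helper5): the unipotent `[[1+t, 1], [t, 1]]` of `SL₂(R)` has `(G - 1)^2 = t G`. -/

set_option autoImplicit false

open Polynomial

namespace Cfsg.Agent.Helper5.S12

universe v v₁ v₂ u

section nilp

variable {F : Type u} [Field F] {R : Type v} [CommRing R] [Algebra F R]

/-- multiplication by `t` on both coordinates -/
noncomputable def s12_nilp_T (F : Type u) [Field F] {R : Type v} [CommRing R] [Algebra F R] (t : R) :
    (R × R) →ₗ[F] (R × R) :=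
  LinearMap.prodMap (LinearMap.mulLeft F t) (LinearMap.mulLeft F t)

theorem s12_nilp_T_apply (t : R) (x : R × R) : s12_nilp_T F t x = (t * x.1, t * x.2) := rfl

theorem s12_nilp_T_pow_apply (t : R) (j : ℕ) (x : R × R) :
    ((s12_nilp_T F t) ^ j) x = (t ^ j * x.1, t ^ j * x.2) := by
  induction j generalizing x with
  | zero => simp
  | succ j ih =>
    rw [pow_succ, Module.End.mul_apply, ih, s12_nilp_T_apply]
    ext <;> simp [pow_succ, mul_assoc]

theorem nilp_facts (t : R) (r : ℕ)
    (hr : 1 ≤ r) (ht : t ^ r = 0) (ht' : t ^ (r - 1) ≠ 0) (g : (R × R) ≃ₗ[F] (R × R))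
    (hg : ∀ x, g x = ((1 + t) * x.1 + x.2, t * x.1 + x.2)) :
    ((g : (R × R) →ₗ[F] (R × R)) - 1) ^ (2 * r) = 0 ∧
      ((g : (R × R) →ₗ[F] (R × R)) - 1) ^ (2 * r - 1) ≠ 0 := by
  set G : (R × R) →ₗ[F] (R × R) := (g : (R × R) →ₗ[F] (R × R)) with hG
  set T := s12_nilp_T F t with hT
  have hGa : ∀ x, G x = ((1 + t) * x.1 + x.2, t * x.1 + x.2) := fun x => hg x
  have hN : ∀ x, (G - 1) x = (t * x.1 + x.2, t * x.1) := by
    intro x
    rw [LinearMap.sub_apply, hGa, Module.End.one_apply]
    ext <;> simp <;> ring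
  have hcomm : Commute T G := by
    apply LinearMap.ext
    intro x
    rw [Module.End.mul_apply, Module.End.mul_apply, hGa, hGa, hT, s12_nilp_T_apply,
      s12_nilp_T_apply]
    ext <;> simp <;> ring
  have hsq : (G - 1) ^ 2 = T * G := by
    apply LinearMap.ext
    intro x
    rw [pow_two, Module.End.mul_apply, hN, hN, Module.End.mul_apply, hGa, hT, s12_nilp_T_apply]
    ext <;> simp <;> ring
  have hpow : ∀ j : ℕ, (G - 1) ^ (2 * j) = T ^ j * G ^ j := by
    intro j
    rw [pow_mul, hsq, hcomm.mul_pow]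
  have hTr : T ^ r = 0 := by
    apply LinearMap.ext
    intro x
    rw [hT, s12_nilp_T_pow_apply, ht]
    simp
  refine ⟨by rw [hpow, hTr, zero_mul], ?_⟩
  -- nonvanishing
  have hGj : ∀ j : ℕ, ∃ u v : R, (G ^ j) ((1 : R), (0 : R)) = (1 + t * u, t * v) := by
    intro j
    induction j with
    | zero => exact ⟨0, 0, by simp⟩
    | succ j ih =>
      obtain ⟨u, v, huv⟩ := ih
      refine ⟨1 + u + t * u + v, 1 + t * u + v, ?_⟩
      rw [pow_succ', Module.End.mul_apply, huv, hGa]
      ext <;> simp <;> ring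
  intro hzero
  have h1 : 2 * r - 1 = 2 * (r - 1) + 1 := by omega
  rw [h1, pow_succ, hpow] at hzero
  have h2 := congrArg (fun f : (R × R) →ₗ[F] (R × R) => f ((0 : R), (1 : R))) hzero
  simp only [Module.End.mul_apply, LinearMap.zero_apply] at h2
  rw [hN] at h2
  simp only [mul_zero, zero_add] at h2
  obtain ⟨u, v, huv⟩ := hGj (r - 1)
  rw [huv, hT, s12_nilp_T_pow_apply] at h2
  have h3 := congrArg Prod.fst h2
  simp only [Prod.fst_zero] at h3
  apply ht'
  have h4 : t ^ (r - 1) * (1 + t * u) = t ^ (r - 1) + t ^ r * u := by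
    have : t ^ r = t ^ (r - 1) * t := by
      rw [← pow_succ]
      congr 1
      omega
    rw [this]
    ring
  rw [h4, ht, zero_mul, add_zero] at h3
  exact h3

end nilp

end Cfsg.Agent.Helper5.S12
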