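import Mathlib
import Cfsg.Agent.Lib.Helper5.S74XDefs
import Cfsg.Agent.Lib.Helper2.S74XPAD
import Cfsg.Agent.Lib.Helper10.EOAssembly

/-! S2512 piece S12-SS (helper5): the orthogonal sum of the blocks of a star-closed set of
irreducible polynomials. -/

set_option autoImplicit false
set_option linter.unusedVariables false

open Polynomial

namespace Cfsg.Agent.Helper5.S12

open Cfsg.Agent.Helper15 Cfsg.Agent.Helper10
open Cfsg.Agent.Helper15.S74 hiding Mod

universe v v₁ v₂ u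

theorem s12_ss_odd_lcm (a b : ℕ) (ha : Odd a) (hb : Odd b) : Odd (Nat.lcm a b) :=
  Odd.of_dvd_nat (ha.mul hb) (Nat.lcm_dvd_mul a b)

theorem s12_ss_coprime_lcm (a b p : ℕ) (ha : Nat.Coprime a p) (hb : Nat.Coprime b p) :
    Nat.Coprime (Nat.lcm a b) p :=
  Nat.Coprime.coprime_dvd_left (Nat.lcm_dvd_mul a b) (Nat.Coprime.mul_left ha hb)

/-- PIECE S12-SS. -/
theorem semisimple_model_of {F : Type u} [Field F] [Fintype F] (p : ℕ) [Fact p.Prime] [CharP F p]
    (hp2 : p ≠ 2) (a : ℕ) (ha : Odd a)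
    (hprod : ∀ k₁ k₂ N₁ N₂ : ℕ, S74.Mod.{u, u} F k₁ N₁ → S74.Mod.{u, u} F k₂ N₂ →
      S74.Mod.{u, u} F (k₁ + k₂) (Nat.lcm N₁ N₂))
    (hblock : ∀ d N : ℕ, 1 ≤ d →
      (N ∣ Fintype.card F ^ d - 1 ∨ N ∣ Fintype.card F ^ d + 1) → S74.Mod.{u, u} F d N)
    (hblk : ∀ f : F[X], f.Monic → Irreducible f → f.coeff 0 ≠ 0 → f ≠ X - 1 → f ∣ X ^ a - 1 →
      EO.star f ∣ X ^ a - 1 →
      ∃ d o : ℕ, 1 ≤ d ∧
        ((EO.star f = f ∧ f.natDegree = 2 * d) ∨ (EO.star f ≠ f ∧ f.natDegree = d)) ∧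
        Odd o ∧ Nat.Coprime o p ∧
        (2 * o ∣ Fintype.card F ^ d - 1 ∨ 2 * o ∣ Fintype.card F ^ d + 1) ∧
        f ∣ X ^ o - 1 ∧ EO.star f ∣ X ^ o - 1)
    (S : Finset F[X])
    (hS : ∀ f ∈ S, f.Monic ∧ Irreducible f ∧ f.coeff 0 ≠ 0 ∧ f ≠ X - 1 ∧ f ∣ X ^ a - 1 ∧
      EO.star f ∈ S) :
    ∃ k N : ℕ, 2 * k = ∑ f ∈ S, f.natDegree ∧ Odd N ∧ Nat.Coprime N p ∧ (S = ∅ → N = 1) ∧
      S74.Mod.{u, u} F k N ∧ ∀ f ∈ S, f ∣ X ^ N - 1 := by
  classical
  induction hcard : S.card using Nat.strong_induction_on generalizing S with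
  | _ n ih =>
    by_cases hSe : S = ∅
    · subst hSe
      exact ⟨0, 1, by simp, odd_one, Nat.coprime_one_left p, fun _ => rfl, S74.mod_pad 0,
        by simp⟩
    · obtain ⟨f₁, hf₁⟩ := Finset.nonempty_iff_ne_empty.mpr hSe
      obtain ⟨m1, m2, m3, m4, m5, m6⟩ := hS f₁ hf₁
      have hss : ∀ f ∈ S, EO.star (EO.star f) = f := fun f hf =>
        (EO.star_facts f (hS f hf).2.2.1).2.2.2 (hS f hf).1
      have hdegstar : (EO.star f₁).natDegree = f₁.natDegree := (EO.star_facts f₁ m3).2.1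
      obtain ⟨d, o, hd, hcase, ho, hop, hblk', hfo, hsfo⟩ :=
        hblk f₁ m1 m2 m3 m4 m5 (hS _ m6).2.2.2.2.1
      set S' := (S.erase f₁).erase (EO.star f₁) with hS'
      have hS'S : ∀ f ∈ S', f ∈ S := fun f hf =>
        Finset.mem_of_mem_erase (Finset.mem_of_mem_erase hf)
      have hS'props : ∀ f ∈ S', f.Monic ∧ Irreducible f ∧ f.coeff 0 ≠ 0 ∧ f ≠ X - 1 ∧
          f ∣ X ^ a - 1 ∧ EO.star f ∈ S' := by
        intro f hf
        have hfS := hS'S f hf
        obtain ⟨e1, e2, e3, e4, e5, e6⟩ := hS f hfS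
        refine ⟨e1, e2, e3, e4, e5, ?_⟩
        have hne1 : f ≠ EO.star f₁ := Finset.ne_of_mem_erase hf
        have hne2 : f ≠ f₁ := Finset.ne_of_mem_erase (Finset.mem_of_mem_erase hf)
        rw [hS', Finset.mem_erase, Finset.mem_erase]
        refine ⟨fun h => hne2 ?_, fun h => hne1 ?_, e6⟩
        · rw [← hss f hfS, h, hss f₁ hf₁]
        · rw [← hss f hfS, h]
      have hlt : S'.card < n := by
        rw [← hcard]
        calc S'.card ≤ (S.erase f₁).card := Finset.card_erase_le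
          _ < S.card := Finset.card_erase_lt_of_mem hf₁
      obtain ⟨k', N', hk', hN'o, hN'p, -, hrest, hN'dvd⟩ := ih S'.card hlt S' hS'props rfl
      have hsum : ∑ f ∈ S, f.natDegree = 2 * d + ∑ f ∈ S', f.natDegree := by
        rcases hcase with ⟨hst, hdeg⟩ | ⟨hst, hdeg⟩
        · have : S' = S.erase f₁ := by
            rw [hS', hst]
            exact Finset.erase_eq_of_notMem (Finset.notMem_erase _ _)
          rw [this, ← Finset.add_sum_erase S _ hf₁, hdeg]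
        · have hmem : EO.star f₁ ∈ S.erase f₁ := Finset.mem_erase.mpr ⟨hst, m6⟩
          rw [← Finset.add_sum_erase S _ hf₁, ← Finset.add_sum_erase (S.erase f₁) _ hmem,
            hdegstar, hdeg, hS']
          omega
      have hodvd : o ∣ Fintype.card F ^ d - 1 ∨ o ∣ Fintype.card F ^ d + 1 := by
        rcases hblk' with h | h
        · exact Or.inl (dvd_trans (Dvd.intro_left 2 rfl) h)
        · exact Or.inr (dvd_trans (Dvd.intro_left 2 rfl) h)
      refine ⟨k' + d, Nat.lcm N' o, by omega, s12_ss_odd_lcm _ _ hN'o ho,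
        s12_ss_coprime_lcm _ _ _ hN'p hop, fun h => absurd h hSe,
        hprod k' d N' o hrest (hblock d o hd hodvd), ?_⟩
      intro f hf
      by_cases hf1 : f = f₁
      · rw [hf1]
        exact dvd_trans hfo (EO.X_pow_sub_one_dvd _ _ (Nat.dvd_lcm_right _ _))
      · by_cases hf2 : f = EO.star f₁
        · rw [hf2]
          exact dvd_trans hsfo (EO.X_pow_sub_one_dvd _ _ (Nat.dvd_lcm_right _ _))
        · have hfS' : f ∈ S' := by
            rw [hS', Finset.mem_erase, Finset.mem_erase]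
            exact ⟨hf2, hf1, hf⟩
          exact dvd_trans (hN'dvd f hfS') (EO.X_pow_sub_one_dvd _ _ (Nat.dvd_lcm_left _ _))

end Cfsg.Agent.Helper5.S12
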