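import Mathlib

/-! S2512 piece S12-TRA (helper5): the truncated polynomial algebra `F[t] / (t ^ r)` with its top
coefficient functional. -/

set_option autoImplicit false

open Polynomial

namespace Cfsg.Agent.Helper5.S12

universe v v₁ v₂ u

theorem s12_tra_coeff_modByMonic {F : Type u} [Field F] (r : ℕ) (f : F[X]) (d : ℕ) (hd : d < r) :
    (f %ₘ (X ^ r : F[X])).coeff d = f.coeff d := by
  have h2 : (X ^ r : F[X]) ∣ f %ₘ X ^ r - f := Polynomial.dvd_modByMonic_sub f (X ^ r)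
  rw [Polynomial.X_pow_dvd_iff] at h2
  have := h2 d hd
  rw [coeff_sub, sub_eq_zero] at this
  exact this

theorem exists_trunc_alg (F : Type u) [Field F] (r : ℕ) (hr : 1 ≤ r) :
    ∃ (R : Type u) (_ : CommRing R) (_ : Algebra F R) (lam : R →ₗ[F] F) (t : R),
      Module.Finite F R ∧ Module.finrank F R = r ∧
        (∀ a : R, a ≠ 0 → ∃ b : R, lam (a * b) ≠ 0) ∧ t ^ r = 0 ∧ t ^ (r - 1) ≠ 0 := by
  have hm : (X ^ r : F[X]).Monic := monic_X_pow r
  have hne : (X ^ r : F[X]) ≠ 0 := hm.ne_zero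
  let pb := AdjoinRoot.powerBasis' hm
  set lam : AdjoinRoot (X ^ r : F[X]) →ₗ[F] F :=
    (Polynomial.lcoeff F (r - 1)) ∘ₗ (AdjoinRoot.modByMonicHom hm) with hlam
  have hlam_mk : ∀ f : F[X], lam (AdjoinRoot.mk (X ^ r) f) = f.coeff (r - 1) := by
    intro f
    rw [hlam, LinearMap.comp_apply, AdjoinRoot.modByMonicHom_mk, Polynomial.lcoeff_apply]
    exact s12_tra_coeff_modByMonic r f (r - 1) (by omega)
  refine ⟨AdjoinRoot (X ^ r : F[X]), inferInstance, inferInstance, lam, AdjoinRoot.root _,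
    pb.finite, ?_, ?_, ?_, ?_⟩
  · rw [pb.finrank, AdjoinRoot.powerBasis'_dim, natDegree_X_pow]
  · intro a ha
    obtain ⟨f, rfl⟩ := AdjoinRoot.mk_surjective a
    have hnd : ¬ (X ^ r : F[X]) ∣ f := fun h => ha (AdjoinRoot.mk_eq_zero.mpr h)
    rw [Polynomial.X_pow_dvd_iff] at hnd
    push Not at hnd
    obtain ⟨d, hd, hfd⟩ := hnd
    refine ⟨AdjoinRoot.mk (X ^ r) (X ^ (r - 1 - d)), ?_⟩
    rw [← map_mul, hlam_mk, Polynomial.coeff_mul_X_pow', if_pos (by omega)]
    have : r - 1 - (r - 1 - d) = d := by omega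
    rw [this]
    exact hfd
  · rw [← AdjoinRoot.mk_X, ← map_pow, AdjoinRoot.mk_self]
  · rw [← AdjoinRoot.mk_X, ← map_pow, Ne, AdjoinRoot.mk_eq_zero]
    intro h
    have := Polynomial.natDegree_le_of_dvd h (pow_ne_zero _ X_ne_zero)
    rw [natDegree_X_pow, natDegree_X_pow] at this
    omega

end Cfsg.Agent.Helper5.S12
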