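import Mathlib
import Cfsg.Prelude.Def_Classical
import Cfsg.Agent.Lib.Helper5.S74ExPSp
import Cfsg.Agent.Lib.Helper5.S74PSPLIFT
import Cfsg.Agent.Lib.Helper10.EOAssembly
import Cfsg.Agent.Lib.Helper2.S12MODPROD
import Cfsg.Agent.Lib.Helper11.S12MODDVD
import Cfsg.Agent.Lib.Helper5.S12TRA
import Cfsg.Agent.Lib.Helper2.S12SL2
import Cfsg.Agent.Lib.Helper5.S12NILP
import Cfsg.Agent.Lib.Helper11.S12UORD
import Cfsg.Agent.Lib.Helper27.S12ODDLIFT
import Cfsg.Agent.Lib.Helper27.S12POLYDATA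
import Cfsg.Agent.Lib.Helper2.S12TORUS
import Cfsg.Agent.Lib.Helper9.S12CHARP
import Cfsg.Agent.Lib.Helper8.S12PRODORD
import Cfsg.Agent.Lib.Helper9.S12COMB
import Cfsg.Agent.Lib.Helper5.S12SS
import Cfsg.Agent.Lib.Helper5.S12MIXED
import Cfsg.Agent.Lib.Helper11.S12BLK
import Cfsg.Agent.Lib.Helper2.S12UNIPCASE

/-!
# S2512 (helper5): assembly

`q` odd, `n ≥ 2`, `L = PSp_{2n}(q)`: `ω(L³ × Z_2^m) = ω(L³)`, and `ω(L² × Z_2^m) = ω(L²)` if `2n - 1` is not a
power of `p`.  Pieces S12-* (helper2, helper8, helper9, helper11, helper27, helper5); this file is the glue: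
the regular unipotent model, the profile analysis (Lemma K) and the theorem.  See `plans/S2512_plan.md`.
-/

set_option autoImplicit false
set_option linter.style.haveILetI false
set_option linter.unusedVariables false

open Polynomial

namespace Cfsg.Agent.Helper5.S12

open Cfsg.Agent.Helper15 Cfsg.Agent.Helper10
open Cfsg.Agent.Helper15.S74 hiding Mod

universe v v₁ v₂ u

/-! ## Glue A (helper5): the regular unipotent model -/

theorem mod_unip_regular {F : Type u} [Field F] (p : ℕ) [Fact p.Prime] [CharP F p] (r : ℕ)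
    (hr : 1 ≤ r) : S74.Mod.{u, u} F r (p ^ Nat.clog p (2 * r)) := by
  obtain ⟨R, iR, iA, lam, t, hfin, hdim, hlam, ht, ht'⟩ := exists_trunc_alg F r hr
  obtain ⟨ω, g, halt, hnd, hiso, hg⟩ := sl2_model lam hlam (1 + t) 1 t 1 (by ring)
  have hg' : ∀ x, g x = ((1 + t) * x.1 + x.2, t * x.1 + x.2) := by
    intro x
    simp only [hg, one_mul]
  obtain ⟨h0, h1⟩ := nilp_facts t r hr ht ht' g hg'
  have hord := orderOf_unipotent p g (2 * r) (by omega) h0 h1
  refine ⟨R × R, inferInstance, inferInstance, ω, g, ⟨inferInstance, ?_, halt, hnd, hiso⟩, hord⟩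
  rw [Module.finrank_prod, hdim]
  ring

/-- a unipotent isometry of order `p ^ c` in dimension `2r`, as soon as `p ^ (c - 1) < 2r` -/
theorem uni_mod {F : Type u} [Field F] (p : ℕ) [Fact p.Prime] [CharP F p] (r c : ℕ) (hc : 1 ≤ c)
    (h : p ^ (c - 1) < 2 * r) : S74.Mod.{u, u} F r (p ^ c) := by
  have hp : p.Prime := Fact.out
  have hr : 1 ≤ r := by
    have : 0 < p ^ (c - 1) := pow_pos hp.pos _
    omega
  have h1 : c - 1 < Nat.clog p (2 * r) := (Nat.lt_clog_iff_pow_lt hp.one_lt).2 h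
  exact mod_dvd r (p ^ Nat.clog p (2 * r)) (p ^ c) (pow_pos hp.pos _)
    (pow_dvd_pow p (by omega)) (mod_unip_regular p r hr)

/-- the blocks, in the universe of `F` -/
theorem block_mod {F : Type u} [Field F] [Fintype F] (p : ℕ) [Fact p.Prime] [CharP F p]
    (hp2 : p ≠ 2) (d N : ℕ) (hd : 1 ≤ d)
    (h : N ∣ Fintype.card F ^ d - 1 ∨ N ∣ Fintype.card F ^ d + 1) : S74.Mod.{u, u} F d N := by
  have h1 := mod_prod d 0 N 1 (s74x_modB_of_dvd p hp2 d N hd h).mod (mod_pad (F := F) 0)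
  rwa [Nat.lcm_one_right, Nat.add_zero] at h1

/-! ## Glue A' (helper5): plain forms -/

theorem semisimple_model {F : Type u} [Field F] [Fintype F] (p : ℕ) [Fact p.Prime] [CharP F p]
    (hp2 : p ≠ 2) (a : ℕ) (ha : Odd a) (S : Finset F[X])
    (hS : ∀ f ∈ S, f.Monic ∧ Irreducible f ∧ f.coeff 0 ≠ 0 ∧ f ≠ X - 1 ∧ f ∣ X ^ a - 1 ∧
      EO.star f ∈ S) :
    ∃ k N : ℕ, 2 * k = ∑ f ∈ S, f.natDegree ∧ Odd N ∧ Nat.Coprime N p ∧ (S = ∅ → N = 1) ∧
      S74.Mod.{u, u} F k N ∧ ∀ f ∈ S, f ∣ X ^ N - 1 :=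
  semisimple_model_of p hp2 a ha (fun k₁ k₂ N₁ N₂ h₁ h₂ => mod_prod.{u, u, u} k₁ k₂ N₁ N₂ h₁ h₂)
    (fun d N hd h => block_mod p hp2 d N hd h)
    (fun f h1 h2 h3 h4 h5 h6 => block_of_irreducible p hp2 a ha f h1 h2 h3 h4 h5 h6) S hS

theorem unip_case {F : Type u} [Field F] [Fintype F] (p : ℕ) [Fact p.Prime] [CharP F p]
    (hp2 : p ≠ 2) (n : ℕ) (hn : 2 ≤ n) (a c : ℕ) (ha : Odd a) (hac : a ∣ p ^ c)
    (hc : c = 0 ∨ p ^ (c - 1) < 2 * n) :
    (∃ N, 2 * a ∣ N ∧ S74.ModN.{u, u} F n N) ∨ ((∃ k, a = p ^ k) ∧ ∃ j, 2 * n - 1 = p ^ j) :=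
  unip_case_of p hp2 (fun r c h1 h2 => uni_mod p r c h1 h2) n hn a c ha hac hc

theorem mixed_case {F : Type u} [Field F] [Fintype F] (p : ℕ) [Fact p.Prime] [CharP F p]
    (hp2 : p ≠ 2) (n : ℕ) (hn : 2 ≤ n) (d₁ o₁ k' N' c a : ℕ) (hd₁ : 1 ≤ d₁) (ho₁ : Odd o₁)
    (ho₁p : Nat.Coprime o₁ p)
    (hblk : 2 * o₁ ∣ Fintype.card F ^ d₁ - 1 ∨ 2 * o₁ ∣ Fintype.card F ^ d₁ + 1)
    (hN' : Odd N') (hN'p : Nat.Coprime N' p) (hk'0 : k' = 0 → N' = 1)
    (hrest : S74.Mod.{u, u} F k' N') (hle : d₁ + k' ≤ n)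
    (hc : c = 0 ∨ p ^ (c - 1) < 2 * (n - d₁ - k')) (ha : Odd a)
    (hadvd : a ∣ Nat.lcm o₁ N' * p ^ c) :
    (∃ N, 2 * a ∣ N ∧ S74.ModN.{u, u} F n N) ∨
      (a ∣ Fintype.card F ^ n - 1 ∨ a ∣ Fintype.card F ^ n + 1) :=
  mixed_case_of p hp2 (fun r c h1 h2 => uni_mod p r c h1 h2)
    (fun k₁ k₂ N₁ N₂ h₁ h₂ => mod_prod.{u, u, u} k₁ k₂ N₁ N₂ h₁ h₂) n hn d₁ o₁ k' N' c a hd₁ ho₁ ho₁p hblk
    hN' hN'p hk'0 hrest hle hc ha hadvd

/-! ## The profile analysis -/

/-- `star (X - 1) = X - 1` -/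
theorem star_X_sub_one {F : Type u} [Field F] : EO.star (X - 1 : F[X]) = X - 1 := by
  have h2 : (X - 1 : F[X]).natDegree = 1 := by
    have : (X - 1 : F[X]) = X - C 1 := by simp
    rw [this, natDegree_X_sub_C]
  have hr : (X - 1 : F[X]).reverse = 1 - X := by
    unfold Polynomial.reverse
    rw [h2, reflect_sub, reflect_one_X, reflect_one, pow_one]
  have hc : (X - 1 : F[X]).coeff 0 = -1 := by simp
  unfold EO.star
  rw [hr, hc]
  have : ((-1 : F))⁻¹ = -1 := by norm_num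
  rw [this]
  simp

/-- `X + 1` does not divide `X ^ a - 1` for odd `a` in odd characteristic -/
theorem not_X_add_one_dvd {F : Type u} [Field F] (h2F : (2 : F) ≠ 0) (a : ℕ) (ha : Odd a) :
    ¬ (X + 1 : F[X]) ∣ X ^ a - 1 := by
  intro h
  have h1 : (X + 1 : F[X]) = X - C (-1) := by simp
  rw [h1, dvd_iff_isRoot, IsRoot.def] at h
  simp only [eval_sub, eval_pow, eval_X, eval_one, ha.neg_one_pow] at h
  apply h2F
  linear_combination -h

/-- S12-PROFILE (helper5). -/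
theorem profile_trichotomy {F : Type u} [Field F] [Fintype F] [DecidableEq F[X]] (p : ℕ)
    [Fact p.Prime] [CharP F p] (hp2 : p ≠ 2) (n : ℕ) (hn : 2 ≤ n) (a : ℕ) (ha : Odd a)
    (s : Multiset F[X]) (h1 : ∀ f ∈ s, f.Monic ∧ Irreducible f ∧ f.coeff 0 ≠ 0)
    (h2 : ∀ f ∈ s, f ∣ X ^ a - 1) (h3 : ∀ f ∈ s, s.count (EO.star f) = s.count f)
    (h4 : ∑ f ∈ s.toFinset, s.count f * f.natDegree ≤ 2 * n)
    (h5 : ∀ N : ℕ, s.prod ∣ X ^ N - 1 → a ∣ N) :
    (∃ N, 2 * a ∣ N ∧ S74.ModN.{u, u} F n N) ∨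
      (a ∣ Fintype.card F ^ n - 1 ∨ a ∣ Fintype.card F ^ n + 1) ∨
      ((∃ k, a = p ^ k) ∧ ∃ j, 2 * n - 1 = p ^ j) := by
  have hp : p.Prime := Fact.out
  have hp1 : 1 < p := hp.one_lt
  have h2F : (2 : F) ≠ 0 := S62.two_ne_zero_of_char p hp2
  have hmon : ∀ f ∈ s, f.Monic := fun f hf => (h1 f hf).1
  have hirr : ∀ f ∈ s, Irreducible f := fun f hf => (h1 f hf).2.1
  have hc0 : ∀ f ∈ s, f.coeff 0 ≠ 0 := fun f hf => (h1 f hf).2.2
  have hs' : ∀ f ∈ s, f.Monic ∧ Irreducible f := fun f hf => ⟨hmon f hf, hirr f hf⟩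
  have hstar_mem : ∀ f ∈ s, EO.star f ∈ s := by
    intro f hf
    rw [← Multiset.count_pos, h3 f hf, Multiset.count_pos]
    exact hf
  have hss : ∀ f ∈ s, EO.star (EO.star f) = f := fun f hf =>
    (EO.star_facts f (hc0 f hf)).2.2.2 (hmon f hf)
  have hdegstar : ∀ f ∈ s, (EO.star f).natDegree = f.natDegree := fun f hf =>
    (EO.star_facts f (hc0 f hf)).2.1
  have hdeg1 : ∀ f ∈ s, 1 ≤ f.natDegree := fun f hf =>
    Nat.one_le_iff_ne_zero.mpr (fun h => by
      have := hirr f hf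
      exact (Polynomial.degree_pos_of_irreducible this).ne'
        (by rw [Polynomial.degree_eq_natDegree this.ne_zero, h]; rfl))
  have hnoX1 : ∀ f ∈ s, f ≠ X + 1 := by
    intro f hf hfe
    exact not_X_add_one_dvd h2F a ha (hfe ▸ h2 f hf)
  have hX1deg : (X - 1 : F[X]).natDegree = 1 := by
    have : (X - 1 : F[X]) = X - C 1 := by simp
    rw [this, natDegree_X_sub_C]
  set I := s.toFinset with hI
  set S := I.erase (X - 1) with hS
  have hmemI : ∀ f, f ∈ I ↔ f ∈ s := fun f => Multiset.mem_toFinset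
  have hSs : ∀ f ∈ S, f ∈ s := fun f hf => (hmemI f).1 (Finset.mem_of_mem_erase hf)
  have hSsub : S ⊆ I := Finset.erase_subset _ _
  -- `S` is closed under `star`
  have hSstar : ∀ f ∈ S, EO.star f ∈ S := by
    intro f hf
    have hfs := hSs f hf
    rw [hS, Finset.mem_erase]
    refine ⟨fun h => ?_, (hmemI _).2 (hstar_mem f hfs)⟩
    have : f = X - 1 := by rw [← hss f hfs, h, star_X_sub_one]
    exact (Finset.ne_of_mem_erase hf) this
  have hSprops : ∀ f ∈ S, f.Monic ∧ Irreducible f ∧ f.coeff 0 ≠ 0 ∧ f ≠ X - 1 ∧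
      f ∣ X ^ a - 1 ∧ EO.star f ∈ S := fun f hf =>
    ⟨hmon f (hSs f hf), hirr f (hSs f hf), hc0 f (hSs f hf), Finset.ne_of_mem_erase hf,
      h2 f (hSs f hf), hSstar f hf⟩
  -- the filter of `deg_count` is `S`
  have hfilter : I.filter (fun f => ¬ (EO.star f = f ∧ f.natDegree = 1)) = S := by
    ext f
    rw [Finset.mem_filter, hS, Finset.mem_erase]
    constructor
    · rintro ⟨hfI, hcond⟩
      refine ⟨fun h => hcond ?_, hfI⟩
      rw [h]
      exact ⟨star_X_sub_one, hX1deg⟩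
    · rintro ⟨hne, hfI⟩
      refine ⟨hfI, fun hcond => ?_⟩
      have hfs := (hmemI f).1 hfI
      rcases EO.self_reciprocal_deg_one f (hmon f hfs) hcond.2 hcond.1 with h | h
      · exact hne h
      · exact hnoX1 f hfs h
  -- the dimension count
  have hdc : ∀ i₀ ∈ I, 2 ≤ s.count i₀ →
      s.count i₀ + ∑ f ∈ S, f.natDegree ≤ ∑ f ∈ I, s.count f * f.natDegree := by
    intro i₀ hi₀ h2'
    have := EO.deg_count I EO.star (fun f => f.natDegree) (fun f => s.count f)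
      (by
        intro f hf
        have hfs := (hmemI f).1 hf
        exact ⟨(hmemI _).2 (hstar_mem f hfs), hss f hfs, hdegstar f hfs, h3 f hfs⟩)
      (fun f hf => hdeg1 f ((hmemI f).1 hf))
      (fun f hf => Multiset.count_pos.mpr ((hmemI f).1 hf))
      (by
        intro f hf hst
        have hfs := (hmemI f).1 hf
        by_cases h1' : f.natDegree = 1
        · exact Or.inl h1'
        · right
          have h2'' : 2 ≤ f.natDegree := by have := hdeg1 f hfs; omega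
          exact (EO.self_reciprocal_irreducible f (hmon f hfs) (hirr f hfs) (hc0 f hfs) hst
            h2'').1)
      i₀ hi₀ h2'
    rwa [hfilter] at this
  have hSle : ∑ f ∈ S, f.natDegree ≤ ∑ f ∈ I, s.count f * f.natDegree := by
    calc ∑ f ∈ S, f.natDegree ≤ ∑ f ∈ S, s.count f * f.natDegree := by
          apply Finset.sum_le_sum
          intro f hf
          have : 1 ≤ s.count f := Multiset.count_pos.mpr (hSs f hf)
          nlinarith
      _ ≤ ∑ f ∈ I, s.count f * f.natDegree :=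
          Finset.sum_le_sum_of_subset hSsub
  -- the exponent `c`
  set m := I.sup (fun f => s.count f) with hm
  set c := Nat.clog p m with hc
  have hcnt : ∀ f, s.count f ≤ p ^ c := by
    intro f
    by_cases hf : f ∈ s
    · calc s.count f ≤ m := Finset.le_sup (f := fun f => s.count f) ((hmemI f).2 hf)
        _ ≤ p ^ c := Nat.le_pow_clog hp1 m
    · rw [Multiset.count_eq_zero_of_notMem hf]
      exact Nat.zero_le _
  have hcm : c = 0 ∨ ∃ i₀ ∈ I, 2 ≤ s.count i₀ ∧ p ^ (c - 1) < s.count i₀ := by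
    by_cases hm1 : m ≤ 1
    · left
      exact Nat.clog_of_right_le_one hm1 p
    · right
      have hm2 : 1 < m := by omega
      have hne : I.Nonempty := by
        by_contra hcon
        rw [Finset.not_nonempty_iff_eq_empty] at hcon
        rw [hm, hcon, Finset.sup_empty] at hm2
        exact absurd hm2 (by simp)
      obtain ⟨i₀, hi₀, hi₀m⟩ := Finset.exists_mem_eq_sup I hne (fun f => s.count f)
      refine ⟨i₀, hi₀, ?_, ?_⟩
      · rw [← hi₀m]; omega
      · rw [← hi₀m]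
        exact Nat.pow_pred_clog_lt_self hp1 hm2
  by_cases hSe : S = ∅
  · -- pure unipotent
    have hall : ∀ f ∈ s, f = X - 1 := by
      intro f hf
      by_contra hne
      have : f ∈ S := by
        rw [hS, Finset.mem_erase]
        exact ⟨hne, (hmemI f).2 hf⟩
      rw [hSe] at this
      exact Finset.notMem_empty _ this
    have hL : ∀ f ∈ s, f ∣ X ^ 1 - 1 := by
      intro f hf
      rw [hall f hf, pow_one]
    have hmain := EO.prod_dvd_of_forall_dvd p s hs' 1 c hL hcnt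
    have hac : a ∣ p ^ c := by
      have := h5 _ hmain
      rwa [one_mul] at this
    have hc' : c = 0 ∨ p ^ (c - 1) < 2 * n := by
      rcases hcm with h | ⟨i₀, hi₀, h2', hlt⟩
      · exact Or.inl h
      · right
        have hi₀s := (hmemI i₀).1 hi₀
        have h6 : s.count i₀ * i₀.natDegree ≤ ∑ f ∈ I, s.count f * f.natDegree :=
          Finset.single_le_sum (f := fun f => s.count f * f.natDegree)
            (fun _ _ => Nat.zero_le _) hi₀
        rw [hall i₀ hi₀s, hX1deg, mul_one] at h6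
        rw [hall i₀ hi₀s] at hlt
        omega
    rcases unip_case (F := F) p hp2 n hn a c ha hac hc' with h | h
    · exact Or.inl h
    · exact Or.inr (Or.inr h)
  · -- at least one block
    obtain ⟨f₁, hf₁⟩ := Finset.nonempty_iff_ne_empty.mpr hSe
    have hf₁s := hSs f₁ hf₁
    obtain ⟨d₁, o₁, hd₁, hcase, ho₁, ho₁p, hblk, hfo, hsfo⟩ :=
      block_of_irreducible p hp2 a ha f₁ (hmon f₁ hf₁s) (hirr f₁ hf₁s) (hc0 f₁ hf₁s)
        (Finset.ne_of_mem_erase hf₁) (h2 f₁ hf₁s) (h2 _ (hstar_mem f₁ hf₁s))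
    set S' := (S.erase f₁).erase (EO.star f₁) with hS'
    have hS'S : ∀ f ∈ S', f ∈ S := fun f hf =>
      Finset.mem_of_mem_erase (Finset.mem_of_mem_erase hf)
    have hS'props : ∀ f ∈ S', f.Monic ∧ Irreducible f ∧ f.coeff 0 ≠ 0 ∧ f ≠ X - 1 ∧
        f ∣ X ^ a - 1 ∧ EO.star f ∈ S' := by
      intro f hf
      have hfS := hS'S f hf
      have hfs := hSs f hfS
      obtain ⟨e1, e2, e3, e4, e5, e6⟩ := hSprops f hfS
      refine ⟨e1, e2, e3, e4, e5, ?_⟩
      have hne1 : f ≠ EO.star f₁ := Finset.ne_of_mem_erase hf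
      have hne2 : f ≠ f₁ := Finset.ne_of_mem_erase (Finset.mem_of_mem_erase hf)
      rw [hS', Finset.mem_erase, Finset.mem_erase]
      refine ⟨fun h => hne2 ?_, fun h => hne1 ?_, e6⟩
      · rw [← hss f hfs, h, hss f₁ hf₁s]
      · rw [← hss f hfs, h]
    obtain ⟨k', N', hk', hN'o, hN'p, hN'e, hrest, hN'dvd⟩ :=
      semisimple_model (F := F) p hp2 a ha S' hS'props
    have hk'0 : k' = 0 → N' = 1 := by
      intro hk0
      apply hN'e
      rw [hk0, mul_zero] at hk'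
      have h6 := (Finset.sum_eq_zero_iff.mp hk'.symm)
      by_contra hne
      obtain ⟨f, hf⟩ := Finset.nonempty_iff_ne_empty.mpr hne
      have := hdeg1 f (hSs f (hS'S f hf))
      have := h6 f hf
      omega
    have hsum : ∑ f ∈ S, f.natDegree = 2 * d₁ + ∑ f ∈ S', f.natDegree := by
      rcases hcase with ⟨hst, hdeg⟩ | ⟨hst, hdeg⟩
      · have : S' = S.erase f₁ := by
          rw [hS', hst]
          exact Finset.erase_eq_of_notMem (Finset.notMem_erase _ _)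
        rw [this, ← Finset.add_sum_erase S _ hf₁, hdeg]
      · have hmem : EO.star f₁ ∈ S.erase f₁ :=
          Finset.mem_erase.mpr ⟨hst, hSstar f₁ hf₁⟩
        rw [← Finset.add_sum_erase S _ hf₁, ← Finset.add_sum_erase (S.erase f₁) _ hmem,
          hdegstar f₁ hf₁s, hdeg, hS']
        omega
    have hle : d₁ + k' ≤ n := by omega
    have hc' : c = 0 ∨ p ^ (c - 1) < 2 * (n - d₁ - k') := by
      rcases hcm with h | ⟨i₀, hi₀, h2', hlt⟩
      · exact Or.inl h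
      · right
        have := hdc i₀ hi₀ h2'
        omega
    set L := Nat.lcm o₁ N' with hLdef
    have hL : ∀ f ∈ s, f ∣ X ^ L - 1 := by
      intro f hf
      by_cases hfx : f = X - 1
      · rw [hfx]
        have := sub_dvd_pow_sub_pow (X : F[X]) 1 L
        rwa [one_pow] at this
      · have hfS : f ∈ S := by
          rw [hS, Finset.mem_erase]
          exact ⟨hfx, (hmemI f).2 hf⟩
        by_cases hf1 : f = f₁
        · rw [hf1]
          exact dvd_trans hfo (EO.X_pow_sub_one_dvd _ _ (Nat.dvd_lcm_left _ _))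
        · by_cases hf2 : f = EO.star f₁
          · rw [hf2]
            exact dvd_trans hsfo (EO.X_pow_sub_one_dvd _ _ (Nat.dvd_lcm_left _ _))
          · have hfS' : f ∈ S' := by
              rw [hS', Finset.mem_erase, Finset.mem_erase]
              exact ⟨hf2, hf1, hfS⟩
            exact dvd_trans (hN'dvd f hfS') (EO.X_pow_sub_one_dvd _ _ (Nat.dvd_lcm_right _ _))
    have hmain := EO.prod_dvd_of_forall_dvd p s hs' L c hL hcnt
    have hadvd : a ∣ Nat.lcm o₁ N' * p ^ c := h5 _ hmain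
    rcases mixed_case (F := F) p hp2 n hn d₁ o₁ k' N' c a hd₁ ho₁ ho₁p hblk hN'o hN'p hk'0 hrest hle hc'
      ha hadvd with h | h
    · exact Or.inl h
    · exact Or.inr (Or.inl h)

/-! ## Glue B (helper5): Lemma K and the theorem -/

section glueB

variable {F : Type u} [Field F] [Fintype F]

/-- divisors of element orders are element orders -/
theorem dvd_mem_range {G : Type v} [Group G] (x : G) (hx : 0 < orderOf x) (d : ℕ)
    (hd : d ∣ orderOf x) : ∃ y : G, orderOf y = d := by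
  obtain ⟨e, he⟩ := hd
  have he0 : e ≠ 0 := by
    rintro rfl
    omega
  have hd0 : 0 < d := by
    rcases Nat.eq_zero_or_pos d with h | h
    · rw [h, zero_mul] at he
      omega
    · exact h
  refine ⟨x ^ e, ?_⟩
  rw [orderOf_pow_of_dvd he0 ⟨d, by rw [he, mul_comm]⟩, he]
  exact Nat.mul_div_cancel _ (Nat.pos_of_ne_zero he0)

/-- an involution of `PSp` -/
theorem two_mem (p : ℕ) [Fact p.Prime] [CharP F p] (hp2 : p ≠ 2) (n : ℕ) (hn : 2 ≤ n) :
    ∃ y : Cfsg.PSp n F, orderOf y = 2 := by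
  obtain ⟨hqodd, -, -⟩ := S62.card_odd (F := F) p hp2
  have h2F : (2 : F) ≠ 0 := S62.two_ne_zero_of_char p hp2
  have hB : S74.Mod.{0, u} F 1 2 :=
    (s74x_modB_plus (F := F) p 1 2 le_rfl
      (by rw [pow_one]; obtain ⟨j, hj⟩ := hqodd; omega)).mod
  have h1 := modN_prod 1 (n - 1) 2 1 hB (s74x_modN_pad h2F (n - 1) (by omega))
  rw [Nat.lcm_one_right, show 1 + (n - 1) = n by omega] at h1
  exact s74x_exists_PSp_of_modN n 2 (by omega) h1

/-- LEMMA K -/
theorem lemma_K (p : ℕ) [Fact p.Prime] [CharP F p] (hp2 : p ≠ 2) (n : ℕ) (hn : 2 ≤ n) (M : ℕ)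
    (hM : Odd M) (hM2 : 2 * M = Fintype.card F ^ n + 1 ∨ 2 * M = Fintype.card F ^ n - 1)
    (x : Cfsg.PSp n F) (hx : Odd (orderOf x)) :
    (∃ y : Cfsg.PSp n F, orderOf y = 2 * orderOf x) ∨ orderOf x ∣ M ∨
      ((∃ k, orderOf x = p ^ k) ∧ ∃ j, 2 * n - 1 = p ^ j) := by
  classical
  obtain ⟨hqodd, -, -⟩ := S62.card_odd (F := F) p hp2
  set a := orderOf x with ha
  have ha0 : 0 < a := hx.pos
  obtain ⟨A, hA⟩ := odd_lift n (by omega) x hx
  obtain ⟨s, h1, h2, h3, h4, h5⟩ := polydata n (by omega) A a hA ha0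
  have hfin : ∀ y : Cfsg.PSp n F, 0 < orderOf y := fun y => orderOf_pos y
  rcases profile_trichotomy p hp2 n hn a hx s h1 h2 h3 h4 h5 with ⟨N, hN, hmod⟩ | hT | hU
  · left
    obtain ⟨y, hy⟩ := s74x_exists_PSp_of_modN n N (by omega) hmod
    exact dvd_mem_range y (hfin y) (2 * a) (hy ▸ hN)
  · rcases torus_split (Fintype.card F) n M a hqodd hM hM2 hx hT with h | h
    · exact Or.inr (Or.inl h)
    · left
      have hB : S74.ModB.{0, u} F n (2 * (2 * a)) := by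
        have : 2 * (2 * a) = 4 * a := by ring
        rw [this]
        exact s74x_modB_of_dvd p hp2 n (4 * a) (by omega) h
      exact s74x_exists_PSp_of_modZ n (2 * a) (by omega) (by omega) hB.modZ
  · exact Or.inr (Or.inr hU)

/-- the main theorem, with `CharP` -/
theorem main_of_charP (p : ℕ) [Fact p.Prime] [CharP F p] (hp2 : p ≠ 2) (n m : ℕ) (hn : 2 ≤ n) :
    Set.range (orderOf : Cfsg.PSp n F × Cfsg.PSp n F × Cfsg.PSp n F ×
        Multiplicative (Fin m → ZMod 2) → ℕ) =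
      Set.range (orderOf : Cfsg.PSp n F × Cfsg.PSp n F × Cfsg.PSp n F → ℕ) ∧
    ((¬ ∃ j : ℕ, 2 * n - 1 = p ^ j) →
      Set.range (orderOf : Cfsg.PSp n F × Cfsg.PSp n F × Multiplicative (Fin m → ZMod 2) → ℕ) =
        Set.range (orderOf : Cfsg.PSp n F × Cfsg.PSp n F → ℕ)) := by
  have hp : p.Prime := Fact.out
  obtain ⟨hqodd, -, -⟩ := S62.card_odd (F := F) p hp2
  have h2F : (2 : F) ≠ 0 := S62.two_ne_zero_of_char p hp2
  obtain ⟨M, hMo, hM2⟩ := exists_half_odd (Fintype.card F) n hqodd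
  set ω : Set ℕ := Set.range (orderOf : Cfsg.PSp n F → ℕ) with hω
  have hfin : ∀ y : Cfsg.PSp n F, 0 < orderOf y := fun y => orderOf_pos y
  have hdiv : ∀ a ∈ ω, ∀ d, d ∣ a → d ∈ ω := by
    rintro a ⟨x, rfl⟩ d hd
    obtain ⟨y, hy⟩ := dvd_mem_range x (hfin x) d hd
    exact ⟨y, hy⟩
  have h2 : 2 ∈ ω := by
    obtain ⟨y, hy⟩ := two_mem (F := F) p hp2 n hn
    exact ⟨y, hy⟩
  have hM : M ∈ ω := by
    have hdvd : M ∣ Fintype.card F ^ n - 1 ∨ M ∣ Fintype.card F ^ n + 1 := by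
      rcases hM2 with h | h
      · exact Or.inr ⟨2, by rw [← h]; ring⟩
      · exact Or.inl ⟨2, by rw [← h]; ring⟩
    have h1 : S74.Mod.{0, u} F n M := (s74x_modB_of_dvd p hp2 n M (by omega) hdvd).mod
    obtain ⟨y, hy⟩ := s74x_exists_PSp_of_modN n M (by omega)
      (modN_of_odd h2F n M (by omega) hMo h1)
    exact ⟨y, hy⟩
  have hK : ∀ a ∈ ω, Odd a → 2 * a ∈ ω ∨ a ∣ M ∨
      ((∃ k, a = p ^ k) ∧ ∃ j, 2 * n - 1 = p ^ j) := by
    rintro a ⟨x, rfl⟩ hodd
    rcases lemma_K p hp2 n hn M hMo hM2 x hodd with ⟨y, hy⟩ | h | h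
    · exact Or.inl ⟨y, hy⟩
    · exact Or.inr (Or.inl h)
    · exact Or.inr (Or.inr h)
  refine ⟨range_orderOf_prod3 m ?_, fun hno => range_orderOf_prod2 m ?_⟩
  · intro a b c hao hbo hco
    obtain ⟨a', ⟨xa, hxa⟩, b', ⟨xb, hxb⟩, c', ⟨xc, hxc⟩, h⟩ :=
      comb_cube ω p n M hp hdiv h2 hMo hM hK (orderOf a) (orderOf b) (orderOf c)
        ⟨a, rfl⟩ ⟨b, rfl⟩ ⟨c, rfl⟩ hao hbo hco
    exact ⟨xa, xb, xc, by rw [hxa, hxb, hxc]; exact h⟩
  · intro a b hao hbo
    obtain ⟨a', ⟨xa, hxa⟩, b', ⟨xb, hxb⟩, h⟩ :=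
      comb_square ω p n M hdiv h2 hMo hM hK hno (orderOf a) (orderOf b) ⟨a, rfl⟩ ⟨b, rfl⟩ hao hbo
    exact ⟨xa, xb, by rw [hxa, hxb]; exact h⟩

end glueB

/-- S2512 -/
theorem S2512_main {F : Type u} [Field F] [Fintype F] (p a n m : ℕ) (hp : p.Prime) (ha : 1 ≤ a)
    (hF : Fintype.card F = p ^ a) (hodd : Odd (Fintype.card F)) (hn : 2 ≤ n) :
    Set.range (orderOf : Cfsg.PSp n F × Cfsg.PSp n F × Cfsg.PSp n F ×
        Multiplicative (Fin m → ZMod 2) → ℕ) =
      Set.range (orderOf : Cfsg.PSp n F × Cfsg.PSp n F × Cfsg.PSp n F → ℕ) ∧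
    ((¬ ∃ j : ℕ, 2 * n - 1 = p ^ j) →
      Set.range (orderOf : Cfsg.PSp n F × Cfsg.PSp n F × Multiplicative (Fin m → ZMod 2) → ℕ) =
        Set.range (orderOf : Cfsg.PSp n F × Cfsg.PSp n F → ℕ)) := by
  obtain ⟨hchar, hp2⟩ := charP_of_card p a hp ha hF hodd
  haveI : Fact p.Prime := ⟨hp⟩
  exact main_of_charP p hp2 n m hn

end Cfsg.Agent.Helper5.S12
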