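import Mathlib
import Cfsg.Agent.Lib.Helper15.S62Defs
import Cfsg.Agent.Lib.Helper15.Zsigmondy

/-!
# S2362 piece S62-ZSIG (helper5): a Zsigmondy prime of `q^(2k) - 1`
-/

set_option autoImplicit false

open Polynomial

namespace Cfsg.Agent.Helper15.S62

universe u

/-- `r ∣ q^j - 1` iff `(q : ZMod r)^j = 1` (for `q ≥ 1`). -/
theorem s62_zsig_dvd_iff (q r j : ℕ) (hq : 1 ≤ q) :
    r ∣ q ^ j - 1 ↔ ((q : ZMod r)) ^ j = 1 := by
  have h1 : 1 ≤ q ^ j := Nat.one_le_pow _ _ hq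
  rw [← ZMod.natCast_eq_zero_iff, Nat.cast_sub h1, Nat.cast_pow, Nat.cast_one, sub_eq_zero]

/-- PIECE S62-ZSIG. -/
theorem exists_zsig (q k p : ℕ) (hq : Odd q) (hq3 : 3 ≤ q) (hk : 2 ≤ k) (hp : p.Prime)
    (hpq : p ∣ q) :
    ∃ r : ℕ, r.Prime ∧ r ∣ q ^ k + 1 ∧ r ≠ p ∧ r ≠ 2 ∧
      ∀ j : ℕ, 0 < j → r ∣ q ^ j - 1 → 2 * k ∣ j := by
  obtain ⟨r, hr, hdvd, hmin⟩ := Cfsg.Agent.Helper15.Zsig.zsigmondy q (2 * k) (by omega) (by omega)
    (by omega) (by omega)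
  have hq1 : 1 ≤ q := by omega
  have hqk1 : 1 ≤ q ^ k := Nat.one_le_pow _ _ hq1
  refine ⟨r, hr, ?_, ?_, ?_, ?_⟩
  · -- r ∣ q^k + 1
    have hfac : q ^ (2 * k) - 1 = (q ^ k - 1) * (q ^ k + 1) := by
      have : q ^ (2 * k) = q ^ k * q ^ k := by rw [two_mul, pow_add]
      rw [this]
      obtain ⟨m, hm⟩ : ∃ m, q ^ k = m + 1 := ⟨q ^ k - 1, by omega⟩
      rw [hm]
      simp only [Nat.add_sub_cancel]
      ring_nf
      omega
    rw [hfac] at hdvd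
    rcases (Nat.Prime.dvd_mul hr).mp hdvd with h | h
    · exact absurd h (hmin k (by omega) (by omega))
    · exact h
  · -- r ≠ p
    rintro rfl
    have h1 : r ∣ q ^ (2 * k) := dvd_pow hpq (by omega)
    have h2 : 1 ≤ q ^ (2 * k) := Nat.one_le_pow _ _ hq1
    have h3 : r ∣ 1 := by
      have h4 : r ∣ q ^ (2 * k) - (q ^ (2 * k) - 1) := Nat.dvd_sub h1 hdvd
      have h5 : q ^ (2 * k) - (q ^ (2 * k) - 1) = 1 := by omega
      rwa [h5] at h4
    exact hr.one_lt.ne' (Nat.dvd_one.mp h3)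
  · -- r ≠ 2
    rintro rfl
    apply hmin 1 (by omega) (by omega)
    rw [pow_one]
    obtain ⟨m, hm⟩ := hq
    exact ⟨m, by omega⟩
  · -- order argument
    intro j hj hrj
    have : Fact r.Prime := ⟨hr⟩
    have e1 : ((q : ZMod r)) ^ (2 * k) = 1 := (s62_zsig_dvd_iff q r (2 * k) hq1).mp hdvd
    have e2 : ((q : ZMod r)) ^ j = 1 := (s62_zsig_dvd_iff q r j hq1).mp hrj
    have hd1 : orderOf (q : ZMod r) ∣ 2 * k := orderOf_dvd_of_pow_eq_one e1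
    have hd2 : orderOf (q : ZMod r) ∣ j := orderOf_dvd_of_pow_eq_one e2
    have hpos : 0 < orderOf (q : ZMod r) := Nat.pos_of_dvd_of_pos hd1 (by omega)
    have hle : orderOf (q : ZMod r) ≤ 2 * k := Nat.le_of_dvd (by omega) hd1
    have heq : orderOf (q : ZMod r) = 2 * k := by
      by_contra hne
      have hlt : orderOf (q : ZMod r) < 2 * k := lt_of_le_of_ne hle hne
      apply hmin _ hpos hlt
      exact (s62_zsig_dvd_iff q r _ hq1).mpr (pow_orderOf_eq_one _)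
    rw [← heq]
    exact hd2

end Cfsg.Agent.Helper15.S62
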