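import Mathlib
import Cfsg.Agent.Lib.Helper8.SDDefs
import Cfsg.Agent.Lib.Helper8.SDWnf
import Cfsg.Agent.Lib.Helper8.SDWcen
import Cfsg.Agent.Lib.Helper8.SDWperm
/-!
# SD-WSTEP2 (helper5): the centre step for `WProps` (helper8 plan `plans/SD_plan.md`)

`Cfsg.Agent.Helper8.SD.WSTEP2.step_cen` has exactly the statement of `step_cen` in
`Lib/Helper8/SDWstep.lean`.
-/

set_option autoImplicit false
set_option linter.unusedVariables false

namespace Cfsg.Agent.Helper8.SD.WSTEP2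

open Equiv Cfsg.Agent.Helper8.SD

variable {Ω : Type*} [DecidableEq Ω] [Fintype Ω]

variable {A : Subgroup (Perm Ω)} {B₁ : Finset Ω} {τ : Perm Ω}

theorem tau_mem : τ ∈ dblG A τ :=
  (le_sup_right : Subgroup.zpowers τ ≤ dblG A τ) (Subgroup.mem_zpowers τ)

theorem le_dblG : A ≤ dblG A τ := le_sup_of_le_left le_sup_left

theorem conj_mem {b : Perm Ω} (hb : b ∈ A) : τ * b * τ⁻¹ ∈ dblG A τ := by
  have hC : conjS τ A ≤ dblG A τ := le_sup_of_le_left le_sup_right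
  apply hC
  exact ⟨b, hb, by simp [MulAut.conj_apply]⟩

/-- the case `|B₁| = 1` -/
theorem step_cen_one (hA : WProps A B₁) (hne : B₁.Nonempty) (hτ2 : τ * τ = 1)
    (hτB : ∀ x ∈ B₁, τ x ∉ B₁) (h1 : B₁.card = 1) :
    ∃ z ∈ dblG A τ, z ≠ 1 ∧ z * z = 1 ∧
      (∀ c ∈ dblG A τ, (∀ q ∈ dblG A τ, c * q = q * c) ↔ (c = 1 ∨ c = z)) ∧
      (4 ≤ (B₁ ∪ B₁.image τ).card → Perm.sign z = 1 ∧ ∃ g ∈ dblG A τ, g * g = z) := by
  have hW := wrHyp_of_perm A B₁ τ hA.supp hne hτ2 hτB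
  have hcard : Nat.card A = 1 := by rw [hA.card, h1]; norm_num
  have hbot : ∀ a ∈ A, a = 1 := by
    intro a ha
    have hs : Subsingleton A := (Nat.card_eq_one_iff_unique.1 hcard).1
    have := Subsingleton.elim (⟨a, ha⟩ : A) 1
    exact congrArg Subtype.val this
  have hmem : ∀ c ∈ dblG A τ, c = 1 ∨ c = τ := by
    intro c hc
    obtain ⟨a, ha, b, hb, h⟩ := (mem_dblG_iff hW c).1 hc
    rw [hbot a ha, hbot b hb] at h
    rcases h with h | h
    · left; rw [h]; group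
    · right; rw [h]; group
  have hτ1 : τ ≠ 1 := by
    obtain ⟨x, hx⟩ := hne
    intro h
    apply hτB x hx
    rw [h]
    simpa using hx
  refine ⟨τ, tau_mem, hτ1, hτ2, ?_, ?_⟩
  · intro c hc
    constructor
    · intro _
      exact hmem c hc
    · intro h q hq
      rcases h with rfl | rfl
      · simp
      · rcases hmem q hq with rfl | rfl
        · simp
        · rfl
  · intro h4
    rw [card_union_image B₁ τ hτB, h1] at h4
    omega

/-- the case `|B₁| ≥ 2` -/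
theorem step_cen_two (hA : WProps A B₁) (hne : B₁.Nonempty) (hτ2 : τ * τ = 1)
    (hτB : ∀ x ∈ B₁, τ x ∉ B₁) (h2 : 2 ≤ B₁.card) :
    ∃ z ∈ dblG A τ, z ≠ 1 ∧ z * z = 1 ∧
      (∀ c ∈ dblG A τ, (∀ q ∈ dblG A τ, c * q = q * c) ↔ (c = 1 ∨ c = z)) ∧
      (4 ≤ (B₁ ∪ B₁.image τ).card → Perm.sign z = 1 ∧ ∃ g ∈ dblG A τ, g * g = z) := by
  have hW := wrHyp_of_perm A B₁ τ hA.supp hne hτ2 hτB
  obtain ⟨zA, hzA, hz1, hz2, hzc, -⟩ := hA.cen h2
  have hti : τ⁻¹ = τ := WNF.tau_inv hW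
  have hAne : A ≠ ⊥ := by
    intro h
    rw [h, Subgroup.mem_bot] at hzA
    exact hz1 hzA
  have hone : (1 : Perm Ω) = 1 * (τ * 1 * τ⁻¹) := by group
  refine ⟨zA * (τ * zA * τ⁻¹), (dblG A τ).mul_mem (le_dblG hzA) (conj_mem hzA), ?_, ?_, ?_, ?_⟩
  · intro h
    rw [hone] at h
    exact hz1 (nf_unique hW hzA hzA A.one_mem A.one_mem h).1
  · rw [WNF.nn hW hzA hzA hzA hzA, hz2]
    group
  · intro c hc
    rw [center_dblG hW hAne c hc]
    constructor
    · rintro ⟨c', hc', hcc, rfl⟩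
      have : ∀ q ∈ A, c' * q = q * c' := hcc
      rcases (hzc c' hc').1 this with rfl | rfl
      · left; group
      · right; rfl
    · rintro (rfl | rfl)
      · exact ⟨1, A.one_mem, fun a _ => by simp, hone⟩
      · exact ⟨zA, hzA, (hzc zA hzA).2 (Or.inr rfl), rfl⟩
  · intro _
    constructor
    · rw [map_mul, map_mul, map_mul, map_inv]
      have hs : Perm.sign zA * Perm.sign zA = 1 := by
        rw [← map_mul, hz2, map_one]
      calc Perm.sign zA * (Perm.sign τ * Perm.sign zA * (Perm.sign τ)⁻¹)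
          = (Perm.sign zA * Perm.sign zA) * (Perm.sign τ * (Perm.sign τ)⁻¹) := by
            rw [mul_comm (Perm.sign τ) (Perm.sign zA)]
            simp only [mul_assoc]
        _ = 1 := by rw [hs, mul_inv_cancel, one_mul]
    · refine ⟨zA * τ, (dblG A τ).mul_mem (le_dblG hzA) tau_mem, ?_⟩
      calc zA * τ * (zA * τ) = zA * (τ * zA * τ) := by group
        _ = zA * (τ * zA * τ⁻¹) := by rw [hti]

/-- WSTEP2: exactly the statement of `step_cen` in `Lib/Helper8/SDWstep.lean`. -/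
theorem step_cen (hA : WProps A B₁) (hne : B₁.Nonempty) (hτ2 : τ * τ = 1)
    (hτB : ∀ x ∈ B₁, τ x ∉ B₁) (hτfix : ∀ x, x ∉ B₁ → τ x ∉ B₁ → τ x = x) :
    ∃ z ∈ dblG A τ, z ≠ 1 ∧ z * z = 1 ∧
      (∀ c ∈ dblG A τ, (∀ q ∈ dblG A τ, c * q = q * c) ↔ (c = 1 ∨ c = z)) ∧
      (4 ≤ (B₁ ∪ B₁.image τ).card → Perm.sign z = 1 ∧ ∃ g ∈ dblG A τ, g * g = z) := by
  have hpos : 0 < B₁.card := Finset.card_pos.2 hne
  by_cases h1 : B₁.card = 1
  · exact step_cen_one hA hne hτ2 hτB h1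
  · exact step_cen_two hA hne hτ2 hτB (by omega)

end Cfsg.Agent.Helper8.SD.WSTEP2
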