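import Mathlib
import Cfsg.Agent.Lib.Helper27.SyDefs

/-!
# S1774, piece SY-S3: the six pairs and the closure of a commuting pair of involutions
-/

set_option autoImplicit false
set_option linter.unusedSimpArgs false

namespace Cfsg.Agent.Helper27.Sy

variable {G : Type*} [Group G]

section S3
variable {z a : G} {Q Qa : Subgroup G}

/-- local copy of the first statement of piece SY-A (so that this file does not depend on it). -/
theorem sys3_exists_x0 (h : Side z Q) (haQ : a ∈ Q) (haa : a * a = 1) (ha1 : a ≠ 1)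
    (haz : a ≠ z) : ∃ x0 ∈ Q, x0 * a * x0⁻¹ = z * a := by
  by_contra hcon
  have hcon : ∀ x0 ∈ Q, x0 * a * x0⁻¹ ≠ z * a := fun x0 hx0 hx => hcon ⟨x0, hx0, hx⟩
  have hcen : ∀ x ∈ Q, a * x = x * a := by
    intro x hx
    rcases h.comm x hx a haQ with h1 | h1
    · exact h1.symm
    · exfalso
      apply hcon x hx
      rw [h1]
      group
  rcases h.inv1 a haQ hcen haa with h1 | h1
  · exact ha1 h1
  · exact haz h1

theorem sys3_conj_mul (x y g : G) : (x * y) * g * (x * y)⁻¹ = x * (y * g * y⁻¹) * x⁻¹ := by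
  group

theorem sys3_conj_prod (x g k : G) : x * (g * k) * x⁻¹ = (x * g * x⁻¹) * (x * k * x⁻¹) := by
  group

theorem Cfg.six (h : Cfg z a Q Qa) (hzQa : z ∈ Qa) {u v : G}
    (hu : u = z ∨ u = a ∨ u = z * a) (hv : v = z ∨ v = a ∨ v = z * a) (huv : u ≠ v) :
    ∃ x ∈ Q ⊔ Qa, x * z * x⁻¹ = u ∧ x * a * x⁻¹ = v := by
  have hzz : z * z = 1 := h.S.zz
  have haa : a * a = 1 := h.Sa.zz
  have haz : a * z = z * a := h.S.cen a h.aQ
  obtain ⟨x0, hx0Q, hx0a⟩ := sys3_exists_x0 h.S h.aQ haa h.Sa.z1 h.ne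
  obtain ⟨y0, hy0Q, hy0z'⟩ := sys3_exists_x0 h.Sa hzQa hzz h.S.z1 (Ne.symm h.ne)
  have hy0z : y0 * z * y0⁻¹ = z * a := by rw [hy0z', haz]
  have hx0z : x0 * z * x0⁻¹ = z := by
    rw [h.S.cen x0 hx0Q]; group
  have hy0a : y0 * a * y0⁻¹ = a := by
    rw [h.Sa.cen y0 hy0Q]; group
  have hx0S : x0 ∈ Q ⊔ Qa := (le_sup_left : Q ≤ Q ⊔ Qa) hx0Q
  have hy0S : y0 ∈ Q ⊔ Qa := (le_sup_right : Qa ≤ Q ⊔ Qa) hy0Q
  -- auxiliary identities
  have e1 : z * (z * a) = a := by rw [← mul_assoc, hzz, one_mul]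
  have e2 : z * a * a = z := by rw [mul_assoc, haa, mul_one]
  have e3 : a * (z * a) = z := by rw [← mul_assoc, haz, mul_assoc, haa, mul_one]
  -- images of z, a, z*a under x0 and y0
  have hx0za : x0 * (z * a) * x0⁻¹ = a := by
    rw [sys3_conj_prod, hx0z, hx0a, e1]
  have hy0za : y0 * (z * a) * y0⁻¹ = z := by
    rw [sys3_conj_prod, hy0z, hy0a, e2]
  rcases hu with rfl | rfl | rfl <;> rcases hv with rfl | rfl | rfl
  · exact absurd rfl huv
  · exact ⟨1, Subgroup.one_mem _, by group, by group⟩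
  · exact ⟨x0, hx0S, hx0z, hx0a⟩
  · refine ⟨x0 * y0 * x0, Subgroup.mul_mem _ (Subgroup.mul_mem _ hx0S hy0S) hx0S, ?_, ?_⟩
    · rw [sys3_conj_mul, hx0z, sys3_conj_mul, hy0z, hx0za]
    · rw [sys3_conj_mul, hx0a, sys3_conj_mul, hy0za, hx0z]
  · exact absurd rfl huv
  · refine ⟨x0 * y0, Subgroup.mul_mem _ hx0S hy0S, ?_, ?_⟩
    · rw [sys3_conj_mul, hy0z, hx0za]
    · rw [sys3_conj_mul, hy0a, hx0a]
  · refine ⟨y0 * x0, Subgroup.mul_mem _ hy0S hx0S, ?_, ?_⟩
    · rw [sys3_conj_mul, hx0z, hy0z]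
    · rw [sys3_conj_mul, hx0a, hy0za]
  · exact ⟨y0, hy0S, hy0z, hy0a⟩
  · exact absurd rfl huv

theorem closure_pair (hzz : z * z = 1) (haa : a * a = 1) (haz : a * z = z * a) {u : G}
    (hu : u ∈ Subgroup.closure ({z, a} : Set G)) : u = 1 ∨ u = z ∨ u = a ∨ u = z * a := by
  have hz' : ∀ t : G, z * (z * t) = t := fun t => by rw [← mul_assoc, hzz, one_mul]
  have ha' : ∀ t : G, a * (a * t) = t := fun t => by rw [← mul_assoc, haa, one_mul]
  have haz' : ∀ t : G, a * (z * t) = z * (a * t) := fun t => by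
    rw [← mul_assoc, haz, mul_assoc]
  have hzi : z⁻¹ = z := inv_eq_of_mul_eq_one_right hzz
  have hai : a⁻¹ = a := inv_eq_of_mul_eq_one_right haa
  induction hu using Subgroup.closure_induction with
  | mem x hx =>
    rcases hx with rfl | hx
    · exact Or.inr (Or.inl rfl)
    · rw [Set.mem_singleton_iff] at hx
      exact Or.inr (Or.inr (Or.inl hx))
  | one => exact Or.inl rfl
  | mul x y _ _ hx hy =>
    rcases hx with hx | hx | hx | hx <;> rcases hy with hy | hy | hy | hy <;> rw [hx, hy] <;>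
      simp [mul_assoc, hzz, haa, haz, hz', ha', haz']
  | inv x _ hx =>
    rcases hx with hx | hx | hx | hx <;> rw [hx] <;>
      simp [mul_assoc, hzz, haa, haz, hzi, hai]
end S3

end Cfsg.Agent.Helper27.Sy
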