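import Mathlib
import Cfsg.Agent.Lib.Helper5.TIALGCore
import Cfsg.Agent.Lib.Helper23.TIALGLALT

/-!
# S1786 piece TI-ALG: `alg_field_of_inverse_additive` (helper5, assembly of the TIALG-* sub-project)

EXACT signature of plans/S1786_SkelAlg.lean.txt.  Pieces: helper27 (HUA, ID), helper23 (LALT), helper1 (RALT core, SEMI),
helper7 + helper2 (ARTIN), helper9 (COMM), helper24 (ASSOC), helper22 (FIELD).
-/

set_option autoImplicit false

namespace Cfsg.Agent.Helper26.TI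

/-- **ALG**: a finite "semifield" `β : U × A → V` in characteristic 2 whose two families of inverse maps are additively
closed is a field. -/
theorem alg_field_of_inverse_additive
    {U A V : Type*} [AddCommGroup U] [AddCommGroup A] [AddCommGroup V] [Finite V] [Nontrivial V]
    (hUV : Nat.card U = Nat.card V) (hAV : Nat.card A = Nat.card V)
    (h2 : ∀ v : V, v + v = 0)
    (β : U →+ A →+ V)
    (hnd : ∀ u a, β u a = 0 → u = 0 ∨ a = 0)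
    (hA : ∀ u₁ u₂ : U, u₁ ≠ 0 → u₂ ≠ 0 →
      (∀ a₁ a₂ : A, β u₁ a₁ = β u₂ a₂ → a₁ + a₂ = 0) ∨
      (∃ u₃ : U, ∀ a₁ a₂ : A, β u₁ a₁ = β u₂ a₂ → β u₃ (a₁ + a₂) = β u₁ a₁))
    (hU : ∀ a₁ a₂ : A, a₁ ≠ 0 → a₂ ≠ 0 →
      (∀ u₁ u₂ : U, β u₁ a₁ = β u₂ a₂ → u₁ + u₂ = 0) ∨
      (∃ a₃ : A, ∀ u₁ u₂ : U, β u₁ a₁ = β u₂ a₂ → β (u₁ + u₂) a₃ = β u₁ a₁)) :
    ∃ (F : Type) (_ : Field F) (_ : Fintype F) (eU : U ≃+ F) (eA : A ≃+ F) (eV : V ≃+ F),
      ∀ u a, eV (β u a) = eU u * eA a :=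
  alg_field_core (fun h2 hnz hL => alg_left_alt h2 hnz hL) hUV hAV h2 β hnd hA hU

end Cfsg.Agent.Helper26.TI
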